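import Mathlib
import Groth.Prelude.Def_RegImm
import Groth.Prelude.Def_CAlg
import Groth.Agent.Lib.Helper7.DimFT
import Groth.Agent.Lib.Helper16.Catenary
import Groth.Agent.Lib.Helper16.GrVertex
import Groth.Agent.Lib.Helper16.Liaison5
import Groth.Agent.Lib.Helper16.CIInv5
import Groth.Agent.Lib.Helper18.FibQuot

/-!
Complete intersections over a field (Stacks 10.135), part 1: dimension theory of k[x]/(f_1..f_c), local rings of global complete intersections are complete intersections, localization (S9141), LCI implies CM (S9142).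
-/

set_option autoImplicit false
universe u
open IsLocalRing
open IsLocalRing RingTheory.Sequence
open IsLocalRing RingTheory.Sequence MvPolynomial

namespace Groth.Agent.Lib.Helper23.SyntF


variable {k : Type u} [Field k] {n : ℕ}

/-- `ht Q + dim P/Q = n` in the polynomial ring in `n` variables over a field. -/
theorem height_add_dim_quotient (Q : Ideal (MvPolynomial (Fin n) k)) [hQ : Q.IsPrime] :
    ((Q.height : ℕ∞) : WithBot ℕ∞) + ringKrullDim (MvPolynomial (Fin n) k ⧸ Q) = (n : WithBot ℕ∞) := by
  obtain ⟨m, hm, hQm⟩ := Ideal.exists_le_maximal Q hQ.ne_top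
  have h1 := Groth.Agent.Lib.Helper7.DimFT.height_eq_of_isMaximal_mvPolynomial k n m hm
  have h2 := Groth.Agent.Lib.Helper16.Cat.height_eq_height_map_add (MvPolynomial (Fin n) k) Q m hQm
  have h3 := Groth.Agent.Lib.Helper16.GrVertex.height_map_mk_eq_ringKrullDim_of_isMaximal k
    (MvPolynomial (Fin n) k) Q m hQm
  rw [← h3, add_comm]
  rw [h1] at h2
  exact_mod_cast h2.symm



variable {k : Type u} [Field k] {n : ℕ}

theorem exists_nat_of_le {x : WithBot ℕ∞} {N : ℕ} (h0 : 0 ≤ x) (hN : x ≤ (N : WithBot ℕ∞)) :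
    ∃ d : ℕ, x = (d : WithBot ℕ∞) ∧ d ≤ N := by
  induction x using WithBot.recBotCoe with
  | bot => exact absurd h0 (by simp)
  | coe y =>
    have h1 : y ≤ (N : ℕ∞) := by exact_mod_cast hN
    have hy : y ≠ ⊤ := ne_top_of_le_ne_top (ENat.coe_ne_top N) h1
    refine ⟨y.toNat, ?_, ?_⟩
    · rw [← ENat.coe_toNat hy]; rfl
    · exact ENat.toNat_le_of_le_coe h1

/-- Krull: minimal primes over `c` elements have height `≤ c`. -/
theorem height_le_of_mem_minimalPrimes_span_range {R : Type u} [CommRing R] [IsNoetherianRing R]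
    (c : ℕ) (g : Fin c → R) {P : Ideal R}
    (hP : P ∈ (Ideal.span (Set.range g)).minimalPrimes) : P.height ≤ c := by
  classical
  have hcoe : ((Finset.univ.image g : Finset R) : Set R) = Set.range g := by
    rw [Finset.coe_image, Finset.coe_univ, Set.image_univ]
  have hP' : P ∈ (Ideal.span ((Finset.univ.image g : Finset R) : Set R)).minimalPrimes := by
    rw [hcoe]
    exact hP
  have h1 := Ideal.height_le_card_of_mem_minimalPrimes_span_finset hP'
  have h2 : (Finset.univ.image g).card ≤ c := by
    have := Finset.card_image_le (s := (Finset.univ : Finset (Fin c))) (f := g)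
    rwa [Finset.card_univ, Fintype.card_fin] at this
  exact h1.trans (by exact_mod_cast h2)

/-- If `k[x_1..x_n]/(r_1..r_c)` has dimension `n - c`, all minimal primes of `(r)` have height `c`. -/
theorem height_eq_of_mem_minimalPrimes (c : ℕ) (hcn : c ≤ n) (r : Fin c → MvPolynomial (Fin n) k)
    (hdim : ringKrullDim (MvPolynomial (Fin n) k ⧸ Ideal.span (Set.range r)) ≤ ((n - c : ℕ) : WithBot ℕ∞))
    {P : Ideal (MvPolynomial (Fin n) k)} (hP : P ∈ (Ideal.span (Set.range r)).minimalPrimes) :
    P.height = c := by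
  haveI hPp : P.IsPrime := hP.1.1
  apply le_antisymm (height_le_of_mem_minimalPrimes_span_range c r hP)
  have h1 := height_add_dim_quotient P
  have h2 : ringKrullDim (MvPolynomial (Fin n) k ⧸ P) ≤ ((n - c : ℕ) : WithBot ℕ∞) :=
    (ringKrullDim_le_of_surjective (Ideal.Quotient.factor hP.1.2)
      (Ideal.Quotient.factor_surjective hP.1.2)).trans hdim
  have h0 : 0 ≤ ringKrullDim (MvPolynomial (Fin n) k ⧸ P) := ringKrullDim_nonneg_of_nontrivial
  obtain ⟨d, hd, hdle⟩ := exists_nat_of_le h0 h2
  have hfin : P.height ≠ ⊤ := Ideal.height_ne_top_of_isPrime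
  obtain ⟨a, ha⟩ := ENat.ne_top_iff_exists.mp hfin
  rw [hd, ← ha] at h1
  have h3 : a + d = n := by exact_mod_cast h1
  rw [← ha]
  have : c ≤ a := by omega
  exact_mod_cast this



open Groth.Agent.Lib.Helper16.Liaison Groth.Agent.Lib.Helper16 Groth.Agent.Lib.Helper18.CM

section general

variable {R : Type u} [CommRing R] [IsNoetherianRing R] (Q : Ideal R) [Q.IsPrime]

theorem ofList_ofFn_map (c : ℕ) (g : Fin c → R) :
    Ideal.ofList (List.ofFn (fun i => algebraMap R (Localization.AtPrime Q) (g i))) =
      (Ideal.span (Set.range g)).map (algebraMap R (Localization.AtPrime Q)) := by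
  rw [Ideal.map_span, Ideal.ofList]
  congr 1
  ext x
  simp only [Set.mem_ofPred_eq, List.mem_ofFn, Set.mem_image, Set.mem_range,
    exists_exists_eq_and]

/-- In a CM localization, `c` elements all of whose minimal primes have height `c` form a regular
sequence. -/
theorem isRegular_ofFn_atPrime (hCM : LocCoh.IsCohenMacaulayLocalRing (Localization.AtPrime Q))
    (c : ℕ) (g : Fin c → R) (hgQ : Ideal.span (Set.range g) ≤ Q)
    (h : ∀ P ∈ (Ideal.span (Set.range g)).minimalPrimes, P.height = c) :
    IsRegular (Localization.AtPrime Q)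
      (List.ofFn (fun i => algebraMap R (Localization.AtPrime Q) (g i))) := by
  set gs : List (Localization.AtPrime Q) :=
    List.ofFn (fun i => algebraMap R (Localization.AtPrime Q) (g i)) with hgsdef
  have hgs : ∀ x ∈ gs, x ∈ maximalIdeal (Localization.AtPrime Q) := by
    intro x hx
    rw [hgsdef, List.mem_ofFn] at hx
    obtain ⟨i, rfl⟩ := hx
    rw [IsLocalization.AtPrime.to_map_mem_maximal_iff (Localization.AtPrime Q) Q]
    exact hgQ (Ideal.subset_span ⟨i, rfl⟩)
  have hofList : Ideal.ofList gs =
      (Ideal.span (Set.range g)).map (algebraMap R (Localization.AtPrime Q)) :=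
    ofList_ofFn_map Q c g
  have hdim := add_ringKrullDim_quot_map Q hCM _ hgQ c h
  have hreg : IsWeaklyRegular (Localization.AtPrime Q) gs := by
    rw [(isWeaklyRegular_iff_supportDim_and_isCohenMacaulayModule gs hgs (Localization.AtPrime Q)
      hCM.supportDim_eq_depth).1]
    have e : ((Localization.AtPrime Q) ⧸ (Ideal.ofList gs • ⊤ :
        Submodule (Localization.AtPrime Q) (Localization.AtPrime Q))) ≃ₗ[Localization.AtPrime Q]
        ((Localization.AtPrime Q) ⧸ Ideal.ofList gs) :=
      Submodule.quotEquivOfEq _ _ (by rw [smul_eq_mul, Ideal.mul_top])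
    rw [Module.supportDim_eq_of_equiv e, Module.supportDim_quotient_eq_ringKrullDim,
      Module.supportDim_self_eq_ringKrullDim, hgsdef, List.length_ofFn, ← hgsdef, ← hdim, add_comm,
      GorQuot.ringKrullDim_congr_ideal hofList]
  refine ⟨hreg, ?_⟩
  rw [smul_eq_mul, Ideal.mul_top]
  intro htop
  have h1 : Ideal.ofList gs ≤ maximalIdeal (Localization.AtPrime Q) := by
    rw [Ideal.ofList, Ideal.span_le]
    exact fun x hx => hgs x hx
  exact (maximalIdeal.isMaximal _).ne_top (top_le_iff.mp (htop.symm ▸ h1))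

end general



section loc

variable (k : Type u) [CommRing k] {P S : Type u} [CommRing P] [CommRing S] [Algebra k P] [Algebra k S]
  (φ : P →ₐ[k] S) (q : Ideal S) [q.IsPrime]

/-- the localized map as a `k`-algebra map -/
noncomputable def locHom : Localization.AtPrime (q.comap φ) →ₐ[k] Localization.AtPrime q :=
  { Localization.localRingHom (q.comap φ) q φ.toRingHom rfl with
    commutes' := fun c => by
      change Localization.localRingHom (q.comap φ) q φ.toRingHom rfl _ = _
      rw [IsScalarTower.algebraMap_apply k P (Localization.AtPrime (q.comap φ)),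
        Localization.localRingHom_to_map,
        IsScalarTower.algebraMap_apply k S (Localization.AtPrime q)]
      simp }

theorem locHom_apply (x) : locHom k φ q x = Localization.localRingHom (q.comap φ) q φ.toRingHom rfl x := rfl

variable {φ} in
theorem locHom_surjective (hφ : Function.Surjective φ) : Function.Surjective (locHom k φ q) :=
  RingHom.surjective_localRingHom_of_surjective φ.toRingHom hφ q

variable {φ} in
theorem ker_locHom (hφ : Function.Surjective φ) :
    RingHom.ker (locHom k φ q) =
      (RingHom.ker φ).map (algebraMap P (Localization.AtPrime (q.comap φ))) := by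
  have hT : Submonoid.map φ.toRingHom (q.comap φ).primeCompl = q.primeCompl :=
    Submonoid.map_comap_eq_of_surjective hφ q.primeCompl
  have := IsLocalization.ker_map (S := Localization.AtPrime (q.comap φ))
    (Localization.AtPrime q) φ.toRingHom hT
  exact this

/-- `S_q ≃ₐ[k] P_Q / (ker φ) P_Q` for a surjection `φ : P → S`. -/
noncomputable def locQuotAlgEquiv (hφ : Function.Surjective φ) :
    Localization.AtPrime q ≃ₐ[k] (Localization.AtPrime (q.comap φ) ⧸
      (RingHom.ker φ).map (algebraMap P (Localization.AtPrime (q.comap φ)))) :=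
  ((Ideal.quotientEquivAlgOfEq k (ker_locHom k q hφ).symm).trans
    (Ideal.quotientKerAlgEquivOfSurjective (locHom_surjective k q hφ))).symm

end loc



theorem cmLocal_of_regular (B : Type u) [CommRing B] [IsRegularLocalRing B] :
    LocCoh.IsCohenMacaulayLocalRing B :=
  { supportDim_eq_depth :=
      Groth.Agent.Lib.Helper16.PDR.isCohenMacaulayModule_self_of_isRegularLocalRing B }

variable (k : Type u) [Field k] {S : Type u} [CommRing S] [Algebra k S]

instance (n : ℕ) (Q : Ideal (MvPolynomial (Fin n) k)) [Q.IsPrime] :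
    IsRegularLocalRing (Localization.AtPrime Q) :=
  IsRegularRing.isRegularLocalRing_localization Q

/-- The data of a complete-intersection presentation. -/
structure Pres (n c : ℕ) where
  φ : MvPolynomial (Fin n) k →ₐ[k] S
  r : Fin c → MvPolynomial (Fin n) k
  surj : Function.Surjective φ
  ker : RingHom.ker φ.toRingHom = Ideal.span (Set.range r)

variable {k}

theorem Pres.dim_quot {n c : ℕ} (p : Pres k (S := S) n c) :
    ringKrullDim (MvPolynomial (Fin n) k ⧸ Ideal.span (Set.range p.r)) = ringKrullDim S := by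
  rw [← p.ker]
  exact ringKrullDim_eq_of_ringEquiv (RingHom.quotientKerEquivOfSurjective p.surj)

theorem Pres.span_le_comap {n c : ℕ} (p : Pres k (S := S) n c) (q : Ideal S) :
    Ideal.span (Set.range p.r) ≤ q.comap p.φ := by
  rw [← p.ker]
  intro x hx
  rw [Ideal.mem_comap]
  have : p.φ x = 0 := hx
  rw [this]
  exact zero_mem _

/-- the regular sequence in the localized polynomial ring -/
theorem Pres.isRegular {n c : ℕ} (p : Pres k (S := S) n c) (hcn : c ≤ n)
    (hdim : ringKrullDim S ≤ ((n - c : ℕ) : WithBot ℕ∞)) (q : Ideal S) [q.IsPrime] :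
    IsRegular (Localization.AtPrime (q.comap p.φ))
      (List.ofFn (fun i => algebraMap (MvPolynomial (Fin n) k)
        (Localization.AtPrime (q.comap p.φ)) (p.r i))) := by
  apply isRegular_ofFn_atPrime (q.comap p.φ) (cmLocal_of_regular _) c p.r (p.span_le_comap q)
  intro P' hP'
  exact height_eq_of_mem_minimalPrimes c hcn p.r (by rw [p.dim_quot]; exact hdim) hP'

/-- local rings of a global complete intersection are complete intersections -/
theorem Pres.isCIOver {n c : ℕ} (p : Pres k (S := S) n c) (hcn : c ≤ n)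
    (hdim : ringKrullDim S ≤ ((n - c : ℕ) : WithBot ℕ∞)) (q : Ideal S) [q.IsPrime] :
    Synt.IsCIOver k (Localization.AtPrime q) := by
  refine ⟨Localization.AtPrime (q.comap p.φ), inferInstance, inferInstance, inferInstance,
    ?_, List.ofFn (fun i => algebraMap (MvPolynomial (Fin n) k)
        (Localization.AtPrime (q.comap p.φ)) (p.r i)), ?_, p.isRegular hcn hdim q, ⟨?_⟩⟩
  · haveI : Algebra.EssFiniteType (MvPolynomial (Fin n) k) (Localization.AtPrime (q.comap p.φ)) :=
      Algebra.EssFiniteType.of_isLocalization _ (q.comap p.φ).primeCompl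
    exact Algebra.EssFiniteType.comp k (MvPolynomial (Fin n) k) _
  · intro x hx
    rw [List.mem_ofFn] at hx
    obtain ⟨i, rfl⟩ := hx
    rw [IsLocalization.AtPrime.to_map_mem_maximal_iff (Localization.AtPrime (q.comap p.φ)) (q.comap p.φ)]
    exact p.span_le_comap q (Ideal.subset_span ⟨i, rfl⟩)
  · refine (locQuotAlgEquiv k p.φ q p.surj).trans (Ideal.quotientEquivAlgOfEq k ?_)
    rw [ofList_ofFn_map, ← p.ker]
    rfl



/-- A CM local ring modulo a regular sequence in the maximal ideal is CM. -/
theorem cm_quot_ofList {T : Type u} [CommRing T] (hT : LocCoh.IsCohenMacaulayLocalRing T)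
    (rs : List T) (hrs : ∀ x ∈ rs, x ∈ maximalIdeal T) (hreg : IsWeaklyRegular T rs) :
    LocCoh.IsCohenMacaulayLocalRing (T ⧸ Ideal.ofList rs) := by
  haveI : IsNoetherianRing T := by haveI := hT; infer_instance
  haveI : IsLocalRing T := by haveI := hT; infer_instance
  have hM : LocCoh.IsCohenMacaulayModule T T := hT.supportDim_eq_depth
  have h1 := (Groth.Agent.Lib.Helper18.CM.isWeaklyRegular_iff_supportDim_and_isCohenMacaulayModule
    rs hrs T hM).2 hreg
  let e : (T ⧸ (Ideal.ofList rs • ⊤ : Submodule T T)) ≃ₗ[T] (T ⧸ Ideal.ofList rs) :=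
    Submodule.quotEquivOfEq _ _ (by rw [smul_eq_mul, Ideal.mul_top])
  have h2 : LocCoh.IsCohenMacaulayModule T (T ⧸ Ideal.ofList rs) :=
    (Groth.Agent.Lib.Helper18.CM.isCohenMacaulayModule_congr e).mp h1
  have hne : Ideal.ofList rs ≠ ⊤ := by
    intro h
    have : Ideal.ofList rs ≤ maximalIdeal T := by
      rw [Ideal.ofList, Ideal.span_le]
      exact fun x hx => hrs x hx
    rw [h, top_le_iff] at this
    exact (maximalIdeal.isMaximal T).ne_top this
  haveI : Nontrivial (T ⧸ Ideal.ofList rs) := Ideal.Quotient.nontrivial_iff.mpr hne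
  haveI : IsLocalRing (T ⧸ Ideal.ofList rs) :=
    IsLocalRing.of_surjective' (Ideal.Quotient.mk (Ideal.ofList rs)) Ideal.Quotient.mk_surjective
  haveI hloc : IsLocalHom (algebraMap T (T ⧸ Ideal.ofList rs)) :=
    IsLocalHom.of_surjective _ Ideal.Quotient.mk_surjective
  refine { supportDim_eq_depth := ?_ }
  unfold LocCoh.IsCohenMacaulayModule at h2
  rw [Groth.Agent.Lib.Helper18.CM.depth_eq_of_finite (A := T) (B := T ⧸ Ideal.ofList rs)
    (T ⧸ Ideal.ofList rs), Module.supportDim_quotient_eq_ringKrullDim] at h2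
  rw [Module.supportDim_self_eq_ringKrullDim]
  exact h2

/-- a complete intersection over a field is a CM local ring -/
theorem cm_of_isCIOver (k : Type u) [Field k] (S : Type u) [CommRing S] [IsLocalRing S] [Algebra k S]
    (h : Synt.IsCIOver k S) : LocCoh.IsCohenMacaulayLocalRing S := by
  obtain ⟨R, _, _, _, -, rs, hrs, hreg, ⟨e⟩⟩ := h
  exact Groth.Agent.Lib.Helper18.FibQuot.isCohenMacaulayLocalRing_of_ringEquiv e.symm.toRingEquiv
    (h := cm_quot_ofList (cmLocal_of_regular R) rs hrs hreg.1)



variable {k : Type u} [Field k] {S : Type u} [CommRing S] [Algebra k S]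

/-- from a Mathlib presentation -/
noncomputable def Pres.ofPresentation {n c : ℕ} (P : Algebra.Presentation k S (Fin n) (Fin c)) :
    Pres k (S := S) n c where
  φ := aeval P.val
  r := P.relation
  surj := P.aeval_val_surjective
  ker := by
    rw [P.span_range_relation_eq_ker, P.ker_eq_ker_aeval_val]
    rfl

/-- to a Mathlib presentation -/
noncomputable def Pres.toPresentation {n c : ℕ} (p : Pres k (S := S) n c) :
    Algebra.Presentation k S (Fin n) (Fin c) where
  toGenerators := Algebra.Generators.ofAlgHom p.φ p.surj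
  relation := p.r
  span_range_relation_eq_ker := by
    rw [Algebra.Generators.ker_eq_ker_aeval_val, ← p.ker]
    have : aeval (Algebra.Generators.ofAlgHom p.φ p.surj).val = p.φ := by
      ext i
      simp [Algebra.Generators.ofAlgHom]
    rw [this]
    rfl

/-- transport along an algebra isomorphism -/
noncomputable def Pres.ofAlgEquiv {T : Type u} [CommRing T] [Algebra k T] {n c : ℕ}
    (p : Pres k (S := S) n c) (e : S ≃ₐ[k] T) : Pres k (S := T) n c where
  φ := e.toAlgHom.comp p.φ
  r := p.r
  surj := e.surjective.comp p.surj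
  ker := by
    rw [← p.ker]
    ext x
    simp [RingHom.mem_ker]

/-- localization away from an element -/
noncomputable def Pres.away {n c : ℕ} (p : Pres k (S := S) n c) (g : S) :
    Pres k (S := Localization.Away g) (n + 1) (c + 1) :=
  Pres.ofPresentation
    (((Algebra.Presentation.localizationAway (Localization.Away g) g).comp p.toPresentation).reindex
      ((finSuccEquiv n).trans ((Equiv.optionEquivSumPUnit (Fin n)).trans (Equiv.sumComm _ _)))
      ((finSuccEquiv c).trans ((Equiv.optionEquivSumPUnit (Fin c)).trans (Equiv.sumComm _ _))))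

theorem isGlobalCI_iff :
    Synt.IsGlobalCI k S ↔ Subsingleton S ∨ ∃ n c : ℕ, c ≤ n ∧ Nonempty (Pres k (S := S) n c) ∧
      ringKrullDim S = ((n - c : ℕ) : WithBot ℕ∞) := by
  constructor
  · rintro (h | ⟨n, c, hcn, φ, r, hs, hk, hd⟩)
    · exact Or.inl h
    · exact Or.inr ⟨n, c, hcn, ⟨⟨φ, r, hs, hk⟩⟩, hd⟩
  · rintro (h | ⟨n, c, hcn, ⟨p⟩, hd⟩)
    · exact Or.inl h
    · exact Or.inr ⟨n, c, hcn, p.φ, p.r, p.surj, p.ker, hd⟩

theorem isGlobalCI_of_algEquiv {T : Type u} [CommRing T] [Algebra k T] (e : S ≃ₐ[k] T)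
    (h : Synt.IsGlobalCI k S) : Synt.IsGlobalCI k T := by
  rw [isGlobalCI_iff] at h ⊢
  rcases h with h | ⟨n, c, hcn, ⟨p⟩, hd⟩
  · exact Or.inl (e.symm.toEquiv.subsingleton)
  · exact Or.inr ⟨n, c, hcn, ⟨p.ofAlgEquiv e⟩, by
      rw [← hd]; exact (ringKrullDim_eq_of_ringEquiv e.toRingEquiv).symm⟩

theorem isCIOver_of_algEquiv {T : Type u} [CommRing T] [Algebra k T] [IsLocalRing S] [IsLocalRing T]
    (e : S ≃ₐ[k] T) (h : Synt.IsCIOver k S) : Synt.IsCIOver k T := by
  obtain ⟨R, i1, i2, i3, hess, rs, hrs, hreg, ⟨e'⟩⟩ := h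
  exact ⟨R, i1, i2, i3, hess, rs, hrs, hreg, ⟨e.symm.trans e'⟩⟩



variable {k : Type u} [Field k] {S : Type u} [CommRing S] [Algebra k S]

/-- contraction of a maximal ideal of a finite type `k`-algebra is maximal -/
theorem isMaximal_comap_of_finiteType {A B : Type u} [CommRing A] [CommRing B] [Algebra k A]
    [Algebra k B] [Algebra.FiniteType k B] (f : A →ₐ[k] B) (m : Ideal B) [hm : m.IsMaximal] :
    (m.comap f).IsMaximal := by
  letI := Ideal.Quotient.field m
  haveI : Algebra.FiniteType k (B ⧸ m) :=
    Algebra.FiniteType.of_surjective (Ideal.Quotient.mkₐ k m) (Ideal.Quotient.mkₐ_surjective k m)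
  haveI : Module.Finite k (B ⧸ m) := finite_of_finite_type_of_isJacobsonRing k (B ⧸ m)
  let ψ : (A ⧸ m.comap f) →ₐ[k] (B ⧸ m) := Ideal.quotientMapₐ m f le_rfl
  have hψ : Function.Injective ψ := Ideal.quotientMap_injective
  haveI : Module.Finite k (A ⧸ m.comap f) := Module.Finite.of_injective ψ.toLinearMap hψ
  haveI : Algebra.IsIntegral k (A ⧸ m.comap f) := Algebra.IsIntegral.of_finite k _
  haveI : (m.comap f).IsPrime := Ideal.comap_isPrime f m
  have hfield : IsField (A ⧸ m.comap f) :=
    isField_of_isIntegral_of_isField' (Field.toIsField k)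
  exact Ideal.Quotient.maximal_of_isField _ hfield

theorem Pres.height_maximal {n c : ℕ} (p : Pres k (S := S) n c) (hcn : c ≤ n)
    (hdim : ringKrullDim S ≤ ((n - c : ℕ) : WithBot ℕ∞)) (m : Ideal S) [hm : m.IsMaximal] :
    m.height = ((n - c : ℕ) : ℕ∞) := by
  haveI hM : (m.comap p.φ).IsMaximal := Ideal.comap_isMaximal_of_surjective p.φ p.surj
  have hMh := Groth.Agent.Lib.Helper7.DimFT.height_eq_of_isMaximal_mvPolynomial k n _ hM
  have h1 := Groth.Agent.Lib.Helper16.Liaison.add_ringKrullDim_quot_map (m.comap p.φ)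
    (cmLocal_of_regular _) (Ideal.span (Set.range p.r)) (p.span_le_comap m) c
    (fun P' hP' => height_eq_of_mem_minimalPrimes c hcn p.r (by rw [p.dim_quot]; exact hdim) hP')
  have h2 := IsLocalization.AtPrime.ringKrullDim_eq_height (m.comap p.φ)
    (Localization.AtPrime (m.comap p.φ))
  have hker : RingHom.ker p.φ = Ideal.span (Set.range p.r) := p.ker
  have h3 := ringKrullDim_eq_of_ringEquiv (locQuotAlgEquiv k p.φ m p.surj).toRingEquiv
  rw [hker] at h3
  have h4 := IsLocalization.AtPrime.ringKrullDim_eq_height m (Localization.AtPrime m)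
  rw [← h3, h4, h2, hMh] at h1
  have hfin : m.height ≠ ⊤ := by
    haveI : IsNoetherianRing S :=
      isNoetherianRing_of_surjective _ S p.φ.toRingHom p.surj
    exact Ideal.height_ne_top_of_isPrime
  obtain ⟨a, ha⟩ := ENat.ne_top_iff_exists.mp hfin
  rw [← ha] at h1 ⊢
  have h5 : c + a = n := by exact_mod_cast h1
  have : a = n - c := by omega
  exact_mod_cast this

theorem Pres.dim_eq {n c : ℕ} (p : Pres k (S := S) n c) (hcn : c ≤ n) [Nontrivial S]
    (hdim : ringKrullDim S ≤ ((n - c : ℕ) : WithBot ℕ∞)) :
    ringKrullDim S = ((n - c : ℕ) : WithBot ℕ∞) := by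
  rw [← Ideal.sup_isMaximal_height_eq_ringKrullDim]
  obtain ⟨m0, hm0⟩ := Ideal.exists_maximal S
  have h : ∀ m : Ideal S, m.IsMaximal → m.height = ((n - c : ℕ) : ℕ∞) :=
    fun m hm => p.height_maximal hcn hdim m
  have : (⨆ (m : Ideal S) (_ : m.IsMaximal), m.height) = ((n - c : ℕ) : ℕ∞) := by
    apply le_antisymm
    · exact iSup₂_le fun m hm => (h m hm).le
    · exact le_iSup₂_of_le m0 hm0 (h m0 hm0).ge
  rw [this]
  rfl

/-- the localization `S_g` of a global complete intersection has dimension `n - c` -/
theorem Pres.dim_away {n c : ℕ} (p : Pres k (S := S) n c) (hcn : c ≤ n)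
    (hdim : ringKrullDim S ≤ ((n - c : ℕ) : WithBot ℕ∞)) (g : S)
    [Nontrivial (Localization.Away g)] :
    ringKrullDim (Localization.Away g) = ((n - c : ℕ) : WithBot ℕ∞) := by
  haveI : Algebra.FiniteType k (MvPolynomial (Fin n) k) := inferInstance
  haveI : Algebra.FiniteType k S := Algebra.FiniteType.of_surjective p.φ p.surj
  haveI : Algebra.FiniteType S (Localization.Away g) :=
    IsLocalization.finiteType_of_monoid_fg (Submonoid.powers g) (Localization.Away g)
  haveI : Algebra.FiniteType k (Localization.Away g) :=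
    Algebra.FiniteType.trans (R := k) (S := S) (A := Localization.Away g) inferInstance inferInstance
  rw [← Ideal.sup_isMaximal_height_eq_ringKrullDim]
  obtain ⟨m0, hm0⟩ := Ideal.exists_maximal (Localization.Away g)
  have h : ∀ m : Ideal (Localization.Away g), m.IsMaximal → m.height = ((n - c : ℕ) : ℕ∞) := by
    intro m hm
    haveI : (m.comap (IsScalarTower.toAlgHom k S (Localization.Away g))).IsMaximal :=
      isMaximal_comap_of_finiteType (IsScalarTower.toAlgHom k S (Localization.Away g)) m
    have h1 := p.height_maximal hcn hdim (m.comap (IsScalarTower.toAlgHom k S (Localization.Away g)))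
    rw [← h1]
    exact (IsLocalization.height_comap (Submonoid.powers g) m).symm
  have : (⨆ (m : Ideal (Localization.Away g)) (_ : m.IsMaximal), m.height) = ((n - c : ℕ) : ℕ∞) := by
    apply le_antisymm
    · exact iSup₂_le fun m hm => (h m hm).le
    · exact le_iSup₂_of_le m0 hm0 (h m0 hm0).ge
  rw [this]
  rfl



variable {k : Type u} [Field k] {S : Type u} [CommRing S] [Algebra k S]

theorem isGlobalCI_away (h : Synt.IsGlobalCI k S) (g : S) :
    Synt.IsGlobalCI k (Localization.Away g) := by
  by_cases hsub : Subsingleton (Localization.Away g)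
  · exact Or.inl hsub
  haveI : Nontrivial (Localization.Away g) := not_subsingleton_iff_nontrivial.mp hsub
  rw [isGlobalCI_iff] at h
  rcases h with h | ⟨n, c, hcn, ⟨p⟩, hd⟩
  · exfalso
    apply hsub
    refine ⟨fun a b => ?_⟩
    have h1 : (1 : Localization.Away g) = 0 := by
      rw [← map_one (algebraMap S (Localization.Away g)), Subsingleton.elim (1 : S) 0, map_zero]
    rw [← mul_one a, ← mul_one b, h1, mul_zero, mul_zero]
  · rw [isGlobalCI_iff]
    refine Or.inr ⟨n + 1, c + 1, by omega, ⟨p.away g⟩, ?_⟩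
    rw [p.dim_away hcn hd.le g, Nat.add_sub_add_right]

/-- `(S_g)_h ≃ (S_h)_g` over `k` -/
theorem nonempty_away_away_algEquiv (g h : S) :
    Nonempty (Localization.Away (algebraMap S (Localization.Away g) h) ≃ₐ[k]
      Localization.Away (algebraMap S (Localization.Away h) g)) := by
  let A := Localization.Away (algebraMap S (Localization.Away g) h)
  let B := Localization.Away (algebraMap S (Localization.Away h) g)
  haveI : IsLocalization.Away (g * h) A := inferInstance
  haveI : IsLocalization.Away (g * h) B := inferInstance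
  exact ⟨(IsLocalization.algEquiv (Submonoid.powers (g * h)) A B).restrictScalars k⟩



variable {k : Type u} [Field k] {S : Type u} [CommRing S] [Algebra k S]

theorem finiteType_away [Algebra.FiniteType k S] (g : S) :
    Algebra.FiniteType k (Localization.Away g) := by
  haveI : Algebra.FiniteType S (Localization.Away g) :=
    IsLocalization.finiteType_of_monoid_fg (Submonoid.powers g) (Localization.Away g)
  exact Algebra.FiniteType.trans (R := k) (S := S) (A := Localization.Away g) inferInstance
    inferInstance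

theorem isLCIOver_away (h : Synt.IsLCIOver k S) (g : S) :
    Synt.IsLCIOver k (Localization.Away g) := by
  haveI := h.1
  refine ⟨finiteType_away g, fun p' => ?_⟩
  obtain ⟨h0, hh0, hCI⟩ := h.2 ⟨p'.asIdeal.comap (algebraMap S (Localization.Away g)), inferInstance⟩
  refine ⟨algebraMap S (Localization.Away g) h0, hh0, ?_⟩
  obtain ⟨e⟩ := nonempty_away_away_algEquiv (k := k) g h0
  exact isGlobalCI_of_algEquiv e.symm (isGlobalCI_away hCI _)

theorem exists_prime_away (g : S) (p : Ideal S) [hp : p.IsPrime] (hg : g ∉ p) :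
    ∃ (p' : Ideal (Localization.Away g)) (_ : p'.IsPrime),
      p'.comap (algebraMap S (Localization.Away g)) = p ∧
      Nonempty (Localization.AtPrime p ≃ₐ[k] Localization.AtPrime p') := by
  have hdisj : Disjoint (Submonoid.powers g : Set S) (p : Set S) := by
    rw [Set.disjoint_left]
    rintro x ⟨n, rfl⟩ hx
    exact hg (hp.mem_of_pow_mem n hx)
  have hp' : (p.map (algebraMap S (Localization.Away g))).IsPrime :=
    IsLocalization.isPrime_of_isPrime_disjoint (Submonoid.powers g) _ p hp hdisj
  have hcomap : (p.map (algebraMap S (Localization.Away g))).comap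
      (algebraMap S (Localization.Away g)) = p :=
    IsLocalization.comap_map_of_isPrime_disjoint (Submonoid.powers g) _ hp hdisj
  refine ⟨p.map (algebraMap S (Localization.Away g)), hp', hcomap, ?_⟩
  have e0 := (IsLocalization.localizationLocalizationAtPrimeIsoLocalization (Submonoid.powers g)
    (p.map (algebraMap S (Localization.Away g)))).restrictScalars k
  have key : ∀ (I : Ideal S) [I.IsPrime] (_ : I = p),
      Nonempty (Localization.AtPrime p ≃ₐ[k] Localization.AtPrime I) := by
    intro I _ hI
    subst hI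
    exact ⟨AlgEquiv.refl⟩
  obtain ⟨e1⟩ := key _ hcomap
  exact ⟨e1.trans e0⟩



variable {k : Type u} [Field k] {S : Type u} [CommRing S] [Algebra k S]

theorem isCIOver_atPrime_of_isGlobalCI (h : Synt.IsGlobalCI k S) (p : Ideal S) [hp : p.IsPrime] :
    Synt.IsCIOver k (Localization.AtPrime p) := by
  rw [isGlobalCI_iff] at h
  rcases h with h | ⟨n, c, hcn, ⟨pr⟩, hd⟩
  · exact absurd (Subsingleton.elim p ⊤) hp.ne_top
  · exact pr.isCIOver hcn hd.le p

theorem isCIOver_atPrime_of_isLCIOver (h : Synt.IsLCIOver k S) (p : Ideal S) [hp : p.IsPrime] :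
    Synt.IsCIOver k (Localization.AtPrime p) := by
  obtain ⟨g, hg, hCI⟩ := h.2 ⟨p, hp⟩
  obtain ⟨p', hp', -, ⟨e⟩⟩ := exists_prime_away (k := k) g p hg
  exact isCIOver_of_algEquiv e.symm (isCIOver_atPrime_of_isGlobalCI hCI p')

theorem isCohenMacaulayRing_of_isLCIOver (h : Synt.IsLCIOver k S) :
    LocCoh.IsCohenMacaulayRing S := by
  haveI := h.1
  haveI : IsNoetherianRing S := Algebra.FiniteType.isNoetherianRing k S
  exact { isCohenMacaulayLocalRing_localization := fun p hp =>
    cm_of_isCIOver k _ (isCIOver_atPrime_of_isLCIOver h p) }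

end Groth.Agent.Lib.Helper23.SyntF
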