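import Groth.Agent.Lib.Helper23.SyntF1

/-!
Complete intersections over a field (Stacks 10.135), part 2: independence of presentation (via helper16 CIInv), complete intersection local ring => global complete intersection neighbourhood; S9144, S9145.
-/

set_option autoImplicit false
universe u
open IsLocalRing RingTheory.Sequence MvPolynomial

namespace Groth.Agent.Lib.Helper23.SyntF


open Groth.Agent.Lib.Helper23.SyntF

variable {k : Type u} [Field k]

/-- (INV) a surjection from a regular local ring onto a complete intersection has kernel generated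
by a regular sequence. -/
theorem exists_isRegular_of_isCIOver {T : Type u} [CommRing T] [IsLocalRing T] [Algebra k T]
    (hT : Synt.IsCIOver k T) (A : Type u) [CommRing A] [IsRegularLocalRing A] (f : A →+* T)
    (hf : Function.Surjective f) :
    ∃ xs : List A, Ideal.ofList xs = RingHom.ker f ∧ IsRegular A xs := by
  obtain ⟨R, _, _, _, -, rs, hrs, hreg, ⟨e⟩⟩ := hT
  let f' : R →+* T := e.symm.toRingEquiv.toRingHom.comp (Ideal.Quotient.mk (Ideal.ofList rs))
  have hf' : Function.Surjective f' :=
    e.symm.surjective.comp Ideal.Quotient.mk_surjective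
  have hker : RingHom.ker f' = Ideal.ofList rs := by
    ext x
    simp only [f', RingHom.mem_ker, RingHom.coe_comp, Function.comp_apply]
    rw [← Ideal.Quotient.eq_zero_iff_mem]
    exact EmbeddingLike.map_eq_zero_iff (f := e.symm.toRingEquiv)
  exact Groth.Agent.Lib.Helper16.CIInv.exists_isRegular_of_exists_isRegular A R f hf f' hf'
    ⟨rs, hker.symm, hreg⟩

/-- (P1) localization away from `g'` only depends on the quotient when `g'` kills the kernel -/
theorem nonempty_away_algEquiv_of_surjective {S' S : Type u} [CommRing S'] [CommRing S]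
    [Algebra k S'] [Algebra k S] (π : S' →ₐ[k] S) (hπ : Function.Surjective π) (g' : S')
    (hg' : ∀ x, π x = 0 → g' * x = 0) :
    Nonempty (Localization.Away g' ≃ₐ[k] Localization.Away (π g')) := by
  let T := Localization.Away (π g')
  letI : Algebra S' T := ((algebraMap S T).comp π.toRingHom).toAlgebra
  have hmap : ∀ x : S', algebraMap S' T x = algebraMap S T (π x) := fun x => rfl
  haveI : IsScalarTower k S' T := by
    refine IsScalarTower.of_algebraMap_eq fun x => ?_
    rw [hmap, AlgHom.commutes, ← IsScalarTower.algebraMap_apply k S T]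
  haveI : IsLocalization.Away g' T := by
    refine IsLocalization.Away.mk g' ?_ (fun z => ?_) (fun a b h => ?_)
    · rw [hmap]
      exact IsLocalization.Away.algebraMap_isUnit (π g')
    · obtain ⟨n, a, ha⟩ := IsLocalization.Away.surj (π g') z
      obtain ⟨a', rfl⟩ := hπ a
      refine ⟨n, a', ?_⟩
      rw [hmap, hmap]
      exact ha
    · rw [hmap, hmap] at h
      obtain ⟨n, hn⟩ := IsLocalization.Away.exists_of_eq (π g') h
      refine ⟨n + 1, ?_⟩
      have h1 : π (g' ^ n * (a - b)) = 0 := by
        rw [map_mul, map_pow, map_sub, mul_sub, hn, sub_self]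
      have h2 := hg' _ h1
      have : g' ^ (n + 1) * a - g' ^ (n + 1) * b = 0 := by
        rw [← mul_sub, pow_succ', mul_assoc]
        exact h2
      exact sub_eq_zero.mp this
  exact ⟨(IsLocalization.algEquiv (Submonoid.powers g') (Localization.Away g') T).restrictScalars k⟩



open Groth.Agent.Lib.Helper23.SyntF

variable {k : Type u} [Field k]

/-- (V) lower bound for the height of an extended ideal in a localization at a prime -/
theorem le_height_map_atPrime {R : Type u} [CommRing R] (𝔟 M : Ideal R) [M.IsPrime] (c : ℕ∞)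
    (h : ∀ P' ∈ 𝔟.minimalPrimes, P' ≤ M → c ≤ P'.height) :
    c ≤ (𝔟.map (algebraMap R (Localization.AtPrime M))).height := by
  rw [Ideal.height_eq_inf_minimalPrimes]
  refine le_iInf₂ fun p' hp' => ?_
  haveI := hp'.isPrime
  rw [IsLocalization.minimalPrimes_map M.primeCompl (Localization.AtPrime M) 𝔟] at hp'
  have h1 : Ideal.under R p' ≤ M := by
    have h2 : p' ≤ maximalIdeal (Localization.AtPrime M) := IsLocalRing.le_maximalIdeal
      (Ideal.IsPrime.ne_top inferInstance)
    calc Ideal.under R p' ≤ Ideal.under R (maximalIdeal (Localization.AtPrime M)) :=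
          Ideal.comap_mono h2
      _ = M := IsLocalization.AtPrime.under_maximalIdeal (Localization.AtPrime M) M
  rw [← IsLocalization.height_under M.primeCompl p']
  exact h _ hp' h1



open Groth.Agent.Lib.Helper23.SyntF

variable {k : Type u} [Field k] {S : Type u} [CommRing S] [Algebra k S]

/-- an element outside `Q` lying in all minimal primes of `J` not contained in `Q` -/
theorem exists_avoid {R : Type u} [CommRing R] [IsNoetherianRing R] (J Q : Ideal R) [hQ : Q.IsPrime] :
    ∃ h : R, h ∉ Q ∧ ∀ P' ∈ J.minimalPrimes, ¬ P' ≤ Q → h ∈ P' := by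
  classical
  have hfin : J.minimalPrimes.Finite := Ideal.finite_minimalPrimes_of_isNoetherianRing R J
  have : ∀ P' : Ideal R, ∃ t : R, t ∉ Q ∧ (¬ P' ≤ Q → t ∈ P') := by
    intro P'
    by_cases hP : P' ≤ Q
    · exact ⟨1, fun h1 => hQ.ne_top ((Ideal.eq_top_iff_one Q).mpr h1), fun h => absurd hP h⟩
    · obtain ⟨t, ht, htQ⟩ := SetLike.not_le_iff_exists.mp hP
      exact ⟨t, htQ, fun _ => ht⟩
  choose t ht1 ht2 using this
  refine ⟨∏ P' ∈ hfin.toFinset, t P', ?_, ?_⟩
  · rw [hQ.prod_mem_iff]
    rintro ⟨P', -, hP'⟩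
    exact ht1 P' hP'
  · intro P' hP' hnle
    have hmem : P' ∈ hfin.toFinset := hfin.mem_toFinset.mpr hP'
    exact Ideal.mem_of_dvd _ (Finset.dvd_prod_of_mem _ hmem) (ht2 P' hnle)

/-- (B1) a presentation `k[x]/(b_1..b_c)` such that `(b)` has height `≥ c` at `Q` is a global
complete intersection in a basic open neighbourhood (which may be shrunk). -/
theorem exists_away_isGlobalCI {n c : ℕ} (p : Pres k (S := S) n c) (q : Ideal S) [hq : q.IsPrime]
    (hht : (c : ℕ∞) ≤ ((Ideal.span (Set.range p.r)).map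
      (algebraMap (MvPolynomial (Fin n) k) (Localization.AtPrime (q.comap p.φ)))).height)
    (G : S) (hG : G ∉ q) :
    ∃ g : S, g ∉ q ∧ G ∣ g ∧ Synt.IsGlobalCI k (Localization.Away g) := by
  set J := Ideal.span (Set.range p.r) with hJ
  set Q := q.comap p.φ with hQdef
  have hJQ : J ≤ Q := p.span_le_comap q
  obtain ⟨h, hhQ, hh⟩ := exists_avoid J Q
  have hφh : p.φ h ∉ q := hhQ
  refine ⟨G * p.φ h, fun hmem => (hq.mem_or_mem hmem).elim hG hφh, Dvd.intro _ rfl, ?_⟩
  set g := G * p.φ h with hg
  by_cases hsub : Subsingleton (Localization.Away g)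
  · exact Or.inl hsub
  haveI : Nontrivial (Localization.Away g) := not_subsingleton_iff_nontrivial.mp hsub
  haveI : Algebra.FiniteType k S := Algebra.FiniteType.of_surjective p.φ p.surj
  haveI : Algebra.FiniteType k (Localization.Away g) := finiteType_away g
  haveI : IsNoetherianRing S := Algebra.FiniteType.isNoetherianRing k S
  -- `c ≤ n`
  have hcn : c ≤ n := by
    have h1 : ((Ideal.span (Set.range p.r)).map
        (algebraMap (MvPolynomial (Fin n) k) (Localization.AtPrime Q))).height ≤ Q.height := by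
      have h2 := Ideal.height_le_ringKrullDim_of_ne_top
        (Groth.Agent.Lib.Helper16.Liaison.map_ne_top_of_le Q J hJQ)
      rw [IsLocalization.AtPrime.ringKrullDim_eq_height Q (Localization.AtPrime Q)] at h2
      exact_mod_cast h2
    have h3 := height_add_dim_quotient Q
    have h4 : ((Q.height : ℕ∞) : WithBot ℕ∞) ≤ (n : WithBot ℕ∞) := by
      rw [← h3]
      exact le_add_of_nonneg_right ringKrullDim_nonneg_of_nontrivial
    have h5 : Q.height ≤ (n : ℕ∞) := by exact_mod_cast h4
    have h6 : (c : ℕ∞) ≤ (n : ℕ∞) := hht.trans (h1.trans h5)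
    exact_mod_cast h6
  -- heights of maximal ideals of the localization
  have hmax : ∀ m' : Ideal (Localization.Away g), m'.IsMaximal →
      m'.height ≤ ((n - c : ℕ) : ℕ∞) := by
    intro m' hm'
    set m := m'.comap (IsScalarTower.toAlgHom k S (Localization.Away g)) with hm
    haveI hmmax : m.IsMaximal :=
      isMaximal_comap_of_finiteType (IsScalarTower.toAlgHom k S (Localization.Away g)) m'
    have hmh : m.height = m'.height := IsLocalization.height_under (Submonoid.powers g) m'
    have hgm : g ∉ m := by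
      intro hgm
      have h1 : algebraMap S (Localization.Away g) g ∈ m' := hgm
      exact hm'.ne_top (Ideal.eq_top_of_isUnit_mem _ h1 (IsLocalization.Away.algebraMap_isUnit g))
    have hφhm : p.φ h ∉ m := fun h1 => hgm (Ideal.mul_mem_left _ _ h1)
    haveI hM : (m.comap p.φ).IsMaximal := Ideal.comap_isMaximal_of_surjective p.φ p.surj
    have hhM : h ∉ m.comap p.φ := hφhm
    have hMh := Groth.Agent.Lib.Helper7.DimFT.height_eq_of_isMaximal_mvPolynomial k n _ hM
    have hJM : J ≤ m.comap p.φ := p.span_le_comap m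
    have h1 := Groth.Agent.Lib.Helper16.CMHt.height_add_ringKrullDim_quotient
      (Localization.AtPrime (m.comap p.φ))
      (cmLocal_of_regular _).supportDim_eq_depth
      (J.map (algebraMap _ (Localization.AtPrime (m.comap p.φ))))
      (Groth.Agent.Lib.Helper16.Liaison.map_ne_top_of_le (m.comap p.φ) J hJM)
    have h2 := IsLocalization.AtPrime.ringKrullDim_eq_height (m.comap p.φ)
      (Localization.AtPrime (m.comap p.φ))
    have hker : RingHom.ker p.φ = J := p.ker
    have h3 := ringKrullDim_eq_of_ringEquiv (locQuotAlgEquiv k p.φ m p.surj).toRingEquiv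
    rw [hker] at h3
    have h4 := IsLocalization.AtPrime.ringKrullDim_eq_height m (Localization.AtPrime m)
    rw [← h3, h4, h2, hMh, hmh] at h1
    have hc' : (c : ℕ∞) ≤ (J.map (algebraMap _ (Localization.AtPrime (m.comap p.φ)))).height := by
      apply le_height_map_atPrime
      intro P' hP' hP'M
      haveI := hP'.isPrime
      have hP'Q : P' ≤ Q := by
        by_contra hnle
        exact hhM (hP'M (hh P' hP' hnle))
      have hdisj : Disjoint (Q.primeCompl : Set (MvPolynomial (Fin n) k)) (P' : Set _) := by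
        rw [Set.disjoint_left]
        intro x hx hxP
        exact hx (hP'Q hxP)
      rw [← IsLocalization.height_map_of_disjoint Q.primeCompl P' hdisj
        (S := Localization.AtPrime Q)]
      exact hht.trans (Ideal.height_mono (Ideal.map_mono hP'.1.2))
    have hfin1 : m'.height ≠ ⊤ := Ideal.height_ne_top_of_isPrime
    obtain ⟨a, ha⟩ := ENat.ne_top_iff_exists.mp hfin1
    have hfin2 : (J.map (algebraMap _ (Localization.AtPrime (m.comap p.φ)))).height ≠ ⊤ :=
      Ideal.height_ne_top (Groth.Agent.Lib.Helper16.Liaison.map_ne_top_of_le (m.comap p.φ) J hJM)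
    obtain ⟨c', hc'eq⟩ := ENat.ne_top_iff_exists.mp hfin2
    rw [← ha, ← hc'eq] at h1
    rw [← hc'eq] at hc'
    rw [← ha]
    have h5 : c' + a = n := by exact_mod_cast h1
    have h6 : c ≤ c' := by exact_mod_cast hc'
    have : a ≤ n - c := by omega
    exact_mod_cast this
  have hdim : ringKrullDim (Localization.Away g) ≤ ((n + 1 - (c + 1) : ℕ) : WithBot ℕ∞) := by
    rw [← Ideal.sup_isMaximal_height_eq_ringKrullDim, Nat.add_sub_add_right]
    have : (⨆ (m : Ideal (Localization.Away g)) (_ : m.IsMaximal), m.height) ≤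
        ((n - c : ℕ) : ℕ∞) := iSup₂_le hmax
    exact WithBot.coe_le_coe.mpr this
  rw [isGlobalCI_iff]
  exact Or.inr ⟨n + 1, c + 1, by omega, ⟨p.away g⟩, (p.away g).dim_eq (by omega) hdim⟩



open Groth.Agent.Lib.Helper23.SyntF

variable {k : Type u} [Field k] {S : Type u} [CommRing S] [Algebra k S]

/-- generators of an extended ideal may be taken from the ideal -/
theorem exists_lift_generators {R : Type u} [CommRing R] (I Q : Ideal R) [Q.IsPrime] (c : ℕ)
    (xs : Fin c → Localization.AtPrime Q)
    (hxs : Ideal.span (Set.range xs) = I.map (algebraMap R (Localization.AtPrime Q))) :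
    ∃ b : Fin c → R, (∀ i, b i ∈ I) ∧
      (Ideal.span (Set.range b)).map (algebraMap R (Localization.AtPrime Q)) =
        I.map (algebraMap R (Localization.AtPrime Q)) := by
  have h1 : ∀ i, ∃ (b : R) (s : R), b ∈ I ∧ s ∉ Q ∧
      xs i * algebraMap R (Localization.AtPrime Q) s = algebraMap R (Localization.AtPrime Q) b := by
    intro i
    have hmem : xs i ∈ I.map (algebraMap R (Localization.AtPrime Q)) := by
      rw [← hxs]; exact Ideal.subset_span ⟨i, rfl⟩
    rw [IsLocalization.mem_map_algebraMap_iff Q.primeCompl] at hmem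
    obtain ⟨⟨a, s⟩, ha⟩ := hmem
    exact ⟨a.1, s.1, a.2, s.2, ha⟩
  choose b s hb hs hbs using h1
  refine ⟨b, hb, le_antisymm ?_ ?_⟩
  · exact Ideal.map_mono (Ideal.span_le.mpr (by rintro _ ⟨i, rfl⟩; exact hb i))
  · rw [← hxs, Ideal.span_le]
    rintro _ ⟨i, rfl⟩
    have hu : IsUnit (algebraMap R (Localization.AtPrime Q) (s i)) :=
      IsLocalization.map_units (Localization.AtPrime Q) (⟨s i, hs i⟩ : Q.primeCompl)
    have h2 : algebraMap R (Localization.AtPrime Q) (b i) ∈
        (Ideal.span (Set.range b)).map (algebraMap R (Localization.AtPrime Q)) :=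
      Ideal.mem_map_of_mem _ (Ideal.subset_span ⟨i, rfl⟩)
    rw [← hbs i] at h2
    exact (Ideal.mul_unit_mem_iff_mem _ hu).mp h2

/-- if `I` and `J ≤ I` have the same extension to `R_Q` and `I` is f.g., some `G ∉ Q` has `G I ≤ J` -/
theorem exists_mul_mem_of_map_eq {R : Type u} [CommRing R] [IsNoetherianRing R] (I J Q : Ideal R)
    [hQ : Q.IsPrime]
    (h : I.map (algebraMap R (Localization.AtPrime Q)) ≤ J.map (algebraMap R (Localization.AtPrime Q))) :
    ∃ G : R, G ∉ Q ∧ ∀ y ∈ I, G * y ∈ J := by
  classical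
  obtain ⟨T, hT⟩ := (isNoetherianRing_iff_ideal_fg R).mp inferInstance I
  have h1 : ∀ y : R, ∃ t : R, t ∉ Q ∧ (y ∈ I → t * y ∈ J) := by
    intro y
    by_cases hy : y ∈ I
    · have hmem : algebraMap R (Localization.AtPrime Q) y ∈
          J.map (algebraMap R (Localization.AtPrime Q)) := h (Ideal.mem_map_of_mem _ hy)
      rw [IsLocalization.mem_map_algebraMap_iff Q.primeCompl] at hmem
      obtain ⟨⟨a, s⟩, ha⟩ := hmem
      rw [← map_mul, IsLocalization.eq_iff_exists Q.primeCompl] at ha
      obtain ⟨t', ht'⟩ := ha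
      refine ⟨t'.1 * s.1, fun hmem => (hQ.mem_or_mem hmem).elim t'.2 s.2, fun _ => ?_⟩
      have : t'.1 * s.1 * y = t'.1 * a.1 := by rw [← ht']; ring
      rw [this]
      exact Ideal.mul_mem_left _ _ a.2
    · exact ⟨1, fun h1 => hQ.ne_top ((Ideal.eq_top_iff_one Q).mpr h1), fun h => absurd h hy⟩
  choose t ht1 ht2 using h1
  refine ⟨∏ y ∈ T, t y, ?_, ?_⟩
  · rw [hQ.prod_mem_iff]
    rintro ⟨y, -, hy⟩
    exact ht1 y hy
  · have hle : I ≤ J.colon ({∏ y ∈ T, t y} : Set R) := by
      rw [← hT, Ideal.span_le]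
      intro y hy
      have hyI : y ∈ I := hT ▸ Ideal.subset_span hy
      rw [SetLike.mem_coe, Submodule.mem_colon_singleton, smul_eq_mul]
      obtain ⟨w, hw⟩ := Finset.dvd_prod_of_mem t hy
      rw [hw]
      have : y * (t y * w) = w * (t y * y) := by ring
      rw [this]
      exact Ideal.mul_mem_left _ _ (ht2 y hyI)
    intro y hy
    have := hle hy
    rw [Submodule.mem_colon_singleton, smul_eq_mul] at this
    rwa [mul_comm]



open Groth.Agent.Lib.Helper23.SyntF

variable {k : Type u} [Field k] {S : Type u} [CommRing S] [Algebra k S]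

/-- (B2) if the kernel of `ψ : k[x] → S` is generated at `Q` by `c ≤ ht` elements, then `S` is a
global complete intersection in a basic open neighbourhood of `q`. -/
theorem exists_away_isGlobalCI' {n : ℕ} (ψ : MvPolynomial (Fin n) k →ₐ[k] S)
    (hψ : Function.Surjective ψ) (q : Ideal S) [hq : q.IsPrime] (c : ℕ)
    (xs : Fin c → Localization.AtPrime (q.comap ψ))
    (hxs : Ideal.span (Set.range xs) =
      (RingHom.ker ψ).map (algebraMap _ (Localization.AtPrime (q.comap ψ))))
    (hht : (c : ℕ∞) ≤
      ((RingHom.ker ψ).map (algebraMap _ (Localization.AtPrime (q.comap ψ)))).height) :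
    ∃ g : S, g ∉ q ∧ Synt.IsGlobalCI k (Localization.Away g) := by
  set I := RingHom.ker ψ with hI
  set Q := q.comap ψ with hQ
  obtain ⟨b, hbI, hbmap⟩ := exists_lift_generators I Q c xs hxs
  set J := Ideal.span (Set.range b) with hJ
  have hJI : J ≤ I := Ideal.span_le.mpr (by rintro _ ⟨i, rfl⟩; exact hbI i)
  obtain ⟨G₀, hG₀Q, hG₀⟩ := exists_mul_mem_of_map_eq I J Q hbmap.ge
  -- the presentation of `P/J`
  let p' : Pres k (S := MvPolynomial (Fin n) k ⧸ J) n c :=
    { φ := Ideal.Quotient.mkₐ k J
      r := b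
      surj := Ideal.Quotient.mkₐ_surjective k J
      ker := by
        ext x
        simp only [RingHom.mem_ker]
        change Ideal.Quotient.mk J x = 0 ↔ _
        rw [Ideal.Quotient.eq_zero_iff_mem] }
  let π : (MvPolynomial (Fin n) k ⧸ J) →ₐ[k] S := Ideal.Quotient.liftₐ J ψ (fun x hx => hJI hx)
  have hπ : Function.Surjective π := by
    intro y
    obtain ⟨x, rfl⟩ := hψ y
    exact ⟨Ideal.Quotient.mk J x, rfl⟩
  have hπmk : ∀ x, π (Ideal.Quotient.mk J x) = ψ x := fun x => rfl
  haveI hq' : (q.comap π).IsPrime := Ideal.comap_isPrime π q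
  have hcomap : (q.comap π).comap p'.φ = Q := rfl
  have hG : Ideal.Quotient.mk J G₀ ∉ q.comap π := hG₀Q
  obtain ⟨g', hg'q, hGg', hCI⟩ := exists_away_isGlobalCI p' (q.comap π)
    (by
      change (c : ℕ∞) ≤ (J.map (algebraMap _ (Localization.AtPrime Q))).height
      rw [hbmap]
      exact hht) (Ideal.Quotient.mk J G₀) hG
  refine ⟨π g', hg'q, ?_⟩
  obtain ⟨e⟩ := nonempty_away_algEquiv_of_surjective π hπ g' (by
    intro x hx
    obtain ⟨w, rfl⟩ := hGg'
    obtain ⟨y, rfl⟩ := Ideal.Quotient.mk_surjective x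
    have hy : y ∈ I := hx
    have h1 : Ideal.Quotient.mk J G₀ * Ideal.Quotient.mk J y = 0 := by
      rw [← map_mul, Ideal.Quotient.eq_zero_iff_mem]
      exact hG₀ y hy
    calc Ideal.Quotient.mk J G₀ * w * Ideal.Quotient.mk J y
        = w * (Ideal.Quotient.mk J G₀ * Ideal.Quotient.mk J y) := by ring
      _ = 0 := by rw [h1, mul_zero])
  exact isGlobalCI_of_algEquiv e hCI



open Groth.Agent.Lib.Helper23.SyntF

variable {k : Type u} [Field k] {S : Type u} [CommRing S] [Algebra k S]

/-- (R1) in a CM local ring the ideal generated by a regular sequence has height its length -/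
theorem height_ofList_of_isRegular {A : Type u} [CommRing A] [IsLocalRing A] [IsNoetherianRing A]
    (hCM : LocCoh.IsCohenMacaulayModule A A) (xs : List A) (hreg : IsRegular A xs) :
    (Ideal.ofList xs).height = xs.length := by
  have hne : Ideal.ofList xs ≠ ⊤ := by
    intro h
    apply hreg.2
    rw [smul_eq_mul, Ideal.mul_top, h]
  have hmem : ∀ x ∈ xs, x ∈ maximalIdeal A := fun x hx =>
    IsLocalRing.le_maximalIdeal hne (Ideal.subset_span hx)
  have h1 := (Groth.Agent.Lib.Helper16.CICot.isWeaklyRegular_iff_dim hCM xs hmem).mp hreg.1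
  have h2 := Groth.Agent.Lib.Helper16.CMHt.height_add_ringKrullDim_quotient A hCM _ hne
  haveI : Nontrivial (A ⧸ Ideal.ofList xs) := Ideal.Quotient.nontrivial_iff.mpr hne
  haveI : IsLocalRing (A ⧸ Ideal.ofList xs) :=
    IsLocalRing.of_surjective' (Ideal.Quotient.mk _) Ideal.Quotient.mk_surjective
  obtain ⟨a, ha⟩ := Groth.Agent.Lib.Helper21.exists_nat_eq_ringKrullDim (R := A ⧸ Ideal.ofList xs)
  obtain ⟨d, hd⟩ := Groth.Agent.Lib.Helper21.exists_nat_eq_ringKrullDim (R := A)
  have hfin : (Ideal.ofList xs).height ≠ ⊤ := Ideal.height_ne_top hne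
  obtain ⟨h, hh⟩ := ENat.ne_top_iff_exists.mp hfin
  rw [ha, hd] at h1 h2
  rw [← hh] at h2 ⊢
  have e1 : a + xs.length = d := by exact_mod_cast h1
  have e2 : h + a = d := by exact_mod_cast h2
  have : h = xs.length := by omega
  exact_mod_cast this

/-- the kernel of `k[x]_Q → S_q` is generated by a regular sequence when `S_q` is a complete
intersection -/
theorem exists_isRegular_ker_of_isCIOver {n : ℕ} (ψ : MvPolynomial (Fin n) k →ₐ[k] S)
    (hψ : Function.Surjective ψ) (q : Ideal S) [hq : q.IsPrime]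
    (hCI : Synt.IsCIOver k (Localization.AtPrime q)) :
    ∃ xs : List (Localization.AtPrime (q.comap ψ)),
      Ideal.ofList xs = (RingHom.ker ψ).map (algebraMap _ (Localization.AtPrime (q.comap ψ))) ∧
      IsRegular (Localization.AtPrime (q.comap ψ)) xs := by
  obtain ⟨xs, hxs, hreg⟩ := exists_isRegular_of_isCIOver hCI (Localization.AtPrime (q.comap ψ))
    (locHom k ψ q).toRingHom (locHom_surjective k q hψ)
  refine ⟨xs, ?_, hreg⟩
  rw [hxs, ← ker_locHom k q hψ]
  rfl

/-- (C) a finite type algebra whose local ring at `q` is a complete intersection is a global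
complete intersection near `q` -/
theorem exists_away_of_isCIOver [Algebra.FiniteType k S] (q : Ideal S) [hq : q.IsPrime]
    (hCI : Synt.IsCIOver k (Localization.AtPrime q)) :
    ∃ g : S, g ∉ q ∧ Synt.IsGlobalCI k (Localization.Away g) := by
  obtain ⟨n, ψ, hψ⟩ := Algebra.FiniteType.iff_quotient_mvPolynomial''.mp
    (inferInstance : Algebra.FiniteType k S)
  obtain ⟨xs, hxs, hreg⟩ := exists_isRegular_ker_of_isCIOver ψ hψ q hCI
  refine exists_away_isGlobalCI' ψ hψ q xs.length (fun i => xs.get i) ?_ ?_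
  · rw [Groth.Agent.Lib.Helper16.CIInv.span_range_get, hxs]
  · rw [← hxs, height_ofList_of_isRegular
      (Groth.Agent.Lib.Helper16.PDR.isCohenMacaulayModule_self_of_isRegularLocalRing _) xs hreg]



open Groth.Agent.Lib.Helper23.SyntF

variable {k : Type u} [Field k] {S : Type u} [CommRing S] [Algebra k S]

/-- `S ≃ S_1` -/
theorem nonempty_algEquiv_away_one : Nonempty (S ≃ₐ[k] Localization.Away (1 : S)) := by
  haveI : IsLocalization.Away (1 : S) S := IsLocalization.away_of_isUnit_of_bijective S isUnit_one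
    Function.bijective_id
  exact ⟨(IsLocalization.algEquiv (Submonoid.powers (1 : S)) S
    (Localization.Away (1 : S))).restrictScalars k⟩

theorem isLCIOver_of_isGlobalCI [Algebra.FiniteType k S] (h : Synt.IsGlobalCI k S) :
    Synt.IsLCIOver k S :=
  ⟨inferInstance, fun p => ⟨1, fun h1 => p.isPrime.ne_top ((Ideal.eq_top_iff_one _).mpr h1),
    isGlobalCI_away h 1⟩⟩

theorem isCIOver_atPrime_of_away_isGlobalCI (q : Ideal S) [q.IsPrime] (g : S) (hg : g ∉ q)
    (h : Synt.IsGlobalCI k (Localization.Away g)) : Synt.IsCIOver k (Localization.AtPrime q) := by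
  obtain ⟨p', hp', -, ⟨e⟩⟩ := exists_prime_away (k := k) g q hg
  exact isCIOver_of_algEquiv e.symm (isCIOver_atPrime_of_isGlobalCI h p')

theorem isCIOver_atPrime_of_away_isLCIOver (q : Ideal S) [q.IsPrime] (g : S) (hg : g ∉ q)
    (h : Synt.IsLCIOver k (Localization.Away g)) : Synt.IsCIOver k (Localization.AtPrime q) := by
  obtain ⟨p', hp', -, ⟨e⟩⟩ := exists_prime_away (k := k) g q hg
  exact isCIOver_of_algEquiv e.symm (isCIOver_atPrime_of_isLCIOver h p')

theorem t9144 [Algebra.FiniteType k S] (q : Ideal S) [q.IsPrime] :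
    (Synt.IsCIOver k (Localization.AtPrime q) ↔ ∃ g : S, g ∉ q ∧ Synt.IsLCIOver k (Localization.Away g)) ∧
      (Synt.IsCIOver k (Localization.AtPrime q) ↔
        ∃ g : S, g ∉ q ∧ Synt.IsGlobalCI k (Localization.Away g)) := by
  refine ⟨⟨fun h => ?_, fun ⟨g, hg, h⟩ => isCIOver_atPrime_of_away_isLCIOver q g hg h⟩,
    ⟨fun h => exists_away_of_isCIOver q h,
      fun ⟨g, hg, h⟩ => isCIOver_atPrime_of_away_isGlobalCI q g hg h⟩⟩
  obtain ⟨g, hg, hCI⟩ := exists_away_of_isCIOver q h
  haveI := finiteType_away (k := k) g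
  exact ⟨g, hg, isLCIOver_of_isGlobalCI hCI⟩

theorem t9145 [Algebra.FiniteType k S] :
    (Synt.IsLCIOver k S ↔ ∀ p : PrimeSpectrum S, Synt.IsCIOver k (Localization.AtPrime p.asIdeal)) ∧
      (Synt.IsLCIOver k S ↔
        ∀ m : MaximalSpectrum S, Synt.IsCIOver k (Localization.AtPrime m.asIdeal)) := by
  refine ⟨⟨fun h p => isCIOver_atPrime_of_isLCIOver h p.asIdeal,
    fun h => ⟨inferInstance, fun p => exists_away_of_isCIOver p.asIdeal (h p)⟩⟩,
    ⟨fun h m => isCIOver_atPrime_of_isLCIOver h m.asIdeal, fun h => ⟨inferInstance, fun p => ?_⟩⟩⟩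
  obtain ⟨m, hm, hpm⟩ := Ideal.exists_le_maximal p.asIdeal p.isPrime.ne_top
  obtain ⟨g, hg, hCI⟩ := exists_away_of_isCIOver m (h ⟨m, hm⟩)
  exact ⟨g, fun hgp => hg (hpm hgp), hCI⟩

end Groth.Agent.Lib.Helper23.SyntF
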