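import Mathlib
import Groth.Prelude.Def_CAlgX
import Groth.Agent.Lib.Helper12.QuasiReg2

/-!
# Quasi-regular ⇒ regular (EGA 0_IV 15.1.9, Matsumura 16.3)

* `eq_zero_of_mul_eq_zero`: the first element of a quasi-regular sequence is a nonzerodivisor when `⋂ Iⁿ = 0`.
* `coeff_mem_of_eval_eq_mul`, `isQuasiRegular_quotient`: quasi-regularity of `(x, g')` passes to `g'` in `A/(x)`.
* `isWeaklyRegular_of_isQuasiRegular`: in a Noetherian local ring, a quasi-regular sequence in the maximal ideal is a regular sequence.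
-/

set_option autoImplicit false
universe u


namespace Groth.Agent.Lib.Helper23.QRR


open MvPolynomial Groth.Agent.Lib.Helper12.QR

section

variable {A : Type u} [CommRing A] {c : ℕ}

lemma coeff_mem_of_X_mul (G : MvPolynomial (Fin (c + 1)) A) (I : Ideal A)
    (h : ∀ d, (X 0 * G).coeff d ∈ I) (d : Fin (c + 1) →₀ ℕ) : G.coeff d ∈ I := by
  have := h (Finsupp.single 0 1 + d)
  rwa [coeff_X_mul] at this

lemma isHomogeneous_X_mul {G : MvPolynomial (Fin (c + 1)) A} {n : ℕ} (hG : G.IsHomogeneous n) :
    (X 0 * G).IsHomogeneous (n + 1) := by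
  have := (isHomogeneous_X A (0 : Fin (c + 1))).mul hG
  have h1 : 1 + n = n + 1 := add_comm 1 n
  exact h1 ▸ this

/-- Lemma A: the first element of a quasi-regular sequence is a nonzerodivisor if `⋂ Iⁿ = 0`. -/
lemma eq_zero_of_mul_eq_zero (x : A) (g' : Fin c → A)
    (hq : CAlgX.IsQuasiRegular (Fin.cons x g' : Fin (c + 1) → A))
    (hsep : ∀ a : A, (∀ n, a ∈ Ideal.span (Set.range (Fin.cons x g' : Fin (c + 1) → A)) ^ n) → a = 0)
    (a : A) (ha : x * a = 0) : a = 0 := by
  apply hsep
  intro n
  induction n with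
  | zero => simp
  | succ n ih =>
    obtain ⟨P, hP, rfl⟩ := (Ideal.mem_span_pow_iff_exists_isHomogeneous _ _).1 ih
    have hXP := isHomogeneous_X_mul hP
    have hev : eval (Fin.cons x g' : Fin (c + 1) → A) (X 0 * P) ∈
        Ideal.span (Set.range (Fin.cons x g' : Fin (c + 1) → A)) ^ (n + 1 + 1) := by
      rw [map_mul, eval_X, Fin.cons_zero, ha]
      exact zero_mem _
    have hc := hq (n + 1) (X 0 * P) hXP hev
    have hc' : ∀ d, P.coeff d ∈ Ideal.span (Set.range (Fin.cons x g' : Fin (c + 1) → A)) :=
      fun d => coeff_mem_of_X_mul P _ hc d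
    rw [pow_succ']
    exact eval_mem_mul_pow_of_coeff_mem _ _ hP hc'

lemma eval_cons_rename_succ (x : A) (g' : Fin c → A) (P : MvPolynomial (Fin c) A) :
    eval (Fin.cons x g' : Fin (c + 1) → A) (rename Fin.succ P) = eval g' P := by
  rw [eval_rename]
  congr 1

/-- Key claim: a form in `X₁..X_c` whose value at `g'` is a multiple of `x` has coefficients in `I`. -/
lemma coeff_mem_of_eval_eq_mul (x : A) (g' : Fin c → A)
    (hq : CAlgX.IsQuasiRegular (Fin.cons x g' : Fin (c + 1) → A))
    (ν : ℕ) (P : MvPolynomial (Fin c) A) (hP : P.IsHomogeneous ν) (ω : A)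
    (hω : eval g' P = x * ω) (d : Fin c →₀ ℕ) :
    P.coeff d ∈ Ideal.span (Set.range (Fin.cons x g' : Fin (c + 1) → A)) := by
  classical
  set f : Fin (c + 1) → A := Fin.cons x g' with hf
  set I := Ideal.span (Set.range f) with hI
  have hxI : x ∈ I := Ideal.subset_span ⟨0, by simp [hf]⟩
  have hevI : eval g' P ∈ I ^ ν := by
    rw [← eval_cons_rename_succ x g' P]
    exact eval_mem_pow_of_isHomogeneous f hP.rename_isHomogeneous
  rcases ν with _ | μ
  · -- degree 0
    have hPC : P = C (P.coeff 0) := by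
      apply totalDegree_eq_zero_iff_eq_C.mp
      exact Nat.le_zero.mp (hP.totalDegree_le)
    by_cases hd : d = 0
    · subst hd
      have : eval g' P = P.coeff 0 := by
        conv_lhs => rw [hPC]
        rw [eval_C]
      rw [← this, hω]
      exact Ideal.mul_mem_right _ _ hxI
    · rw [hPC, coeff_C, if_neg (Ne.symm hd)]
      exact zero_mem _
  · have hωi : ∀ i, i ≤ μ → ω ∈ I ^ i := by
      intro i
      induction i with
      | zero => intro _; simp
      | succ i ih =>
        intro hi
        have h1 := ih (by omega)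
        obtain ⟨G, hG, hGe⟩ := (Ideal.mem_span_pow_iff_exists_isHomogeneous f _).1 h1
        have hXG := isHomogeneous_X_mul hG
        have hev : eval f (X 0 * G) ∈ I ^ (i + 1 + 1) := by
          rw [map_mul, eval_X, hGe, hf, Fin.cons_zero, ← hω]
          exact Ideal.pow_le_pow_right (by omega) hevI
        have hc := hq (i + 1) (X 0 * G) hXG hev
        have hc' : ∀ d, G.coeff d ∈ I := fun d => coeff_mem_of_X_mul G _ hc d
        rw [← hGe, pow_succ']
        exact eval_mem_mul_pow_of_coeff_mem _ _ hG hc'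
    obtain ⟨G, hG, hGe⟩ := (Ideal.mem_span_pow_iff_exists_isHomogeneous f _).1 (hωi μ le_rfl)
    set Q : MvPolynomial (Fin (c + 1)) A := rename Fin.succ P - X 0 * G with hQ
    have hQh : Q.IsHomogeneous (μ + 1) := hP.rename_isHomogeneous.sub (isHomogeneous_X_mul hG)
    have hQe : eval f Q ∈ I ^ (μ + 1 + 1) := by
      rw [hQ, map_sub, hf, eval_cons_rename_succ, map_mul, eval_X, Fin.cons_zero, ← hf, hGe, hω,
        sub_self]
      exact zero_mem _
    have hQc := hq (μ + 1) Q hQh hQe (d.mapDomain Fin.succ)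
    rw [hQ, coeff_sub, coeff_rename_mapDomain Fin.succ (Fin.succ_injective c), coeff_X_mul',
      if_neg, sub_zero] at hQc
    · exact hQc
    · rw [Finsupp.mem_support_iff, not_not]
      apply Finsupp.mapDomain_notin_range
      rintro ⟨j, hj⟩
      exact Fin.succ_ne_zero j hj

end



open MvPolynomial Groth.Agent.Lib.Helper12.QR

section

variable {A : Type u} [CommRing A] {c : ℕ}

/-- Lemma B: quasi-regularity passes to the quotient by the first element. -/
lemma isQuasiRegular_quotient (x : A) (g' : Fin c → A)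
    (hq : CAlgX.IsQuasiRegular (Fin.cons x g' : Fin (c + 1) → A)) :
    CAlgX.IsQuasiRegular (fun i => Ideal.Quotient.mk (Ideal.span {x}) (g' i)) := by
  classical
  intro n
  apply qr_of_qr0 (fun i => Ideal.Quotient.mk (Ideal.span {x}) (g' i)) n
  intro Pb hPb hev d
  -- lift
  obtain ⟨P₀, hP₀⟩ := map_surjective (Ideal.Quotient.mk (Ideal.span {x}))
    Ideal.Quotient.mk_surjective Pb
  set P := homogeneousComponent n P₀ with hPdef
  have hP : P.IsHomogeneous n := homogeneousComponent_isHomogeneous n P₀
  have hmap : map (Ideal.Quotient.mk (Ideal.span {x})) P = Pb := by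
    ext e
    rw [coeff_map, hPdef, coeff_homogeneousComponent]
    split_ifs with he
    · rw [← hP₀, coeff_map]
    · rw [map_zero]
      exact (hPb.coeff_eq_zero he).symm
  have hev2 : Ideal.Quotient.mk (Ideal.span {x}) (eval g' P) = 0 := by
    rw [eval₂_comp, ← eval_map, hmap]
    exact hev
  rw [Ideal.Quotient.eq_zero_iff_mem, Ideal.mem_span_singleton'] at hev2
  obtain ⟨ω, hω⟩ := hev2
  have hc := coeff_mem_of_eval_eq_mul x g' hq n P hP ω (by rw [← hω, mul_comm]) d
  rw [← hmap, coeff_map]
  have h2 := Ideal.mem_map_of_mem (Ideal.Quotient.mk (Ideal.span {x})) hc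
  rw [Ideal.map_span] at h2
  refine (Ideal.span_le.mpr ?_) h2
  rintro _ ⟨_, ⟨i, rfl⟩, rfl⟩
  refine Fin.cases ?_ (fun j => ?_) i
  · rw [Fin.cons_zero]
    have : Ideal.Quotient.mk (Ideal.span {x}) x = 0 :=
      Ideal.Quotient.eq_zero_iff_mem.mpr (Ideal.subset_span rfl)
    rw [this]
    exact zero_mem _
  · rw [Fin.cons_succ]
    exact Ideal.subset_span ⟨j, rfl⟩

end



open MvPolynomial Groth.Agent.Lib.Helper12.QR IsLocalRing
open scoped Pointwise

/-- In a Noetherian local ring, a quasi-regular sequence contained in the maximal ideal is a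
(weakly) regular sequence (EGA 0_IV 15.1.9, Matsumura 16.3). -/
theorem isWeaklyRegular_of_isQuasiRegular : ∀ (c : ℕ) (A : Type u) [CommRing A] [IsNoetherianRing A]
    [IsLocalRing A] (f : Fin c → A), (∀ i, f i ∈ maximalIdeal A) → CAlgX.IsQuasiRegular f →
    RingTheory.Sequence.IsWeaklyRegular A (List.ofFn f) := by
  intro c
  induction c with
  | zero =>
    intro A _ _ _ f _ _
    rw [List.ofFn_zero]
    exact RingTheory.Sequence.IsWeaklyRegular.nil A A
  | succ c ih =>
    intro A _ _ _ f hfm hq
    set x := f 0 with hx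
    set g' : Fin c → A := fun i => f i.succ with hg'
    have hfc : f = (Fin.cons x g' : Fin (c + 1) → A) := by
      ext i
      refine Fin.cases ?_ (fun j => ?_) i
      · simp [hx]
      · simp [hg']
    rw [hfc] at hq
    have hIle : Ideal.span (Set.range (Fin.cons x g' : Fin (c + 1) → A)) ≤ maximalIdeal A := by
      rw [Ideal.span_le]
      rintro _ ⟨i, rfl⟩
      rw [← hfc]
      exact hfm i
    have hsep : ∀ a : A, (∀ n, a ∈ Ideal.span (Set.range (Fin.cons x g' : Fin (c + 1) → A)) ^ n) →
        a = 0 := by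
      intro a ha
      have hne : Ideal.span (Set.range (Fin.cons x g' : Fin (c + 1) → A)) ≠ ⊤ := by
        intro h
        rw [h] at hIle
        exact (maximalIdeal.isMaximal A).ne_top (top_le_iff.mp hIle)
      have := Ideal.iInf_pow_eq_bot_of_isLocalRing _ hne
      have h2 : a ∈ (⨅ i, Ideal.span (Set.range (Fin.cons x g' : Fin (c + 1) → A)) ^ i) := by
        rw [Ideal.mem_iInf]
        exact ha
      rw [this] at h2
      exact h2
    have hxm : x ∈ maximalIdeal A := hfm 0
    have hreg : IsSMulRegular A x := by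
      intro a b hab
      have h1 : x * (a - b) = 0 := by
        rw [mul_sub, sub_eq_zero]
        exact hab
      have := eq_zero_of_mul_eq_zero x g' hq hsep (a - b) h1
      exact sub_eq_zero.mp this
    have hnt : Nontrivial (A ⧸ Ideal.span {x}) := by
      rw [Ideal.Quotient.nontrivial_iff]
      intro h
      have : Ideal.span {x} ≤ maximalIdeal A := (Ideal.span_singleton_le_iff_mem _).mpr hxm
      rw [h] at this
      exact (maximalIdeal.isMaximal A).ne_top (top_le_iff.mp this)
    haveI : IsLocalRing (A ⧸ Ideal.span {x}) :=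
      IsLocalRing.of_surjective' (Ideal.Quotient.mk (Ideal.span {x})) Ideal.Quotient.mk_surjective
    haveI : IsLocalHom (Ideal.Quotient.mk (Ideal.span {x})) :=
      IsLocalHom.of_surjective _ Ideal.Quotient.mk_surjective
    have hqb := isQuasiRegular_quotient x g' hq
    have hmb : ∀ i, Ideal.Quotient.mk (Ideal.span {x}) (g' i) ∈ maximalIdeal (A ⧸ Ideal.span {x}) := by
      intro i
      exact map_nonunit (Ideal.Quotient.mk (Ideal.span {x})) (g' i) (hfm i.succ)
    have hIH := ih (A ⧸ Ideal.span {x}) (fun i => Ideal.Quotient.mk (Ideal.span {x}) (g' i)) hmb hqb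
    rw [List.ofFn_succ, RingTheory.Sequence.isWeaklyRegular_cons_iff]
    refine ⟨hreg, ?_⟩
    have h : x • (⊤ : Submodule A A) = Ideal.span {x} := by
      simp [← Submodule.ideal_span_singleton_smul]
    let e : QuotSMulTop x A ≃ₗ[A] A ⧸ Ideal.span {x} := Submodule.quotEquivOfEq _ _ h
    have hx'eq : (List.ofFn fun i => Ideal.Quotient.mk (Ideal.span {x}) (g' i)) =
        (List.ofFn fun i => f i.succ).map (Ideal.Quotient.mk (Ideal.span {x})) := by
      rw [List.map_ofFn]
      rfl
    rw [hx'eq] at hIH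
    refine (AddEquiv.isWeaklyRegular_congr (e := e.toAddEquiv) ?_).mpr hIH
    refine List.forall₂_map_right_iff.mpr (List.forall₂_same.mpr fun a _ y => ?_)
    change e (a • y) = _
    rw [e.map_smul, ← Ideal.Quotient.algebraMap_eq, algebraMap_smul]
    rfl

end Groth.Agent.Lib.Helper23.QRR
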