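import Groth.Agent.Lib.Helper23.SyntF2

/-!
Complete intersections over a field (Stacks 10.135), part 3: S9171 (t9171_aux), local ess. finite type algebras as localizations of finite type algebras, S9143 (t9143).
-/

set_option autoImplicit false
universe u
open IsLocalRing RingTheory.Sequence MvPolynomial

namespace Groth.Agent.Lib.Helper23.SyntF


open Groth.Agent.Lib.Helper23.SyntF

variable {k : Type u} [Field k] {S : Type u} [CommRing S] [Algebra k S]

theorem ker_le_comap {n : ℕ} (ψ : MvPolynomial (Fin n) k →ₐ[k] S) (q : Ideal S) :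
    RingHom.ker ψ ≤ q.comap ψ := by
  intro x hx
  rw [Ideal.mem_comap, (RingHom.mem_ker).mp hx]
  exact zero_mem _

/-- numerical data at a prime of a presented algebra -/
theorem dims_atPrime {n : ℕ} (ψ : MvPolynomial (Fin n) k →ₐ[k] S)
    (hψ : Function.Surjective ψ) (q : Ideal S) [hq : q.IsPrime] (c : ℕ)
    (hc : (c : ℕ∞) + q.height = (q.comap ψ).height) :
    ∃ a d : ℕ, a + c = d ∧
      ringKrullDim (Localization.AtPrime (q.comap ψ) ⧸
        (RingHom.ker ψ).map (algebraMap _ (Localization.AtPrime (q.comap ψ)))) = a ∧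
      ringKrullDim (Localization.AtPrime (q.comap ψ)) = d ∧
      ((RingHom.ker ψ).map (algebraMap _ (Localization.AtPrime (q.comap ψ)))).height = c := by
  haveI : IsNoetherianRing S := isNoetherianRing_of_surjective _ S ψ.toRingHom hψ
  have h2 := IsLocalization.AtPrime.ringKrullDim_eq_height (q.comap ψ)
    (Localization.AtPrime (q.comap ψ))
  have h3 := ringKrullDim_eq_of_ringEquiv (locQuotAlgEquiv k ψ q hψ).toRingEquiv
  have h4 := IsLocalization.AtPrime.ringKrullDim_eq_height q (Localization.AtPrime q)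
  have hne := Groth.Agent.Lib.Helper16.Liaison.map_ne_top_of_le (q.comap ψ) (RingHom.ker ψ)
    (ker_le_comap ψ q)
  have h1 := Groth.Agent.Lib.Helper16.CMHt.height_add_ringKrullDim_quotient
    (Localization.AtPrime (q.comap ψ))
    (Groth.Agent.Lib.Helper16.PDR.isCohenMacaulayModule_self_of_isRegularLocalRing _) _ hne
  have hfq : q.height ≠ ⊤ := Ideal.height_ne_top_of_isPrime
  have hfQ : (q.comap ψ).height ≠ ⊤ := Ideal.height_ne_top_of_isPrime
  obtain ⟨a, ha⟩ := ENat.ne_top_iff_exists.mp hfq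
  obtain ⟨d, hd⟩ := ENat.ne_top_iff_exists.mp hfQ
  obtain ⟨h, hh⟩ := ENat.ne_top_iff_exists.mp (Ideal.height_ne_top hne)
  rw [← ha, ← hd] at hc
  rw [← h3, h4, h2, ← ha, ← hd, ← hh] at h1
  have e1 : c + a = d := by exact_mod_cast hc
  have e2 : h + a = d := by exact_mod_cast h1
  refine ⟨a, d, by omega, ?_, ?_, ?_⟩
  · rw [← h3, h4, ← ha]; rfl
  · rw [h2, ← hd]; rfl
  · rw [← hh]
    have : h = c := by omega
    exact_mod_cast this

theorem t9171_aux {n : ℕ} (ψ : MvPolynomial (Fin n) k →ₐ[k] S)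
    (hψ : Function.Surjective ψ) (q : Ideal S) [hq : q.IsPrime] (c : ℕ)
    (hc : (c : ℕ∞) + q.height = (q.comap ψ).height) :
    ((∃ g : S, g ∉ q ∧ Synt.IsGlobalCI k (Localization.Away g)) ↔
        ∃ s : Finset (Localization.AtPrime (q.comap ψ)), s.card = c ∧
          Ideal.span (s : Set _) =
            (RingHom.ker ψ).map (algebraMap _ (Localization.AtPrime (q.comap ψ)))) ∧
      ((∃ g : S, g ∉ q ∧ Synt.IsGlobalCI k (Localization.Away g)) ↔
        ∃ rs : List (Localization.AtPrime (q.comap ψ)),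
          RingTheory.Sequence.IsRegular (Localization.AtPrime (q.comap ψ)) rs ∧
          Ideal.ofList rs =
            (RingHom.ker ψ).map (algebraMap _ (Localization.AtPrime (q.comap ψ)))) := by
  classical
  obtain ⟨a, d, had, hda, hdd, hht⟩ := dims_atPrime ψ hψ q c hc
  have hne := Groth.Agent.Lib.Helper16.Liaison.map_ne_top_of_le (q.comap ψ) (RingHom.ker ψ)
    (ker_le_comap ψ q)
  -- (2)
  have h12 : (∃ g : S, g ∉ q ∧ Synt.IsGlobalCI k (Localization.Away g)) →
      ∃ rs : List (Localization.AtPrime (q.comap ψ)),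
          RingTheory.Sequence.IsRegular (Localization.AtPrime (q.comap ψ)) rs ∧
          Ideal.ofList rs =
            (RingHom.ker ψ).map (algebraMap _ (Localization.AtPrime (q.comap ψ))) := by
    rintro ⟨g, hg, hCI⟩
    obtain ⟨xs, hxs, hreg⟩ := exists_isRegular_ker_of_isCIOver ψ hψ q
      (isCIOver_atPrime_of_away_isGlobalCI q g hg hCI)
    exact ⟨xs, hreg, hxs⟩
  -- (3)
  have h23 : (∃ rs : List (Localization.AtPrime (q.comap ψ)),
          RingTheory.Sequence.IsRegular (Localization.AtPrime (q.comap ψ)) rs ∧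
          Ideal.ofList rs =
            (RingHom.ker ψ).map (algebraMap _ (Localization.AtPrime (q.comap ψ)))) →
      ∃ s : Finset (Localization.AtPrime (q.comap ψ)), s.card = c ∧
          Ideal.span (s : Set _) =
            (RingHom.ker ψ).map (algebraMap _ (Localization.AtPrime (q.comap ψ))) := by
    rintro ⟨rs, hreg, hrs⟩
    have h1 := (Groth.Agent.Lib.Helper16.CIInv.exists_isRegular_iff _ hne a d hda hdd).mp
      ⟨rs, hrs, hreg⟩
    obtain ⟨s, hcard, hspan⟩ := Submodule.FG.exists_span_finset_card_eq_spanFinrank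
      (Ideal.fg_of_isNoetherianRing
        ((RingHom.ker ψ).map (algebraMap _ (Localization.AtPrime (q.comap ψ)))))
    refine ⟨s, ?_, hspan⟩
    rw [hcard]
    omega
  -- (4)
  have h31 : (∃ s : Finset (Localization.AtPrime (q.comap ψ)), s.card = c ∧
          Ideal.span (s : Set _) =
            (RingHom.ker ψ).map (algebraMap _ (Localization.AtPrime (q.comap ψ)))) →
      ∃ g : S, g ∉ q ∧ Synt.IsGlobalCI k (Localization.Away g) := by
    rintro ⟨s, hcard, hspan⟩
    refine exists_away_isGlobalCI' ψ hψ q c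
      (fun i => ((Finset.equivFinOfCardEq hcard).symm i : Localization.AtPrime (q.comap ψ))) ?_
      hht.ge
    rw [← hspan]
    congr 1
    ext x
    constructor
    · rintro ⟨i, rfl⟩
      exact ((Finset.equivFinOfCardEq hcard).symm i).2
    · intro hx
      exact ⟨Finset.equivFinOfCardEq hcard ⟨x, hx⟩, by simp⟩
  exact ⟨⟨fun h => h23 (h12 h), h31⟩, ⟨h12, fun h => h31 (h23 h)⟩⟩



open Groth.Agent.Lib.Helper23.SyntF

variable {k : Type u} [Field k] {S : Type u} [CommRing S] [Algebra k S]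

/-- (E1) a local essentially finite type algebra is the localization of a finite type algebra at
a prime -/
theorem exists_finiteType_atPrime [IsLocalRing S] [hS : Algebra.EssFiniteType k S] :
    ∃ (B : Type u) (_ : CommRing B) (_ : Algebra k B) (𝔭 : Ideal B) (_ : 𝔭.IsPrime),
      Algebra.FiniteType k B ∧ Nonempty (S ≃ₐ[k] Localization.AtPrime 𝔭) := by
  obtain ⟨S₀, M, hft, hloc⟩ := (Algebra.essFiniteType_iff_exists_subalgebra k S).mp hS
  let 𝔭 : Ideal S₀ := (maximalIdeal S).comap (algebraMap S₀ S)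
  haveI h𝔭 : 𝔭.IsPrime := Ideal.comap_isPrime _ _
  have h₁ : M ≤ 𝔭.primeCompl := by
    intro x hx hx𝔭
    have hu : IsUnit (algebraMap S₀ S x) := IsLocalization.map_units S ⟨x, hx⟩
    exact (maximalIdeal.isMaximal S).ne_top (Ideal.eq_top_of_isUnit_mem _ hx𝔭 hu)
  have h₂ : ∀ r ∈ 𝔭.primeCompl, IsUnit (algebraMap S₀ S r) := by
    intro r hr
    by_contra hnu
    exact hr ((IsLocalRing.mem_maximalIdeal _).mpr hnu)
  haveI : IsLocalization.AtPrime S 𝔭 := IsLocalization.of_le M 𝔭.primeCompl h₁ h₂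
  refine ⟨S₀, inferInstance, inferInstance, 𝔭, h𝔭, hft, ⟨?_⟩⟩
  exact ((IsLocalization.algEquiv 𝔭.primeCompl (Localization.AtPrime 𝔭) S).restrictScalars k).symm

/-- a surjection from a localized polynomial ring onto a local essentially finite type algebra -/
theorem exists_surjective_atPrime [IsLocalRing S] [hS : Algebra.EssFiniteType k S] :
    ∃ (n : ℕ) (Q : Ideal (MvPolynomial (Fin n) k)) (_ : Q.IsPrime)
      (π : Localization.AtPrime Q →ₐ[k] S), Function.Surjective π := by
  obtain ⟨B, _, _, 𝔭, h𝔭, hft, ⟨e⟩⟩ := exists_finiteType_atPrime (k := k) (S := S)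
  obtain ⟨n, ψ, hψ⟩ := Algebra.FiniteType.iff_quotient_mvPolynomial''.mp hft
  exact ⟨n, 𝔭.comap ψ, inferInstance, e.symm.toAlgHom.comp (locHom k ψ 𝔭),
    e.symm.surjective.comp (locHom_surjective k 𝔭 hψ)⟩



open Groth.Agent.Lib.Helper23.SyntF

variable {k : Type u} [Field k] {S : Type u} [CommRing S] [Algebra k S]

theorem ofList_le_maximalIdeal_of_ker [IsLocalRing S] {R : Type u} [CommRing R] [IsLocalRing R]
    (π : R →+* S) (rs : List R) (hker : RingHom.ker π = Ideal.ofList rs) :
    ∀ r ∈ rs, r ∈ maximalIdeal R := by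
  intro r hr
  have hne : RingHom.ker π ≠ ⊤ := RingHom.ker_ne_top π
  exact IsLocalRing.le_maximalIdeal hne (hker ▸ Ideal.subset_span hr)

/-- (H1) -/
theorem isCIOver_of_surjective [IsLocalRing S] (R : Type u) [CommRing R] [IsRegularLocalRing R]
    [Algebra k R] (hess : Algebra.EssFiniteType k R) (π : R →ₐ[k] S) (hπ : Function.Surjective π)
    (rs : List R) (hreg : IsRegular R rs) (hker : RingHom.ker π.toRingHom = Ideal.ofList rs) :
    Synt.IsCIOver k S := by
  refine ⟨R, inferInstance, inferInstance, inferInstance, hess, rs,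
    ofList_le_maximalIdeal_of_ker π.toRingHom rs hker, hreg, ⟨?_⟩⟩
  have hker' : RingHom.ker π = Ideal.ofList rs := hker
  exact (Ideal.quotientKerAlgEquivOfSurjective hπ).symm.trans (Ideal.quotientEquivAlgOfEq k hker')

theorem t9143 [IsLocalRing S] [Algebra.EssFiniteType k S] :
    (Synt.IsCIOver k S ↔
        ∀ (R : Type u) [CommRing R] [IsRegularLocalRing R] [Algebra k R], Algebra.EssFiniteType k R →
          ∀ π : R →ₐ[k] S, Function.Surjective π →
            ∃ rs : List R, RingTheory.Sequence.IsRegular R rs ∧ RingHom.ker π.toRingHom = Ideal.ofList rs) ∧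
      (Synt.IsCIOver k S ↔
        ∃ (R : Type u) (_ : CommRing R) (_ : IsRegularLocalRing R) (_ : Algebra k R),
          Algebra.EssFiniteType k R ∧ ∃ π : R →ₐ[k] S, Function.Surjective π ∧
            ∃ rs : List R, RingHom.ker π.toRingHom = Ideal.ofList rs ∧
              ringKrullDim R = ringKrullDim S + (rs.length : WithBot ℕ∞)) ∧
      (Synt.IsCIOver k S ↔
        ∃ (A : Type u) (_ : CommRing A) (_ : Algebra k A) (a : Ideal A) (_ : a.IsPrime),
          Algebra.FiniteType k A ∧ Synt.IsGlobalCI k A ∧ Nonempty (S ≃ₐ[k] Localization.AtPrime a)) ∧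
      (Synt.IsCIOver k S ↔
        ∃ (A : Type u) (_ : CommRing A) (_ : Algebra k A) (a : Ideal A) (_ : a.IsPrime),
          Synt.IsLCIOver k A ∧ Nonempty (S ≃ₐ[k] Localization.AtPrime a)) := by
  have h3 : Synt.IsCIOver k S →
      ∃ (A : Type u) (_ : CommRing A) (_ : Algebra k A) (a : Ideal A) (_ : a.IsPrime),
          Algebra.FiniteType k A ∧ Synt.IsGlobalCI k A ∧ Nonempty (S ≃ₐ[k] Localization.AtPrime a) := by
    intro h
    obtain ⟨B, _, _, 𝔭, h𝔭, hft, ⟨e⟩⟩ := exists_finiteType_atPrime (k := k) (S := S)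
    obtain ⟨g, hg, hCI⟩ := exists_away_of_isCIOver 𝔭 (isCIOver_of_algEquiv e h)
    obtain ⟨p', hp', -, ⟨e'⟩⟩ := exists_prime_away (k := k) g 𝔭 hg
    exact ⟨Localization.Away g, inferInstance, inferInstance, p', hp', finiteType_away g, hCI,
      ⟨e.trans e'⟩⟩
  refine ⟨⟨fun h R _ _ _ _ π hπ => ?_, fun h => ?_⟩, ⟨fun h => ?_, fun h => ?_⟩,
    ⟨h3, fun h => ?_⟩, ⟨fun h => ?_, fun h => ?_⟩⟩
  · obtain ⟨xs, hxs, hreg⟩ := exists_isRegular_of_isCIOver h R π.toRingHom hπ
    exact ⟨xs, hreg, hxs.symm⟩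
  · obtain ⟨n, Q, hQ, π, hπ⟩ := exists_surjective_atPrime (k := k) (S := S)
    have hess : Algebra.EssFiniteType k (Localization.AtPrime Q) := by
      haveI : Algebra.EssFiniteType (MvPolynomial (Fin n) k) (Localization.AtPrime Q) :=
        Algebra.EssFiniteType.of_isLocalization _ Q.primeCompl
      exact Algebra.EssFiniteType.comp k (MvPolynomial (Fin n) k) _
    obtain ⟨rs, hreg, hker⟩ := h (Localization.AtPrime Q) hess π hπ
    exact isCIOver_of_surjective _ hess π hπ rs hreg hker
  · obtain ⟨R, _, _, _, hess, rs, hrs, hreg, ⟨e⟩⟩ := h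
    refine ⟨R, inferInstance, inferInstance, inferInstance, hess,
      e.symm.toAlgHom.comp (Ideal.Quotient.mkₐ k (Ideal.ofList rs)),
      e.symm.surjective.comp (Ideal.Quotient.mkₐ_surjective k _), rs, ?_, ?_⟩
    · ext x
      simp only [RingHom.mem_ker, AlgHom.toRingHom_eq_coe, RingHom.coe_coe, AlgHom.coe_comp,
        Function.comp_apply]
      rw [← Ideal.Quotient.eq_zero_iff_mem]
      exact EmbeddingLike.map_eq_zero_iff (f := e.symm)
    · have h1 := (Groth.Agent.Lib.Helper16.CICot.isWeaklyRegular_iff_dim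
        (Groth.Agent.Lib.Helper16.PDR.isCohenMacaulayModule_self_of_isRegularLocalRing R) rs hrs).mp
        hreg.1
      rw [← h1, ringKrullDim_eq_of_ringEquiv e.toRingEquiv]
  · obtain ⟨R, _, _, _, hess, π, hπ, rs, hker, hdim⟩ := h
    have hmem := ofList_le_maximalIdeal_of_ker π.toRingHom rs hker
    have hker' : RingHom.ker π = Ideal.ofList rs := hker
    have hreg : IsRegular R rs := by
      rw [IsLocalRing.isRegular_iff_isWeaklyRegular_of_subset_maximalIdeal hmem,
        Groth.Agent.Lib.Helper16.CICot.isWeaklyRegular_iff_dim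
        (Groth.Agent.Lib.Helper16.PDR.isCohenMacaulayModule_self_of_isRegularLocalRing R) rs hmem,
        hdim]
      congr 1
      rw [← hker']
      exact ringKrullDim_eq_of_ringEquiv (RingHom.quotientKerEquivOfSurjective hπ)
    exact isCIOver_of_surjective R hess π hπ rs hreg hker
  · obtain ⟨A, _, _, a, ha, hft, hCI, ⟨e⟩⟩ := h
    exact isCIOver_of_algEquiv e.symm (isCIOver_atPrime_of_isGlobalCI hCI a)
  · obtain ⟨A, _, _, a, ha, hft, hCI, he⟩ := h3 h
    exact ⟨A, inferInstance, inferInstance, a, ha, isLCIOver_of_isGlobalCI hCI, he⟩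
  · obtain ⟨A, _, _, a, ha, hL, ⟨e⟩⟩ := h
    exact isCIOver_of_algEquiv e.symm (isCIOver_atPrime_of_isLCIOver hL a)

end Groth.Agent.Lib.Helper23.SyntF
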