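import Mathlib

/-!
# Symmetric powers: universal property and basic maps

`Groth.Agent.Lib.Helper23.SymPow`:
* `lift` : symmetric multilinear maps induce linear maps out of `Sym[R] ι M`;
* `ext`  : linear maps out of `Sym[R] ι M` agreeing on pure tensors agree;
* `prodMap L` : `Sym[R] ι M →ₗ[R] T`, `⨂ₛ m ↦ ∏ L (m i)` for an `R`-linear `L : M → T`, `T` a commutative `R`-algebra;
* `map f` : functoriality in `M`;
* `smul_eq_zero_of_forall` : elements killing `M` kill `Sym[R] ι M` (`ι` nonempty);
* `descend` : descent of multilinear maps along a surjection in each variable.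
-/

set_option autoImplicit false
universe u v w

open TensorProduct

namespace Groth.Agent.Lib.Helper23.SymPow

section lift

variable {R ι : Type u} [CommRing R] {M : Type v} [AddCommGroup M] [Module R M]
variable {N : Type w} [AddCommGroup N] [Module R N]

/-- Universal property of the symmetric power. -/
noncomputable def lift (f : MultilinearMap R (fun _ : ι => M) N)
    (hf : ∀ (e : Equiv.Perm ι) (x : ι → M), f (fun i => x (e i)) = f x) :
    SymmetricPower R ι M →ₗ[R] N :=
  let g : (⨂[R] (_ : ι), M) →ₗ[R] N := PiTensorProduct.lift f
  have H : addConGen (SymmetricPower.Rel R ι M) ≤ AddCon.ker g.toAddMonoidHom := by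
    rw [AddCon.addConGen_le]
    intro x y hxy
    cases hxy with
    | perm e x =>
      rw [AddCon.ker_rel]
      simp only [LinearMap.toAddMonoidHom_coe, g, PiTensorProduct.lift.tprod]
      exact (hf e x).symm
  { toFun := AddCon.lift _ g.toAddMonoidHom H
    map_add' := fun x y => map_add _ x y
    map_smul' := fun r x => by
      induction x using AddCon.induction_on with
      | H x =>
        show g (r • x) = r • g x
        exact map_smul g r x }

@[simp]
lemma lift_tprod (f : MultilinearMap R (fun _ : ι => M) N)
    (hf : ∀ (e : Equiv.Perm ι) (x : ι → M), f (fun i => x (e i)) = f x) (x : ι → M) :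
    lift f hf (SymmetricPower.tprod R x) = f x := by
  show PiTensorProduct.lift f (PiTensorProduct.tprod R x) = f x
  exact PiTensorProduct.lift.tprod x

lemma ext {f g : SymmetricPower R ι M →ₗ[R] N}
    (h : ∀ x : ι → M, f (SymmetricPower.tprod R x) = g (SymmetricPower.tprod R x)) : f = g := by
  apply LinearMap.ext_on (SymmetricPower.span_tprod_eq_top R ι M)
  rintro _ ⟨x, rfl⟩
  exact h x

lemma induction_on {motive : SymmetricPower R ι M → Prop} (z : SymmetricPower R ι M)
    (tprod : ∀ (r : R) (x : ι → M), motive (r • SymmetricPower.tprod R x))
    (add : ∀ a b, motive a → motive b → motive (a + b)) : motive z := by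
  have hz : z ∈ Submodule.span R (Set.range (SymmetricPower.tprod R (ι := ι) (M := M))) := by
    rw [SymmetricPower.span_tprod_eq_top]; trivial
  induction hz using Submodule.span_induction with
  | mem x hx =>
    obtain ⟨y, rfl⟩ := hx
    simpa using tprod 1 y
  | zero => simpa using tprod 0 (fun _ => 0)
  | add a b _ _ ha hb => exact add a b ha hb
  | smul r a _ ha =>
    -- need closure under smul: do a nested induction
    clear z
    have : ∀ a : SymmetricPower R ι M, a ∈ Submodule.span R
        (Set.range (SymmetricPower.tprod R (ι := ι) (M := M))) → ∀ r : R, motive (r • a) := by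
      intro a ha
      induction ha using Submodule.span_induction with
      | mem x hx =>
        obtain ⟨y, rfl⟩ := hx
        exact fun r => tprod r y
      | zero => intro r; simpa using tprod 0 (fun _ => 0)
      | add a b _ _ ha hb => intro r; rw [smul_add]; exact add _ _ (ha r) (hb r)
      | smul s a _ ha => intro r; rw [smul_smul]; exact ha _
    apply this
    rw [SymmetricPower.span_tprod_eq_top]; trivial

end lift

section prodMap

variable {R ι : Type u} [CommRing R] [Fintype ι] {M : Type v} [AddCommGroup M] [Module R M]
variable {T : Type w} [CommRing T] [Algebra R T]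

/-- `⨂ₛ m ↦ ∏ i, L (m i)`. -/
noncomputable def prodMap (L : M →ₗ[R] T) : SymmetricPower R ι M →ₗ[R] T :=
  lift ((MultilinearMap.mkPiAlgebra R ι T).compLinearMap (fun _ => L)) (by
    intro e x
    simp only [MultilinearMap.compLinearMap_apply, MultilinearMap.mkPiAlgebra_apply]
    exact Equiv.prod_comp e (fun i => L (x i)))

@[simp]
lemma prodMap_tprod (L : M →ₗ[R] T) (x : ι → M) :
    prodMap L (SymmetricPower.tprod R x) = ∏ i, L (x i) := by
  simp [prodMap]

end prodMap

section map

variable {R ι : Type u} [CommRing R] {M : Type v} [AddCommGroup M] [Module R M]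
variable {N : Type w} [AddCommGroup N] [Module R N]

/-- Functoriality of the symmetric power. -/
noncomputable def map (f : M →ₗ[R] N) : SymmetricPower R ι M →ₗ[R] SymmetricPower R ι N :=
  lift ((SymmetricPower.tprod R).compLinearMap (fun _ => f)) (by
    intro e x
    simp only [MultilinearMap.compLinearMap_apply]
    exact SymmetricPower.tprod_equiv e (fun i => f (x i)))

@[simp]
lemma map_tprod (f : M →ₗ[R] N) (x : ι → M) :
    map f (SymmetricPower.tprod R x) = SymmetricPower.tprod R (fun i => f (x i)) := by
  simp [map]

end map

section torsion

variable {R ι : Type u} [CommRing R] {M : Type v} [AddCommGroup M] [Module R M]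

lemma smul_eq_zero_of_forall [Nonempty ι] (a : R) (ha : ∀ m : M, a • m = 0)
    (z : SymmetricPower R ι M) : a • z = 0 := by
  classical
  induction z using induction_on with
  | tprod r x =>
    obtain ⟨i⟩ := ‹Nonempty ι›
    rw [smul_comm]
    have : a • SymmetricPower.tprod R x = SymmetricPower.tprod R (Function.update x i (a • x i)) := by
      rw [MultilinearMap.map_update_smul, Function.update_eq_self]
    rw [this, ha, MultilinearMap.map_update_zero, smul_zero]
  | add a' b ha' hb => rw [smul_add, ha', hb, add_zero]

end torsion

end Groth.Agent.Lib.Helper23.SymPow
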