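import Mathlib
import Groth.Prelude.Def_PP16
import Groth.Agent.Lib.Helper23.SymPow

/-!
# The canonical map `Sym^n(J/J²) → J^n/J^(n+1)`

`Groth.Agent.Lib.Helper23.SymGr`:
* `descend` : descent of a multilinear map along a surjection in each variable;
* `can R J ι : Sym[R] ι J.Cotangent →ₗ[R] grJ R J (card ι)`, `can_tprod`, `can_surjective`;
* `symGrBijective_iff : PP16.SymGrBijective R J ↔ ∀ ι, Injective (can R J ι)`.
-/

set_option autoImplicit false
universe u v w

open TensorProduct
open scoped Pointwise

namespace Groth.Agent.Lib.Helper23.SymGr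

open Groth.Agent.Lib.Helper23

section descend

variable {R : Type*} [CommRing R] {ι : Type*} [Fintype ι]
variable {M P N : Type*} [AddCommGroup M] [Module R M] [AddCommGroup P] [Module R P]
  [AddCommGroup N] [Module R N]
variable (π : M →ₗ[R] P) (f : MultilinearMap R (fun _ : ι => M) N)

lemma congr_of_forall (hf : ∀ x : ι → M, (∃ i, π (x i) = 0) → f x = 0)
    (x x' : ι → M) (h : ∀ i, π (x i) = π (x' i)) : f x = f x' := by
  classical
  have hx' : x' = x + (x' - x) := by abel
  rw [hx', MultilinearMap.map_add_univ]
  rw [Finset.sum_eq_single Finset.univ]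
  · rw [Finset.piecewise_univ]
  · intro s _ hs
    obtain ⟨i, hi⟩ : ∃ i, i ∉ s := by
      by_contra hcon
      push Not at hcon
      exact hs (Finset.eq_univ_iff_forall.mpr hcon)
    apply hf
    refine ⟨i, ?_⟩
    rw [Finset.piecewise_eq_of_notMem _ _ _ hi]
    simp [h i]
  · intro h; exact absurd (Finset.mem_univ _) h

variable (hπ : Function.Surjective π)

/-- Descent of a multilinear map along a surjection (the same in each variable). -/
noncomputable def descend (hf : ∀ x : ι → M, (∃ i, π (x i) = 0) → f x = 0) :
    MultilinearMap R (fun _ : ι => P) N where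
  toFun p := f (fun i => Function.surjInv hπ (p i))
  map_update_add' := by
    intro _ m i a b
    have key : ∀ c : P, ∀ c' : M, π c' = c →
        f (fun j => Function.surjInv hπ (Function.update m i c j)) =
          f (Function.update (fun j => Function.surjInv hπ (m j)) i c') := by
      intro c c' hc
      apply congr_of_forall π f hf
      intro j
      by_cases hj : j = i
      · subst hj; simp [Function.surjInv_eq hπ, hc]
      · simp [Function.update_of_ne hj, Function.surjInv_eq hπ]
    rw [key (a + b) (Function.surjInv hπ a + Function.surjInv hπ b)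
        (by simp [Function.surjInv_eq hπ]),
      key a _ (Function.surjInv_eq hπ a), key b _ (Function.surjInv_eq hπ b),
      f.map_update_add]
  map_update_smul' := by
    intro _ m i r a
    have key : ∀ c : P, ∀ c' : M, π c' = c →
        f (fun j => Function.surjInv hπ (Function.update m i c j)) =
          f (Function.update (fun j => Function.surjInv hπ (m j)) i c') := by
      intro c c' hc
      apply congr_of_forall π f hf
      intro j
      by_cases hj : j = i
      · subst hj; simp [Function.surjInv_eq hπ, hc]
      · simp [Function.update_of_ne hj, Function.surjInv_eq hπ]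
    rw [key (r • a) (r • Function.surjInv hπ a) (by simp [Function.surjInv_eq hπ]),
      key a _ (Function.surjInv_eq hπ a), f.map_update_smul]

lemma descend_apply (hf : ∀ x : ι → M, (∃ i, π (x i) = 0) → f x = 0) (x : ι → M) :
    descend π f hπ hf (fun i => π (x i)) = f x := by
  show f _ = f x
  apply congr_of_forall π f hf
  intro i
  simp [Function.surjInv_eq hπ]

end descend

section can

variable (R : Type u) [CommRing R] (J : Ideal R) (ι : Type u) [Fintype ι]

/-- The multilinear map `J^ι → J^n/J^(n+1)`, `x ↦` class of `∏ x i`. -/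
noncomputable def zetaML : MultilinearMap R (fun _ : ι => ↥J) (PP16.grJ R J (Fintype.card ι)) :=
  (Submodule.mkQ _).compMultilinearMap
    (((MultilinearMap.mkPiAlgebra R ι R).compLinearMap (fun _ => J.subtype)).codRestrict
      (J ^ Fintype.card ι) (fun x => by
        simpa using PP16.prod_mem_pow J Finset.univ (fun i => (x i : R)) (fun i _ => (x i).2)))

lemma zetaML_apply (x : ι → ↥J) : zetaML R J ι x = PP16.zetaJ R J x := rfl

lemma zetaML_eq_zero (x : ι → ↥J) (h : ∃ i, J.toCotangent (x i) = 0) : zetaML R J ι x = 0 := by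
  classical
  obtain ⟨i, hi⟩ := h
  rw [Ideal.toCotangent_eq_zero] at hi
  rw [zetaML_apply, PP16.zetaJ, Submodule.Quotient.mk_eq_zero, Submodule.mem_comap]
  show ∏ j, (x j : R) ∈ J ^ (Fintype.card ι + 1)
  rw [← Finset.mul_prod_erase Finset.univ _ (Finset.mem_univ i)]
  have h1 : ∏ j ∈ Finset.univ.erase i, (x j : R) ∈ J ^ (Finset.univ.erase i).card :=
    PP16.prod_mem_pow J _ (fun j => (x j : R)) (fun j _ => (x j).2)
  rw [Finset.card_erase_of_mem (Finset.mem_univ i), Finset.card_univ] at h1
  have h2 := Ideal.mul_mem_mul hi h1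
  rw [← pow_add] at h2
  have hc : 0 < Fintype.card ι := Fintype.card_pos_iff.mpr ⟨i⟩
  have : 2 + (Fintype.card ι - 1) = Fintype.card ι + 1 := by omega
  rwa [this] at h2

/-- The canonical map `Sym^n(J/J²) → J^n/J^(n+1)`. -/
noncomputable def can : SymmetricPower R ι J.Cotangent →ₗ[R] PP16.grJ R J (Fintype.card ι) :=
  SymPow.lift (descend J.toCotangent (zetaML R J ι) J.toCotangent_surjective (zetaML_eq_zero R J ι))
    (by
      intro e p
      obtain ⟨x, rfl⟩ : ∃ x : ι → ↥J, p = fun i => J.toCotangent (x i) :=
        ⟨fun i => Function.surjInv J.toCotangent_surjective (p i), by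
          funext i; simp [Function.surjInv_eq J.toCotangent_surjective]⟩
      rw [descend_apply, descend_apply J.toCotangent (zetaML R J ι) J.toCotangent_surjective
        (zetaML_eq_zero R J ι) x]
      rw [zetaML_apply, zetaML_apply, PP16.zetaJ, PP16.zetaJ]
      congr 2
      exact Equiv.prod_comp e (fun i => (x i : R)))

lemma can_tprod (x : ι → ↥J) :
    can R J ι (SymmetricPower.tprod R (fun i => J.toCotangent (x i))) = PP16.zetaJ R J x := by
  rw [can, SymPow.lift_tprod, descend_apply, zetaML_apply]

omit [Fintype ι] in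
lemma exists_rep (p : ι → J.Cotangent) : ∃ x : ι → ↥J, p = fun i => J.toCotangent (x i) :=
  ⟨fun i => Function.surjInv J.toCotangent_surjective (p i), by
    funext i; simp [Function.surjInv_eq J.toCotangent_surjective]⟩

lemma mk_mem_range_can (a : R) (ha : a ∈ J ^ Fintype.card ι) :
    (Submodule.Quotient.mk ⟨a, ha⟩ : PP16.grJ R J (Fintype.card ι)) ∈ LinearMap.range (can R J ι) := by
  have hspan : J ^ Fintype.card ι = Submodule.span R ((J : Set R) ^ Fintype.card ι) := by
    conv_lhs => rw [← Ideal.span_eq J]
    rw [Ideal.span, Submodule.span_pow]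
  have ha' : a ∈ Submodule.span R ((J : Set R) ^ Fintype.card ι) := hspan ▸ ha
  revert ha
  induction ha' using Submodule.span_induction with
  | mem a hmem =>
    intro ha
    rw [Set.mem_pow] at hmem
    obtain ⟨f, hf⟩ := hmem
    let e := Fintype.equivFin ι
    refine ⟨SymmetricPower.tprod R (fun i => J.toCotangent ⟨(f (e i) : R), (f (e i)).2⟩), ?_⟩
    rw [can_tprod, PP16.zetaJ]
    congr 2
    rw [← hf, List.prod_ofFn]
    exact Equiv.prod_comp e (fun k => (f k : R))
  | zero =>
    intro ha
    have : (⟨0, ha⟩ : ↥(J ^ Fintype.card ι)) = 0 := rfl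
    rw [this, Submodule.Quotient.mk_zero]
    exact Submodule.zero_mem _
  | add a b _ _ iha ihb =>
    intro hab
    have ha : a ∈ J ^ Fintype.card ι := by rw [hspan]; assumption
    have hb : b ∈ J ^ Fintype.card ι := by rw [hspan]; assumption
    have : (⟨a + b, hab⟩ : ↥(J ^ Fintype.card ι)) = ⟨a, ha⟩ + ⟨b, hb⟩ := rfl
    rw [this, Submodule.Quotient.mk_add]
    exact Submodule.add_mem _ (iha ha) (ihb hb)
  | smul r a _ iha =>
    intro hra
    have ha : a ∈ J ^ Fintype.card ι := by rw [hspan]; assumption
    have : (⟨r • a, hra⟩ : ↥(J ^ Fintype.card ι)) = r • ⟨a, ha⟩ := rfl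
    rw [this, Submodule.Quotient.mk_smul]
    exact Submodule.smul_mem _ r (iha ha)

lemma can_surjective : Function.Surjective (can R J ι) := by
  intro y
  obtain ⟨⟨a, ha⟩, rfl⟩ := Submodule.Quotient.mk_surjective _ y
  exact mk_mem_range_can R J ι a ha

end can

section iff

variable (R : Type u) [CommRing R] (J : Ideal R)

theorem symGrBijective_iff :
    PP16.SymGrBijective R J ↔
      ∀ (ι : Type u) [Fintype ι] [Nonempty ι], Function.Injective (can R J ι) := by
  constructor
  · intro h ι _ _
    obtain ⟨φ, hφ, hbij⟩ := h ι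
    have : φ = can R J ι := by
      apply SymPow.ext
      intro p
      obtain ⟨x, rfl⟩ := exists_rep R J ι p
      rw [hφ, can_tprod]
    rw [← this]
    exact hbij.1
  · intro h ι _ _
    exact ⟨can R J ι, can_tprod R J ι, h ι, can_surjective R J ι⟩

end iff

end Groth.Agent.Lib.Helper23.SymGr
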