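import Mathlib
import Groth.Agent.Lib.Helper23.SymPow

/-!
# Symmetric powers of projective modules embed into truncated polynomial rings

`Groth.Agent.Lib.Helper23.SymPoly`
-/

set_option autoImplicit false
universe u v w

open TensorProduct

namespace Groth.Agent.Lib.Helper23.SymPoly

open Groth.Agent.Lib.Helper23

section perm

variable {ι I : Type*} [Fintype ι]

/-- The multiplicity vector of a function `τ : ι → I`. -/
noncomputable def cnt (τ : ι → I) : I →₀ ℕ := ∑ j, Finsupp.single (τ j) 1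

lemma cnt_apply [DecidableEq I] (τ : ι → I) (i : I) :
    cnt τ i = (Finset.univ.filter (fun j => τ j = i)).card := by
  classical
  rw [cnt, Finsupp.finsetSum_apply, Finset.card_filter]
  apply Finset.sum_congr rfl
  intro j _
  rw [Finsupp.single_apply]

lemma degree_cnt (τ : ι → I) : Finsupp.degree (cnt τ) = Fintype.card ι := by
  rw [cnt, map_sum]
  simp [Finsupp.degree_single]

lemma exists_perm_of_cnt_eq (τ τ' : ι → I) (h : cnt τ = cnt τ') :
    ∃ σ : Equiv.Perm ι, ∀ j, τ' (σ j) = τ j := by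
  classical
  have hcard : ∀ i : I, Fintype.card {j // τ j = i} = Fintype.card {j // τ' j = i} := by
    intro i
    have := congrArg (fun m => m i) h
    simp only [cnt_apply] at this
    rw [Fintype.card_subtype, Fintype.card_subtype]
    exact this
  let e : (Σ i : I, {j // τ j = i}) ≃ (Σ i : I, {j // τ' j = i}) :=
    Equiv.sigmaCongrRight (fun i => Fintype.equivOfCardEq (hcard i))
  refine ⟨(Equiv.sigmaFiberEquiv τ).symm.trans (e.trans (Equiv.sigmaFiberEquiv τ')), ?_⟩
  intro j
  simp only [Equiv.trans_apply]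
  have h1 : (e ((Equiv.sigmaFiberEquiv τ).symm j)).1 = τ j := rfl
  rw [← h1]
  exact ((e ((Equiv.sigmaFiberEquiv τ).symm j)).2).2

end perm

section rho

variable {R : Type u} [CommRing R] (J : Ideal R) {ι : Type u} [Fintype ι] [Nonempty ι]
variable {P : Type v} [AddCommGroup P] [Module R P]
variable {I : Type w} (e : I → P)

/-- The symmetric tensor attached to a monomial. -/
noncomputable def nm (m : I →₀ ℕ) : SymmetricPower R ι P :=
  open Classical in
  if h : ∃ τ : ι → I, cnt τ = m then SymmetricPower.tprod R (fun j => e (h.choose j)) else 0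

omit [Nonempty ι] in
lemma nm_cnt (τ : ι → I) :
    nm (R := R) e (cnt τ) = SymmetricPower.tprod R (fun j => e (τ j)) := by
  classical
  have h : ∃ τ' : ι → I, cnt τ' = cnt τ := ⟨τ, rfl⟩
  rw [nm, dif_pos h]
  obtain ⟨σ, hσ⟩ := exists_perm_of_cnt_eq τ h.choose h.choose_spec.symm
  rw [← SymmetricPower.tprod_equiv σ]
  congr 1
  funext j
  rw [hσ j]

omit [Nonempty ι] in
lemma nm_eq_zero (m : I →₀ ℕ) (hm : Finsupp.degree m ≠ Fintype.card ι) :
    nm (R := R) (ι := ι) e m = 0 := by
  classical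
  rw [nm, dif_neg]
  rintro ⟨τ, rfl⟩
  exact hm (degree_cnt τ)

variable (hP : ∀ a ∈ J, ∀ p : P, a • p = 0)

include hP in
lemma smul_nm (m : I →₀ ℕ) (a : R) (ha : a ∈ J) : a • nm (R := R) (ι := ι) e m = 0 :=
  SymPow.smul_eq_zero_of_forall a (hP a ha) _

/-- The coefficient map `R ⧸ J → Sym`, `c ↦ c • n_m`. -/
noncomputable def gm (m : I →₀ ℕ) : (R ⧸ J) →ₗ[R] SymmetricPower R ι P :=
  Submodule.liftQ J (LinearMap.toSpanSingleton R _ (nm (R := R) (ι := ι) e m)) (by
    intro a ha
    rw [LinearMap.mem_ker, LinearMap.toSpanSingleton_apply]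
    exact smul_nm J e hP m a ha)

lemma gm_mk (m : I →₀ ℕ) (r : R) :
    gm J e hP m (Ideal.Quotient.mk J r) = r • nm (R := R) (ι := ι) e m := rfl

/-- The retraction `(R/J)[X_i] → Sym^ι P`. -/
noncomputable def rho : MvPolynomial I (R ⧸ J) →ₗ[R] SymmetricPower R ι P :=
  (Finsupp.lsum R (fun m => gm J e hP m) : ((I →₀ ℕ) →₀ (R ⧸ J)) →ₗ[R] SymmetricPower R ι P) ∘ₗ
    (AddMonoidAlgebra.coeffLinearEquiv (M := I →₀ ℕ) (S := R ⧸ J) R).toLinearMap

lemma rho_apply (t : MvPolynomial I (R ⧸ J)) :
    rho J e hP t = ∑ m ∈ t.support, gm (ι := ι) J e hP m (MvPolynomial.coeff m t) := rfl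

lemma rho_monomial (m : I →₀ ℕ) (c : R ⧸ J) :
    rho J e hP (MvPolynomial.monomial m c) = gm (ι := ι) J e hP m c := by
  show (Finsupp.lsum R (fun m => gm J e hP m)) (Finsupp.single m c) = _
  rw [Finsupp.lsum_single]

lemma rho_eq_zero_of_mem (t : MvPolynomial I (R ⧸ J))
    (ht : t ∈ MvPolynomial.idealOfVars I (R ⧸ J) ^ (Fintype.card ι + 1)) :
    rho (ι := ι) J e hP t = 0 := by
  rw [rho_apply]
  apply Finset.sum_eq_zero
  intro m _
  by_cases hm : Finsupp.degree m = Fintype.card ι
  · have h0 : MvPolynomial.coeff m t = 0 :=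
      (MvPolynomial.mem_pow_idealOfVars_iff' _ _).mp ht m (by omega)
    rw [h0, map_zero]
  · have : gm (ι := ι) J e hP m = 0 := by
      apply LinearMap.ext
      intro c
      obtain ⟨r, rfl⟩ := Ideal.Quotient.mk_surjective c
      rw [gm_mk, nm_eq_zero e m hm, smul_zero, LinearMap.zero_apply]
    rw [this, LinearMap.zero_apply]

lemma rho_prod_X (τ : ι → I) :
    rho (ι := ι) J e hP (∏ j, MvPolynomial.X (τ j)) = SymmetricPower.tprod R (fun j => e (τ j)) := by
  have : (∏ j, MvPolynomial.X (R := R ⧸ J) (τ j)) = MvPolynomial.monomial (cnt τ) 1 := by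
    rw [cnt, MvPolynomial.monomial_sum_index, map_one, one_mul]
    rfl
  rw [this, rho_monomial, ← map_one (Ideal.Quotient.mk J), gm_mk, one_smul, nm_cnt]

end rho

section main

variable {R : Type u} [CommRing R] (J : Ideal R) {ι : Type u} [Fintype ι] [Nonempty ι]
variable {P : Type v} [AddCommGroup P] [Module R P] [Module (R ⧸ J) P] [IsScalarTower R (R ⧸ J) P]
variable {I : Type w} (e : I → P) (s : P →ₗ[R ⧸ J] (I →₀ R ⧸ J))

omit [Fintype ι] [Nonempty ι] in
lemma torsion (a : R) (ha : a ∈ J) (p : P) : a • p = 0 := by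
  rw [← IsScalarTower.algebraMap_smul (R ⧸ J) a p, Ideal.Quotient.algebraMap_eq,
    Ideal.Quotient.eq_zero_iff_mem.mpr ha, zero_smul]

/-- `p ↦` the linear form `∑ (s p) i • X i`. -/
noncomputable def Lmap : P →ₗ[R] MvPolynomial I (R ⧸ J) :=
  ((Finsupp.linearCombination (R ⧸ J)
    (MvPolynomial.X : I → MvPolynomial I (R ⧸ J))).comp s).restrictScalars R

omit [Fintype ι] [Nonempty ι] in
lemma Lmap_apply (p : P) :
    Lmap J s p = ∑ i ∈ (s p).support, (Quotient.out (s p i) : R) • (MvPolynomial.X i : MvPolynomial I (R ⧸ J)) := by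
  show Finsupp.linearCombination (R ⧸ J) (MvPolynomial.X : I → MvPolynomial I (R ⧸ J)) (s p) = _
  rw [Finsupp.linearCombination_apply, Finsupp.sum]
  apply Finset.sum_congr rfl
  intro i _
  rw [← IsScalarTower.algebraMap_smul (R ⧸ J) (Quotient.out (s p i) : R),
    Ideal.Quotient.algebraMap_eq]
  congr 1
  exact (Ideal.Quotient.mk_out _).symm

omit [Fintype ι] [Nonempty ι] in
lemma eq_sum (hs : ∀ p, Finsupp.linearCombination (R ⧸ J) e (s p) = p) (p : P) :
    p = ∑ i ∈ (s p).support, (Quotient.out (s p i) : R) • e i := by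
  conv_lhs => rw [← hs p]
  rw [Finsupp.linearCombination_apply, Finsupp.sum]
  apply Finset.sum_congr rfl
  intro i _
  rw [← IsScalarTower.algebraMap_smul (R ⧸ J) (Quotient.out (s p i) : R),
    Ideal.Quotient.algebraMap_eq]
  congr 1
  exact (Ideal.Quotient.mk_out _).symm

theorem rho_prodMap (hs : ∀ p, Finsupp.linearCombination (R ⧸ J) e (s p) = p)
    (z : SymmetricPower R ι P) :
    rho J e (torsion J) (SymPow.prodMap (Lmap J s) z) = z := by
  classical
  have : (rho (ι := ι) J e (torsion J)).comp (SymPow.prodMap (Lmap J s)) = LinearMap.id := by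
    apply SymPow.ext
    intro p
    rw [LinearMap.comp_apply, LinearMap.id_apply, SymPow.prodMap_tprod]
    simp only [Lmap_apply]
    rw [Finset.prod_univ_sum, map_sum]
    have hp : p = fun j => ∑ i ∈ (s (p j)).support, (Quotient.out (s (p j) i) : R) • e i := by
      funext j; exact eq_sum J e s hs (p j)
    conv_rhs => rw [hp]
    rw [MultilinearMap.map_sum_finset]
    apply Finset.sum_congr rfl
    intro τ _
    rw [MultilinearMap.map_smul_univ]
    have : ∏ j, ((Quotient.out (s (p j) (τ j)) : R) •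
        (MvPolynomial.X (τ j) : MvPolynomial I (R ⧸ J))) =
        (∏ j, (Quotient.out (s (p j) (τ j)) : R)) • ∏ j, MvPolynomial.X (τ j) := by
      rw [Finset.prod_smul]
    rw [this, map_smul, rho_prod_X]
  exact congrArg (fun f => f z) this

theorem injective_mk_prodMap (hs : ∀ p, Finsupp.linearCombination (R ⧸ J) e (s p) = p) :
    Function.Injective (fun z : SymmetricPower R ι P =>
      Ideal.Quotient.mk (MvPolynomial.idealOfVars I (R ⧸ J) ^ (Fintype.card ι + 1))
        (SymPow.prodMap (Lmap J s) z)) := by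
  intro z z' h
  simp only at h
  rw [Ideal.Quotient.eq, ← map_sub] at h
  have := rho_eq_zero_of_mem (ι := ι) J e (torsion J) _ h
  rw [rho_prodMap J e s hs, sub_eq_zero] at this
  exact this

end main

end Groth.Agent.Lib.Helper23.SymPoly
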