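import Mathlib
import Groth.Prelude.Def_EGA41

/-!
# Reduction of adic formal smoothness to small square-zero surjections

`of_smallStep`: to prove `EGA41.IsFormallySmoothAdic A 𝔞 B 𝔟` it suffices to lift along surjections
`π : C' → C''` of discrete `A`-algebras whose kernel `K` satisfies `K² = 0` and `𝔞K = 0`
(with the lift again killing a power of `𝔟`).
-/

set_option autoImplicit false
universe u
open EGA41

namespace Groth.Agent.Lib.Helper23.AdicSmooth

theorem of_smallStep {A B : Type u} [CommRing A] [CommRing B] [Algebra A B] (𝔞 : Ideal A) (𝔟 : Ideal B)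
    (hstep : ∀ {C' C'' : Type u} [CommRing C'] [CommRing C''] [Algebra A C'] [Algebra A C'']
      (π : C' →ₐ[A] C''), Function.Surjective π →
      (∀ x y, π x = 0 → π y = 0 → x * y = 0) →
      (∀ a ∈ 𝔞, ∀ x, π x = 0 → a • x = 0) →
      (∃ k : ℕ, (𝔞 ^ k).map (algebraMap A C') = ⊥) →
      ∀ u : B →ₐ[A] C'', (∃ m : ℕ, ∀ x ∈ 𝔟 ^ m, u x = 0) →
        ∃ v : B →ₐ[A] C', (∀ b, π (v b) = u b) ∧ ∃ m : ℕ, ∀ x ∈ 𝔟 ^ m, v x = 0) :
    IsFormallySmoothAdic A 𝔞 B 𝔟 := by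
  intro C _ _ J hJ hdisc u hu
  obtain ⟨n, hn⟩ := hJ
  obtain ⟨k, hk⟩ := hdisc
  set M : Ideal C := J ⊔ 𝔞.map (algebraMap A C) with hM
  have hMN : M ^ (n + k) = ⊥ := by
    rw [eq_bot_iff]
    refine Ideal.sup_pow_add_le_pow_sup_pow.trans ?_
    rw [hn, ← Ideal.map_pow, hk, Ideal.zero_eq_bot, sup_bot_eq]
  have hJM : J ≤ M := le_sup_left
  have h𝔞M : ∀ a ∈ 𝔞, algebraMap A C a ∈ M := fun a ha =>
    Ideal.mem_sup_right (Ideal.mem_map_of_mem _ ha)
  have hLJ : ∀ i, J * M ^ i ≤ J := fun i => Ideal.mul_le_left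
  have claim : ∀ i : ℕ, ∃ v : B →ₐ[A] C ⧸ (J * M ^ i),
      (∀ b, ∃ c, Ideal.Quotient.mk (J * M ^ i) c = v b ∧ Ideal.Quotient.mk J c = u b) ∧
      ∃ m : ℕ, ∀ x ∈ 𝔟 ^ m, v x = 0 := by
    intro i
    induction i with
    | zero =>
      have h0 : J = J * M ^ 0 := by rw [pow_zero, Ideal.one_eq_top, Ideal.mul_top]
      refine ⟨(Ideal.quotientEquivAlgOfEq A h0).toAlgHom.comp u, ?_, ?_⟩
      · intro b
        obtain ⟨c, hc⟩ := Ideal.Quotient.mk_surjective (u b)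
        refine ⟨c, ?_, hc⟩
        show _ = Ideal.quotientEquivAlgOfEq A h0 (u b)
        rw [← hc, Ideal.quotientEquivAlgOfEq_mk]
      · obtain ⟨m, hm⟩ := hu
        refine ⟨m, fun x hx => ?_⟩
        show Ideal.quotientEquivAlgOfEq A h0 (u x) = 0
        rw [hm x hx, map_zero]
    | succ i ih =>
      obtain ⟨vi, hvi, hvi0⟩ := ih
      have hle : J * M ^ (i + 1) ≤ J * M ^ i := by
        rw [pow_succ, ← mul_assoc]
        exact Ideal.mul_le_left
      let π : (C ⧸ (J * M ^ (i + 1))) →ₐ[A] (C ⧸ (J * M ^ i)) := Ideal.Quotient.factorₐ A hle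
      have hπmk : ∀ c, π (Ideal.Quotient.mk _ c) = Ideal.Quotient.mk _ c := fun c => rfl
      have hπsurj : Function.Surjective π := Ideal.Quotient.factor_surjective hle
      have hker : ∀ x, π x = 0 → ∃ c ∈ J * M ^ i, Ideal.Quotient.mk _ c = x := by
        intro x hx
        obtain ⟨c, rfl⟩ := Ideal.Quotient.mk_surjective x
        rw [hπmk, Ideal.Quotient.eq_zero_iff_mem] at hx
        exact ⟨c, hx, rfl⟩
      have hmulmem : ∀ c ∈ J * M ^ i, ∀ c' ∈ M, c * c' ∈ J * M ^ (i + 1) := by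
        intro c hc c' hc'
        rw [pow_succ, ← mul_assoc]
        exact Ideal.mul_mem_mul hc hc'
      have hK2 : ∀ x y, π x = 0 → π y = 0 → x * y = 0 := by
        intro x y hx hy
        obtain ⟨c, hc, rfl⟩ := hker x hx
        obtain ⟨c', hc', rfl⟩ := hker y hy
        rw [← map_mul, Ideal.Quotient.eq_zero_iff_mem]
        exact hmulmem c hc c' (hJM (hLJ i hc'))
      have h𝔞K : ∀ a ∈ 𝔞, ∀ x, π x = 0 → a • x = 0 := by
        intro a ha x hx
        obtain ⟨c, hc, rfl⟩ := hker x hx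
        rw [Algebra.smul_def, IsScalarTower.algebraMap_apply A C (C ⧸ (J * M ^ (i + 1))),
          Ideal.Quotient.algebraMap_eq, ← map_mul, Ideal.Quotient.eq_zero_iff_mem,
          mul_comm (algebraMap A C a) c]
        exact hmulmem c hc _ (h𝔞M a ha)
      have hdisc' : ∃ k : ℕ, (𝔞 ^ k).map (algebraMap A (C ⧸ (J * M ^ (i + 1)))) = ⊥ := by
        refine ⟨k, ?_⟩
        rw [IsScalarTower.algebraMap_eq A C (C ⧸ (J * M ^ (i + 1))), ← Ideal.map_map, hk,
          Ideal.map_bot]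
      obtain ⟨v', hv', hv'0⟩ := hstep π hπsurj hK2 h𝔞K hdisc' vi hvi0
      refine ⟨v', ?_, hv'0⟩
      intro b
      obtain ⟨c', hc'⟩ := Ideal.Quotient.mk_surjective (v' b)
      obtain ⟨c, hc1, hc2⟩ := hvi b
      refine ⟨c', hc', ?_⟩
      rw [← hc2, Ideal.Quotient.eq]
      apply hLJ i
      rw [← Ideal.Quotient.eq, hc1, ← hv', ← hc', hπmk]
  obtain ⟨vN, hvN, -⟩ := claim (n + k)
  have hbot : J * M ^ (n + k) = ⊥ := by rw [hMN, Ideal.mul_bot]
  let e : (C ⧸ (J * M ^ (n + k))) ≃ₐ[A] C :=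
    (Ideal.quotientEquivAlgOfEq A hbot).trans (AlgEquiv.quotientBot A C)
  have he : ∀ c, e (Ideal.Quotient.mk _ c) = c := fun c => rfl
  refine ⟨e.toAlgHom.comp vN, ?_⟩
  ext b
  obtain ⟨c, hc1, hc2⟩ := hvN b
  show Ideal.Quotient.mk J (e (vN b)) = u b
  rw [← hc1, he, hc2]

end Groth.Agent.Lib.Helper23.AdicSmooth
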