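import Mathlib
import Groth.Prelude.Def_CAlgX
import Groth.Prelude.Def_PP16
import Groth.Agent.S4537
import Groth.Agent.S4542
import Groth.Agent.Lib.Helper23.SymGr
import Groth.Agent.Lib.Helper23.SymPoly
import Groth.Agent.S4544

/-!
# EGA 0_IV 19.5.3: adic formal smoothness ⇔ `J/J²` projective and `Sym(J/J²) ≅ gr_J(B)`

Main results (for `A → B`, `J : Ideal B`, `[Algebra.FormallySmooth A (B ⧸ J)]`):
* `projective_cotangent : CAlgX.IsAdicFormallySmooth A B J → Module.Projective (B ⧸ J) J.Cotangent`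
* `can_injective_of_smooth : CAlgX.IsAdicFormallySmooth A B J → ∀ ι, Injective (SymGr.can B J ι)`
* `smooth_of_proj_of_inj : Projective → (∀ ι, Injective (SymGr.can B J ι)) → CAlgX.IsAdicFormallySmooth A B J`
* `adicSmooth_iff`
Also: `exists_section`, `der0`/`derD` (derivation `B → J/J²` from a section of `B/J² → B/J`), `iMap`, `rMap`,
`formallySmooth_symAlg` (Sym of a projective module is formally smooth), `exists_section_pow`.
-/

set_option autoImplicit false
universe u


namespace Groth.Agent.Lib.Helper23.AdicSmoothSym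

open TensorProduct Groth.Agent.Lib.Helper23

section
variable {A B : Type u} [CommRing A] [CommRing B] [Algebra A B] (J : Ideal B)

lemma ker_factor : RingHom.ker (Ideal.Quotient.factorₐ A (Ideal.pow_le_self two_ne_zero : J ^ 2 ≤ J)) =
    J.cotangentIdeal := by
  ext x
  obtain ⟨x, rfl⟩ := Ideal.Quotient.mk_surjective x
  rw [RingHom.mem_ker, Ideal.mk_mem_cotangentIdeal]
  have : Ideal.Quotient.factorₐ A (Ideal.pow_le_self two_ne_zero : J ^ 2 ≤ J)
      (Ideal.Quotient.mk (J ^ 2) x) = Ideal.Quotient.mk J x := rfl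
  rw [this, Ideal.Quotient.eq_zero_iff_mem]

/-- section of B/J² → B/J -/
lemma exists_section [Algebra.FormallySmooth A (B ⧸ J)] :
    ∃ σ : (B ⧸ J) →ₐ[A] (B ⧸ J ^ 2),
      ∀ c, Ideal.Quotient.factorₐ A (Ideal.pow_le_self two_ne_zero : J ^ 2 ≤ J) (σ c) = c := by
  have hsurj : Function.Surjective (Ideal.Quotient.factorₐ A (Ideal.pow_le_self two_ne_zero : J ^ 2 ≤ J)) :=
    Ideal.Quotient.factor_surjective (Ideal.pow_le_self two_ne_zero : J ^ 2 ≤ J)
  have hnil : IsNilpotent (RingHom.ker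
      (Ideal.Quotient.factorₐ A (Ideal.pow_le_self two_ne_zero : J ^ 2 ≤ J) : B ⧸ J ^ 2 →+* B ⧸ J)) := by
    refine ⟨2, ?_⟩
    have := ker_factor (A := A) J
    rw [show RingHom.ker (Ideal.Quotient.factorₐ A (Ideal.pow_le_self two_ne_zero : J ^ 2 ≤ J) :
      B ⧸ J ^ 2 →+* B ⧸ J) = J.cotangentIdeal from this]
    exact J.cotangentIdeal_square
  refine ⟨Algebra.FormallySmooth.liftOfSurjective (AlgHom.id A (B ⧸ J)) _ hsurj hnil, ?_⟩
  intro c
  exact Algebra.FormallySmooth.liftOfSurjective_apply _ _ hsurj hnil c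

variable (σ : (B ⧸ J) →ₐ[A] (B ⧸ J ^ 2))
  (hσ : ∀ c, Ideal.Quotient.factorₐ A (Ideal.pow_le_self two_ne_zero : J ^ 2 ≤ J) (σ c) = c)

include hσ in
lemma diff_mem (b : B) : Ideal.Quotient.mk (J ^ 2) b - σ (Ideal.Quotient.mk J b) ∈ J.cotangentIdeal := by
  rw [← ker_factor (A := A) J, RingHom.mem_ker, map_sub, hσ]
  have : Ideal.Quotient.factorₐ A (Ideal.pow_le_self two_ne_zero : J ^ 2 ≤ J)
      (Ideal.Quotient.mk (J ^ 2) b) = Ideal.Quotient.mk J b := rfl
  rw [this, sub_self]

/-- The `A`-derivation `B → J/J²` attached to a section. -/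
noncomputable def der0 : B → J.Cotangent := fun b =>
  J.cotangentEquivIdeal.symm ⟨_, diff_mem J σ hσ b⟩

lemma der0_spec (b : B) : J.cotangentToQuotientSquare (der0 J σ hσ b) =
    Ideal.Quotient.mk (J ^ 2) b - σ (Ideal.Quotient.mk J b) := by
  have := J.cotangentEquivIdeal_apply (der0 J σ hσ b)
  rw [der0, LinearEquiv.apply_symm_apply] at this
  exact this.symm

lemma der0_add (b b' : B) : der0 J σ hσ (b + b') = der0 J σ hσ b + der0 J σ hσ b' := by
  apply J.cotangentToQuotientSquare_injective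
  rw [map_add, der0_spec, der0_spec, der0_spec]
  simp only [map_add]
  ring

lemma der0_algebraMap (a : A) : der0 J σ hσ (algebraMap A B a) = 0 := by
  apply J.cotangentToQuotientSquare_injective
  rw [map_zero, der0_spec]
  have h1 : Ideal.Quotient.mk (J ^ 2) (algebraMap A B a) = algebraMap A (B ⧸ J ^ 2) a := rfl
  have h2 : Ideal.Quotient.mk J (algebraMap A B a) = algebraMap A (B ⧸ J) a := rfl
  rw [h1, h2, AlgHom.commutes, sub_self]

lemma der0_mul (b b' : B) :
    der0 J σ hσ (b * b') = b • der0 J σ hσ b' + b' • der0 J σ hσ b := by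
  apply J.cotangentToQuotientSquare_injective
  rw [map_add, map_smul, map_smul, der0_spec, der0_spec, der0_spec]
  have hsq : (Ideal.Quotient.mk (J ^ 2) b - σ (Ideal.Quotient.mk J b)) *
      (Ideal.Quotient.mk (J ^ 2) b' - σ (Ideal.Quotient.mk J b')) = 0 := by
    have h := Ideal.mul_mem_mul (diff_mem J σ hσ b) (diff_mem J σ hσ b')
    rw [← pow_two, J.cotangentIdeal_square] at h
    exact h
  simp only [map_mul, Algebra.smul_def, Ideal.Quotient.algebraMap_eq]
  linear_combination (-1 : B ⧸ J ^ 2) * hsq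

lemma der0_of_mem (x : B) (hx : x ∈ J) : der0 J σ hσ x = J.toCotangent ⟨x, hx⟩ := by
  apply J.cotangentToQuotientSquare_injective
  rw [der0_spec, Ideal.toCotangent_to_quotient_square, Ideal.Quotient.eq_zero_iff_mem.mpr hx,
    map_zero, sub_zero]
  rfl

end


open TensorProduct Groth.Agent.Lib.Helper23

section
variable {A B : Type u} [CommRing A] [CommRing B] [Algebra A B] (J : Ideal B)
variable (σ : (B ⧸ J) →ₐ[A] (B ⧸ J ^ 2))
  (hσ : ∀ c, Ideal.Quotient.factorₐ A (Ideal.pow_le_self two_ne_zero : J ^ 2 ≤ J) (σ c) = c)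

lemma mk_smul_cot (b : B) (p : J.Cotangent) : (Ideal.Quotient.mk J b) • p = b • p := by
  rw [← Ideal.Quotient.algebraMap_eq, algebraMap_smul]

/-- `der0` as a derivation. -/
noncomputable def derD : Derivation A B J.Cotangent :=
  Derivation.mk'
    { toFun := der0 J σ hσ
      map_add' := der0_add J σ hσ
      map_smul' := fun a b => by
        rw [Algebra.smul_def, der0_mul, der0_algebraMap, smul_zero, add_zero, algebraMap_smul,
          RingHom.id_apply] }
    (fun a b => by
      show der0 J σ hσ (a * b) = _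
      rw [der0_mul]
      rfl)

lemma derD_apply (b : B) : derD J σ hσ b = der0 J σ hσ b := rfl

lemma mem_smul_tensor (x : B) (hx : x ∈ J) (t : (B ⧸ J) ⊗[B] Ω[B⁄A]) : x • t = 0 := by
  rw [← algebraMap_smul (B ⧸ J) x t, Ideal.Quotient.algebraMap_eq,
    Ideal.Quotient.eq_zero_iff_mem.mpr hx, zero_smul]

/-- `J → C ⊗ Ω`, `x ↦ 1 ⊗ dx`. -/
noncomputable def iMap0 : J →ₗ[B] (B ⧸ J) ⊗[B] Ω[B⁄A] where
  toFun x := (1 : B ⧸ J) ⊗ₜ[B] KaehlerDifferential.D A B (x : B)
  map_add' x y := by
    simp only [Submodule.coe_add, map_add, TensorProduct.tmul_add]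
  map_smul' b x := by
    simp only [Submodule.coe_smul, smul_eq_mul, RingHom.id_apply, Derivation.leibniz,
      TensorProduct.tmul_add, TensorProduct.tmul_smul]
    rw [mem_smul_tensor J (x : B) x.2, add_zero]

lemma iMap0_mul (x y : J) : iMap0 (A := A) J (x * y) = 0 := by
  have h1 : (x * y : J) = (x : B) • y := rfl
  rw [h1, map_smul, mem_smul_tensor J (x : B) x.2]

/-- `J/J² → C ⊗ Ω`. -/
noncomputable def iMap : J.Cotangent →ₗ[B] (B ⧸ J) ⊗[B] Ω[B⁄A] :=
  Ideal.Cotangent.lift (iMap0 J) (iMap0_mul J)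

lemma iMap_toCotangent (x : J) :
    iMap (A := A) J (J.toCotangent x) = (1 : B ⧸ J) ⊗ₜ[B] KaehlerDifferential.D A B (x : B) :=
  Ideal.Cotangent.lift_toCotangent _ _ x

/-- the retraction `C ⊗ Ω → J/J²` -/
noncomputable def rMap : (B ⧸ J) ⊗[B] Ω[B⁄A] →ₗ[B ⧸ J] J.Cotangent :=
  LinearMap.liftBaseChange (B ⧸ J) (derD J σ hσ).liftKaehlerDifferential

lemma rMap_iMap (p : J.Cotangent) : rMap J σ hσ (iMap J p) = p := by
  obtain ⟨x, rfl⟩ := J.toCotangent_surjective p
  rw [iMap_toCotangent, rMap, LinearMap.liftBaseChange_tmul, one_smul,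
    Derivation.liftKaehlerDifferential_comp_D, derD_apply, der0_of_mem J σ hσ x x.2]

theorem projective_cotangent [Algebra.FormallySmooth A (B ⧸ J)]
    (h : CAlgX.IsAdicFormallySmooth A B J) : Module.Projective (B ⧸ J) J.Cotangent := by
  obtain ⟨σ, hσ⟩ := exists_section (A := A) J
  have h' : EGA41.IsFormallySmoothAdic A ⊥ B J := (Groth.Agent.S4537.result J).mp h
  haveI : Module.Projective (B ⧸ J) ((B ⧸ J) ⊗[B] Ω[B⁄A]) :=
    Groth.Agent.S4544.result ⊥ J ⟨1, by simp⟩ h' J ⟨1, by simp⟩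
  exact Module.Projective.of_split
    ((iMap (A := A) J).extendScalarsOfSurjective Ideal.Quotient.mk_surjective)
    (rMap J σ hσ) (LinearMap.ext fun p => rMap_iMap J σ hσ p)

end


open TensorProduct Groth.Agent.Lib.Helper23

section prodlemma

variable {T : Type*} [CommRing T] (I : Ideal T) {ι : Type*}

lemma prod_mem_pow' [DecidableEq ι] (s : Finset ι) (t : ι → T) (h : ∀ j ∈ s, t j ∈ I) :
    ∏ j ∈ s, t j ∈ I ^ s.card := by
  induction s using Finset.induction_on with
  | empty => simp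
  | insert a s ha ih =>
    rw [Finset.prod_insert ha, Finset.card_insert_of_notMem ha, pow_succ']
    exact Ideal.mul_mem_mul (h a (Finset.mem_insert_self a s))
      (ih fun j hj => h j (Finset.mem_insert_of_mem hj))

lemma prod_sub_prod_mem [DecidableEq ι] (s : Finset ι) (t t' : ι → T) (h' : ∀ j ∈ s, t' j ∈ I)
    (h : ∀ j ∈ s, t j - t' j ∈ I ^ 2) :
    ∏ j ∈ s, t j - ∏ j ∈ s, t' j ∈ I ^ (s.card + 1) := by
  induction s using Finset.induction_on with
  | empty => simp
  | insert a s ha ih =>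
    rw [Finset.prod_insert ha, Finset.prod_insert ha, Finset.card_insert_of_notMem ha]
    have e : t a * ∏ j ∈ s, t j - t' a * ∏ j ∈ s, t' j =
        t a * (∏ j ∈ s, t j - ∏ j ∈ s, t' j) + (t a - t' a) * ∏ j ∈ s, t' j := by ring
    rw [e]
    have hta : t a ∈ I := by
      have h1 := h a (Finset.mem_insert_self a s)
      have h2 := h' a (Finset.mem_insert_self a s)
      have h3 : t a - t' a ∈ I := Ideal.pow_le_self two_ne_zero h1
      have : t a = (t a - t' a) + t' a := by ring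
      rw [this]
      exact I.add_mem h3 h2
    have ih' := ih (fun j hj => h' j (Finset.mem_insert_of_mem hj))
      (fun j hj => h j (Finset.mem_insert_of_mem hj))
    refine Ideal.add_mem _ ?_ ?_
    · have := Ideal.mul_mem_mul hta ih'
      rwa [← pow_succ'] at this
    · have h1 := h a (Finset.mem_insert_self a s)
      have h2 : ∏ j ∈ s, t' j ∈ I ^ s.card :=
        prod_mem_pow' I s t' (fun j hj => h' j (Finset.mem_insert_of_mem hj))
      have := Ideal.mul_mem_mul h1 h2
      rw [← pow_add] at this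
      have e2 : 2 + s.card = s.card + 1 + 1 := by omega
      rwa [e2] at this

end prodlemma

section poly

variable {A B : Type u} [CommRing A] [CommRing B] [Algebra A B] (J : Ideal B)
variable (σ : (B ⧸ J) →ₐ[A] (B ⧸ J ^ 2))
  (hσ : ∀ c, Ideal.Quotient.factorₐ A (Ideal.pow_le_self two_ne_zero : J ^ 2 ≤ J) (σ c) = c)
variable (s : J.Cotangent →ₗ[B ⧸ J] (J.Cotangent →₀ B ⧸ J))

local notation "TT" => MvPolynomial J.Cotangent (B ⧸ J)
local notation "𝔪" => MvPolynomial.idealOfVars J.Cotangent (B ⧸ J)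

lemma Lmap_mem (p : J.Cotangent) : SymPoly.Lmap J s p ∈ 𝔪 := by
  show Finsupp.linearCombination (B ⧸ J) (MvPolynomial.X : J.Cotangent → TT) (s p) ∈ _
  rw [Finsupp.linearCombination_apply, Finsupp.sum]
  refine Ideal.sum_mem _ (fun i _ => ?_)
  rw [Algebra.smul_def]
  exact Ideal.mul_mem_left _ _ (Ideal.subset_span ⟨i, rfl⟩)

lemma smul_TT (b : B) (t : TT) : b • t = MvPolynomial.C (Ideal.Quotient.mk J b) * t := by
  rw [Algebra.smul_def, MvPolynomial.algebraMap_apply, Ideal.Quotient.algebraMap_eq]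

lemma Lmap_mul_mem (p p' : J.Cotangent) : SymPoly.Lmap J s p * SymPoly.Lmap J s p' ∈ 𝔪 ^ 2 := by
  rw [pow_two]
  exact Ideal.mul_mem_mul (Lmap_mem J s p) (Lmap_mem J s p')

/-- The first order map `B → T/𝔪²`. -/
noncomputable def v1 : B →ₐ[A] TT ⧸ 𝔪 ^ 2 where
  toFun b := Ideal.Quotient.mk _
    (MvPolynomial.C (Ideal.Quotient.mk J b) + SymPoly.Lmap J s (der0 J σ hσ b))
  map_one' := by
    have : der0 J σ hσ 1 = 0 := by
      have := der0_algebraMap J σ hσ 1
      rwa [map_one] at this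
    rw [this, map_zero, add_zero, map_one, map_one, map_one]
  map_mul' b b' := by
    rw [← map_mul, Ideal.Quotient.eq, der0_mul, map_add, map_smul, map_smul, smul_TT, smul_TT,
      map_mul, map_mul]
    have : MvPolynomial.C (Ideal.Quotient.mk J b) * MvPolynomial.C (Ideal.Quotient.mk J b') +
        (MvPolynomial.C (Ideal.Quotient.mk J b) * SymPoly.Lmap J s (der0 J σ hσ b') +
          MvPolynomial.C (Ideal.Quotient.mk J b') * SymPoly.Lmap J s (der0 J σ hσ b)) -
        (MvPolynomial.C (Ideal.Quotient.mk J b) + SymPoly.Lmap J s (der0 J σ hσ b)) *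
          (MvPolynomial.C (Ideal.Quotient.mk J b') + SymPoly.Lmap J s (der0 J σ hσ b')) =
        -(SymPoly.Lmap J s (der0 J σ hσ b) * SymPoly.Lmap J s (der0 J σ hσ b')) := by ring
    rw [this]
    exact Ideal.neg_mem_iff _ |>.mpr (Lmap_mul_mem J s _ _)
  map_zero' := by
    have : der0 J σ hσ 0 = 0 := by
      have := der0_algebraMap J σ hσ 0
      rwa [map_zero] at this
    rw [this, map_zero, map_zero, map_zero, add_zero, map_zero]
  map_add' b b' := by
    rw [← map_add, der0_add]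
    congr 1
    simp only [map_add]
    ring
  commutes' a := by
    rw [der0_algebraMap, map_zero, add_zero]
    rfl

lemma v1_apply (b : B) : v1 J σ hσ s b = Ideal.Quotient.mk _
    (MvPolynomial.C (Ideal.Quotient.mk J b) + SymPoly.Lmap J s (der0 J σ hσ b)) := rfl

lemma v1_of_mem (x : B) (hx : x ∈ J) : v1 J σ hσ s x =
    Ideal.Quotient.mk _ (SymPoly.Lmap J s (J.toCotangent ⟨x, hx⟩)) := by
  rw [v1_apply, der0_of_mem J σ hσ x hx, Ideal.Quotient.eq_zero_iff_mem.mpr hx, map_zero, zero_add]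

lemma v1_kills (x : B) (hx : x ∈ J ^ 2) : v1 J σ hσ s x = 0 := by
  have hxJ : x ∈ J := Ideal.pow_le_self two_ne_zero hx
  rw [v1_of_mem J σ hσ s x hxJ]
  have : J.toCotangent ⟨x, hxJ⟩ = 0 := by
    rw [Ideal.toCotangent_eq_zero]
    exact hx
  rw [this, map_zero, map_zero]

end poly


open TensorProduct Groth.Agent.Lib.Helper23

section lift

variable {A B : Type u} [CommRing A] [CommRing B] [Algebra A B] (J : Ideal B)

lemma exists_lift_factor (h : CAlgX.IsAdicFormallySmooth A B J) {T : Type u} [CommRing T]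
    [Algebra A T] (𝔪 : Ideal T) (n : ℕ) (hn : 1 ≤ n)
    (g : B →ₐ[A] T ⧸ 𝔪 ^ 2) (hg : ∃ N : ℕ, ∀ x ∈ J ^ N, g x = 0) :
    ∃ v : B →ₐ[A] T ⧸ 𝔪 ^ (n + 1),
      ∀ b, Ideal.Quotient.factorₐ A (Ideal.pow_le_pow_right (by omega : 2 ≤ n + 1)) (v b) = g b := by
  have hle : 𝔪 ^ (n + 1) ≤ 𝔪 ^ 2 := Ideal.pow_le_pow_right (by omega : 2 ≤ n + 1)
  have h' : EGA41.IsFormallySmoothAdic A ⊥ B J := (Groth.Agent.S4537.result J).mp h
  have hnil : IsNilpotent (RingHom.ker (Ideal.Quotient.factorₐ A hle)) := by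
    refine ⟨n + 1, ?_⟩
    have hk : RingHom.ker (Ideal.Quotient.factorₐ A hle) =
        (𝔪 ^ 2).map (Ideal.Quotient.mk (𝔪 ^ (n + 1))) := Ideal.Quotient.factor_ker hle
    rw [hk, ← Ideal.map_pow, ← pow_mul]
    rw [Ideal.zero_eq_bot, Ideal.map_eq_bot_iff_le_ker, Ideal.mk_ker]
    exact Ideal.pow_le_pow_right (by omega)
  obtain ⟨v, hv, -⟩ := Groth.Agent.S4542.lift_of_ker_nilpotent h' (Ideal.Quotient.factorₐ A hle) hnil
    ⟨1, by simp⟩ g hg (fun b => Ideal.Quotient.factor_surjective hle (g b))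
  exact ⟨v, hv⟩

end lift

lemma two_le_card (ι : Type u) [Fintype ι] [Nonempty ι] : 2 ≤ Fintype.card ι + 1 := by
  have := Fintype.card_pos (α := ι); omega

section core

variable {A B : Type u} [CommRing A] [CommRing B] [Algebra A B] (J : Ideal B)
variable (σ : (B ⧸ J) →ₐ[A] (B ⧸ J ^ 2))
  (hσ : ∀ c, Ideal.Quotient.factorₐ A (Ideal.pow_le_self two_ne_zero : J ^ 2 ≤ J) (σ c) = c)
variable (s : J.Cotangent →ₗ[B ⧸ J] (J.Cotangent →₀ B ⧸ J))
variable (ι : Type u) [Fintype ι] [Nonempty ι]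

local notation "TT" => MvPolynomial J.Cotangent (B ⧸ J)
local notation "𝔪" => MvPolynomial.idealOfVars J.Cotangent (B ⧸ J)

variable (v : B →ₐ[A] (MvPolynomial J.Cotangent (B ⧸ J)) ⧸
    (MvPolynomial.idealOfVars J.Cotangent (B ⧸ J)) ^ (Fintype.card ι + 1))
  (hv : ∀ b, Ideal.Quotient.factorₐ A
    (Ideal.pow_le_pow_right (two_le_card ι))
      (v b) = v1 J σ hσ s b)

include hv in
lemma rep_mem (x : B) (hx : x ∈ J) : ∃ t : TT, v x = Ideal.Quotient.mk (𝔪 ^ (Fintype.card ι + 1)) t ∧
    t - SymPoly.Lmap J s (J.toCotangent ⟨x, hx⟩) ∈ 𝔪 ^ 2 := by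
  obtain ⟨t, ht⟩ := Ideal.Quotient.mk_surjective (v x)
  refine ⟨t, ht.symm, ?_⟩
  have h1 := hv x
  rw [← ht, v1_of_mem J σ hσ s x hx] at h1
  exact Ideal.Quotient.eq.mp h1

include hv in
lemma rep_gen (b : B) : ∃ t : TT, v b = Ideal.Quotient.mk (𝔪 ^ (Fintype.card ι + 1)) t ∧
    t - MvPolynomial.C (Ideal.Quotient.mk J b) ∈ 𝔪 := by
  obtain ⟨t, ht⟩ := Ideal.Quotient.mk_surjective (v b)
  refine ⟨t, ht.symm, ?_⟩
  have h1 := hv b
  rw [← ht, v1_apply] at h1
  have h2 : t - (MvPolynomial.C (Ideal.Quotient.mk J b) + SymPoly.Lmap J s (der0 J σ hσ b)) ∈ 𝔪 ^ 2 :=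
    Ideal.Quotient.eq.mp h1
  have h3 := Ideal.pow_le_self two_ne_zero h2
  have h4 := Ideal.add_mem _ h3 (Lmap_mem J s (der0 J σ hσ b))
  convert h4 using 1
  ring

include hv in
lemma v_prod (x : ι → ↥J) : v (∏ j, (x j : B)) =
    Ideal.Quotient.mk (𝔪 ^ (Fintype.card ι + 1)) (∏ j, SymPoly.Lmap J s (J.toCotangent (x j))) := by
  classical
  choose t ht1 ht2 using fun j => rep_mem J σ hσ s ι v hv (x j : B) (x j).2
  rw [map_prod]
  simp only [ht1]
  rw [← map_prod, Ideal.Quotient.eq]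
  have := prod_sub_prod_mem 𝔪 Finset.univ t (fun j => SymPoly.Lmap J s (J.toCotangent (x j)))
    (fun j _ => Lmap_mem J s _) (fun j _ => ht2 j)
  rwa [Finset.card_univ] at this

include hv in
lemma v_kills (y : B) (hy : y ∈ J ^ (Fintype.card ι + 1)) : v y = 0 := by
  have h1 : J.map v.toRingHom ≤ (𝔪).map (Ideal.Quotient.mk (𝔪 ^ (Fintype.card ι + 1))) := by
    rw [Ideal.map_le_iff_le_comap]
    intro x hx
    obtain ⟨t, ht1, ht2⟩ := rep_mem J σ hσ s ι v hv x hx
    rw [Ideal.mem_comap]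
    show v x ∈ _
    rw [ht1]
    apply Ideal.mem_map_of_mem
    have := Ideal.add_mem _ (Ideal.pow_le_self two_ne_zero ht2) (Lmap_mem J s (J.toCotangent ⟨x, hx⟩))
    convert this using 1
    ring
  have h2 : (J ^ (Fintype.card ι + 1)).map v.toRingHom ≤ ⊥ := by
    have e1 := Ideal.map_pow v.toRingHom J (Fintype.card ι + 1)
    rw [e1]
    refine (Ideal.pow_right_mono h1 _).trans ?_
    have e2 := Ideal.map_pow (Ideal.Quotient.mk (𝔪 ^ (Fintype.card ι + 1))) 𝔪 (Fintype.card ι + 1)
    rw [← e2, le_bot_iff, Ideal.map_eq_bot_iff_le_ker, Ideal.mk_ker]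
  have := h2 (Ideal.mem_map_of_mem v.toRingHom hy)
  exact this

include hv in
lemma v_mul (r : B) (w : TT) (hw : w ∈ 𝔪 ^ Fintype.card ι) :
    v r * Ideal.Quotient.mk (𝔪 ^ (Fintype.card ι + 1)) w = Ideal.Quotient.mk (𝔪 ^ (Fintype.card ι + 1)) (r • w) := by
  obtain ⟨t, ht1, ht2⟩ := rep_gen J σ hσ s ι v hv r
  rw [ht1, ← map_mul, Ideal.Quotient.eq, smul_TT, ← sub_mul, pow_succ']
  exact Ideal.mul_mem_mul ht2 hw

end core


open TensorProduct Groth.Agent.Lib.Helper23

section core2

variable {A B : Type u} [CommRing A] [CommRing B] [Algebra A B] (J : Ideal B)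
variable (σ : (B ⧸ J) →ₐ[A] (B ⧸ J ^ 2))
  (hσ : ∀ c, Ideal.Quotient.factorₐ A (Ideal.pow_le_self two_ne_zero : J ^ 2 ≤ J) (σ c) = c)
variable (s : J.Cotangent →ₗ[B ⧸ J] (J.Cotangent →₀ B ⧸ J))
variable (ι : Type u) [Fintype ι] [Nonempty ι]

local notation "TT" => MvPolynomial J.Cotangent (B ⧸ J)
local notation "𝔪" => MvPolynomial.idealOfVars J.Cotangent (B ⧸ J)

variable (v : B →ₐ[A] (MvPolynomial J.Cotangent (B ⧸ J)) ⧸
    (MvPolynomial.idealOfVars J.Cotangent (B ⧸ J)) ^ (Fintype.card ι + 1))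
  (hv : ∀ b, Ideal.Quotient.factorₐ A
    (Ideal.pow_le_pow_right (two_le_card ι))
      (v b) = v1 J σ hσ s b)

include hv in
lemma key (z : SymmetricPower B ι J.Cotangent) :
    ∀ (y : B) (hy : y ∈ J ^ Fintype.card ι),
      SymGr.can B J ι z = Submodule.Quotient.mk ⟨y, hy⟩ →
      v y = Ideal.Quotient.mk (𝔪 ^ (Fintype.card ι + 1)) (SymPow.prodMap (SymPoly.Lmap J s) z) := by
  classical
  induction z using SymPow.induction_on with
  | tprod r p =>
    intro y hy heq
    obtain ⟨x, rfl⟩ := SymGr.exists_rep B J ι p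
    rw [map_smul, SymGr.can_tprod, PP16.zetaJ, ← Submodule.Quotient.mk_smul,
      Submodule.Quotient.eq, Submodule.mem_comap] at heq
    have hmem : r * ∏ j, (x j : B) - y ∈ J ^ (Fintype.card ι + 1) := heq
    have h0 := v_kills J σ hσ s ι v hv _ hmem
    rw [map_sub, sub_eq_zero] at h0
    rw [← h0, map_mul, v_prod J σ hσ s ι v hv x]
    have hw : ∏ j, SymPoly.Lmap J s (J.toCotangent (x j)) ∈ 𝔪 ^ Fintype.card ι := by
      have := prod_mem_pow' 𝔪 Finset.univ (fun j => SymPoly.Lmap J s (J.toCotangent (x j)))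
        (fun j _ => Lmap_mem J s _)
      rwa [Finset.card_univ] at this
    rw [v_mul J σ hσ s ι v hv r _ hw]
    congr 1
    rw [LinearMap.map_smul, SymPow.prodMap_tprod]
  | add a b iha ihb =>
    intro y hy heq
    obtain ⟨⟨ya, hya⟩, h1⟩ := Submodule.Quotient.mk_surjective _ (SymGr.can B J ι a)
    have hyb : y - ya ∈ J ^ Fintype.card ι := Ideal.sub_mem _ hy hya
    have h2 : SymGr.can B J ι b = Submodule.Quotient.mk ⟨y - ya, hyb⟩ := by
      have : SymGr.can B J ι b = SymGr.can B J ι (a + b) - SymGr.can B J ι a := by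
        rw [map_add]; abel
      rw [this, heq, ← h1, ← Submodule.Quotient.mk_sub]
      rfl
    have e : y = ya + (y - ya) := by ring
    rw [e, map_add, iha ya hya h1.symm, ihb (y - ya) hyb h2, map_add, map_add]

end core2

section final

variable {A B : Type u} [CommRing A] [CommRing B] [Algebra A B] (J : Ideal B)

theorem can_injective_of_smooth [Algebra.FormallySmooth A (B ⧸ J)]
    (h : CAlgX.IsAdicFormallySmooth A B J) (ι : Type u) [Fintype ι] [Nonempty ι] :
    Function.Injective (SymGr.can B J ι) := by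
  obtain ⟨σ, hσ⟩ := exists_section (A := A) J
  have hproj : Module.Projective (B ⧸ J) J.Cotangent := projective_cotangent J h
  obtain ⟨s, hs⟩ := Module.projective_def'.mp hproj
  have hs' : ∀ p, Finsupp.linearCombination (B ⧸ J) id (s p) = p := fun p =>
    congrArg (fun f => f p) hs
  have hcard : 1 ≤ Fintype.card ι := Fintype.card_pos
  obtain ⟨v, hv⟩ := exists_lift_factor J h (MvPolynomial.idealOfVars J.Cotangent (B ⧸ J))
    (Fintype.card ι) hcard (v1 J σ hσ s) ⟨2, v1_kills J σ hσ s⟩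
  rw [injective_iff_map_eq_zero]
  intro z hz
  have h0 : (0 : B) ∈ J ^ Fintype.card ι := Ideal.zero_mem _
  have hz' : SymGr.can B J ι z = Submodule.Quotient.mk ⟨0, h0⟩ := by
    rw [hz]; rfl
  have h1 := key J σ hσ s ι v hv z 0 h0 hz'
  rw [map_zero] at h1
  have hinj := SymPoly.injective_mk_prodMap (ι := ι) J id s hs'
  apply hinj
  simp only [map_zero]
  exact h1.symm

end final


open TensorProduct Groth.Agent.Lib.Helper23

section symalg

variable {C : Type u} [CommRing C] {P : Type u} [AddCommGroup P] [Module C P]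

/-- The augmentation ideal of the symmetric algebra. -/
def IS (C : Type u) [CommRing C] (P : Type u) [AddCommGroup P] [Module C P] :
    Ideal (SymmetricAlgebra C P) := Ideal.span (Set.range (SymmetricAlgebra.ι C P))

lemma ι_mem_IS (p : P) : SymmetricAlgebra.ι C P p ∈ IS C P := Ideal.subset_span ⟨p, rfl⟩

lemma exists_sub_mem_IS (t : SymmetricAlgebra C P) :
    ∃ c : C, t - algebraMap C (SymmetricAlgebra C P) c ∈ IS C P := by
  induction t using SymmetricAlgebra.induction with
  | algebraMap r => exact ⟨r, by simp⟩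
  | ι x => exact ⟨0, by simpa using ι_mem_IS x⟩
  | mul a b ha hb =>
    obtain ⟨ca, hca⟩ := ha
    obtain ⟨cb, hcb⟩ := hb
    refine ⟨ca * cb, ?_⟩
    have e : a * b - algebraMap C (SymmetricAlgebra C P) (ca * cb) =
        (a - algebraMap C _ ca) * b + algebraMap C _ ca * (b - algebraMap C _ cb) := by
      rw [map_mul]; ring
    rw [e]
    exact Ideal.add_mem _ (Ideal.mul_mem_right _ _ hca) (Ideal.mul_mem_left _ _ hcb)
  | add a b ha hb =>
    obtain ⟨ca, hca⟩ := ha
    obtain ⟨cb, hcb⟩ := hb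
    refine ⟨ca + cb, ?_⟩
    have e : a + b - algebraMap C (SymmetricAlgebra C P) (ca + cb) =
        (a - algebraMap C _ ca) + (b - algebraMap C _ cb) := by
      rw [map_add]; ring
    rw [e]
    exact Ideal.add_mem _ hca hcb

instance formallySmooth_symAlg [Module.Projective C P] :
    Algebra.FormallySmooth C (SymmetricAlgebra C P) := by
  apply Algebra.FormallySmooth.of_comp_surjective
  intro E _ _ I hI g
  obtain ⟨l, hl⟩ := Module.projective_lifting_property (Ideal.Quotient.mkₐ C I).toLinearMap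
    (g.toLinearMap ∘ₗ SymmetricAlgebra.ι C P) Ideal.Quotient.mk_surjective
  refine ⟨SymmetricAlgebra.lift l, ?_⟩
  apply SymmetricAlgebra.algHom_ext
  ext p
  have := congrArg (fun f => f p) hl
  simpa using this

end symalg


open TensorProduct Groth.Agent.Lib.Helper23

section abstract

variable {B : Type u} [CommRing B] (J : Ideal B)
variable {D : Type u} [CommRing D] [Algebra (B ⧸ J) D] (q : B →+* D)
  (hq : Function.Surjective q)
  (hsec : ∀ b : B, q b - algebraMap (B ⧸ J) D (Ideal.Quotient.mk J b) ∈ J.map q)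
variable (s : J.Cotangent →ₗ[B ⧸ J] (J.Cotangent →₀ B ⧸ J))
  (hs : ∀ p, Finsupp.linearCombination (B ⧸ J) id (s p) = p)

/-- chosen lifts -/
noncomputable def yfun : J.Cotangent → D := fun p =>
  q (Function.surjInv J.toCotangent_surjective p : J)

/-- the `C`-linear lift `J/J² → D`. -/
noncomputable def lam : J.Cotangent →ₗ[B ⧸ J] D :=
  (Finsupp.linearCombination (B ⧸ J) (yfun J q)) ∘ₗ s

include hq hsec hs in
lemma lam_spec (p : J.Cotangent) : ∃ x : J, lam J q s p = q x ∧ J.toCotangent x = p := by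
  classical
  have hw : ∀ b : B, ∃ w : B, w ∈ J ∧ algebraMap (B ⧸ J) D (Ideal.Quotient.mk J b) = q (b - w) := by
    intro b
    obtain ⟨w, hw, hw'⟩ := (Ideal.mem_map_iff_of_surjective q hq).mp (hsec b)
    refine ⟨w, hw, ?_⟩
    rw [map_sub, hw']
    ring
  choose w hwJ hw' using hw
  let bi : J.Cotangent → B := fun i => Quotient.out (s p i)
  have hbi : ∀ i, Ideal.Quotient.mk J (bi i) = s p i := fun i => Ideal.Quotient.mk_out _
  let xi : J.Cotangent → J := fun i => Function.surjInv J.toCotangent_surjective i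
  refine ⟨∑ i ∈ (s p).support, (bi i - w (bi i)) • xi i, ?_, ?_⟩
  · show Finsupp.linearCombination (B ⧸ J) (yfun J q) (s p) = _
    rw [Finsupp.linearCombination_apply, Finsupp.sum, AddSubmonoidClass.coe_finset_sum, map_sum]
    apply Finset.sum_congr rfl
    intro i _
    rw [Algebra.smul_def, ← hbi i, hw' (bi i)]
    show _ = q ((bi i - w (bi i)) * (xi i : B))
    rw [map_mul]
    rfl
  · rw [map_sum]
    conv_rhs => rw [← hs p, Finsupp.linearCombination_apply, Finsupp.sum]
    apply Finset.sum_congr rfl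
    intro i _
    rw [map_smul, ← mk_smul_cot, map_sub, Ideal.Quotient.eq_zero_iff_mem.mpr (hwJ (bi i)), sub_zero,
      hbi i]
    show _ • J.toCotangent (Function.surjInv J.toCotangent_surjective i) = _
    rw [Function.surjInv_eq J.toCotangent_surjective]
    rfl

/-- the algebra map `Sym(J/J²) → D`. -/
noncomputable def theta : SymmetricAlgebra (B ⧸ J) J.Cotangent →ₐ[B ⧸ J] D :=
  SymmetricAlgebra.lift (lam J q s)

lemma theta_ι (p : J.Cotangent) : theta J q s (SymmetricAlgebra.ι _ _ p) = lam J q s p :=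
  SymmetricAlgebra.lift_ι_apply _ p

include hq hsec hs in
lemma theta_IS_le : (IS (B ⧸ J) J.Cotangent).map (theta J q s) ≤ J.map q := by
  rw [IS, Ideal.map_span, Ideal.span_le]
  rintro _ ⟨_, ⟨p, rfl⟩, rfl⟩
  show theta J q s (SymmetricAlgebra.ι _ _ p) ∈ _
  rw [theta_ι]
  obtain ⟨x, hx, -⟩ := lam_spec J q hq hsec s hs p
  rw [hx]
  exact Ideal.mem_map_of_mem q x.2

include hq hsec hs in
lemma theta_mem_pow (j : ℕ) (t : SymmetricAlgebra (B ⧸ J) J.Cotangent)
    (ht : t ∈ IS (B ⧸ J) J.Cotangent ^ j) : theta J q s t ∈ (J ^ j).map q := by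
  have h1 := Ideal.pow_right_mono (theta_IS_le J q hq hsec s hs) j
  have e1 := Ideal.map_pow (theta J q s) (IS (B ⧸ J) J.Cotangent) j
  have e2 := Ideal.map_pow q J j
  rw [← e1, ← e2] at h1
  exact h1 (Ideal.mem_map_of_mem _ ht)

end abstract


open TensorProduct Groth.Agent.Lib.Helper23

section abstract2

variable {B : Type u} [CommRing B] (J : Ideal B)
variable {D : Type u} [CommRing D] [Algebra (B ⧸ J) D] (q : B →+* D)
  (hq : Function.Surjective q)
  (hsec : ∀ b : B, q b - algebraMap (B ⧸ J) D (Ideal.Quotient.mk J b) ∈ J.map q)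
variable (s : J.Cotangent →ₗ[B ⧸ J] (J.Cotangent →₀ B ⧸ J))
  (hs : ∀ p, Finsupp.linearCombination (B ⧸ J) id (s p) = p)

omit [Algebra (B ⧸ J) D] in
lemma K_mul {i j : ℕ} {a b : D} (ha : a ∈ (J ^ i).map q) (hb : b ∈ (J ^ j).map q) :
    a * b ∈ (J ^ (i + j)).map q := by
  have := Ideal.mul_mem_mul ha hb
  rwa [← Ideal.map_mul, ← pow_add] at this

omit [Algebra (B ⧸ J) D] in
lemma K_mono {i j : ℕ} (h : i ≤ j) : (J ^ j).map q ≤ (J ^ i).map q :=
  Ideal.map_mono (Ideal.pow_le_pow_right h)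

include hq hsec hs in
lemma subclaim (n : ℕ) (y : B) (hy : y ∈ J ^ n) :
    ∃ t : SymmetricAlgebra (B ⧸ J) J.Cotangent, q y - theta J q s t ∈ (J ^ (n + 1)).map q := by
  induction n generalizing y with
  | zero =>
    refine ⟨algebraMap _ _ (Ideal.Quotient.mk J y), ?_⟩
    rw [AlgHom.commutes, zero_add, pow_one]
    exact hsec y
  | succ n ih =>
    rw [pow_succ'] at hy
    refine Submodule.mul_induction_on hy ?_ ?_
    · intro x hx y' hy'
      obtain ⟨t'', ht''⟩ := ih y' hy'
      obtain ⟨x'', hx''1, hx''2⟩ := lam_spec J q hq hsec s hs (J.toCotangent ⟨x, hx⟩)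
      refine ⟨SymmetricAlgebra.ι _ _ (J.toCotangent ⟨x, hx⟩) * t'', ?_⟩
      rw [map_mul, map_mul, theta_ι, hx''1]
      have e : q x * q y' - q x'' * theta J q s t'' =
          q x * (q y' - theta J q s t'') + q (x - x'') * theta J q s t'' := by
        rw [map_sub]; ring
      rw [e]
      have hx1 : q x ∈ (J ^ 1).map q := by
        rw [pow_one]; exact Ideal.mem_map_of_mem q hx
      have hdiff : q (x - x'') ∈ (J ^ 2).map q := by
        apply Ideal.mem_map_of_mem
        have := (Ideal.toCotangent_eq (I := J) (x := ⟨x, hx⟩) (y := x'')).mp hx''2.symm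
        exact this
      have hθ : theta J q s t'' ∈ (J ^ n).map q := by
        have h1 : q y' ∈ (J ^ n).map q := Ideal.mem_map_of_mem q hy'
        have h2 := K_mono J q (Nat.le_succ n) ht''
        have := Ideal.sub_mem _ h1 h2
        rwa [sub_sub_cancel] at this
      refine Ideal.add_mem _ ?_ ?_
      · have := K_mul J q hx1 ht''
        rwa [show 1 + (n + 1) = n + 1 + 1 by omega] at this
      · have := K_mul J q hdiff hθ
        rwa [show 2 + n = n + 1 + 1 by omega] at this
    · rintro y₁ y₂ ⟨t₁, h₁⟩ ⟨t₂, h₂⟩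
      refine ⟨t₁ + t₂, ?_⟩
      have e : q (y₁ + y₂) - theta J q s (t₁ + t₂) =
          (q y₁ - theta J q s t₁) + (q y₂ - theta J q s t₂) := by
        rw [map_add, map_add]; ring
      rw [e]
      exact Ideal.add_mem _ h₁ h₂

include hq hsec hs in
lemma approx (n : ℕ) (b : B) :
    ∃ t : SymmetricAlgebra (B ⧸ J) J.Cotangent, q b - theta J q s t ∈ (J ^ n).map q := by
  induction n with
  | zero =>
    refine ⟨0, ?_⟩
    rw [pow_zero, Ideal.one_eq_top, Ideal.map_top]
    trivial
  | succ n ih =>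
    obtain ⟨t, ht⟩ := ih
    obtain ⟨y, hy, hy'⟩ := (Ideal.mem_map_iff_of_surjective q hq).mp ht
    obtain ⟨t', ht'⟩ := subclaim J q hq hsec s hs n y hy
    refine ⟨t + t', ?_⟩
    have e : q b - theta J q s (t + t') = q y - theta J q s t' := by
      rw [hy', map_add]; ring
    rw [e]
    exact ht'

include hq hsec hs in
lemma theta_surjective (m : ℕ) (hker : RingHom.ker q = J ^ m) :
    Function.Surjective (theta J q s) := by
  intro d
  obtain ⟨b, rfl⟩ := hq d
  obtain ⟨t, ht⟩ := approx J q hq hsec s hs m b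
  refine ⟨t, ?_⟩
  rw [← hker, (Ideal.map_eq_bot_iff_le_ker q).mpr le_rfl, Ideal.mem_bot, sub_eq_zero] at ht
  exact ht.symm

end abstract2


open TensorProduct Groth.Agent.Lib.Helper23
open scoped Pointwise

section kappa

variable {B : Type u} [CommRing B] (J : Ideal B)
variable (ι' : Type u) [Fintype ι']

/-- `Sym^ι'(J/J²) → Sym(J/J²)`, `⨂ₛ p ↦ ∏ ι (p i)`. -/
noncomputable def kappa :
    SymmetricPower B ι' J.Cotangent →ₗ[B] SymmetricAlgebra (B ⧸ J) J.Cotangent :=
  SymPow.prodMap ((SymmetricAlgebra.ι (B ⧸ J) J.Cotangent).restrictScalars B)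

lemma kappa_tprod (p : ι' → J.Cotangent) :
    kappa J ι' (SymmetricPower.tprod B p) = ∏ i, SymmetricAlgebra.ι (B ⧸ J) J.Cotangent (p i) := by
  rw [kappa, SymPow.prodMap_tprod]
  rfl

lemma smul_symAlg (b : B) (t : SymmetricAlgebra (B ⧸ J) J.Cotangent) :
    b • t = algebraMap (B ⧸ J) _ (Ideal.Quotient.mk J b) * t := by
  rw [Algebra.smul_def, IsScalarTower.algebraMap_apply B (B ⧸ J), Ideal.Quotient.algebraMap_eq]

lemma kappa_mem (z : SymmetricPower B ι' J.Cotangent) :
    kappa J ι' z ∈ IS (B ⧸ J) J.Cotangent ^ Fintype.card ι' := by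
  classical
  induction z using SymPow.induction_on with
  | tprod r p =>
    rw [map_smul, kappa_tprod, smul_symAlg]
    apply Ideal.mul_mem_left
    have := prod_mem_pow' (IS (B ⧸ J) J.Cotangent) Finset.univ
      (fun i => SymmetricAlgebra.ι (B ⧸ J) J.Cotangent (p i)) (fun i _ => ι_mem_IS _)
    rwa [Finset.card_univ] at this
  | add a b ha hb =>
    rw [map_add]
    exact Ideal.add_mem _ ha hb

lemma exists_kappa (t : SymmetricAlgebra (B ⧸ J) J.Cotangent)
    (ht : t ∈ IS (B ⧸ J) J.Cotangent ^ Fintype.card ι') :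
    ∃ z : SymmetricPower B ι' J.Cotangent,
      t - kappa J ι' z ∈ IS (B ⧸ J) J.Cotangent ^ (Fintype.card ι' + 1) := by
  have hspan : IS (B ⧸ J) J.Cotangent ^ Fintype.card ι' =
      Submodule.span _ ((Set.range (SymmetricAlgebra.ι (B ⧸ J) J.Cotangent)) ^ Fintype.card ι') := by
    rw [IS, Ideal.span, Submodule.span_pow]
  rw [hspan] at ht
  induction ht using Submodule.span_induction with
  | mem t hmem =>
    rw [Set.mem_pow] at hmem
    obtain ⟨f, hf⟩ := hmem
    choose p hp using fun k => (f k).2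
    let e := Fintype.equivFin ι'
    refine ⟨SymmetricPower.tprod B (fun i => p (e i)), ?_⟩
    rw [kappa_tprod]
    have : ∏ i, SymmetricAlgebra.ι (B ⧸ J) J.Cotangent (p (e i)) = t := by
      rw [← hf, List.prod_ofFn]
      rw [Equiv.prod_comp e (fun k => SymmetricAlgebra.ι (B ⧸ J) J.Cotangent (p k))]
      apply Finset.prod_congr rfl
      intro k _
      exact hp k
    rw [this, sub_self]
    exact Ideal.zero_mem _
  | zero => exact ⟨0, by simp⟩
  | add a b _ _ iha ihb =>
    obtain ⟨za, hza⟩ := iha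
    obtain ⟨zb, hzb⟩ := ihb
    refine ⟨za + zb, ?_⟩
    have e : a + b - kappa J ι' (za + zb) = (a - kappa J ι' za) + (b - kappa J ι' zb) := by
      rw [map_add]; ring
    rw [e]
    exact Ideal.add_mem _ hza hzb
  | smul a t _ iht =>
    obtain ⟨z, hz⟩ := iht
    obtain ⟨c, hc⟩ := exists_sub_mem_IS a
    obtain ⟨b, rfl⟩ := Ideal.Quotient.mk_surjective c
    refine ⟨b • z, ?_⟩
    have e : a • t - kappa J ι' (b • z) =
        a * (t - kappa J ι' z) +
          (a - algebraMap (B ⧸ J) _ (Ideal.Quotient.mk J b)) * kappa J ι' z := by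
      rw [map_smul, smul_symAlg, smul_eq_mul]; ring
    rw [e]
    refine Ideal.add_mem _ (Ideal.mul_mem_left _ _ hz) ?_
    rw [pow_succ']
    exact Ideal.mul_mem_mul hc (kappa_mem J ι' z)

end kappa


open TensorProduct Groth.Agent.Lib.Helper23

section abstract3

variable {B : Type u} [CommRing B] (J : Ideal B)
variable {D : Type u} [CommRing D] [Algebra (B ⧸ J) D] (q : B →+* D)
  (hq : Function.Surjective q)
  (hsec : ∀ b : B, q b - algebraMap (B ⧸ J) D (Ideal.Quotient.mk J b) ∈ J.map q)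
variable (s : J.Cotangent →ₗ[B ⧸ J] (J.Cotangent →₀ B ⧸ J))
  (hs : ∀ p, Finsupp.linearCombination (B ⧸ J) id (s p) = p)
variable (ι' : Type u) [Fintype ι'] [Nonempty ι']

include hq hsec hs in
lemma theta_kappa (z : SymmetricPower B ι' J.Cotangent) :
    ∀ (y : B) (hy : y ∈ J ^ Fintype.card ι'),
      SymGr.can B J ι' z = Submodule.Quotient.mk ⟨y, hy⟩ →
      theta J q s (kappa J ι' z) - q y ∈ (J ^ (Fintype.card ι' + 1)).map q := by
  classical
  induction z using SymPow.induction_on with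
  | tprod r p =>
    intro y hy heq
    obtain ⟨x, rfl⟩ := SymGr.exists_rep B J ι' p
    rw [map_smul, SymGr.can_tprod, PP16.zetaJ, ← Submodule.Quotient.mk_smul,
      Submodule.Quotient.eq, Submodule.mem_comap] at heq
    have hmem : r * ∏ j, (x j : B) - y ∈ J ^ (Fintype.card ι' + 1) := heq
    choose x'' hx''1 hx''2 using fun j => lam_spec J q hq hsec s hs (J.toCotangent (x j))
    rw [map_smul, kappa_tprod, smul_symAlg, map_mul, AlgHom.commutes, map_prod]
    simp only [theta_ι, hx''1]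
    have e : algebraMap (B ⧸ J) D (Ideal.Quotient.mk J r) * ∏ j, q (x'' j) - q y =
        (algebraMap (B ⧸ J) D (Ideal.Quotient.mk J r) - q r) * ∏ j, q (x'' j) +
          q r * (∏ j, q (x'' j) - ∏ j, q (x j)) + q (r * ∏ j, (x j : B) - y) := by
      rw [map_sub, map_mul, map_prod]; ring
    rw [e]
    have emap : ∀ k : ℕ, (J ^ k).map q = (J.map q) ^ k := fun k => Ideal.map_pow q J k
    have h1 : algebraMap (B ⧸ J) D (Ideal.Quotient.mk J r) - q r ∈ (J ^ 1).map q := by
      rw [pow_one, ← neg_sub]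
      exact Ideal.neg_mem_iff _ |>.mpr (hsec r)
    have h2 : ∏ j, q (x'' j) ∈ (J ^ Fintype.card ι').map q := by
      rw [emap]
      have := prod_mem_pow' (J.map q) Finset.univ (fun j => q (x'' j))
        (fun j _ => Ideal.mem_map_of_mem q (x'' j).2)
      rwa [Finset.card_univ] at this
    have h3 : ∏ j, q (x'' j) - ∏ j, q (x j) ∈ (J ^ (Fintype.card ι' + 1)).map q := by
      rw [emap]
      have := prod_sub_prod_mem (J.map q) Finset.univ (fun j => q (x'' j)) (fun j => q (x j))
        (fun j _ => Ideal.mem_map_of_mem q (x j).2) (fun j _ => by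
          rw [← emap, ← map_sub]
          apply Ideal.mem_map_of_mem
          exact (Ideal.toCotangent_eq (I := J)).mp (hx''2 j))
      rwa [Finset.card_univ] at this
    refine Ideal.add_mem _ (Ideal.add_mem _ ?_ ?_) ?_
    · have := K_mul J q h1 h2
      rwa [add_comm] at this
    · exact Ideal.mul_mem_left _ _ h3
    · exact Ideal.mem_map_of_mem q hmem
  | add a b iha ihb =>
    intro y hy heq
    obtain ⟨⟨ya, hya⟩, h1⟩ := Submodule.Quotient.mk_surjective _ (SymGr.can B J ι' a)
    have hyb : y - ya ∈ J ^ Fintype.card ι' := Ideal.sub_mem _ hy hya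
    have h2 : SymGr.can B J ι' b = Submodule.Quotient.mk ⟨y - ya, hyb⟩ := by
      have : SymGr.can B J ι' b = SymGr.can B J ι' (a + b) - SymGr.can B J ι' a := by
        rw [map_add]; abel
      rw [this, heq, ← h1, ← Submodule.Quotient.mk_sub]
      rfl
    have e : theta J q s (kappa J ι' (a + b)) - q y =
        (theta J q s (kappa J ι' a) - q ya) + (theta J q s (kappa J ι' b) - q (y - ya)) := by
      rw [map_add, map_add, map_sub]; ring
    rw [e]
    exact Ideal.add_mem _ (iha ya hya h1.symm) (ihb (y - ya) hyb h2)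

end abstract3


open TensorProduct Groth.Agent.Lib.Helper23

section abstract4

variable {B : Type u} [CommRing B] (J : Ideal B)
variable {D : Type u} [CommRing D] [Algebra (B ⧸ J) D] (q : B →+* D)
  (hq : Function.Surjective q)
  (hsec : ∀ b : B, q b - algebraMap (B ⧸ J) D (Ideal.Quotient.mk J b) ∈ J.map q)
variable (s : J.Cotangent →ₗ[B ⧸ J] (J.Cotangent →₀ B ⧸ J))
  (hs : ∀ p, Finsupp.linearCombination (B ⧸ J) id (s p) = p)

include hq hsec hs in
lemma theta_inj_claim (m : ℕ) (hm : 1 ≤ m) (hker : RingHom.ker q = J ^ m)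
    (hinj : ∀ (ι' : Type u) [Fintype ι'] [Nonempty ι'], Function.Injective (SymGr.can B J ι'))
    (j : ℕ) : j ≤ m → ∀ t : SymmetricAlgebra (B ⧸ J) J.Cotangent,
      theta J q s t ∈ (J ^ j).map q → t ∈ IS (B ⧸ J) J.Cotangent ^ j := by
  induction j with
  | zero =>
    intro _ t _
    rw [pow_zero, Ideal.one_eq_top]
    trivial
  | succ j ih =>
    intro hj t ht
    have htj : t ∈ IS (B ⧸ J) J.Cotangent ^ j :=
      ih (by omega) t (K_mono J q (Nat.le_succ j) ht)
    rcases Nat.eq_zero_or_pos j with rfl | hjpos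
    · obtain ⟨c, hc⟩ := exists_sub_mem_IS t
      obtain ⟨b, rfl⟩ := Ideal.Quotient.mk_surjective c
      have h1 : theta J q s (t - algebraMap _ _ (Ideal.Quotient.mk J b)) ∈ (J ^ 1).map q :=
        theta_mem_pow J q hq hsec s hs 1 _ (by rwa [pow_one])
      rw [map_sub, AlgHom.commutes] at h1
      have h2 : algebraMap (B ⧸ J) D (Ideal.Quotient.mk J b) ∈ (J ^ 1).map q := by
        have := Ideal.sub_mem _ ht h1
        rwa [sub_sub_cancel] at this
      have h3 : q b ∈ (J ^ 1).map q := by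
        have h4 : q b - algebraMap (B ⧸ J) D (Ideal.Quotient.mk J b) ∈ (J ^ 1).map q := by
          rw [pow_one]; exact hsec b
        have := Ideal.add_mem _ h4 h2
        rwa [sub_add_cancel] at this
      obtain ⟨x, hx, hx'⟩ := (Ideal.mem_map_iff_of_surjective q hq).mp h3
      have h5 : b - x ∈ RingHom.ker q := by
        rw [RingHom.mem_ker, map_sub, hx', sub_self]
      rw [hker] at h5
      have h6 : b - x ∈ J := Ideal.pow_le_self (by omega) h5
      have hbJ : b ∈ J := by
        rw [pow_one] at hx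
        have := Ideal.add_mem _ h6 hx
        rwa [sub_add_cancel] at this
      rw [Ideal.Quotient.eq_zero_iff_mem.mpr hbJ, map_zero, sub_zero] at hc
      rw [zero_add, pow_one]
      exact hc
    · obtain ⟨ι', _, _, rfl⟩ : ∃ (ι' : Type u) (_ : Fintype ι') (_ : Nonempty ι'),
          j = Fintype.card ι' :=
        ⟨ULift (Fin j), inferInstance, ⟨⟨⟨0, hjpos⟩⟩⟩, by simp⟩
      obtain ⟨z, hz⟩ := exists_kappa J ι' t htj
      have h1 := theta_mem_pow J q hq hsec s hs _ _ hz
      rw [map_sub] at h1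
      have h2 : theta J q s (kappa J ι' z) ∈ (J ^ (Fintype.card ι' + 1)).map q := by
        have := Ideal.sub_mem _ ht h1
        rwa [sub_sub_cancel] at this
      obtain ⟨⟨y, hy⟩, hyz⟩ := Submodule.Quotient.mk_surjective _ (SymGr.can B J ι' z)
      have h3 := theta_kappa J q hq hsec s hs ι' z y hy hyz.symm
      have h4 : q y ∈ (J ^ (Fintype.card ι' + 1)).map q := by
        have := Ideal.sub_mem _ h2 h3
        rwa [sub_sub_cancel] at this
      obtain ⟨y', hy', hy''⟩ := (Ideal.mem_map_iff_of_surjective q hq).mp h4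
      have h5 : y - y' ∈ RingHom.ker q := by
        rw [RingHom.mem_ker, map_sub, hy'', sub_self]
      rw [hker] at h5
      have h6 : y ∈ J ^ (Fintype.card ι' + 1) := by
        have := Ideal.add_mem _ (Ideal.pow_le_pow_right hj h5) hy'
        rwa [sub_add_cancel] at this
      have h7 : SymGr.can B J ι' z = 0 := by
        rw [← hyz, Submodule.Quotient.mk_eq_zero, Submodule.mem_comap]
        exact h6
      have hz0 : z = 0 := by
        apply hinj ι'
        rw [h7, map_zero]
      rw [hz0, map_zero, sub_zero] at hz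
      exact hz

include hq hsec hs in
lemma ker_theta (m : ℕ) (hm : 1 ≤ m) (hker : RingHom.ker q = J ^ m)
    (hinj : ∀ (ι' : Type u) [Fintype ι'] [Nonempty ι'], Function.Injective (SymGr.can B J ι'))
    (t : SymmetricAlgebra (B ⧸ J) J.Cotangent) (ht : theta J q s t = 0) :
    t ∈ IS (B ⧸ J) J.Cotangent ^ m := by
  apply theta_inj_claim J q hq hsec s hs m hm hker hinj m le_rfl t
  rw [ht]
  exact Ideal.zero_mem _

end abstract4


open TensorProduct Groth.Agent.Lib.Helper23

instance instTowerCot {A B : Type u} [CommRing A] [CommRing B] [Algebra A B] (J : Ideal B) :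
    IsScalarTower A (B ⧸ J) J.Cotangent := ⟨fun a c p => by
  obtain ⟨b, rfl⟩ := Ideal.Quotient.mk_surjective c
  have h1 : a • (Ideal.Quotient.mk J b) = Ideal.Quotient.mk J (a • b) := rfl
  rw [h1, ← Ideal.Quotient.algebraMap_eq, algebraMap_smul, algebraMap_smul, smul_assoc]⟩

section final

variable {A B : Type u} [CommRing A] [CommRing B] [Algebra A B] (J : Ideal B)

lemma final_lift [Algebra.FormallySmooth A (B ⧸ J)] [Module.Projective (B ⧸ J) J.Cotangent]
    (hinj : ∀ (ι' : Type u) [Fintype ι'] [Nonempty ι'], Function.Injective (SymGr.can B J ι'))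
    {D : Type u} [CommRing D] [Algebra A D] [Algebra (B ⧸ J) D] [IsScalarTower A (B ⧸ J) D]
    (q : B →ₐ[A] D) (hq : Function.Surjective q)
    (hsec : ∀ b : B, q b - algebraMap (B ⧸ J) D (Ideal.Quotient.mk J b) ∈ J.map q.toRingHom)
    (m k' : ℕ) (hm : m = 2 * k') (hk' : 1 ≤ k') (hker : RingHom.ker q.toRingHom = J ^ m)
    {E : Type u} [CommRing E] [Algebra A E] (N : Ideal E) (hN : N ^ 2 = ⊥)
    (ψ : B →ₐ[A] E ⧸ N) (hψ : ∀ x ∈ J ^ k', ψ x = 0) :
    ∃ χ : B →ₐ[A] E, (Ideal.Quotient.mkₐ A N).comp χ = ψ := by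
  obtain ⟨s, hs0⟩ := Module.projective_def'.mp (inferInstance : Module.Projective (B ⧸ J) J.Cotangent)
  have hs : ∀ p, Finsupp.linearCombination (B ⧸ J) id (s p) = p := fun p =>
    congrArg (fun f => f p) hs0
  have hm1 : 1 ≤ m := by omega
  let θ : SymmetricAlgebra (B ⧸ J) J.Cotangent →ₐ[A] D :=
    (theta J q.toRingHom s).restrictScalars A
  have hθ : ∀ t, θ t = theta J q.toRingHom s t := fun t => rfl
  have hθsurj : Function.Surjective θ := theta_surjective J q.toRingHom hq hsec s hs m hker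
  have hθker : ∀ t, θ t = 0 → t ∈ IS (B ⧸ J) J.Cotangent ^ m := fun t ht =>
    ker_theta J q.toRingHom hq hsec s hs m hm1 hker hinj t ht
  haveI : Algebra.FormallySmooth A (SymmetricAlgebra (B ⧸ J) J.Cotangent) :=
    Algebra.FormallySmooth.comp A (B ⧸ J) _
  -- ψ factors through D
  have hψker : ∀ b : B, q b = 0 → ψ b = 0 := by
    intro b hb
    have : b ∈ RingHom.ker q.toRingHom := hb
    rw [hker] at this
    exact hψ b (Ideal.pow_le_pow_right (by omega) this)
  have hψ' : ∀ b b' : B, q b = q b' → ψ b = ψ b' := by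
    intro b b' h
    have := hψker (b - b') (by rw [map_sub, h, sub_self])
    rwa [map_sub, sub_eq_zero] at this
  -- the composite `g : S → E/N`
  choose bt hbt using fun t : SymmetricAlgebra (B ⧸ J) J.Cotangent => hq (θ t)
  let g : SymmetricAlgebra (B ⧸ J) J.Cotangent →ₐ[A] E ⧸ N :=
    { toFun := fun t => ψ (bt t)
      map_one' := by
        rw [← map_one ψ]
        apply hψ'
        rw [hbt, map_one, map_one]
      map_mul' := fun t t' => by
        rw [← map_mul ψ]
        apply hψ'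
        rw [hbt, map_mul, map_mul, hbt, hbt]
      map_zero' := by
        rw [← map_zero ψ]
        apply hψ'
        rw [hbt, map_zero, map_zero]
      map_add' := fun t t' => by
        rw [← map_add ψ]
        apply hψ'
        rw [hbt, map_add, map_add, hbt, hbt]
      commutes' := fun a => by
        rw [← ψ.commutes a]
        apply hψ'
        rw [hbt, AlgHom.commutes, AlgHom.commutes] }
  have hg : ∀ t b, θ t = q b → g t = ψ b := by
    intro t b h
    show ψ (bt t) = ψ b
    apply hψ'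
    rw [hbt, h]
  obtain ⟨χ, hχ⟩ := Algebra.FormallySmooth.comp_surjective A
    (SymmetricAlgebra (B ⧸ J) J.Cotangent) N hN g
  have hχ' : ∀ t, Ideal.Quotient.mk N (χ t) = g t := fun t => congrArg (fun f => f t) hχ
  -- χ kills IS^m
  have hχk : ∀ t ∈ IS (B ⧸ J) J.Cotangent ^ k', χ t ∈ N := by
    intro t ht
    rw [← Ideal.Quotient.eq_zero_iff_mem, hχ']
    have h1 := theta_mem_pow J q.toRingHom hq hsec s hs k' t ht
    obtain ⟨y, hy, hy'⟩ := (Ideal.mem_map_iff_of_surjective q.toRingHom hq).mp h1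
    rw [hg t y hy'.symm]
    exact hψ y hy
  have hχm : ∀ t ∈ IS (B ⧸ J) J.Cotangent ^ m, χ t = 0 := by
    intro t ht
    rw [hm, mul_comm, pow_mul, pow_two] at ht
    refine Submodule.mul_induction_on ht ?_ ?_
    · intro a ha b hb
      rw [map_mul]
      have := Ideal.mul_mem_mul (hχk a ha) (hχk b hb)
      rw [← pow_two, hN] at this
      exact this
    · intro a b ha hb
      rw [map_add, ha, hb, add_zero]
  -- the lift
  choose tb htb using fun b : B => hθsurj (q b)
  have hχwd : ∀ t t', θ t = θ t' → χ t = χ t' := by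
    intro t t' h
    have := hχm (t - t') (hθker _ (by rw [map_sub, h, sub_self]))
    rwa [map_sub, sub_eq_zero] at this
  refine ⟨{ toFun := fun b => χ (tb b)
            map_one' := ?_
            map_mul' := ?_
            map_zero' := ?_
            map_add' := ?_
            commutes' := ?_ }, ?_⟩
  · rw [← map_one χ]
    apply hχwd
    rw [htb, map_one, map_one]
  · intro b b'
    rw [← map_mul χ]
    apply hχwd
    rw [htb, map_mul, map_mul, htb, htb]
  · rw [← map_zero χ]
    apply hχwd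
    rw [htb, map_zero, map_zero]
  · intro b b'
    rw [← map_add χ]
    apply hχwd
    rw [htb, map_add, map_add, htb, htb]
  · intro a
    rw [← χ.commutes a]
    apply hχwd
    rw [htb, AlgHom.commutes, AlgHom.commutes]
  · ext b
    show Ideal.Quotient.mk N (χ (tb b)) = ψ b
    rw [hχ', hg (tb b) b (htb b)]

end final


open TensorProduct Groth.Agent.Lib.Helper23

section main

variable {A B : Type u} [CommRing A] [CommRing B] [Algebra A B] (J : Ideal B)

lemma exists_section_pow [Algebra.FormallySmooth A (B ⧸ J)] (m : ℕ) (hm : m ≠ 0) :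
    ∃ σ : (B ⧸ J) →ₐ[A] (B ⧸ J ^ m),
      ∀ c, Ideal.Quotient.factorₐ A (Ideal.pow_le_self hm : J ^ m ≤ J) (σ c) = c := by
  have hle : J ^ m ≤ J := Ideal.pow_le_self hm
  have hsurj : Function.Surjective (Ideal.Quotient.factorₐ A hle) :=
    Ideal.Quotient.factor_surjective hle
  have hnil : IsNilpotent (RingHom.ker (Ideal.Quotient.factorₐ A hle : B ⧸ J ^ m →+* B ⧸ J)) := by
    refine ⟨m, ?_⟩
    have hk : RingHom.ker (Ideal.Quotient.factorₐ A hle : B ⧸ J ^ m →+* B ⧸ J) =
        J.map (Ideal.Quotient.mk (J ^ m)) := Ideal.Quotient.factor_ker hle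
    rw [hk, ← Ideal.map_pow, Ideal.zero_eq_bot, Ideal.map_eq_bot_iff_le_ker, Ideal.mk_ker]
  refine ⟨Algebra.FormallySmooth.liftOfSurjective (AlgHom.id A (B ⧸ J)) _ hsurj hnil, ?_⟩
  intro c
  exact Algebra.FormallySmooth.liftOfSurjective_apply _ _ hsurj hnil c

theorem smooth_of_proj_of_inj [Algebra.FormallySmooth A (B ⧸ J)]
    (hproj : Module.Projective (B ⧸ J) J.Cotangent)
    (hinj : ∀ (ι' : Type u) [Fintype ι'] [Nonempty ι'], Function.Injective (SymGr.can B J ι')) :
    CAlgX.IsAdicFormallySmooth A B J := by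
  intro E _ _ N hN ψ hψ
  obtain ⟨k, hk⟩ := hψ
  have hk' : ∀ x ∈ J ^ (k + 1), ψ x = 0 := fun x hx =>
    hk x (Ideal.pow_le_pow_right (Nat.le_succ k) hx)
  have hm0 : 2 * (k + 1) ≠ 0 := by omega
  obtain ⟨σ, hσ⟩ := exists_section_pow (A := A) J (2 * (k + 1)) hm0
  letI algD : Algebra (B ⧸ J) (B ⧸ J ^ (2 * (k + 1))) := σ.toRingHom.toAlgebra
  haveI : IsScalarTower A (B ⧸ J) (B ⧸ J ^ (2 * (k + 1))) :=
    IsScalarTower.of_algebraMap_eq (fun a => (σ.commutes a).symm)
  have hle : J ^ (2 * (k + 1)) ≤ J := Ideal.pow_le_self hm0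
  refine final_lift J hinj (Ideal.Quotient.mkₐ A (J ^ (2 * (k + 1))))
    (Ideal.Quotient.mkₐ_surjective A _) ?_ (2 * (k + 1)) (k + 1) rfl (by omega) ?_ N hN ψ hk'
  · intro b
    have hk : RingHom.ker (Ideal.Quotient.factorₐ A hle : B ⧸ J ^ (2 * (k + 1)) →+* B ⧸ J) =
        J.map (Ideal.Quotient.mk (J ^ (2 * (k + 1)))) := Ideal.Quotient.factor_ker hle
    show Ideal.Quotient.mk (J ^ (2 * (k + 1))) b - σ (Ideal.Quotient.mk J b) ∈
      J.map (Ideal.Quotient.mk (J ^ (2 * (k + 1))))
    rw [← hk, RingHom.mem_ker, map_sub]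
    have h1 : (Ideal.Quotient.factorₐ A hle : B ⧸ J ^ (2 * (k + 1)) →+* B ⧸ J)
        (σ (Ideal.Quotient.mk J b)) = Ideal.Quotient.mk J b := hσ _
    rw [h1]
    exact sub_self _
  · exact Ideal.mk_ker

end main

section iff

variable {A B : Type u} [CommRing A] [CommRing B] [Algebra A B] (J : Ideal B)

theorem adicSmooth_iff [Algebra.FormallySmooth A (B ⧸ J)] :
    CAlgX.IsAdicFormallySmooth A B J ↔
      (Module.Projective (B ⧸ J) J.Cotangent ∧ PP16.SymGrBijective B J) := by
  rw [SymGr.symGrBijective_iff]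
  constructor
  · intro h
    exact ⟨projective_cotangent J h, fun ι _ _ => can_injective_of_smooth J h ι⟩
  · rintro ⟨hp, hi⟩
    exact smooth_of_proj_of_inj J hp hi

end iff

end Groth.Agent.Lib.Helper23.AdicSmoothSym
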