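import Groth.Agent.Lib.Helper23.PBasisField
import Groth.Agent.S4541

set_option autoImplicit false
set_option linter.style.haveILetI false
universe u

namespace Groth.Agent.Lib.Helper23.FieldSmooth

open EGA41 Groth.Agent.Lib.Helper23.PBasisField

/-- every field extension of a perfect field of characteristic `p` is formally smooth. -/
theorem formallySmooth_of_charP (p : ℕ) [Fact p.Prime] (A K : Type u) [Field A] [CharP A p]
    [PerfectRing A p] [Field K] [Algebra A K] : Algebra.FormallySmooth A K := by
  haveI : CharP K p := charP_of_injective_algebraMap (algebraMap A K).injective p
  obtain ⟨B, hB⟩ := exists_isPBasis' p A (K := K)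
  exact (Groth.Agent.S4541.result p (Subtype.val : B → K) hB).1

/-- every field extension of a field of characteristic `0` is formally smooth. -/
theorem formallySmooth_of_charZero (A K : Type*) [Field A] [CharZero A] [Field K] [Algebra A K] :
    Algebra.FormallySmooth A K := by
  obtain ⟨s, hs⟩ := exists_isTranscendenceBasis A K
  haveI : Algebra.IsAlgebraic (IntermediateField.adjoin A (Set.range (Subtype.val : s → K))) K :=
    hs.isAlgebraic_field
  haveI : Algebra.IsSeparable (IntermediateField.adjoin A (Set.range (Subtype.val : s → K))) K :=
    Algebra.IsAlgebraic.isSeparable_of_perfectField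
  exact Algebra.FormallySmooth.of_algebraicIndependent_of_isSeparable hs.1

/-- every field extension of a perfect field is formally smooth. -/
theorem formallySmooth_of_perfectField (A K : Type u) [Field A] [PerfectField A] [Field K]
    [Algebra A K] : Algebra.FormallySmooth A K := by
  obtain ⟨p, hp⟩ := CharP.exists A
  rcases CharP.char_is_prime_or_zero A p with h | h
  · haveI : Fact p.Prime := ⟨h⟩
    haveI : ExpChar A p := ExpChar.prime h
    haveI : PerfectRing A p := PerfectField.toPerfectRing p
    exact formallySmooth_of_charP p A K
  · subst h
    haveI : CharZero A := CharP.charP_to_charZero A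
    exact formallySmooth_of_charZero A K

end Groth.Agent.Lib.Helper23.FieldSmooth
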