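import Groth.Agent.Lib.Helper23.PBasis

/-!
# Derivations and ring homomorphisms out of a ring with a p-basis (EGA 0_IV 21.2)

* `mem_pPower_iff`, `ringHom_ext_of_pGenerating_of_pow`, `exists_ringHom_of_pBasis_of_inj`:
  versions of `PBasis.*` when `A → B` is injective with image containing `B^p`.
* `opModule`, `isCentral`, `tsze_pow`, `derToHom`, `homToDer`: additive derivations `B → L` as ring
  homs into `TrivSqZeroExt B L`.
* `derivation_ext_of_pGenerating`, `exists_derivation_of_pBasis`: extension of derivations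
  from `A[B^p]` to `B` with prescribed values on a p-basis.
* `derivationA_ext_of_pGenerating`, `exists_derivationA_of_pBasis`, `exists_basis_kaehler`
  (`Ω[B⁄A]` is free on the `d x_α`).
-/

set_option autoImplicit false
set_option linter.unusedSectionVars false
universe u
open EGA41

namespace Groth.Agent.Lib.Helper23.PBasisDer

open Groth.Agent.Lib.Helper23.PBasis

section Inj

variable (p : ℕ) {A B : Type u} [CommRing A] [CommRing B] [Algebra A B]

theorem mem_pPower_iff (hpow : ∀ b : B, b ^ p ∈ Set.range (algebraMap A B)) (b : B) :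
    b ∈ pPowerSubalgebra p A B ↔ b ∈ Set.range (algebraMap A B) := by
  constructor
  · intro hb
    have hle : pPowerSubalgebra p A B ≤ ⊥ := by
      apply Algebra.adjoin_le
      rintro _ ⟨c, rfl⟩
      exact Algebra.mem_bot.mpr (hpow c)
    exact Algebra.mem_bot.mp (hle hb)
  · rintro ⟨a, rfl⟩
    exact Subalgebra.algebraMap_mem _ a

theorem ringHom_ext_of_pGenerating_of_pow (hpow : ∀ b : B, b ^ p ∈ Set.range (algebraMap A B))
    {ι : Type u} (x : ι → B) (hx : IsPGenerating p A x) {E : Type*} [CommRing E]
    (w w' : B →+* E) (hA : ∀ a : A, w (algebraMap A B a) = w' (algebraMap A B a))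
    (hxi : ∀ i, w (x i) = w' (x i)) : w = w' := by
  apply ringHom_ext_of_pGenerating p x hx w w' _ hxi
  intro s
  obtain ⟨a, ha⟩ := (mem_pPower_iff p hpow s.1).mp s.2
  rw [← ha]
  exact hA a

theorem exists_ringHom_of_pBasis_of_inj [Fact p.Prime]
    (hinj : Function.Injective (algebraMap A B))
    (hpow : ∀ b : B, b ^ p ∈ Set.range (algebraMap A B))
    {ι : Type u} (x : ι → B) (hx : IsPBasis p A x) {E : Type u} [CommRing E]
    (φ : A →+* E) (z : ι → E)
    (hφ : ∀ (q : ι →₀ ℕ) (a : A), algebraMap A B a = (pMonomial x q) ^ p →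
      φ a = (pMonomial z q) ^ p) :
    ∃ w : B →+* E, (∀ a, w (algebraMap A B a) = φ a) ∧ ∀ i, w (x i) = z i := by
  have hbij : Function.Bijective (algebraMap A (pPowerSubalgebra p A B)) := by
    constructor
    · intro a a' h
      exact hinj (congrArg Subtype.val h)
    · intro s
      obtain ⟨a, ha⟩ := (mem_pPower_iff p hpow s.1).mp s.2
      exact ⟨a, Subtype.ext ha⟩
  let e : A ≃+* pPowerSubalgebra p A B := RingEquiv.ofBijective _ hbij
  let θ : pPowerSubalgebra p A B →+* E := φ.comp e.symm.toRingHom
  have hθ : ∀ a : A, θ ⟨algebraMap A B a, Subalgebra.algebraMap_mem _ a⟩ = φ a := by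
    intro a
    have : e.symm ⟨algebraMap A B a, Subalgebra.algebraMap_mem _ a⟩ = a := by
      rw [RingEquiv.symm_apply_eq]
      rfl
    show φ (e.symm _) = φ a
    rw [this]
  obtain ⟨w, hw1, hw2⟩ := exists_ringHom_of_pBasis p x hx θ z (by
    intro q
    obtain ⟨a, ha⟩ := hpow (pMonomial x q)
    have := hθ a
    simp only [ha] at this
    rw [this]
    exact hφ q a ha)
  refine ⟨w, fun a => ?_, hw2⟩
  rw [← hθ a]
  exact hw1 ⟨algebraMap A B a, Subalgebra.algebraMap_mem _ a⟩

end Inj


section Tsze

variable {B L : Type u} [CommRing B] [AddCommGroup L] [Module B L]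

/-- the right action of a commutative ring on a module (local use only). -/
@[reducible] def opModule : Module Bᵐᵒᵖ L :=
  Module.compHom L ((RingHom.id B).fromOpposite fun _ _ => mul_comm _ _)

attribute [local instance] opModule

theorem isCentral : IsCentralScalar B L := ⟨fun _ _ => rfl⟩

attribute [local instance] isCentral

open TrivSqZeroExt

theorem tsze_pow (p : ℕ) [Fact p.Prime] [CharP B p] (a : TrivSqZeroExt B L) :
    a ^ p = inl (a.fst ^ p) := by
  apply TrivSqZeroExt.ext
  · simp
  · rw [snd_pow, snd_inl]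
    have : (p : ℕ) • (a.fst ^ p.pred • a.snd) = ((p : ℕ) : B) • (a.fst ^ p.pred • a.snd) := by
      rw [Nat.cast_smul_eq_nsmul]
    rw [this, CharP.cast_eq_zero, zero_smul]

/-- the ring hom `b ↦ (b, D b)` attached to an additive derivation. -/
def derToHom (D : Derivation ℤ B L) : B →+* TrivSqZeroExt B L where
  toFun b := inl b + inr (D b)
  map_one' := by
    apply TrivSqZeroExt.ext <;> simp
  map_mul' a b := by
    apply TrivSqZeroExt.ext
    · simp
    · simp [Derivation.leibniz, add_comm]
  map_zero' := by
    apply TrivSqZeroExt.ext <;> simp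
  map_add' a b := by
    apply TrivSqZeroExt.ext <;> simp

theorem fst_derToHom (D : Derivation ℤ B L) (b : B) : (derToHom D b).fst = b := by
  simp [derToHom]

theorem snd_derToHom (D : Derivation ℤ B L) (b : B) : (derToHom D b).snd = D b := by
  simp [derToHom]

/-- the derivation attached to a ring-hom section of `fst`. -/
def homToDer (w : B →+* TrivSqZeroExt B L) (h : ∀ b, (w b).fst = b) : Derivation ℤ B L :=
  Derivation.mk' ((sndHom B L).toAddMonoidHom.comp w.toAddMonoidHom).toIntLinearMap (by
    intro a b
    show (w (a * b)).snd = a • (w b).snd + b • (w a).snd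
    rw [map_mul, snd_mul, h a, h b, op_smul_eq_smul])

theorem homToDer_apply (w : B →+* TrivSqZeroExt B L) (h : ∀ b, (w b).fst = b) (b : B) :
    homToDer w h b = (w b).snd := rfl

end Tsze


section Der

variable (p : ℕ) [Fact p.Prime] {A B : Type u} [CommRing A] [CommRing B] [Algebra A B]
  {ι : Type u} (x : ι → B) (L : Type u) [AddCommGroup L] [Module B L]

attribute [local instance] opModule isCentral

open TrivSqZeroExt

variable {L}

omit [Fact p.Prime] in
theorem derivation_ext_of_pGenerating (hx : IsPGenerating p A x) (D D' : Derivation ℤ B L)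
    (hS : ∀ s : pPowerSubalgebra p A B, D s.1 = D' s.1) (hxi : ∀ i, D (x i) = D' (x i)) :
    D = D' := by
  have : derToHom D = derToHom D' := by
    apply ringHom_ext_of_pGenerating p x hx
    · intro s
      apply TrivSqZeroExt.ext
      · rw [fst_derToHom, fst_derToHom]
      · rw [snd_derToHom, snd_derToHom, hS]
    · intro i
      apply TrivSqZeroExt.ext
      · rw [fst_derToHom, fst_derToHom]
      · rw [snd_derToHom, snd_derToHom, hxi]
  ext b
  have := congrArg (fun w => (w b).snd) this
  simpa [snd_derToHom] using this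

theorem exists_derivation_of_pBasis [CharP B p] (hx : IsPBasis p A x)
    (D₀ : pPowerSubalgebra p A B →+ L)
    (hD₀ : ∀ s t : pPowerSubalgebra p A B, D₀ (s * t) = s.1 • D₀ t + t.1 • D₀ s)
    (hD₀p : ∀ q : ι →₀ ℕ, D₀ ⟨(pMonomial x q) ^ p, pow_mem_pPowerSubalgebra p A _⟩ = 0)
    (y : ι → L) :
    ∃ D' : Derivation ℤ B L, (∀ s : pPowerSubalgebra p A B, D' s.1 = D₀ s) ∧
      ∀ i, D' (x i) = y i := by
  have hD₀1 : D₀ 1 = 0 := by
    have := hD₀ 1 1
    simp only [mul_one, OneMemClass.coe_one, one_smul] at this
    exact left_eq_add.mp this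
  let θ : pPowerSubalgebra p A B →+* TrivSqZeroExt B L :=
    { toFun := fun s => inl s.1 + inr (D₀ s)
      map_one' := by
        apply TrivSqZeroExt.ext <;> simp [hD₀1]
      map_mul' := fun s t => by
        apply TrivSqZeroExt.ext
        · simp
        · simp [hD₀, add_comm]
      map_zero' := by
        apply TrivSqZeroExt.ext <;> simp
      map_add' := fun s t => by
        apply TrivSqZeroExt.ext <;> simp }
  let z : ι → TrivSqZeroExt B L := fun i => inl (x i) + inr (y i)
  have hz : ∀ q : ι →₀ ℕ, (pMonomial z q).fst = pMonomial x q := by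
    intro q
    have := map_pMonomial (fstHom B B L : TrivSqZeroExt B L →ₐ[B] B).toRingHom z q
    simp only [AlgHom.toRingHom_eq_coe, RingHom.coe_coe, fstHom_apply] at this
    rw [this]
    congr 1
    ext i
    simp [z]
  obtain ⟨w, hw1, hw2⟩ := exists_ringHom_of_pBasis p x hx θ z (by
    intro q
    rw [tsze_pow p, hz]
    apply TrivSqZeroExt.ext
    · simp [θ]
    · simp [θ, hD₀p])
  have hfst : ∀ b, (w b).fst = b := by
    have : ((fstHom B B L : TrivSqZeroExt B L →ₐ[B] B).toRingHom.comp w) = RingHom.id B := by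
      apply ringHom_ext_of_pGenerating p x hx.2
      · intro s
        simp [hw1, θ]
      · intro i
        simp [hw2, z]
    intro b
    exact congrArg (fun f : B →+* B => f b) this
  refine ⟨homToDer w hfst, ?_, ?_⟩
  · intro s
    rw [homToDer_apply, hw1]
    simp [θ]
  · intro i
    rw [homToDer_apply, hw2]
    simp [z]

end Der


section DerA

variable (p : ℕ) [Fact p.Prime] {A B : Type u} [CommRing A] [CommRing B] [Algebra A B] [CharP B p]
  {ι : Type u} (x : ι → B) {L : Type u} [AddCommGroup L] [Module B L] [Module A L]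
  [IsScalarTower A B L]

omit [Fact p.Prime] in
theorem derivation_eq_zero_of_mem_pPower (d : Derivation A B L) (b : B)
    (hb : b ∈ pPowerSubalgebra p A B) : d b = 0 := by
  unfold pPowerSubalgebra at hb
  induction hb using Algebra.adjoin_induction with
  | mem b hb =>
    obtain ⟨c, rfl⟩ := hb
    rw [Derivation.leibniz_pow]
    have : (p : ℕ) • (c ^ (p - 1) • d c) = ((p : ℕ) : B) • (c ^ (p - 1) • d c) := by
      rw [Nat.cast_smul_eq_nsmul]
    rw [this, CharP.cast_eq_zero, zero_smul]
  | algebraMap a => exact d.map_algebraMap a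
  | add b c _ _ hb hc => rw [map_add, hb, hc, add_zero]
  | mul b c _ _ hb hc => rw [Derivation.leibniz, hb, hc, smul_zero, smul_zero, add_zero]

theorem derivationA_ext_of_pGenerating (hx : IsPGenerating p A x) (D D' : Derivation A B L)
    (hxi : ∀ i, D (x i) = D' (x i)) : D = D' := by
  have := derivation_ext_of_pGenerating p x hx (D.restrictScalars ℤ) (D'.restrictScalars ℤ)
    (fun s => by
      show D s.1 = D' s.1
      rw [derivation_eq_zero_of_mem_pPower p D s.1 s.2,
        derivation_eq_zero_of_mem_pPower p D' s.1 s.2])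
    hxi
  ext b
  exact congrArg (fun d : Derivation ℤ B L => d b) this

theorem exists_derivationA_of_pBasis (hx : IsPBasis p A x) (y : ι → L) :
    ∃ D : Derivation A B L, ∀ i, D (x i) = y i := by
  obtain ⟨D', hD'1, hD'2⟩ := exists_derivation_of_pBasis p x hx (L := L) 0
    (by intro s t; simp) (by intro q; simp) y
  refine ⟨Derivation.mk' ({ D'.toLinearMap.toAddMonoidHom with
      map_smul' := fun a b => by
        show D' (a • b) = a • D' b
        rw [Algebra.smul_def, Derivation.leibniz]
        have : D' (algebraMap A B a) = 0 :=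
          hD'1 ⟨algebraMap A B a, Subalgebra.algebraMap_mem _ a⟩
        rw [this, smul_zero, add_zero, algebraMap_smul] } : B →ₗ[A] L)
    (fun a b => D'.leibniz a b), hD'2⟩

/-- EGA 0_IV 21.2.5: the differentials of a p-basis form a basis of `Ω[B⁄A]`. -/
theorem exists_basis_kaehler (hx : IsPBasis p A x) :
    ∃ b : Module.Basis ι B (Ω[B⁄A]), ∀ i, b i = KaehlerDifferential.D A B (x i) := by
  classical
  obtain ⟨D₀, hD₀⟩ := exists_derivationA_of_pBasis p x hx (L := ι →₀ B)
    (fun i => Finsupp.single i 1)
  let ψ : Ω[B⁄A] →ₗ[B] (ι →₀ B) := D₀.liftKaehlerDifferential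
  let φ : (ι →₀ B) →ₗ[B] Ω[B⁄A] :=
    Finsupp.linearCombination B (fun i => KaehlerDifferential.D A B (x i))
  have hψ : ∀ b, ψ (KaehlerDifferential.D A B b) = D₀ b := fun b =>
    Derivation.liftKaehlerDifferential_comp_D D₀ b
  have h1 : ψ ∘ₗ φ = LinearMap.id := by
    apply Finsupp.lhom_ext'
    intro i
    apply LinearMap.ext_ring
    simp [φ, hψ, hD₀]
  have h2 : φ ∘ₗ ψ = LinearMap.id := by
    have hder : (φ ∘ₗ ψ).compDer (KaehlerDifferential.D A B) = KaehlerDifferential.D A B := by
      apply derivationA_ext_of_pGenerating p x hx.2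
      intro i
      simp [φ, hψ, hD₀]
    apply LinearMap.ext
    intro ω
    have hω : ω ∈ Submodule.span B (Set.range (KaehlerDifferential.D A B)) := by
      rw [KaehlerDifferential.span_range_derivation]; trivial
    induction hω using Submodule.span_induction with
    | mem ω hω =>
      obtain ⟨b, rfl⟩ := hω
      exact congrArg (fun d : Derivation A B (Ω[B⁄A]) => d b) hder
    | zero => simp
    | add ω₁ ω₂ _ _ h₁ h₂ => rw [map_add, h₁, h₂, map_add]
    | smul c ω _ h => rw [map_smul, h, map_smul]
  refine ⟨Module.Basis.ofRepr (LinearEquiv.ofLinear ψ φ h1 h2), fun i => ?_⟩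
  simp [Module.Basis.ofRepr, φ]

end DerA

end Groth.Agent.Lib.Helper23.PBasisDer
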