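import Mathlib
import Groth.Prelude.Def_EGA41

/-!
# p-bases of field extensions (EGA 0_IV 21.4)

Abstract theory for a field extension `K/F` of characteristic `p` with `K^p ⊆ F`:
* `linearIndependent_mul_pow` : tower lemma
* `redOn p s` : reduced exponent vectors supported in `s`
* `linearIndepOn_redOn_iff` : monomials indexed by `redOn p s` independent ↔ no `x a` (a ∈ s) lies in
  the field generated by the others
* `mem_adjoin_iff` : `F(x '' s)` is the span of the reduced monomials
* `PIndSet`, `exists_pIndSet_adjoin_eq_top` : Zorn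
Concrete: `pPowerSubfield p k K` (= `k[K^p]` as a subfield), `isPIndependent_iff`,
`isPGenerating_iff`, `isPIndependent_val_iff`, `isPGenerating_val_iff`, `exists_isPBasis`,
`exists_isPBasis'`.
-/

set_option autoImplicit false
set_option linter.unusedSectionVars false
set_option linter.deprecated false
universe u

namespace Groth.Agent.Lib.Helper23.PBasisField

open Polynomial EGA41


section Abstract

variable (p : ℕ) [Fact p.Prime] {F K : Type*} [Field F] [Field K] [Algebra F K] [CharP K p]

omit [Fact p.Prime] [CharP K p] in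
theorem isAlgebraic_of_pow (hpow : ∀ y : K, y ^ p ∈ (algebraMap F K).range) [Fact p.Prime] :
    Algebra.IsAlgebraic F K := by
  have hp : p.Prime := Fact.out
  refine ⟨fun y => ?_⟩
  obtain ⟨c, hc⟩ := hpow y
  refine ⟨X ^ p - C c, ?_, ?_⟩
  · exact (monic_X_pow_sub_C c hp.ne_zero).ne_zero
  · simp [hc]

/-- powers `1, y, …, y^(p-1)` are independent over an intermediate field not containing `y`. -/
theorem linearIndependent_pow_of_notMem (hpow : ∀ y : K, y ^ p ∈ (algebraMap F K).range)
    (E : IntermediateField F K) (y : K) (hy : y ∉ E) :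
    LinearIndependent E (fun j : Fin p => y ^ (j : ℕ)) := by
  have hp : p.Prime := Fact.out
  obtain ⟨c, hc⟩ := hpow y
  let a : E := algebraMap F E c
  have ha : (a : K) = y ^ p := hc
  have hirr : Irreducible (X ^ p - C a : E[X]) := by
    apply X_pow_sub_C_irreducible_of_prime hp
    intro b hb
    have h1 : ((b : K) - y) ^ p = 0 := by
      rw [sub_pow_char, ← ha, ← hb]
      simp
    have h2 : (b : K) = y := sub_eq_zero.mp (pow_eq_zero_iff hp.ne_zero |>.mp h1)
    exact hy (h2 ▸ b.2)
  have hmin : minpoly E y = X ^ p - C a := by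
    symm
    apply minpoly.eq_of_irreducible_of_monic hirr _ (monic_X_pow_sub_C a hp.ne_zero)
    simp [ha]
  have hdeg : (minpoly E y).natDegree = p := by
    rw [hmin, natDegree_X_pow_sub_C]
  have := linearIndependent_pow (K := E) y
  exact this.comp (Fin.cast hdeg.symm) (Fin.cast_injective _)

/-- tower lemma -/
theorem linearIndependent_mul_pow (hpow : ∀ y : K, y ^ p ∈ (algebraMap F K).range)
    (E : IntermediateField F K) {I : Type*} (b : I → K) (hbE : ∀ i, b i ∈ E)
    (hb : LinearIndependent F b) (y : K) (hy : y ∉ E) :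
    LinearIndependent F (fun q : I × Fin p => b q.1 * y ^ (q.2 : ℕ)) := by
  let b' : I → E := fun i => ⟨b i, hbE i⟩
  have hb' : LinearIndependent F b' := LinearIndependent.of_comp E.val.toLinearMap (by exact hb)
  exact linearIndependent_smul hb' (linearIndependent_pow_of_notMem p hpow E y hy)

end Abstract



section Abstract

variable (p : ℕ) {ι : Type u}

/-- reduced exponent vectors with support in `s` -/
def redOn (s : Set ι) : Set (ι →₀ ℕ) := {e | (∀ i, e i < p) ∧ (e.support : Set ι) ⊆ s}

theorem redOn_mono {s t : Set ι} (h : s ⊆ t) : redOn p s ⊆ redOn p t :=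
  fun _ he => ⟨he.1, he.2.trans h⟩

theorem redOn_univ : redOn p (Set.univ : Set ι) = {e | ∀ i, e i < p} := by
  ext e; simp [redOn]

theorem redOn_eq_iUnion (s : Set ι) :
    redOn p s = ⋃ t : {t : Finset ι // (t : Set ι) ⊆ s}, redOn p (t.1 : Set ι) := by
  ext e
  simp only [Set.mem_iUnion]
  constructor
  · intro he
    exact ⟨⟨e.support, he.2⟩, he.1, subset_rfl⟩
  · rintro ⟨t, he⟩
    exact redOn_mono p t.2 he

theorem directed_redOn (s : Set ι) :
    Directed (· ⊆ ·) (fun t : {t : Finset ι // (t : Set ι) ⊆ s} => redOn p (t.1 : Set ι)) := by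
  classical
  intro t₁ t₂
  refine ⟨⟨t₁.1 ∪ t₂.1, ?_⟩, ?_, ?_⟩
  · rw [Finset.coe_union]; exact Set.union_subset t₁.2 t₂.2
  · exact redOn_mono p (by simp)
  · exact redOn_mono p (by simp)

variable {K : Type u} [CommRing K]

theorem pMonomial_add (x : ι → K) (e e' : ι →₀ ℕ) :
    pMonomial x (e + e') = pMonomial x e * pMonomial x e' := by
  classical
  unfold pMonomial
  exact Finsupp.prod_add_index' (h := fun i n => x i ^ n) (fun _ => pow_zero _)
        (fun _ _ _ => pow_add _ _ _)

theorem pMonomial_single (x : ι → K) (a : ι) (n : ℕ) :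
    pMonomial x (Finsupp.single a n) = x a ^ n := by
  unfold pMonomial
  exact Finsupp.prod_single_index (h := fun i n => x i ^ n) (pow_zero _)

theorem pMonomial_zero (x : ι → K) : pMonomial x (0 : ι →₀ ℕ) = 1 := by
  unfold pMonomial
  exact Finsupp.prod_zero_index

theorem pMonomial_mem_of_support {S : Type*} [SetLike S K] [SubmonoidClass S K] (E : S)
    (x : ι → K) (s : Set ι) (hx : ∀ i ∈ s, x i ∈ E) (e : ι →₀ ℕ) (he : (e.support : Set ι) ⊆ s) :
    pMonomial x e ∈ E := by
  unfold pMonomial Finsupp.prod
  exact prod_mem fun i hi => pow_mem (hx i (he hi)) _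

end Abstract



section Abstract

variable (p : ℕ) [Fact p.Prime] {F : Type*} {K : Type u} [Field F] [Field K] [Algebra F K]
  [CharP K p] {ι : Type u}

theorem linearIndepOn_insert (hpow : ∀ y : K, y ^ p ∈ (algebraMap F K).range)
    (x : ι → K) (s : Set ι) (a : ι) (ha : a ∉ s)
    (hs : LinearIndepOn F (pMonomial x) (redOn p s))
    (hxa : x a ∉ IntermediateField.adjoin F (x '' s)) :
    LinearIndepOn F (pMonomial x) (redOn p (insert a s)) := by
  classical
  have hp : p.Prime := Fact.out
  let E := IntermediateField.adjoin F (x '' s)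
  have hE : ∀ i ∈ s, x i ∈ E := fun i hi => IntermediateField.subset_adjoin F _ ⟨i, hi, rfl⟩
  have h1 := linearIndependent_mul_pow p hpow E (fun e : redOn p s => pMonomial x e.1)
    (fun e => pMonomial_mem_of_support E x s hE e.1 e.2.2) hs (x a) hxa
  have hzero : ∀ e : redOn p s, e.1 a = 0 := by
    intro e
    by_contra hne
    exact ha (e.2.2 (Finsupp.mem_support_iff.mpr hne))
  let f : redOn p s × Fin p → (ι →₀ ℕ) := fun q => q.1.1 + Finsupp.single a (q.2 : ℕ)
  have hf : Function.Injective f := by
    rintro ⟨e, j⟩ ⟨e', j'⟩ h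
    have hj : (j : ℕ) = j' := by
      have := DFunLike.congr_fun h a
      simpa [f, hzero e, hzero e'] using this
    have he : e.1 = e'.1 := by
      have h' : e.1 + Finsupp.single a (j : ℕ) = e'.1 + Finsupp.single a (j' : ℕ) := h
      rw [hj] at h'
      exact add_right_cancel h'
    exact Prod.ext (Subtype.ext he) (Fin.ext hj)
  have hrange : Set.range f = redOn p (insert a s) := by
    ext e'
    constructor
    · rintro ⟨⟨e, j⟩, rfl⟩
      refine ⟨fun i => ?_, ?_⟩
      · by_cases hi : i = a
        · subst hi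
          simp [f, hzero e]
        · have : (Finsupp.single a (j : ℕ)) i = 0 := Finsupp.single_eq_of_ne hi
          simp only [f, Finsupp.add_apply, this, add_zero]
          exact e.2.1 i
      · intro i hi
        rcases Finset.mem_union.mp (Finsupp.support_add hi) with h | h
        · exact Set.mem_insert_of_mem _ (e.2.2 h)
        · have h' := Finsupp.support_single_subset h
          rw [Finset.mem_singleton] at h'
          subst h'
          exact Set.mem_insert _ _
    · intro he'
      refine ⟨⟨⟨e'.erase a, ?_, ?_⟩, ⟨e' a, he'.1 a⟩⟩, ?_⟩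
      · intro i
        rw [Finsupp.erase_apply]
        split_ifs
        · exact hp.pos
        · exact he'.1 i
      · intro i hi
        rw [Finsupp.support_erase, Finset.coe_erase] at hi
        rcases he'.2 hi.1 with h | h
        · exact absurd h hi.2
        · exact h
      · exact Finsupp.erase_add_single a e'
  rw [← hrange, linearIndepOn_range_iff hf]
  convert h1 using 1
  ext ⟨e, j⟩
  simp [f, pMonomial_add, pMonomial_single]

theorem linearIndepOn_redOn_finset (hpow : ∀ y : K, y ^ p ∈ (algebraMap F K).range)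
    (x : ι → K) (t : Finset ι)
    (hx : ∀ a ∈ t, x a ∉ IntermediateField.adjoin F (x '' ((t : Set ι) \ {a}))) :
    LinearIndepOn F (pMonomial x) (redOn p (t : Set ι)) := by
  classical
  induction t using Finset.induction_on with
  | empty =>
    have h0 : redOn p ((∅ : Finset ι) : Set ι) = {0} := by
      ext e
      simp only [redOn, Finset.coe_empty, Set.subset_empty_iff, Finset.coe_eq_empty,
        Finsupp.support_eq_empty, Set.mem_setOf_eq, Set.mem_singleton_iff]
      constructor
      · exact fun h => h.2
      · rintro rfl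
        exact ⟨fun i => (Fact.out : p.Prime).pos, rfl⟩
    rw [h0, linearIndepOn_singleton_iff, pMonomial_zero]
    exact one_ne_zero
  | insert a t hat ih =>
    rw [Finset.coe_insert]
    apply linearIndepOn_insert p hpow x _ a (by simpa using hat)
    · apply ih
      intro b hb hmem
      apply hx b (Finset.mem_insert_of_mem hb)
      refine IntermediateField.adjoin.mono F _ _ (Set.image_mono ?_) hmem
      rw [Finset.coe_insert]
      exact Set.diff_subset_diff_left (Set.subset_insert _ _)
    · have := hx a (Finset.mem_insert_self a t)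
      rwa [Finset.coe_insert, Set.insert_diff_self_of_notMem (by simpa using hat)] at this

theorem linearIndepOn_redOn (hpow : ∀ y : K, y ^ p ∈ (algebraMap F K).range)
    (x : ι → K) (s : Set ι)
    (hx : ∀ a ∈ s, x a ∉ IntermediateField.adjoin F (x '' (s \ {a}))) :
    LinearIndepOn F (pMonomial x) (redOn p s) := by
  rw [redOn_eq_iUnion]
  apply linearIndepOn_iUnion_of_directed (directed_redOn p s)
  rintro ⟨t, ht⟩
  apply linearIndepOn_redOn_finset p hpow x t
  intro a ha hmem
  apply hx a (ht ha)
  exact IntermediateField.adjoin.mono F _ _ (Set.image_mono (Set.diff_subset_diff_left ht)) hmem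

end Abstract



section Abstract

variable (p : ℕ) [Fact p.Prime] {F : Type*} {K : Type u} [Field F] [Field K] [Algebra F K]
  {ι : Type u}

theorem mul_pMonomial_mem (hpow : ∀ y : K, y ^ p ∈ (algebraMap F K).range)
    (x : ι → K) (s : Set ι) (α : ι) (hα : α ∈ s) (e : ι →₀ ℕ) (he : e ∈ redOn p s) :
    x α * pMonomial x e ∈ Submodule.span F (pMonomial x '' redOn p s) := by
  classical
  have hp : p.Prime := Fact.out
  rcases lt_or_ge (e α + 1) p with h | h
  · have he' : e + Finsupp.single α 1 ∈ redOn p s := by
      refine ⟨fun i => ?_, ?_⟩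
      · rw [Finsupp.add_apply, Finsupp.single_apply]
        split_ifs with hi
        · subst hi; exact h
        · rw [add_zero]; exact he.1 i
      · intro i hi
        rcases Finset.mem_union.mp (Finsupp.support_add hi) with h | h
        · exact he.2 h
        · have h' := Finsupp.support_single_subset h
          rw [Finset.mem_singleton] at h'
          subst h'
          exact hα
    have : pMonomial x (e + Finsupp.single α 1) = x α * pMonomial x e := by
      rw [pMonomial_add, pMonomial_single, pow_one, mul_comm]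
    rw [← this]
    exact Submodule.subset_span ⟨_, he', rfl⟩
  · have heα : e α + 1 = p := le_antisymm (he.1 α) h
    have hsupp : α ∈ e.support := by
      rw [Finsupp.mem_support_iff]
      have := hp.two_le
      omega
    have he'' : e.erase α ∈ redOn p s := by
      refine ⟨fun i => ?_, ?_⟩
      · rw [Finsupp.erase_apply]
        split_ifs
        · exact hp.pos
        · exact he.1 i
      · intro i hi
        rw [Finsupp.support_erase, Finset.coe_erase] at hi
        exact he.2 hi.1
    have h1 : pMonomial x e = x α ^ (e α) * pMonomial x (e.erase α) := by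
      unfold pMonomial
      exact (Finsupp.mul_prod_erase e α (fun i n => x i ^ n) hsupp).symm
    obtain ⟨c, hc⟩ := hpow (x α)
    have h2 : x α * pMonomial x e = c • pMonomial x (e.erase α) := by
      rw [h1, ← mul_assoc, ← pow_succ', heα, Algebra.smul_def, hc]
    rw [h2]
    exact Submodule.smul_mem _ _ (Submodule.subset_span ⟨_, he'', rfl⟩)

theorem mul_mem_span (hpow : ∀ y : K, y ^ p ∈ (algebraMap F K).range)
    (x : ι → K) (s : Set ι) (b : K) (hb : b ∈ Algebra.adjoin F (x '' s))
    (n : K) (hn : n ∈ Submodule.span F (pMonomial x '' redOn p s)) :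
    b * n ∈ Submodule.span F (pMonomial x '' redOn p s) := by
  induction hb using Algebra.adjoin_induction generalizing n with
  | mem b hb =>
    obtain ⟨α, hα, rfl⟩ := hb
    induction hn using Submodule.span_induction with
    | mem n hn =>
      obtain ⟨e, he, rfl⟩ := hn
      exact mul_pMonomial_mem p hpow x s α hα e he
    | zero => rw [mul_zero]; exact Submodule.zero_mem _
    | add n m _ _ hn hm => rw [mul_add]; exact Submodule.add_mem _ hn hm
    | smul a n _ hn =>
      rw [mul_smul_comm]
      exact Submodule.smul_mem _ _ hn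
  | algebraMap a =>
    rw [← Algebra.smul_def]
    exact Submodule.smul_mem _ _ hn
  | add b c _ _ hb hc => rw [add_mul]; exact Submodule.add_mem _ (hb n hn) (hc n hn)
  | mul b c _ _ hb hc => rw [mul_assoc]; exact hb _ (hc n hn)

theorem zero_mem_redOn (s : Set ι) : (0 : ι →₀ ℕ) ∈ redOn p s :=
  ⟨fun _ => (Fact.out : p.Prime).pos, by simp⟩

theorem adjoin_le_span (hpow : ∀ y : K, y ^ p ∈ (algebraMap F K).range)
    (x : ι → K) (s : Set ι) (b : K) (hb : b ∈ IntermediateField.adjoin F (x '' s)) :
    b ∈ Submodule.span F (pMonomial x '' redOn p s) := by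
  have halg : Algebra.IsAlgebraic F K := isAlgebraic_of_pow p hpow
  have hb' : b ∈ Algebra.adjoin F (x '' s) := by
    rw [← IntermediateField.adjoin_toSubalgebra]
    exact hb
  have h1 : (1 : K) ∈ Submodule.span F (pMonomial x '' redOn p s) := by
    rw [← pMonomial_zero x]
    exact Submodule.subset_span ⟨0, zero_mem_redOn p s, rfl⟩
  have := mul_mem_span p hpow x s b hb' 1 h1
  rwa [mul_one] at this

theorem span_le_adjoin (x : ι → K) (s : Set ι) (b : K)
    (hb : b ∈ Submodule.span F (pMonomial x '' redOn p s)) :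
    b ∈ IntermediateField.adjoin F (x '' s) := by
  have hle : Submodule.span F (pMonomial x '' redOn p s)
      ≤ Subalgebra.toSubmodule (IntermediateField.adjoin F (x '' s)).toSubalgebra := by
    rw [Submodule.span_le]
    rintro _ ⟨e, he, rfl⟩
    exact pMonomial_mem_of_support (IntermediateField.adjoin F (x '' s)) x s
      (fun i hi => IntermediateField.subset_adjoin F _ ⟨i, hi, rfl⟩) e he.2
  exact hle hb

/-- the field generated by `x '' s` is the span of the reduced monomials. -/
theorem mem_adjoin_iff (hpow : ∀ y : K, y ^ p ∈ (algebraMap F K).range)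
    (x : ι → K) (s : Set ι) (b : K) :
    b ∈ IntermediateField.adjoin F (x '' s) ↔ b ∈ Submodule.span F (pMonomial x '' redOn p s) :=
  ⟨adjoin_le_span p hpow x s b, span_le_adjoin p x s b⟩

theorem notMem_adjoin_of_linearIndepOn (hpow : ∀ y : K, y ^ p ∈ (algebraMap F K).range)
    (x : ι → K) (s : Set ι) (hs : LinearIndepOn F (pMonomial x) (redOn p s))
    (a : ι) (ha : a ∈ s) : x a ∉ IntermediateField.adjoin F (x '' (s \ {a})) := by
  classical
  have hp : p.Prime := Fact.out
  rw [mem_adjoin_iff p hpow]
  have hs' : LinearIndepOn F (pMonomial x) (redOn p (s \ {a})) :=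
    hs.mono (redOn_mono p Set.diff_subset)
  have hsingle : Finsupp.single a 1 ∈ redOn p s := by
    refine ⟨fun i => ?_, ?_⟩
    · rw [Finsupp.single_apply]
      split_ifs
      · exact hp.one_lt
      · exact hp.pos
    · intro i hi
      have h' := Finsupp.support_single_subset hi
      rw [Finset.mem_singleton] at h'
      subst h'
      exact ha
  have := (hs'.notMem_span_iff (a := Finsupp.single a 1)).mpr ⟨?_, ?_⟩
  · rwa [pMonomial_single, pow_one] at this
  · apply hs.mono
    rw [Set.insert_subset_iff]
    exact ⟨hsingle, redOn_mono p Set.diff_subset⟩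
  · intro h
    have : a ∈ ((Finsupp.single a 1).support : Set ι) := by
      simp
    have := h.2 this
    exact this.2 rfl

/-- p-independence on a set of indices ⇔ no element is generated by the others. -/
theorem linearIndepOn_redOn_iff [CharP K p] (hpow : ∀ y : K, y ^ p ∈ (algebraMap F K).range)
    (x : ι → K) (s : Set ι) :
    LinearIndepOn F (pMonomial x) (redOn p s) ↔
      ∀ a ∈ s, x a ∉ IntermediateField.adjoin F (x '' (s \ {a})) :=
  ⟨fun hs a ha => notMem_adjoin_of_linearIndepOn p hpow x s hs a ha, linearIndepOn_redOn p hpow x s⟩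

end Abstract



section Abstract

variable (p : ℕ) [Fact p.Prime] (F : Type*) {K : Type u} [Field F] [Field K] [Algebra F K]

/-- set-level p-independence: no element lies in the field generated by the others. -/
def PIndSet (T : Set K) : Prop := ∀ a ∈ T, a ∉ IntermediateField.adjoin F (T \ {a})

variable {F}

theorem pIndSet_iff_linearIndepOn [CharP K p] (hpow : ∀ y : K, y ^ p ∈ (algebraMap F K).range)
    (T : Set K) : PIndSet F T ↔ LinearIndepOn F (pMonomial (id : K → K)) (redOn p T) := by
  rw [linearIndepOn_redOn_iff p hpow]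
  simp only [id, Set.image_id']
  rfl

theorem pIndSet_insert [CharP K p] (hpow : ∀ y : K, y ^ p ∈ (algebraMap F K).range)
    (T : Set K) (hT : PIndSet F T) (s : K) (hs : s ∉ IntermediateField.adjoin F T) :
    PIndSet F (insert s T) := by
  rw [pIndSet_iff_linearIndepOn p hpow] at hT ⊢
  apply linearIndepOn_insert p hpow id T s (fun h => hs (IntermediateField.subset_adjoin F T h)) hT
  simpa using hs

theorem pIndSet_sUnion (c : Set (Set K)) (hc : IsChain (· ⊆ ·) c) (hne : c.Nonempty)
    (h : ∀ T ∈ c, PIndSet F T) : PIndSet F (⋃₀ c) := by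
  classical
  rintro a ⟨T₁, hT₁, haT₁⟩ hmem
  obtain ⟨U, hU, haU⟩ := IntermediateField.exists_finset_of_mem_adjoin hmem
  obtain ⟨T₂, hT₂, hUT₂⟩ := hc.directedOn.exists_mem_subset_of_finite_of_subset_sUnion hne
    U.finite_toSet (hU.trans Set.diff_subset)
  obtain ⟨T₃, hT₃, h13, h23⟩ := hc.directedOn T₁ hT₁ T₂ hT₂
  apply h T₃ hT₃ a (h13 haT₁)
  refine IntermediateField.adjoin.mono F _ _ ?_ haU
  intro u hu
  exact ⟨h23 (hUT₂ hu), (hU hu).2⟩

/-- **Existence of p-bases** (abstract form): between a p-independent set `L` and a generating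
set `S ⊇ L` there is a p-independent generating set. -/
theorem exists_pIndSet_adjoin_eq_top [CharP K p]
    (hpow : ∀ y : K, y ^ p ∈ (algebraMap F K).range)
    (L S : Set K) (hLS : L ⊆ S) (hL : PIndSet F L) (hS : IntermediateField.adjoin F S = ⊤) :
    ∃ B : Set K, L ⊆ B ∧ B ⊆ S ∧ PIndSet F B ∧ IntermediateField.adjoin F B = ⊤ := by
  have hchain : ∀ c ⊆ {T | T ⊆ S ∧ PIndSet F T}, IsChain (· ⊆ ·) c → c.Nonempty →
      ∃ ub ∈ {T | T ⊆ S ∧ PIndSet F T}, ∀ s ∈ c, s ⊆ ub := by
    intro c hcS hc hne
    refine ⟨⋃₀ c, ⟨Set.sUnion_subset fun T hT => (hcS hT).1, ?_⟩,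
      fun T hT => Set.subset_sUnion_of_mem hT⟩
    exact pIndSet_sUnion c hc hne fun T hT => (hcS hT).2
  obtain ⟨B, hLB, hB⟩ := zorn_subset_nonempty {T | T ⊆ S ∧ PIndSet F T} hchain L ⟨hLS, hL⟩
  refine ⟨B, hLB, hB.prop.1, hB.prop.2, ?_⟩
  rw [eq_top_iff, ← hS]
  apply IntermediateField.adjoin_le_iff.mpr
  intro s hs
  by_contra hsB
  have h1 : insert s B ∈ {T | T ⊆ S ∧ PIndSet F T} :=
    ⟨Set.insert_subset hs hB.prop.1, pIndSet_insert p hpow B hB.prop.2 s hsB⟩
  have h2 : insert s B ⊆ B := hB.le_of_ge h1 (Set.subset_insert _ _)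
  exact hsB (IntermediateField.subset_adjoin F B (h2 (Set.mem_insert _ _)))

end Abstract



section Bridge

theorem linearIndependent_iff_of_ringEquiv {R S M ι : Type*} [Ring R] [Ring S] [AddCommGroup M]
    [Module R M] [Module S M] (e : R ≃+* S) (he : ∀ (r : R) (m : M), e r • m = r • m)
    (v : ι → M) : LinearIndependent R v ↔ LinearIndependent S v := by
  constructor
  · intro h
    rw [linearIndependent_iff'] at h ⊢
    intro s g hg i hi
    have := h s (fun i => e.symm (g i)) (by
      rw [← hg]
      refine Finset.sum_congr rfl fun j _ => ?_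
      rw [← he, e.apply_symm_apply]) i hi
    simpa using this
  · intro h
    rw [linearIndependent_iff'] at h ⊢
    intro s g hg i hi
    have := h s (fun i => e (g i)) (by
      rw [← hg]
      refine Finset.sum_congr rfl fun j _ => ?_
      rw [he]) i hi
    simpa using this

theorem span_coe_eq_of_ringEquiv {R S M : Type*} [Ring R] [Ring S] [AddCommGroup M]
    [Module R M] [Module S M] (e : R ≃+* S) (he : ∀ (r : R) (m : M), e r • m = r • m)
    (s : Set M) : (Submodule.span R s : Set M) = (Submodule.span S s : Set M) := by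
  ext m
  constructor
  · intro hm
    induction hm using Submodule.span_induction with
    | mem m hm => exact Submodule.subset_span hm
    | zero => exact Submodule.zero_mem _
    | add a b _ _ ha hb => exact Submodule.add_mem _ ha hb
    | smul r a _ ha => rw [← he]; exact Submodule.smul_mem _ _ ha
  · intro hm
    induction hm using Submodule.span_induction with
    | mem m hm => exact Submodule.subset_span hm
    | zero => exact Submodule.zero_mem _
    | add a b _ _ ha hb => exact Submodule.add_mem _ ha hb
    | smul r a _ ha =>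
      have : r • a = e.symm r • a := by rw [← he, e.apply_symm_apply]
      rw [this]; exact Submodule.smul_mem _ _ ha

theorem span_eq_top_iff_of_ringEquiv {R S M : Type*} [Ring R] [Ring S] [AddCommGroup M]
    [Module R M] [Module S M] (e : R ≃+* S) (he : ∀ (r : R) (m : M), e r • m = r • m)
    (s : Set M) : Submodule.span R s = ⊤ ↔ Submodule.span S s = ⊤ := by
  rw [← SetLike.coe_set_eq, ← SetLike.coe_set_eq (p := Submodule.span S s),
    span_coe_eq_of_ringEquiv e he]
  rfl

end Bridge

section Concrete

variable (p : ℕ) [Fact p.Prime] (k : Type u) (K : Type u) [CommRing k] [Field K] [Algebra k K]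

theorem inv_mem_pPower (t : K) (ht : t ∈ pPowerSubalgebra p k K) :
    t⁻¹ ∈ pPowerSubalgebra p k K := by
  have hp : p.Prime := Fact.out
  by_cases h0 : t = 0
  · rw [h0, inv_zero]; exact zero_mem _
  have : t⁻¹ = t ^ (p - 1) * (t⁻¹) ^ p := by
    have h1 : t ^ (p - 1) * t = t ^ p := by rw [← pow_succ, Nat.sub_add_cancel hp.one_le]
    rw [inv_pow, ← h1, mul_inv, ← mul_assoc, mul_inv_cancel₀ (pow_ne_zero _ h0), one_mul]
  rw [this]
  exact mul_mem (pow_mem ht _) (Algebra.subset_adjoin ⟨t⁻¹, rfl⟩)

/-- `k[K^p]` as a subfield of `K`. -/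
def pPowerSubfield : Subfield K :=
  { (pPowerSubalgebra p k K).toSubring with inv_mem' := inv_mem_pPower p k K }

/-- the identity between the two incarnations of `k[K^p]`. -/
def eqv : ↥(pPowerSubalgebra p k K) ≃+* ↥(pPowerSubfield p k K) where
  toFun t := ⟨t.1, t.2⟩
  invFun t := ⟨t.1, t.2⟩
  left_inv _ := rfl
  right_inv _ := rfl
  map_mul' _ _ := rfl
  map_add' _ _ := rfl

theorem eqv_smul (r : ↥(pPowerSubalgebra p k K)) (m : K) : eqv p k K r • m = r • m := rfl

theorem hpow (y : K) : y ^ p ∈ (algebraMap (pPowerSubfield p k K) K).range :=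
  ⟨⟨y ^ p, Algebra.subset_adjoin ⟨y, rfl⟩⟩, rfl⟩

variable {K} {ι : Type u}

theorem isPIndependent_iff_linearIndepOn (x : ι → K) :
    IsPIndependent p k x ↔
      LinearIndepOn (pPowerSubfield p k K) (pMonomial x) (redOn p Set.univ) := by
  unfold IsPIndependent
  rw [linearIndependent_iff_of_ringEquiv (eqv p k K) (eqv_smul p k K), redOn_univ]
  rfl

theorem isPIndependent_iff [CharP K p] (x : ι → K) :
    IsPIndependent p k x ↔
      ∀ a, x a ∉ IntermediateField.adjoin (pPowerSubfield p k K) (x '' {b | b ≠ a}) := by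
  rw [isPIndependent_iff_linearIndepOn, linearIndepOn_redOn_iff p (hpow p k K)]
  have : ∀ a : ι, (Set.univ \ {a} : Set ι) = {b | b ≠ a} := by
    intro a; ext b; simp
  simp only [Set.mem_univ, forall_true_left, this]

theorem isPGenerating_iff (x : ι → K) :
    IsPGenerating p k x ↔
      IntermediateField.adjoin (pPowerSubfield p k K) (Set.range x) = ⊤ := by
  unfold IsPGenerating
  rw [span_eq_top_iff_of_ringEquiv (eqv p k K) (eqv_smul p k K)]
  have hr : (Set.range fun e : {e : ι →₀ ℕ // ∀ i, e i < p} => pMonomial x e.1)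
      = pMonomial x '' redOn p Set.univ := by
    rw [redOn_univ]
    ext m
    constructor
    · rintro ⟨e, rfl⟩; exact ⟨e.1, e.2, rfl⟩
    · rintro ⟨e, he, rfl⟩; exact ⟨⟨e, he⟩, rfl⟩
  rw [hr, ← Set.image_univ, eq_top_iff, eq_top_iff]
  constructor
  · intro h m _
    exact span_le_adjoin p x _ m (h trivial)
  · intro h m _
    exact adjoin_le_span p (hpow p k K) x _ m (h trivial)

theorem isPIndependent_val_iff [CharP K p] (T : Set K) :
    IsPIndependent p k (Subtype.val : T → K) ↔ PIndSet (pPowerSubfield p k K) T := by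
  rw [isPIndependent_iff]
  have : ∀ a : T, (Subtype.val '' {b : T | b ≠ a}) = T \ {a.1} := by
    intro a
    ext m
    constructor
    · rintro ⟨b, hb, rfl⟩
      exact ⟨b.2, fun h => hb (Subtype.ext h)⟩
    · rintro ⟨hm, hma⟩
      exact ⟨⟨m, hm⟩, fun h => hma (congrArg Subtype.val h), rfl⟩
  simp only [this]
  constructor
  · intro h a ha; exact h ⟨a, ha⟩
  · intro h a; exact h a.1 a.2

theorem isPGenerating_val_iff (T : Set K) :
    IsPGenerating p k (Subtype.val : T → K) ↔
      IntermediateField.adjoin (pPowerSubfield p k K) T = ⊤ := by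
  rw [isPGenerating_iff, Subtype.range_coe]

/-- **Existence of p-bases** (EGA 0_IV 21.4.2). -/
theorem exists_isPBasis [CharP K p] (S L : Set K) (hLS : L ⊆ S)
    (hS : IsPGenerating p k (Subtype.val : S → K))
    (hL : IsPIndependent p k (Subtype.val : L → K)) :
    ∃ B : Set K, L ⊆ B ∧ B ⊆ S ∧ IsPBasis p k (Subtype.val : B → K) := by
  rw [isPGenerating_val_iff] at hS
  rw [isPIndependent_val_iff] at hL
  obtain ⟨B, hLB, hBS, hB1, hB2⟩ :=
    exists_pIndSet_adjoin_eq_top p (hpow p k K) L S hLS hL hS
  exact ⟨B, hLB, hBS, (isPIndependent_val_iff p k B).mpr hB1, (isPGenerating_val_iff p k B).mpr hB2⟩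

theorem exists_isPBasis' [CharP K p] :
    ∃ B : Set K, IsPBasis p k (Subtype.val : B → K) := by
  obtain ⟨B, -, -, hB⟩ := exists_isPBasis p k (Set.univ : Set K) ∅ (Set.empty_subset _)
    ((isPGenerating_val_iff p k _).mpr (by
      rw [eq_top_iff]; intro m _; exact IntermediateField.subset_adjoin _ _ (Set.mem_univ m)))
    ((isPIndependent_val_iff p k _).mpr (fun a ha => absurd ha (Set.notMem_empty a)))
  exact ⟨B, hB⟩

end Concrete

end Groth.Agent.Lib.Helper23.PBasisField
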