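import Mathlib

/-!
Quotients A[T_1..T_r]/(G_1(T_1), …, G_r(T_r)) by one-variable polynomials in separate variables.
ideal A G, Quot A G, t G i (class of T_i), aeval_t, lift (universal property), lift_t, algHom_ext, tail G (the remaining polynomials over AdjoinRoot (G 0)),
equivTail G : Quot A G ≃ₐ[A] Quot (AdjoinRoot (G 0)) (tail G) (peeling off the first variable; toTail_t_zero, toTail_t_succ), equivZero (r = 0),
free_and_finrank (monic G_i: free of rank ∏ deg G_i).
-/

set_option autoImplicit false
universe u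
open Polynomial

namespace Groth.Agent.Lib.Helper23.SepVar


noncomputable section

section Def

variable (A : Type u) [CommRing A]

/-- the ideal generated by one-variable polynomials in separate variables. -/
def ideal {r : ℕ} (G : Fin r → A[X]) : Ideal (MvPolynomial (Fin r) A) :=
  Ideal.span (Set.range fun i => Polynomial.aeval (MvPolynomial.X i : MvPolynomial (Fin r) A) (G i))

/-- the quotient `A[T_1..T_r]/(G_1(T_1), …, G_r(T_r))`. -/
abbrev Quot {r : ℕ} (G : Fin r → A[X]) : Type u := MvPolynomial (Fin r) A ⧸ ideal A G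

variable {A}

/-- the remaining polynomials over the ring obtained by adjoining a root of the first one. -/
def tail {r : ℕ} (G : Fin (r + 1) → A[X]) : Fin r → (AdjoinRoot (G 0))[X] :=
  fun i => (G i.succ).map (AdjoinRoot.of (G 0))

/-- the class of the variable `T_i`. -/
def t {r : ℕ} (G : Fin r → A[X]) (i : Fin r) : Quot A G :=
  Ideal.Quotient.mk _ (MvPolynomial.X i)

theorem aeval_t {r : ℕ} (G : Fin r → A[X]) (i : Fin r) : Polynomial.aeval (t G i) (G i) = 0 := by
  have h1 : Polynomial.aeval (t G i) (G i) =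
      Ideal.Quotient.mkₐ A (ideal A G) (Polynomial.aeval (MvPolynomial.X i) (G i)) := by
    rw [← Polynomial.aeval_algHom_apply]
    rfl
  rw [h1]
  exact Ideal.Quotient.eq_zero_iff_mem.mpr (Ideal.subset_span ⟨i, rfl⟩)

/-- universal property of the quotient. -/
def lift {r : ℕ} (G : Fin r → A[X]) {C : Type u} [CommRing C] [Algebra A C] (c : Fin r → C)
    (hc : ∀ i, Polynomial.aeval (c i) (G i) = 0) : Quot A G →ₐ[A] C :=
  Ideal.Quotient.liftₐ (ideal A G) (MvPolynomial.aeval c) (by
    intro x hx
    refine Submodule.span_induction ?_ ?_ ?_ ?_ hx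
    · rintro _ ⟨i, rfl⟩
      rw [← Polynomial.aeval_algHom_apply, MvPolynomial.aeval_X]
      exact hc i
    · exact map_zero _
    · intro x y _ _ hx hy
      rw [map_add, hx, hy, add_zero]
    · intro a x _ hx
      rw [smul_eq_mul, map_mul, hx, mul_zero])

theorem lift_t {r : ℕ} (G : Fin r → A[X]) {C : Type u} [CommRing C] [Algebra A C] (c : Fin r → C)
    (hc : ∀ i, Polynomial.aeval (c i) (G i) = 0) (i : Fin r) : lift G c hc (t G i) = c i := by
  show Ideal.Quotient.liftₐ (ideal A G) (MvPolynomial.aeval c) _ (Ideal.Quotient.mk _ _) = _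
  rw [Ideal.Quotient.liftₐ_apply, Ideal.Quotient.lift_mk]
  simp

theorem algHom_ext {r : ℕ} (G : Fin r → A[X]) {C : Type u} [CommRing C] [Algebra A C]
    (φ ψ : Quot A G →ₐ[A] C) (h : ∀ i, φ (t G i) = ψ (t G i)) : φ = ψ := by
  apply Ideal.Quotient.algHom_ext
  apply MvPolynomial.algHom_ext
  intro i
  exact h i

end Def

end



noncomputable section

section Equiv

variable {A : Type u} [CommRing A] {r : ℕ} (G : Fin (r + 1) → A[X])

theorem aeval_tail (i : Fin r) (C : Type u) [CommRing C] [Algebra A C] [Algebra (AdjoinRoot (G 0)) C]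
    [IsScalarTower A (AdjoinRoot (G 0)) C] (x : C) :
    Polynomial.aeval x (tail G i) = Polynomial.aeval x (G i.succ) :=
  Polynomial.aeval_map_algebraMap (AdjoinRoot (G 0)) x (G i.succ)

/-- forward map. -/
def toTail : Quot A G →ₐ[A] Quot (AdjoinRoot (G 0)) (tail G) :=
  lift G (Fin.cons (algebraMap (AdjoinRoot (G 0)) (Quot (AdjoinRoot (G 0)) (tail G))
    (AdjoinRoot.root (G 0))) (fun i => t (tail G) i)) (by
    intro i
    refine Fin.cases ?_ (fun j => ?_) i
    · rw [Fin.cons_zero, Polynomial.aeval_algebraMap_apply, AdjoinRoot.aeval_eq,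
        AdjoinRoot.mk_self, map_zero]
    · rw [Fin.cons_succ, ← aeval_tail G j]
      exact aeval_t (tail G) j)

theorem toTail_t_zero : toTail G (t G 0) =
    algebraMap (AdjoinRoot (G 0)) (Quot (AdjoinRoot (G 0)) (tail G)) (AdjoinRoot.root (G 0)) := by
  rw [toTail, lift_t, Fin.cons_zero]

theorem toTail_t_succ (i : Fin r) : toTail G (t G i.succ) = t (tail G) i := by
  rw [toTail, lift_t, Fin.cons_succ]

/-- the root of the first polynomial. -/
def psi1 : AdjoinRoot (G 0) →ₐ[A] Quot A G :=
  AdjoinRoot.liftAlgHom (G 0) (Algebra.ofId A (Quot A G)) (t G 0) (aeval_t G 0)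

theorem psi1_root : psi1 G (AdjoinRoot.root (G 0)) = t G 0 := by
  simp [psi1]

theorem psi1_of (a : A) : psi1 G (AdjoinRoot.of (G 0) a) = algebraMap A (Quot A G) a := by
  simp [psi1]

def psi0 : MvPolynomial (Fin r) (AdjoinRoot (G 0)) →+* Quot A G :=
  MvPolynomial.eval₂Hom (psi1 G : AdjoinRoot (G 0) →+* Quot A G) (fun i => t G i.succ)

theorem psi0_C (x : AdjoinRoot (G 0)) : psi0 G (MvPolynomial.C x) = psi1 G x := by
  simp [psi0]

theorem psi0_X (i : Fin r) : psi0 G (MvPolynomial.X i) = t G i.succ := by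
  simp [psi0]

theorem psi0_kills : ∀ x ∈ ideal (AdjoinRoot (G 0)) (tail G), psi0 G x = 0 := by
  intro x hx
  refine Submodule.span_induction ?_ ?_ ?_ ?_ hx
  · rintro _ ⟨i, rfl⟩
    show psi0 G (Polynomial.aeval (MvPolynomial.X i) ((G i.succ).map (AdjoinRoot.of (G 0)))) = 0
    rw [Polynomial.aeval_def, Polynomial.eval₂_map, Polynomial.hom_eval₂, psi0_X]
    have h1 : (psi0 G).comp ((algebraMap (AdjoinRoot (G 0))
        (MvPolynomial (Fin r) (AdjoinRoot (G 0)))).comp (AdjoinRoot.of (G 0))) =
        algebraMap A (Quot A G) := by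
      ext a
      simp only [RingHom.comp_apply, MvPolynomial.algebraMap_eq, psi0_C, psi1_of]
    rw [h1]
    exact aeval_t G i.succ
  · exact map_zero _
  · intro x y _ _ hx hy
    rw [map_add, hx, hy, add_zero]
  · intro a x _ hx
    rw [smul_eq_mul, map_mul, hx, mul_zero]

/-- backward map. -/
def ofTail : Quot (AdjoinRoot (G 0)) (tail G) →ₐ[A] Quot A G :=
  { Ideal.Quotient.lift (ideal (AdjoinRoot (G 0)) (tail G)) (psi0 G) (psi0_kills G) with
    commutes' := by
      intro a
      show Ideal.Quotient.lift _ (psi0 G) (psi0_kills G)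
        (algebraMap A (Quot (AdjoinRoot (G 0)) (tail G)) a) = _
      rw [IsScalarTower.algebraMap_apply A (AdjoinRoot (G 0)) (Quot (AdjoinRoot (G 0)) (tail G)),
        IsScalarTower.algebraMap_apply (AdjoinRoot (G 0)) (MvPolynomial (Fin r) (AdjoinRoot (G 0)))
          (Quot (AdjoinRoot (G 0)) (tail G)), Ideal.Quotient.algebraMap_eq, Ideal.Quotient.lift_mk,
        MvPolynomial.algebraMap_eq, psi0_C]
      exact psi1_of G a }

theorem ofTail_mk (x : MvPolynomial (Fin r) (AdjoinRoot (G 0))) :
    ofTail G (Ideal.Quotient.mk _ x) = psi0 G x := rfl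

theorem ofTail_toTail (x : Quot A G) : ofTail G (toTail G x) = x := by
  have : (ofTail G).comp (toTail G) = AlgHom.id A (Quot A G) := by
    apply algHom_ext G
    intro i
    refine Fin.cases ?_ (fun j => ?_) i
    · simp only [AlgHom.comp_apply, AlgHom.id_apply, toTail_t_zero]
      rw [IsScalarTower.algebraMap_apply (AdjoinRoot (G 0)) (MvPolynomial (Fin r) (AdjoinRoot (G 0)))
          (Quot (AdjoinRoot (G 0)) (tail G)), Ideal.Quotient.algebraMap_eq, ofTail_mk,
        MvPolynomial.algebraMap_eq, psi0_C, psi1_root]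
    · simp only [AlgHom.comp_apply, AlgHom.id_apply, toTail_t_succ]
      show ofTail G (Ideal.Quotient.mk _ (MvPolynomial.X j)) = _
      rw [ofTail_mk, psi0_X]
  exact congrArg (fun f : Quot A G →ₐ[A] Quot A G => f x) this

theorem toTail_ofTail (y : Quot (AdjoinRoot (G 0)) (tail G)) : toTail G (ofTail G y) = y := by
  obtain ⟨x, rfl⟩ := Ideal.Quotient.mk_surjective y
  rw [ofTail_mk]
  have : ((toTail G : Quot A G →+* _).comp (psi0 G)) =
      Ideal.Quotient.mk (ideal (AdjoinRoot (G 0)) (tail G)) := by
    apply MvPolynomial.ringHom_ext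
    · intro x
      simp only [RingHom.comp_apply, psi0_C]
      have h2 : ((toTail G : Quot A G →+* _).comp (psi1 G : AdjoinRoot (G 0) →+* Quot A G)) =
          (Ideal.Quotient.mk (ideal (AdjoinRoot (G 0)) (tail G))).comp MvPolynomial.C := by
        apply AdjoinRoot.ringHom_ext
        · ext a
          simp only [RingHom.comp_apply, RingHom.coe_coe, psi1_of, AlgHom.commutes]
          rw [IsScalarTower.algebraMap_apply A (AdjoinRoot (G 0)) (Quot (AdjoinRoot (G 0)) (tail G)),
            IsScalarTower.algebraMap_apply (AdjoinRoot (G 0))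
              (MvPolynomial (Fin r) (AdjoinRoot (G 0))) (Quot (AdjoinRoot (G 0)) (tail G)),
            Ideal.Quotient.algebraMap_eq, MvPolynomial.algebraMap_eq]
          rfl
        · simp only [RingHom.comp_apply, RingHom.coe_coe, psi1_root, toTail_t_zero]
          rw [IsScalarTower.algebraMap_apply (AdjoinRoot (G 0))
              (MvPolynomial (Fin r) (AdjoinRoot (G 0))) (Quot (AdjoinRoot (G 0)) (tail G)),
            Ideal.Quotient.algebraMap_eq, MvPolynomial.algebraMap_eq]
      exact congrArg (fun f : AdjoinRoot (G 0) →+* _ => f x) h2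
    · intro i
      simp only [RingHom.comp_apply, RingHom.coe_coe, psi0_X, toTail_t_succ]
      rfl
  exact congrArg (fun f : MvPolynomial (Fin r) (AdjoinRoot (G 0)) →+* _ => f x) this

/-- peeling off the first variable. -/
def equivTail : Quot A G ≃ₐ[A] Quot (AdjoinRoot (G 0)) (tail G) :=
  AlgEquiv.ofAlgHom (toTail G) (ofTail G)
    (AlgHom.ext (toTail_ofTail G)) (AlgHom.ext (ofTail_toTail G))

end Equiv

end



noncomputable section

section Free

theorem ideal_zero {A : Type u} [CommRing A] (G : Fin 0 → A[X]) : ideal A G = ⊥ := by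
  unfold ideal
  rw [Ideal.span_eq_bot]
  rintro _ ⟨i, rfl⟩
  exact i.elim0

/-- for `r = 0` the quotient is the base ring. -/
def equivZero {A : Type u} [CommRing A] (G : Fin 0 → A[X]) : Quot A G ≃ₐ[A] A :=
  ((Ideal.quotientEquivAlgOfEq A (ideal_zero G)).trans
    (AlgEquiv.quotientBot A (MvPolynomial (Fin 0) A))).trans (MvPolynomial.isEmptyAlgEquiv A (Fin 0))

theorem free_and_finrank : ∀ (r : ℕ) (A : Type u) [CommRing A] [Nontrivial A]
    (F : Fin r → A[X]) (_ : ∀ i, (F i).Monic),
    Module.Free A (Quot A F) ∧ Module.finrank A (Quot A F) = ∏ i, (F i).natDegree := by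
  intro r
  induction r with
  | zero =>
    intro A _ _ F _
    refine ⟨Module.Free.of_equiv (equivZero F).symm.toLinearEquiv, ?_⟩
    rw [(equivZero F).toLinearEquiv.finrank_eq, Module.finrank_self]
    simp
  | succ r ih =>
    intro A _ _ F hF
    have hfree1 : Module.Free A (AdjoinRoot (F 0)) :=
      Module.Free.of_basis (AdjoinRoot.powerBasis' (hF 0)).basis
    have hrank1 : Module.finrank A (AdjoinRoot (F 0)) = (F 0).natDegree := by
      rw [(AdjoinRoot.powerBasis' (hF 0)).finrank]
      rfl
    rw [Fin.prod_univ_succ]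
    rcases subsingleton_or_nontrivial (AdjoinRoot (F 0)) with hs | hn
    · -- degenerate case
      haveI : Subsingleton (Quot (AdjoinRoot (F 0)) (tail F)) := by
        refine ⟨fun x y => ?_⟩
        have h0 : (1 : Quot (AdjoinRoot (F 0)) (tail F)) = 0 := by
          have : (1 : AdjoinRoot (F 0)) = 0 := Subsingleton.elim _ _
          have := congrArg (algebraMap (AdjoinRoot (F 0)) (Quot (AdjoinRoot (F 0)) (tail F))) this
          simpa using this
        rw [← mul_one x, ← mul_one y, h0, mul_zero, mul_zero]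
      haveI : Subsingleton (Quot A F) := (equivTail F).toEquiv.subsingleton
      refine ⟨inferInstance, ?_⟩
      rw [Module.finrank_zero_of_subsingleton, ← hrank1, Module.finrank_zero_of_subsingleton,
        zero_mul]
    · obtain ⟨hfree2, hrank2⟩ := ih (AdjoinRoot (F 0)) (tail F)
        (fun i => (hF i.succ).map (AdjoinRoot.of (F 0)))
      haveI := hfree1
      haveI := hfree2
      haveI : Module.Free A (Quot (AdjoinRoot (F 0)) (tail F)) :=
        Module.Free.trans (R := A) (S := AdjoinRoot (F 0))
      refine ⟨Module.Free.of_equiv (equivTail F).symm.toLinearEquiv, ?_⟩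
      rw [(equivTail F).toLinearEquiv.finrank_eq,
        ← Module.finrank_mul_finrank A (AdjoinRoot (F 0)) (Quot (AdjoinRoot (F 0)) (tail F)),
        hrank1, hrank2]
      congr 1
      refine Finset.prod_congr rfl (fun i _ => ?_)
      exact (hF i.succ).natDegree_map (AdjoinRoot.of (F 0))

end Free

end

end Groth.Agent.Lib.Helper23.SepVar
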