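import Mathlib
import Groth.Agent.Lib.Helper23.PBasisDer
import Groth.Agent.Lib.Helper23.PBasisField
import Groth.Agent.Lib.Helper4.HznReg
import Groth.Agent.Lib.Helper18.SerreReg
import Groth.Agent.Lib.Helper21.RegularLocal
import Groth.Agent.Lib.Helper21.RegularQuotient
import Groth.Agent.Lib.Helper23.AdicSmoothSym
import Groth.Agent.Lib.Helper23.FieldSmooth
import Groth.Agent.Lib.Helper23.SepVar

/-!
# EGA 0_IV 22.5: the key lemma on A[T_i]/(T_i^p - f_i)

For a Noetherian local ring A of characteristic p and f : Fin r → A, B = A[T_1..T_r]/(T_i^p - f_i)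
(as SepVar.Quot A (fun i => Gp p (f i))) is local, edim A ≤ edim B, and equality holds iff the
1 ⊗ d f_i are linearly independent in K ⊗ Ω_{A/ℤ} (klProp). Ingredients: Gp, AdjoinRoot (Gp p f) is local/free,
exists_derivation_extension, vv / derFun / funDer / exists_dual_derivation / linearIndependent_of_dual_derivation,
indep_step, exists_derivation_of_notMem_pow (fields), oneVar (one-variable case), edim lemmas.
-/

set_option autoImplicit false
universe u
open Polynomial IsLocalRing
open IsLocalRing TensorProduct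
open IsLocalRing TensorProduct EGA41
open IsLocalRing TensorProduct Polynomial

namespace Groth.Agent.Lib.Helper23.KeyLemma


noncomputable section

section Basic

variable {A : Type u} [CommRing A] (p : ℕ) [hp : Fact p.Prime]

/-- the polynomial `X^p - f`. -/
def Gp (f : A) : A[X] := X ^ p - C f

theorem monic_Gp (f : A) : (Gp p f).Monic := monic_X_pow_sub_C f hp.out.ne_zero

theorem natDegree_Gp [Nontrivial A] (f : A) : (Gp p f).natDegree = p := natDegree_X_pow_sub_C

omit hp in
theorem eval₂_Gp {S : Type*} [CommRing S] (i : A →+* S) (x : S) (f : A) :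
    (Gp p f).eval₂ i x = x ^ p - i f := by
  simp [Gp]

omit hp in
theorem root_pow (f : A) : (AdjoinRoot.root (Gp p f)) ^ p = AdjoinRoot.of (Gp p f) f := by
  have h := AdjoinRoot.eval₂_root (Gp p f)
  rw [eval₂_Gp] at h
  exact sub_eq_zero.mp h

instance free (f : A) : Module.Free A (AdjoinRoot (Gp p f)) := (monic_Gp p f).free_adjoinRoot

instance finite (f : A) : Module.Finite A (AdjoinRoot (Gp p f)) := (monic_Gp p f).finite_adjoinRoot

instance nontrivial [Nontrivial A] (f : A) : Nontrivial (AdjoinRoot (Gp p f)) := by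
  let pb := AdjoinRoot.powerBasis' (monic_Gp p f)
  have hdim : pb.dim = p := by
    show (Gp p f).natDegree = p
    exact natDegree_Gp p f
  have hpos : 0 < pb.dim := by rw [hdim]; exact hp.out.pos
  exact ⟨⟨pb.basis ⟨0, hpos⟩, 0, pb.basis.ne_zero _⟩⟩

instance faithfullyFlat [Nontrivial A] (f : A) : Module.FaithfullyFlat A (AdjoinRoot (Gp p f)) :=
  inferInstance

theorem of_injective [Nontrivial A] (f : A) : Function.Injective (AdjoinRoot.of (Gp p f)) :=
  FaithfulSMul.algebraMap_injective A (AdjoinRoot (Gp p f))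

instance charP [Nontrivial A] [CharP A p] (f : A) : CharP (AdjoinRoot (Gp p f)) p :=
  charP_of_injective_algebraMap (of_injective p f) p

/-- every `p`-th power comes from the base. -/
theorem pow_mem_range_of [CharP A p] (f : A) (y : AdjoinRoot (Gp p f)) :
    ∃ a : A, y ^ p = AdjoinRoot.of (Gp p f) a := by
  rcases subsingleton_or_nontrivial A with hs | hn
  · haveI : Subsingleton (AdjoinRoot (Gp p f)) := Module.subsingleton A _
    exact ⟨0, Subsingleton.elim _ _⟩
  induction y using AdjoinRoot.induction_on with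
  | ih q =>
    induction q using Polynomial.induction_on' with
    | add q₁ q₂ h₁ h₂ =>
      obtain ⟨a₁, h₁⟩ := h₁
      obtain ⟨a₂, h₂⟩ := h₂
      refine ⟨a₁ + a₂, ?_⟩
      rw [map_add, add_pow_char, h₁, h₂, map_add]
    | monomial n a =>
      refine ⟨a ^ p * f ^ n, ?_⟩
      rw [← C_mul_X_pow_eq_monomial, map_mul, map_pow, AdjoinRoot.mk_C, AdjoinRoot.mk_X, mul_pow,
        ← pow_mul, mul_comm n p, pow_mul, root_pow, map_mul, map_pow, map_pow]

instance isLocalHom [Nontrivial A] (f : A) : IsLocalHom (AdjoinRoot.of (Gp p f)) := by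
  have : IsLocalHom (algebraMap A (AdjoinRoot (Gp p f))) := inferInstance
  exact this

theorem isLocalRing [IsLocalRing A] [CharP A p] (f : A) : IsLocalRing (AdjoinRoot (Gp p f)) := by
  apply IsLocalRing.of_nonunits_add
  intro y z hy hz
  obtain ⟨a, ha⟩ := pow_mem_range_of p f y
  obtain ⟨b, hb⟩ := pow_mem_range_of p f z
  have hya : a ∈ maximalIdeal A := by
    rw [mem_maximalIdeal]
    intro hu
    apply hy
    have : IsUnit (y ^ p) := by rw [ha]; exact hu.map _
    exact (isUnit_pow_iff hp.out.ne_zero).mp this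
  have hzb : b ∈ maximalIdeal A := by
    rw [mem_maximalIdeal]
    intro hu
    apply hz
    have : IsUnit (z ^ p) := by rw [hb]; exact hu.map _
    exact (isUnit_pow_iff hp.out.ne_zero).mp this
  intro hyz
  have h1 : IsUnit ((y + z) ^ p) := hyz.pow p
  rw [add_pow_char, ha, hb, ← map_add] at h1
  have h2 : IsUnit (a + b) := (isLocalHom p f).map_nonunit _ h1
  exact (mem_maximalIdeal _).mp (Ideal.add_mem _ hya hzb) h2

end Basic

end



noncomputable section

section DerExt

open Groth.Agent.Lib.Helper23.PBasisDer TrivSqZeroExt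

attribute [local instance] Groth.Agent.Lib.Helper23.PBasisDer.opModule
  Groth.Agent.Lib.Helper23.PBasisDer.isCentral

variable {A : Type u} [CommRing A] (p : ℕ) [hp : Fact p.Prime] [CharP A p]

/-- a derivation of `A` killing `f` extends to `A[T]/(T^p - f)` (here any `A`-algebra `A₁` with
an `A`-isomorphism from `AdjoinRoot (T^p - f)`). -/
theorem exists_derivation_extension [Nontrivial A] (f : A) {A₁ : Type u} [CommRing A₁]
    [Algebra A A₁] (e : AdjoinRoot (Gp p f) ≃ₐ[A] A₁)
    (L : Type u) [AddCommGroup L]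
    [Module A₁ L] [Module A L] [IsScalarTower A A₁ L]
    (D : Derivation ℤ A L) (hD : D f = 0) (y : L) :
    ∃ D' : Derivation ℤ A₁ L, (∀ a, D' (algebraMap A A₁ a) = D a) ∧
      D' (e (AdjoinRoot.root (Gp p f))) = y := by
  haveI : CharP A₁ p := by
    have hinj : Function.Injective (algebraMap A A₁) := by
      have h1 : (algebraMap A A₁ : A → A₁) = e ∘ AdjoinRoot.of (Gp p f) := by
        ext a
        simp [← AdjoinRoot.algebraMap_eq]
      rw [h1]
      exact e.injective.comp (of_injective p f)
    exact charP_of_injective_algebraMap hinj p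
  -- the ring hom `a ↦ (of a, D a)`
  let w₀ : A →+* TrivSqZeroExt A₁ L :=
    { toFun := fun a => inl (algebraMap A A₁ a) + inr (D a)
      map_one' := by
        apply TrivSqZeroExt.ext <;> simp
      map_mul' := fun a b => by
        apply TrivSqZeroExt.ext
        · simp
        · simp only [snd_add, snd_inl, snd_inr, zero_add, snd_mul, fst_add, fst_inl, fst_inr,
            add_zero, Derivation.leibniz, op_smul_eq_smul]
          rw [algebraMap_smul, algebraMap_smul, add_comm]
      map_zero' := by
        apply TrivSqZeroExt.ext <;> simp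
      map_add' := fun a b => by
        apply TrivSqZeroExt.ext <;> simp [add_comm] }
  have hw₀ : ∀ a, w₀ a = inl (algebraMap A A₁ a) + inr (D a) := fun a => rfl
  have hroot : (e (AdjoinRoot.root (Gp p f))) ^ p = algebraMap A A₁ f := by
    rw [← map_pow, root_pow, ← AdjoinRoot.algebraMap_eq, AlgEquiv.commutes]
  have hev : (Gp p f).eval₂ w₀ (inl (e (AdjoinRoot.root (Gp p f))) + inr y) = 0 := by
    rw [eval₂_Gp, tsze_pow p, fst_add, fst_inl, fst_inr, add_zero, hroot, hw₀, hD, inr_zero,
      add_zero, sub_self]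
  let w : A₁ →+* TrivSqZeroExt A₁ L :=
    (AdjoinRoot.lift w₀ (inl (e (AdjoinRoot.root (Gp p f))) + inr y) hev).comp e.symm.toRingEquiv.toRingHom
  have hfst : ∀ b, (w b).fst = b := by
    have : ((fstHom A₁ A₁ L).toRingHom.comp
        (AdjoinRoot.lift w₀ (inl (e (AdjoinRoot.root (Gp p f))) + inr y) hev)) =
        e.toRingEquiv.toRingHom := by
      apply AdjoinRoot.ringHom_ext
      · ext a
        show ((AdjoinRoot.lift w₀ (inl (e (AdjoinRoot.root (Gp p f))) + inr y) hev)
          (AdjoinRoot.of (Gp p f) a)).fst = e (AdjoinRoot.of (Gp p f) a)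
        rw [AdjoinRoot.lift_of, hw₀, ← AdjoinRoot.algebraMap_eq, AlgEquiv.commutes]
        simp
      · simp
    intro b
    have h2 := congrArg (fun g : AdjoinRoot (Gp p f) →+* A₁ => g (e.symm b)) this
    simpa [w] using h2
  refine ⟨homToDer w hfst, fun a => ?_, ?_⟩
  · rw [homToDer_apply]
    show (AdjoinRoot.lift w₀ _ hev (e.symm (algebraMap A A₁ a))).snd = D a
    rw [AlgEquiv.commutes, AdjoinRoot.algebraMap_eq, AdjoinRoot.lift_of, hw₀]
    simp
  · rw [homToDer_apply]
    show (AdjoinRoot.lift w₀ _ hev (e.symm (e (AdjoinRoot.root (Gp p f))))).snd = y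
    rw [AlgEquiv.symm_apply_apply, AdjoinRoot.lift_root]
    simp

end DerExt

end



noncomputable section

section Func

variable {A : Type u} [CommRing A] [IsLocalRing A]

/-- the class `1 ⊗ da` in `K ⊗ Ω_{A/ℤ}`. -/
abbrev vv (a : A) : ResidueField A ⊗[A] Ω[A⁄ℤ] := (1 : ResidueField A) ⊗ₜ[A] KaehlerDifferential.D ℤ A a

/-- the functional on `K ⊗ Ω` attached to a derivation. -/
def derFun {L : Type u} [AddCommGroup L] [Module A L] [Module (ResidueField A) L]
    [IsScalarTower A (ResidueField A) L] (D : Derivation ℤ A L) :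
    ResidueField A ⊗[A] Ω[A⁄ℤ] →ₗ[ResidueField A] L :=
  LinearMap.liftBaseChange (ResidueField A) D.liftKaehlerDifferential

@[simp]
theorem derFun_vv {L : Type u} [AddCommGroup L] [Module A L] [Module (ResidueField A) L]
    [IsScalarTower A (ResidueField A) L] (D : Derivation ℤ A L) (a : A) :
    derFun D (vv a) = D a := by
  simp [derFun, vv]

/-- the derivation attached to a functional on `K ⊗ Ω`. -/
def funDer {L : Type u} [AddCommGroup L] [Module A L] [Module (ResidueField A) L]
    [IsScalarTower A (ResidueField A) L] (ψ : ResidueField A ⊗[A] Ω[A⁄ℤ] →ₗ[ResidueField A] L) :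
    Derivation ℤ A L :=
  ((ψ.restrictScalars A).comp (TensorProduct.mk A (ResidueField A) (Ω[A⁄ℤ]) 1)).compDer
    (KaehlerDifferential.D ℤ A)

@[simp]
theorem funDer_apply {L : Type u} [AddCommGroup L] [Module A L] [Module (ResidueField A) L]
    [IsScalarTower A (ResidueField A) L] (ψ : ResidueField A ⊗[A] Ω[A⁄ℤ] →ₗ[ResidueField A] L)
    (a : A) : funDer ψ a = ψ (vv a) := rfl

theorem vv_ne_zero_of_derivation {L : Type u} [AddCommGroup L] [Module A L]
    [Module (ResidueField A) L]
    [IsScalarTower A (ResidueField A) L] (D : Derivation ℤ A L) (a : A) (h : D a ≠ 0) :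
    vv a ≠ 0 := by
  intro h0
  apply h
  rw [← derFun_vv D a, h0, map_zero]

/-- independent differentials have dual derivations. -/
theorem exists_dual_derivation {ι : Type*} (a : ι → A)
    (h : LinearIndependent (ResidueField A) (fun i => vv (a i))) (j : ι) :
    ∃ D : Derivation ℤ A (ResidueField A), D (a j) = 1 ∧ ∀ i, i ≠ j → D (a i) = 0 := by
  classical
  obtain ⟨g, hg⟩ := LinearMap.exists_extend
      ((Finsupp.lapply j : (ι →₀ ResidueField A) →ₗ[ResidueField A] ResidueField A) ∘ₗ h.repr)
  refine ⟨funDer g, ?_, ?_⟩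
  · rw [funDer_apply]
    have h1 := LinearMap.congr_fun hg ⟨vv (a j), Submodule.subset_span ⟨j, rfl⟩⟩
    simp only [LinearMap.coe_comp, Function.comp_apply, Submodule.subtype_apply] at h1
    rw [h1]
    have := h.repr_eq_single j ⟨vv (a j), Submodule.subset_span ⟨j, rfl⟩⟩ rfl
    rw [this]
    simp
  · intro i hi
    rw [funDer_apply]
    have h1 := LinearMap.congr_fun hg ⟨vv (a i), Submodule.subset_span ⟨i, rfl⟩⟩
    simp only [LinearMap.coe_comp, Function.comp_apply, Submodule.subtype_apply] at h1
    rw [h1]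
    have := h.repr_eq_single i ⟨vv (a i), Submodule.subset_span ⟨i, rfl⟩⟩ rfl
    rw [this]
    simp [Finsupp.single_apply, hi]

theorem exists_derivation_of_vv_ne_zero (a : A) (h : vv a ≠ 0) :
    ∃ D : Derivation ℤ A (ResidueField A), D a = 1 := by
  obtain ⟨D, hD, -⟩ := exists_dual_derivation (fun _ : Unit => a)
    (LinearIndependent.of_subsingleton (R := ResidueField A) (v := fun _ : Unit => vv a) () h) ()
  exact ⟨D, hD⟩

/-- differentials with dual derivations are independent. -/
theorem linearIndependent_of_dual_derivation {ι : Type*} (a : ι → A)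
    (h : ∀ j, ∃ D : Derivation ℤ A (ResidueField A), D (a j) = 1 ∧ ∀ i, i ≠ j → D (a i) = 0) :
    LinearIndependent (ResidueField A) (fun i => vv (a i)) := by
  classical
  rw [linearIndependent_iff']
  intro s c hc j hj
  obtain ⟨D, hD1, hD0⟩ := h j
  have h1 := congrArg (derFun D) hc
  rw [map_sum, map_zero] at h1
  simp only [map_smul, derFun_vv] at h1
  rw [Finset.sum_eq_single j] at h1
  · simpa [hD1] using h1
  · intro i _ hij
    rw [hD0 i hij, smul_zero]
  · intro hj'
    exact absurd hj hj'

end Func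

end



noncomputable section

section Step

variable {A A₁ : Type u} [CommRing A] [CommRing A₁] [Algebra A A₁] [IsLocalRing A]
  [IsLocalRing A₁] [IsLocalHom (algebraMap A A₁)] (p : ℕ) [CharP A₁ p]

include p in
theorem derivation_pow_eq_zero (t : A₁) (D' : Derivation ℤ A₁ (ResidueField A₁)) :
    D' (t ^ p) = 0 := by
  rw [Derivation.leibniz_pow]
  have h1 : (p : ResidueField A₁) = 0 := by
    rw [← map_natCast (algebraMap A₁ (ResidueField A₁)), CharP.cast_eq_zero, map_zero]
  rw [← Nat.cast_smul_eq_nsmul (ResidueField A₁), h1, zero_smul]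

theorem indep_step {r : ℕ} (f : Fin (r + 1) → A) (t : A₁)
    (ht : t ^ p = algebraMap A A₁ (f 0))
    (hext : ∀ D : Derivation ℤ A (ResidueField A₁), D (f 0) = 0 →
      ∃ D' : Derivation ℤ A₁ (ResidueField A₁), ∀ a, D' (algebraMap A A₁ a) = D a) :
    (vv (f 0) ≠ 0 ∧ LinearIndependent (ResidueField A₁)
      (fun i : Fin r => vv (algebraMap A A₁ (f i.succ)))) ↔
    LinearIndependent (ResidueField A) (fun i => vv (f i)) := by
  constructor
  · rintro ⟨h0, h1⟩
    rw [Fintype.linearIndependent_iff]
    intro c hc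
    have key : ∀ j : Fin r, c j.succ = 0 := by
      intro j
      obtain ⟨D', hD1, hD0⟩ := exists_dual_derivation (fun i : Fin r => algebraMap A A₁ (f i.succ)) h1 j
      have h2 := congrArg (derFun (Derivation.compAlgebraMap A D')) hc
      rw [map_sum, map_zero, Fin.sum_univ_succ] at h2
      simp only [map_smul, derFun_vv, Derivation.compAlgebraMap_apply] at h2
      rw [← ht, derivation_pow_eq_zero p t D', smul_zero, zero_add, Finset.sum_eq_single j] at h2
      · rw [hD1, Algebra.smul_def, mul_one] at h2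
        exact (algebraMap (ResidueField A) (ResidueField A₁)).injective (by rw [h2, map_zero])
      · intro i _ hij
        rw [hD0 i hij, smul_zero]
      · intro hj
        exact absurd (Finset.mem_univ j) hj
    have h3 : c 0 • vv (f 0) = 0 := by
      rw [Fin.sum_univ_succ, Finset.sum_eq_zero (fun i _ => by rw [key i, zero_smul]), add_zero] at hc
      exact hc
    intro i
    refine Fin.cases ?_ key i
    rcases smul_eq_zero.mp h3 with h | h
    · exact h
    · exact absurd h h0
  · intro h
    refine ⟨h.ne_zero 0, ?_⟩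
    apply linearIndependent_of_dual_derivation
    intro j
    obtain ⟨D, hD1, hD0⟩ := exists_dual_derivation f h j.succ
    let D₁ : Derivation ℤ A (ResidueField A₁) :=
      (IsScalarTower.toAlgHom A (ResidueField A) (ResidueField A₁)).toLinearMap.compDer D
    have hD₁ : ∀ a, D₁ a = algebraMap (ResidueField A) (ResidueField A₁) (D a) := fun a => rfl
    obtain ⟨D', hD'⟩ := hext D₁ (by rw [hD₁, hD0 0 (Fin.succ_ne_zero j).symm, map_zero])
    refine ⟨D', ?_, ?_⟩
    · rw [hD', hD₁, hD1, map_one]
    · intro i hi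
      rw [hD', hD₁, hD0 i.succ (fun h => hi (Fin.succ_injective _ h)), map_zero]

end Step

end



noncomputable section

section FieldDer

open Groth.Agent.Lib.Helper23.PBasisField Groth.Agent.Lib.Helper23.PBasisDer

variable (K : Type u) [Field K] (p : ℕ) [hp : Fact p.Prime] [CharP K p]

/-- the algebra structure over the (lifted) prime field. -/
def primeAlgebra (R : Type u) [CommRing R] [CharP R p] : Algebra (ULift.{u} (ZMod p)) R :=
  ((ZMod.castHom (dvd_refl p) R).comp (ULift.ringEquiv : ULift.{u} (ZMod p) ≃+* ZMod p).toRingHom).toAlgebra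

theorem exists_pow_eq_of_mem_pPower [Algebra (ULift.{u} (ZMod p)) K] (y : K)
    (hy : y ∈ pPowerSubalgebra p (ULift.{u} (ZMod p)) K) : ∃ b : K, b ^ p = y := by
  unfold pPowerSubalgebra at hy
  induction hy using Algebra.adjoin_induction with
  | mem y hy =>
    obtain ⟨b, rfl⟩ := hy
    exact ⟨b, rfl⟩
  | algebraMap a =>
    refine ⟨algebraMap _ K a, ?_⟩
    rw [← map_pow]
    congr 1
    apply ULift.ext
    show (a.down) ^ p = a.down
    exact ZMod.pow_card _
  | add y z _ _ hy hz =>
    obtain ⟨b, rfl⟩ := hy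
    obtain ⟨c, rfl⟩ := hz
    exact ⟨b + c, add_pow_char b c p⟩
  | mul y z _ _ hy hz =>
    obtain ⟨b, rfl⟩ := hy
    obtain ⟨c, rfl⟩ := hz
    exact ⟨b * c, mul_pow b c p⟩

/-- an element of a field of characteristic `p` which is not a `p`-th power is not killed by all
derivations. -/
theorem exists_derivation_of_notMem_pow (x : K) (hx : ∀ b : K, b ^ p ≠ x) :
    ∃ D : Derivation ℤ K K, D x = 1 := by
  letI : Algebra (ULift.{u} (ZMod p)) K := primeAlgebra p K
  have hL : IsPIndependent p (ULift.{u} (ZMod p)) (Subtype.val : ↥({x} : Set K) → K) := by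
    rw [isPIndependent_val_iff]
    intro a ha hmem
    rw [Set.mem_singleton_iff] at ha
    subst ha
    have h0 : ({a} : Set K) \ {a} = ∅ := Set.diff_self
    rw [h0, IntermediateField.adjoin_empty, IntermediateField.mem_bot] at hmem
    obtain ⟨s, hs⟩ := hmem
    obtain ⟨b, hb⟩ := exists_pow_eq_of_mem_pPower K p a (by rw [← hs]; exact s.2)
    exact hx b hb
  have hS : IsPGenerating p (ULift.{u} (ZMod p)) (Subtype.val : ↥(Set.univ : Set K) → K) := by
    rw [isPGenerating_val_iff, eq_top_iff]
    intro m _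
    exact IntermediateField.subset_adjoin _ _ (Set.mem_univ m)
  obtain ⟨B, hLB, -, hB⟩ := exists_isPBasis p (ULift.{u} (ZMod p)) (Set.univ : Set K) {x}
    (Set.subset_univ _) hS hL
  classical
  obtain ⟨D, hD⟩ := exists_derivationA_of_pBasis p (Subtype.val : B → K) hB (L := K)
    (fun b => if b.1 = x then 1 else 0)
  refine ⟨D.restrictScalars ℤ, ?_⟩
  have := hD ⟨x, hLB rfl⟩
  simpa using this

end FieldDer

end



noncomputable section

section Case1

variable {A : Type u} [CommRing A] [IsLocalRing A] (p : ℕ) [hp : Fact p.Prime] [CharP A p]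

theorem charP_residueField : CharP (ResidueField A) p :=
  (CharP.charP_iff_prime_eq_zero hp.out).mpr
    (by rw [← map_natCast (residue A), CharP.cast_eq_zero, map_zero])

theorem isNoetherianRing_adjoinRoot [IsNoetherianRing A] (f : A) :
    IsNoetherianRing (AdjoinRoot (Gp p f)) :=
  IsNoetherianRing.of_finite A _

theorem case1_residue (f : A) (h : ∀ c : A, f - c ^ p ∉ maximalIdeal A) :
    ∀ b : ResidueField A, b ^ p ≠ residue A f := by
  intro b hb
  obtain ⟨c, rfl⟩ := residue_surjective b
  apply h c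
  rw [← Ideal.Quotient.eq_zero_iff_mem]
  show residue A (f - c ^ p) = 0
  rw [map_sub, map_pow, hb, sub_self]

theorem case1_vv (f : A) (h : ∀ c : A, f - c ^ p ∉ maximalIdeal A) : vv f ≠ 0 := by
  haveI := charP_residueField (A := A) p
  obtain ⟨δ, hδ⟩ := exists_derivation_of_notMem_pow (ResidueField A) p _ (case1_residue p f h)
  let D : Derivation ℤ A (ResidueField A) := Derivation.compAlgebraMap A δ
  refine vv_ne_zero_of_derivation D f ?_
  show δ (algebraMap A _ f) ≠ 0
  rw [ResidueField.algebraMap_eq, hδ]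
  exact one_ne_zero

theorem case1_isMaximal (f : A) (h : ∀ c : A, f - c ^ p ∉ maximalIdeal A) :
    ((maximalIdeal A).map (AdjoinRoot.of (Gp p f))).IsMaximal := by
  letI : Field (A ⧸ maximalIdeal A) := Ideal.Quotient.field _
  apply Ideal.Quotient.maximal_of_isField
  have e := AdjoinRoot.quotEquivQuotMap (Gp p f) (maximalIdeal A)
  refine MulEquiv.isField ?_ e.toRingEquiv.toMulEquiv
  rw [← Ideal.Quotient.maximal_ideal_iff_isField_quotient]
  apply PrincipalIdealRing.isMaximal_of_irreducible
  have h1 : (Gp p f).map (Ideal.Quotient.mk (maximalIdeal A)) =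
      X ^ p - C (Ideal.Quotient.mk (maximalIdeal A) f) := by
    simp [Gp]
  rw [h1]
  exact X_pow_sub_C_irreducible_of_prime hp.out (case1_residue p f h)

end Case1

end



noncomputable section

section Case2

variable {A : Type u} [CommRing A] [IsLocalRing A] (p : ℕ) [hp : Fact p.Prime] [CharP A p]
variable (f c : A)

/-- `s = root − c`. -/
def sElt : AdjoinRoot (Gp p f) := AdjoinRoot.root (Gp p f) - AdjoinRoot.of (Gp p f) c

theorem sElt_pow : sElt p f c ^ p = AdjoinRoot.of (Gp p f) (f - c ^ p) := by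
  haveI := charP p f
  rw [sElt, sub_pow_char, root_pow, map_sub, map_pow]

theorem sElt_mem (hg : f - c ^ p ∈ maximalIdeal A) :
    sElt p f c ∈ @maximalIdeal (AdjoinRoot (Gp p f)) _ (isLocalRing p f) := by
  haveI := isLocalRing p f
  rw [mem_maximalIdeal, mem_nonunits_iff]
  intro hu
  have h1 := hu.pow p
  rw [sElt_pow] at h1
  have h2 := isUnit_of_map_unit (AdjoinRoot.of (Gp p f)) _ h1
  exact hg h2

theorem sElt_notMem_sq :
    sElt p f c ∉ (@maximalIdeal (AdjoinRoot (Gp p f)) _ (isLocalRing p f)) ^ 2 := by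
  haveI := isLocalRing p f
  haveI := charP p f
  obtain ⟨D', hD'1, hD'2⟩ := exists_derivation_extension p f (AlgEquiv.refl (R := A)
    (A₁ := AdjoinRoot (Gp p f))) (ResidueField (AdjoinRoot (Gp p f))) 0 (by simp) 1
  intro hmem
  have hkill : ∀ x ∈ (maximalIdeal (AdjoinRoot (Gp p f))) ^ 2, D' x = 0 := by
    intro x hx
    rw [pow_two] at hx
    refine Submodule.mul_induction_on hx ?_ ?_
    · intro a ha b hb
      rw [Derivation.leibniz]
      rw [← algebraMap_smul (ResidueField (AdjoinRoot (Gp p f))) a,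
        ← algebraMap_smul (ResidueField (AdjoinRoot (Gp p f))) b,
        ResidueField.algebraMap_eq, (residue_eq_zero_iff a).mpr ha,
        (residue_eq_zero_iff b).mpr hb, zero_smul, zero_smul, add_zero]
    · intro a b ha hb
      rw [map_add, ha, hb, add_zero]
  have h1 := hkill _ hmem
  rw [sElt, map_sub] at h1
  have h2 : D' (AdjoinRoot.of (Gp p f) c) = 0 := by
    have := hD'1 c
    simpa using this
  have h3 : D' (AdjoinRoot.root (Gp p f)) = 1 := by
    simpa using hD'2
  rw [h2, h3, sub_zero] at h1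
  exact one_ne_zero h1

end Case2

end



noncomputable section

section Case2Iso

variable {A : Type u} [CommRing A] [IsLocalRing A] (p : ℕ) [hp : Fact p.Prime] [CharP A p]
variable (f c : A)

/-- `A₁ → A/(g)`, `root ↦ c`. -/
def toQuot : AdjoinRoot (Gp p f) →+* A ⧸ Ideal.span {f - c ^ p} :=
  AdjoinRoot.lift (Ideal.Quotient.mk _) (Ideal.Quotient.mk _ c) (by
    rw [eval₂_Gp, ← map_pow, ← map_sub, Ideal.Quotient.eq_zero_iff_mem,
      Ideal.mem_span_singleton]
    exact ⟨-1, by ring⟩)

omit [IsLocalRing A] hp [CharP A p] in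
theorem toQuot_of (a : A) : toQuot p f c (AdjoinRoot.of _ a) = Ideal.Quotient.mk _ a :=
  AdjoinRoot.lift_of _

omit [IsLocalRing A] hp [CharP A p] in
theorem toQuot_root : toQuot p f c (AdjoinRoot.root _) = Ideal.Quotient.mk _ c :=
  AdjoinRoot.lift_root _

omit [IsLocalRing A] hp [CharP A p] in
theorem toQuot_sElt : toQuot p f c (sElt p f c) = 0 := by
  rw [sElt, map_sub, toQuot_of, toQuot_root, sub_self]

/-- the isomorphism `A₁/(s) ≅ A/(g)`. -/
def quotEquiv : (AdjoinRoot (Gp p f) ⧸ Ideal.span {sElt p f c}) ≃+* A ⧸ Ideal.span {f - c ^ p} :=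
  RingEquiv.ofRingHom
    (Ideal.Quotient.lift (Ideal.span {sElt p f c}) (toQuot p f c) (by
      intro x hx
      obtain ⟨y, rfl⟩ := Ideal.mem_span_singleton'.mp hx
      rw [map_mul, toQuot_sElt, mul_zero]))
    (Ideal.Quotient.lift (Ideal.span {f - c ^ p})
      ((Ideal.Quotient.mk (Ideal.span {sElt p f c})).comp (AdjoinRoot.of (Gp p f))) (by
      intro x hx
      obtain ⟨y, rfl⟩ := Ideal.mem_span_singleton'.mp hx
      rw [map_mul, RingHom.comp_apply (x := f - c ^ p), ← sElt_pow, map_pow]
      have : Ideal.Quotient.mk (Ideal.span {sElt p f c}) (sElt p f c) = 0 :=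
        Ideal.Quotient.eq_zero_iff_mem.mpr (Ideal.mem_span_singleton_self _)
      rw [this, zero_pow hp.out.ne_zero, mul_zero]))
    (by
      apply Ideal.Quotient.ringHom_ext
      ext a
      simp [toQuot_of])
    (by
      apply Ideal.Quotient.ringHom_ext
      apply AdjoinRoot.ringHom_ext
      · ext a
        simp [toQuot_of]
      · simp only [RingHom.comp_apply, Ideal.Quotient.lift_mk, toQuot_root, RingHom.id_apply]
        rw [eq_comm, Ideal.Quotient.eq]
        exact Ideal.mem_span_singleton_self _)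

end Case2Iso

end



noncomputable section

section Edim

theorem edim_eq_of_ringEquiv {R S : Type*} [CommRing R] [CommRing S] [IsLocalRing R]
    [IsLocalRing S] (e : R ≃+* S) :
    (maximalIdeal S).spanFinrank = (maximalIdeal R).spanFinrank := by
  rw [← map_ringEquiv_maximalIdeal e]
  exact Ideal.spanFinrank_map_eq_of_ringEquiv e _

theorem isLocalRing_quotient {R : Type*} [CommRing R] [IsLocalRing R] (I : Ideal R)
    (hI : I ≤ maximalIdeal R) : IsLocalRing (R ⧸ I) := by
  haveI : Nontrivial (R ⧸ I) := by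
    rw [Ideal.Quotient.nontrivial_iff]
    intro h
    exact (maximalIdeal.isMaximal R).ne_top (top_le_iff.mp (h ▸ hI))
  exact IsLocalRing.of_surjective' (Ideal.Quotient.mk I) Ideal.Quotient.mk_surjective

theorem edim_quotient_le {R : Type u} [CommRing R] [IsLocalRing R] [IsNoetherianRing R]
    (I : Ideal R) [IsLocalRing (R ⧸ I)] :
    (maximalIdeal (R ⧸ I)).spanFinrank ≤ (maximalIdeal R).spanFinrank := by
  rw [Groth.Agent.Lib.Helper21.maximalIdeal_quotient_eq_map]
  exact Ideal.spanFinrank_map_le_of_fg _ (maximalIdeal R).fg_of_isNoetherianRing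

theorem edim_quotient_of_notMem_sq {R : Type u} [CommRing R] [IsLocalRing R] [IsNoetherianRing R]
    {x : R} (hx : x ∈ maximalIdeal R) (hx2 : x ∉ maximalIdeal R ^ 2)
    [IsLocalRing (R ⧸ Ideal.span {x})] :
    (maximalIdeal (R ⧸ Ideal.span {x})).spanFinrank + 1 = (maximalIdeal R).spanFinrank :=
  le_antisymm
    (Groth.Agent.Lib.Helper21.spanFinrank_maximalIdeal_quotient_succ_le hx hx2)
    (Groth.Agent.Lib.Helper18.SerreReg.spanFinrank_maximalIdeal_le_quotient_succ R hx)

theorem edim_quotient_of_mem_sq {R : Type u} [CommRing R] [IsLocalRing R] [IsNoetherianRing R]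
    {x : R} (hx2 : x ∈ maximalIdeal R ^ 2)
    [IsLocalRing (R ⧸ Ideal.span {x})] :
    (maximalIdeal (R ⧸ Ideal.span {x})).spanFinrank = (maximalIdeal R).spanFinrank :=
  le_antisymm (edim_quotient_le _)
    (Groth.Agent.Lib.Helper21.spanFinrank_maximalIdeal_le_of_le_sq _
      ((Ideal.span_singleton_le_iff_mem _).mpr hx2))

end Edim

section Case2Edim

variable {A : Type u} [CommRing A] [IsLocalRing A] [IsNoetherianRing A] (p : ℕ)
  [hp : Fact p.Prime] [CharP A p]
variable (f c : A)

theorem case2_edim (hg : f - c ^ p ∈ maximalIdeal A) :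
    (maximalIdeal A).spanFinrank ≤
      (@maximalIdeal (AdjoinRoot (Gp p f)) _ (isLocalRing p f)).spanFinrank ∧
    ((@maximalIdeal (AdjoinRoot (Gp p f)) _ (isLocalRing p f)).spanFinrank =
      (maximalIdeal A).spanFinrank ↔ f - c ^ p ∉ maximalIdeal A ^ 2) := by
  haveI := isLocalRing p f
  haveI := isNoetherianRing_adjoinRoot p f
  have hs := sElt_mem p f c hg
  have hs2 := sElt_notMem_sq p f c
  haveI : IsLocalRing (AdjoinRoot (Gp p f) ⧸ Ideal.span {sElt p f c}) :=
    isLocalRing_quotient _ ((Ideal.span_singleton_le_iff_mem _).mpr hs)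
  haveI : IsLocalRing (A ⧸ Ideal.span {f - c ^ p}) :=
    isLocalRing_quotient _ ((Ideal.span_singleton_le_iff_mem _).mpr hg)
  have E1 := edim_quotient_of_notMem_sq hs hs2
  have E2 := edim_eq_of_ringEquiv (quotEquiv p f c)
  by_cases hg2 : f - c ^ p ∈ maximalIdeal A ^ 2
  · have E3 := edim_quotient_of_mem_sq hg2
    constructor
    · omega
    · constructor
      · intro h; omega
      · intro h; exact absurd hg2 h
  · have E3 := edim_quotient_of_notMem_sq hg hg2
    constructor
    · omega
    · constructor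
      · intro _; exact hg2
      · intro _; omega

end Case2Edim

end



noncomputable section

section Case2vv

open Groth.Agent.Lib.Helper23

variable {A : Type u} [CommRing A] [IsLocalRing A] (p : ℕ) [hp : Fact p.Prime] [CharP A p]

omit hp in
theorem vv_sub_pow (f c : A) : vv (f - c ^ p) = vv f := by
  unfold vv
  rw [map_sub, Derivation.leibniz_pow, tmul_sub]
  have : (p : ℕ) • (c ^ (p - 1) • KaehlerDifferential.D ℤ A c) = 0 := by
    rw [← Nat.cast_smul_eq_nsmul A, CharP.cast_eq_zero, zero_smul]
  rw [this, tmul_zero, sub_zero]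

theorem vv_eq_zero_of_mem_sq (g : A) (hg : g ∈ maximalIdeal A ^ 2) : vv g = 0 := by
  rw [pow_two] at hg
  refine Submodule.mul_induction_on hg ?_ ?_
  · intro a ha b hb
    have h1 : ∀ (x : A) (ω : Ω[A⁄ℤ]), x ∈ maximalIdeal A →
        (1 : ResidueField A) ⊗ₜ[A] (x • ω) = 0 := by
      intro x ω hx
      rw [← smul_tmul, Algebra.smul_def, mul_one, ResidueField.algebraMap_eq,
        (residue_eq_zero_iff x).mpr hx, zero_tmul]
    unfold vv
    rw [Derivation.leibniz, tmul_add, h1 a _ ha, h1 b _ hb, add_zero]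
  · intro a b ha hb
    unfold vv at *
    rw [map_add, tmul_add, ha, hb, add_zero]

include p hp in
theorem vv_ne_zero_of_notMem_sq (g : A) (hg : g ∈ maximalIdeal A)
    (hg2 : g ∉ maximalIdeal A ^ 2) : vv g ≠ 0 := by
  letI : Algebra (ULift.{u} (ZMod p)) A := primeAlgebra p A
  letI : Field (A ⧸ maximalIdeal A) := Ideal.Quotient.field _
  haveI : Algebra.FormallySmooth (ULift.{u} (ZMod p)) (A ⧸ maximalIdeal A) :=
    FieldSmooth.formallySmooth_of_perfectField _ _
  obtain ⟨σ, hσ⟩ := AdicSmoothSym.exists_section (A := ULift.{u} (ZMod p)) (maximalIdeal A)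
  let D : Derivation ℤ A (CotangentSpace A) :=
    (AdicSmoothSym.derD (maximalIdeal A) σ hσ).restrictScalars ℤ
  refine vv_ne_zero_of_derivation D g ?_
  show AdicSmoothSym.der0 _ σ hσ g ≠ 0
  rw [AdicSmoothSym.der0_of_mem _ σ hσ g hg, Ne, Ideal.toCotangent_eq_zero]
  exact hg2

end Case2vv

end



noncomputable section

section OV

open Groth.Agent.Lib.Helper23

variable {A : Type u} [CommRing A] [IsLocalRing A] [IsNoetherianRing A] (p : ℕ)
  [hp : Fact p.Prime] [CharP A p]

/-- the one-variable key lemma. -/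
theorem oneVar (f : A) :
    (maximalIdeal A).spanFinrank ≤
      (@maximalIdeal (AdjoinRoot (Gp p f)) _ (isLocalRing p f)).spanFinrank ∧
    ((@maximalIdeal (AdjoinRoot (Gp p f)) _ (isLocalRing p f)).spanFinrank =
      (maximalIdeal A).spanFinrank ↔ vv f ≠ 0) := by
  by_cases hc : ∃ c : A, f - c ^ p ∈ maximalIdeal A
  · obtain ⟨c, hg⟩ := hc
    obtain ⟨h1, h2⟩ := case2_edim p f c hg
    refine ⟨h1, h2.trans ?_⟩
    rw [← vv_sub_pow p f c]
    constructor
    · intro h
      exact vv_ne_zero_of_notMem_sq p _ hg h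
    · intro h hmem
      exact h (vv_eq_zero_of_mem_sq _ hmem)
  · push_neg at hc
    haveI := isLocalRing p f
    haveI := isNoetherianRing_adjoinRoot p f
    have hm : (maximalIdeal A).map (algebraMap A (AdjoinRoot (Gp p f))) =
        maximalIdeal (AdjoinRoot (Gp p f)) :=
      (eq_maximalIdeal (case1_isMaximal p f hc))
    have := Groth.Agent.Lib.Helper4.Hzn.spanFinrank_maximalIdeal_eq_of_flat_local A
      (AdjoinRoot (Gp p f)) hm
    exact ⟨this.ge, ⟨fun _ => case1_vv p f hc, fun _ => this⟩⟩

end OV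

section Induction

open Groth.Agent.Lib.Helper23

variable (p : ℕ) [hp : Fact p.Prime]

/-- the key lemma for `r` variables. -/
def KLProp (r : ℕ) : Prop :=
  ∀ (A : Type u) [CommRing A] [IsLocalRing A] [IsNoetherianRing A] [CharP A p] (f : Fin r → A),
    ∃ _ : IsLocalRing (SepVar.Quot A (fun i => Gp p (f i))),
      (maximalIdeal A).spanFinrank ≤
        (maximalIdeal (SepVar.Quot A (fun i => Gp p (f i)))).spanFinrank ∧
      ((maximalIdeal (SepVar.Quot A (fun i => Gp p (f i)))).spanFinrank =
        (maximalIdeal A).spanFinrank ↔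
        LinearIndependent (ResidueField A) (fun i => vv (f i)))

theorem klProp_zero : KLProp.{u} p 0 := by
  intro A _ _ _ _ f
  let e := SepVar.equivZero (fun i => Gp p (f i))
  haveI : IsLocalRing (SepVar.Quot A (fun i => Gp p (f i))) := e.symm.toRingEquiv.isLocalRing
  refine ⟨inferInstance, ?_, ?_⟩
  · exact (edim_eq_of_ringEquiv e.symm.toRingEquiv).ge
  · constructor
    · intro _
      exact linearIndependent_empty_type
    · intro _
      exact edim_eq_of_ringEquiv e.symm.toRingEquiv

omit hp in
theorem map_Gp {A S : Type*} [CommRing A] [CommRing S] (i : A →+* S) (f : A) :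
    (Gp p f).map i = Gp p (i f) := by
  simp [Gp]

theorem tail_Gp {A : Type u} [CommRing A] {r : ℕ} (f : Fin (r + 1) → A) :
    SepVar.tail (fun i => Gp p (f i)) =
      fun i => Gp p (AdjoinRoot.of (Gp p (f 0)) (f i.succ)) := by
  funext i
  exact map_Gp p _ _

theorem klProp_succ (r : ℕ) (ih : KLProp.{u} p r) : KLProp.{u} p (r + 1) := by
  intro A _ _ _ _ f
  haveI := isLocalRing p (f 0)
  haveI := isNoetherianRing_adjoinRoot p (f 0)
  obtain ⟨hloc, h1, h2⟩ := ih (AdjoinRoot (Gp p (f 0)))
    (fun i => AdjoinRoot.of (Gp p (f 0)) (f i.succ))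
  have e := SepVar.equivTail (fun i => Gp p (f i))
  rw [tail_Gp] at e
  haveI : IsLocalRing (SepVar.Quot A (fun i => Gp p (f i))) := e.symm.toRingEquiv.isLocalRing
  have hE := edim_eq_of_ringEquiv e.symm.toRingEquiv
  obtain ⟨h3, h4⟩ := oneVar p (f 0)
  have hstep := indep_step (A := A) (A₁ := AdjoinRoot (Gp p (f 0))) p f
    (AdjoinRoot.root (Gp p (f 0))) (root_pow p (f 0))
    (fun D hD => by
      obtain ⟨D', hD', -⟩ := exists_derivation_extension p (f 0)
        (AlgEquiv.refl (R := A) (A₁ := AdjoinRoot (Gp p (f 0))))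
        (ResidueField (AdjoinRoot (Gp p (f 0)))) D hD 0
      exact ⟨D', hD'⟩)
  refine ⟨inferInstance, ?_, ?_⟩
  · rw [hE]
    exact h3.trans h1
  · rw [hE, ← hstep]
    constructor
    · intro h
      have h5 : (maximalIdeal (AdjoinRoot (Gp p (f 0)))).spanFinrank =
          (maximalIdeal A).spanFinrank := by omega
      refine ⟨h4.mp h5, h2.mp (by omega)⟩
    · rintro ⟨h5, h6⟩
      have := h4.mpr h5
      have := h2.mpr h6
      omega

theorem klProp (r : ℕ) : KLProp.{u} p r := by
  induction r with
  | zero => exact klProp_zero p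
  | succ r ih => exact klProp_succ p r ih

end Induction

end

end Groth.Agent.Lib.Helper23.KeyLemma
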