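import Mathlib
import Groth.Agent.Lib.Helper23.KeyLemma
import Groth.Agent.Lib.Helper23.SepVar
import Groth.Agent.Lib.Helper12.IntegralDim
import Groth.Agent.Lib.Helper18.SerreReg2

/-!
# EGA 0_IV 22.5.4: A[T_i]/(T_i^p + p Σ c_ij T_i^(p-j) - f_i) over a (regular) local ring with p ∈ 𝔪²

exists_derivation_quotient (derivations descend along surjections), linearIndependent_of_dual_derivation',
linearIndependent_vv_quotient_iff (independence of differentials mod I ≤ 𝔪²), isLocalRing_of_quotient,
map_maximalIdeal_le_of_isIntegral, Gbar / bcEquiv (base change of SepVar.Quot mod I), main (general monic G_i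
reducing to T^p - f_i mod 𝔪²), GG, final (regularity criterion).
-/

set_option autoImplicit false
universe u
open IsLocalRing TensorProduct Polynomial

namespace Groth.Agent.Lib.Helper23.KeyLemma2


open Groth.Agent.Lib.Helper23 Groth.Agent.Lib.Helper23.KeyLemma

noncomputable section

section Quot

open Groth.Agent.Lib.Helper23.PBasisDer TrivSqZeroExt

attribute [local instance] Groth.Agent.Lib.Helper23.PBasisDer.opModule
  Groth.Agent.Lib.Helper23.PBasisDer.isCentral

/-- a derivation killing the kernel of a surjection `A → A'` with values in an `A'`-module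
descends to `A'`. -/
theorem exists_derivation_quotient {A : Type u} [CommRing A] {A' : Type u} [CommRing A']
    [Algebra A A'] (hsurj : Function.Surjective (algebraMap A A')) {M : Type u}
    [AddCommGroup M] [Module A M] [Module A' M] [IsScalarTower A A' M]
    (D : Derivation ℤ A M) (h : ∀ x, algebraMap A A' x = 0 → D x = 0) :
    ∃ D' : Derivation ℤ A' M, ∀ a, D' (algebraMap A A' a) = D a := by
  let w₀ : A →+* TrivSqZeroExt A' M :=
    { toFun := fun a => inl (algebraMap A A' a) + inr (D a)
      map_one' := by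
        apply TrivSqZeroExt.ext <;> simp
      map_mul' := fun a b => by
        apply TrivSqZeroExt.ext
        · simp
        · simp only [snd_add, snd_inl, snd_inr, zero_add, snd_mul, fst_add, fst_inl, fst_inr,
            add_zero, Derivation.leibniz, op_smul_eq_smul]
          rw [algebraMap_smul, algebraMap_smul, add_comm]
      map_zero' := by
        apply TrivSqZeroExt.ext <;> simp
      map_add' := fun a b => by
        apply TrivSqZeroExt.ext <;> simp [add_comm] }
  have hw₀ : ∀ a, w₀ a = inl (algebraMap A A' a) + inr (D a) := fun a => rfl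
  have hker : RingHom.ker (algebraMap A A') ≤ RingHom.ker w₀ := by
    intro a ha
    rw [RingHom.mem_ker] at ha ⊢
    rw [hw₀, ha, h a ha]
    simp
  let w : A' →+* TrivSqZeroExt A' M :=
    (algebraMap A A').liftOfSurjective hsurj ⟨w₀, hker⟩
  have hw : ∀ a, w (algebraMap A A' a) = w₀ a := fun a =>
    RingHom.liftOfRightInverse_comp_apply _ _ _ ⟨w₀, hker⟩ a
  have hfst : ∀ b, (w b).fst = b := by
    intro b
    obtain ⟨a, rfl⟩ := hsurj b
    rw [hw, hw₀]
    simp
  refine ⟨homToDer w hfst, fun a => ?_⟩
  rw [homToDer_apply, hw, hw₀]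
  simp

end Quot

section LI

variable {A : Type u} [CommRing A] [IsLocalRing A]

/-- differentials with dual derivations valued in an extension field are independent. -/
theorem linearIndependent_of_dual_derivation' {ι : Type*} (a : ι → A) (L : Type u) [Field L]
    [Algebra A L] [Algebra (ResidueField A) L] [IsScalarTower A (ResidueField A) L]
    (h : ∀ j, ∃ D : Derivation ℤ A L, D (a j) = 1 ∧ ∀ i, i ≠ j → D (a i) = 0) :
    LinearIndependent (ResidueField A) (fun i => vv (a i)) := by
  classical
  rw [linearIndependent_iff']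
  intro s c hc j hj
  obtain ⟨D, hD1, hD0⟩ := h j
  have h1 := congrArg (derFun D) hc
  rw [map_sum, map_zero] at h1
  simp only [map_smul, derFun_vv] at h1
  rw [Finset.sum_eq_single j] at h1
  · rw [hD1, Algebra.smul_def, mul_one] at h1
    exact (algebraMap (ResidueField A) L).injective (by rw [h1, map_zero])
  · intro i _ hij
    rw [hD0 i hij, smul_zero]
  · intro hj'
    exact absurd hj hj'

theorem derivation_eq_zero_of_mem_sq {L : Type*} [AddCommGroup L] [Module A L]
    [Module (ResidueField A) L] [IsScalarTower A (ResidueField A) L] (D : Derivation ℤ A L)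
    (x : A) (hx : x ∈ maximalIdeal A ^ 2) : D x = 0 := by
  rw [pow_two] at hx
  refine Submodule.mul_induction_on hx ?_ ?_
  · intro a ha b hb
    rw [Derivation.leibniz, ← algebraMap_smul (ResidueField A) a,
      ← algebraMap_smul (ResidueField A) b,
      ResidueField.algebraMap_eq, (residue_eq_zero_iff a).mpr ha,
      (residue_eq_zero_iff b).mpr hb, zero_smul, zero_smul, add_zero]
  · intro a b ha hb
    rw [map_add, ha, hb, add_zero]

/-- the independence of differentials can be tested modulo an ideal contained in `𝔪²`. -/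
theorem linearIndependent_vv_quotient_iff (I : Ideal A) (hI : I ≤ maximalIdeal A ^ 2)
    [IsLocalRing (A ⧸ I)] {ι : Type*} (a : ι → A) :
    LinearIndependent (ResidueField (A ⧸ I)) (fun i => vv (Ideal.Quotient.mk I (a i))) ↔
      LinearIndependent (ResidueField A) (fun i => vv (a i)) := by
  haveI : IsLocalHom (algebraMap A (A ⧸ I)) :=
    IsLocalHom.of_surjective _ Ideal.Quotient.mk_surjective
  constructor
  · intro h
    apply linearIndependent_of_dual_derivation' a (ResidueField (A ⧸ I))
    intro j
    obtain ⟨D', hD1, hD0⟩ := exists_dual_derivation _ h j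
    exact ⟨Derivation.compAlgebraMap A D', hD1, hD0⟩
  · intro h
    apply linearIndependent_of_dual_derivation
    intro j
    obtain ⟨D, hD1, hD0⟩ := exists_dual_derivation a h j
    let D₁ : Derivation ℤ A (ResidueField (A ⧸ I)) :=
      (IsScalarTower.toAlgHom A (ResidueField A) (ResidueField (A ⧸ I))).toLinearMap.compDer D
    have hD₁ : ∀ x, D₁ x = algebraMap (ResidueField A) (ResidueField (A ⧸ I)) (D x) := fun x => rfl
    obtain ⟨D', hD'⟩ := exists_derivation_quotient (A' := A ⧸ I) Ideal.Quotient.mk_surjective D₁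
      (fun x hx => by
        rw [hD₁, derivation_eq_zero_of_mem_sq D x
          (hI (Ideal.Quotient.eq_zero_iff_mem.mp hx)), map_zero])
    have hD'' : ∀ x, D' (Ideal.Quotient.mk I x) = D₁ x := hD'
    refine ⟨D', ?_, ?_⟩
    · rw [hD'', hD₁, hD1, map_one]
    · intro i hi
      rw [hD'', hD₁, hD0 i hi, map_zero]

end LI

section Local

/-- a ring with an ideal contained in all maximal ideals and local quotient is local. -/
theorem isLocalRing_of_quotient {B : Type*} [CommRing B] (J : Ideal B)
    (hJ : ∀ M : Ideal B, M.IsMaximal → J ≤ M) [IsLocalRing (B ⧸ J)] : IsLocalRing B := by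
  haveI : IsLocalHom (Ideal.Quotient.mk J) := by
    apply isLocalHom_of_le_jacobson_bot
    unfold Ideal.jacobson
    exact le_sInf (fun M hM => hJ M hM.2)
  exact RingHom.domain_isLocalRing (Ideal.Quotient.mk J)

/-- maximal ideals of an integral extension of a local ring contain the maximal ideal. -/
theorem map_maximalIdeal_le_of_isIntegral {A B : Type*} [CommRing A] [IsLocalRing A] [CommRing B]
    [Algebra A B] [Algebra.IsIntegral A B] (M : Ideal B) (hM : M.IsMaximal) :
    (maximalIdeal A).map (algebraMap A B) ≤ M := by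
  rw [Ideal.map_le_iff_le_comap]
  have : (M.comap (algebraMap A B)).IsMaximal := Ideal.isMaximal_comap_of_isIntegral_of_isMaximal M
  rw [eq_maximalIdeal this]

end Local

end



open Groth.Agent.Lib.Helper23

noncomputable section

section BC

variable {A : Type u} [CommRing A] (I : Ideal A) {r : ℕ} (G : Fin r → A[X])

/-- reduction of `G` modulo `I`. -/
def Gbar : Fin r → (A ⧸ I)[X] := fun i => (G i).map (Ideal.Quotient.mk I)

/-- `A[T] → (A/I)[T]/(Ḡ)`. -/
def piBar : MvPolynomial (Fin r) A →+* SepVar.Quot (A ⧸ I) (Gbar I G) :=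
  (Ideal.Quotient.mk _).comp (MvPolynomial.map (Ideal.Quotient.mk I))

theorem piBar_surjective : Function.Surjective (piBar I G) :=
  Ideal.Quotient.mk_surjective.comp (MvPolynomial.map_surjective _ Ideal.Quotient.mk_surjective)

theorem ideal_Gbar : SepVar.ideal (A ⧸ I) (Gbar I G) =
    (SepVar.ideal A G).map (MvPolynomial.map (Ideal.Quotient.mk I)) := by
  unfold SepVar.ideal
  rw [Ideal.map_span, ← Set.range_comp]
  congr 2
  funext i
  simp only [Gbar, Function.comp_apply]
  rw [Polynomial.aeval_def, Polynomial.aeval_def, Polynomial.eval₂_map, Polynomial.hom_eval₂]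
  congr 1
  · ext a
    simp [MvPolynomial.algebraMap_eq]
  · simp

theorem ker_piBar : RingHom.ker (piBar I G) = SepVar.ideal A G ⊔ I.map MvPolynomial.C := by
  rw [piBar, ← RingHom.comap_ker, Ideal.mk_ker, ideal_Gbar,
    Ideal.comap_map_of_surjective' (MvPolynomial.map (σ := Fin r) (Ideal.Quotient.mk I))
      (MvPolynomial.map_surjective _ Ideal.Quotient.mk_surjective),
    MvPolynomial.ker_map, Ideal.mk_ker]

theorem map_algebraMap_eq : I.map (algebraMap A (SepVar.Quot A G)) =
    (I.map MvPolynomial.C).map (Ideal.Quotient.mk (SepVar.ideal A G)) := by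
  rw [Ideal.map_map]
  rfl

/-- `B/IB ≅ (A/I)[T]/(Ḡ)`. -/
def bcEquiv : (SepVar.Quot A G ⧸ I.map (algebraMap A (SepVar.Quot A G))) ≃+*
    SepVar.Quot (A ⧸ I) (Gbar I G) :=
  ((Ideal.quotEquivOfEq (map_algebraMap_eq I G)).trans
    (DoubleQuot.quotQuotEquivQuotSup (SepVar.ideal A G) (I.map MvPolynomial.C))).trans
    ((Ideal.quotEquivOfEq (ker_piBar I G).symm).trans
      (RingHom.quotientKerEquivOfSurjective (piBar_surjective I G)))

end BC

end



open Groth.Agent.Lib.Helper23 Groth.Agent.Lib.Helper23.KeyLemma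

noncomputable section

section Main

theorem edim_quotient_of_le_sq {R : Type u} [CommRing R] [IsLocalRing R] [IsNoetherianRing R]
    (I : Ideal R) (hI : I ≤ maximalIdeal R ^ 2) [IsLocalRing (R ⧸ I)] :
    (maximalIdeal (R ⧸ I)).spanFinrank = (maximalIdeal R).spanFinrank :=
  le_antisymm (edim_quotient_le _)
    (Groth.Agent.Lib.Helper21.spanFinrank_maximalIdeal_le_of_le_sq _ hI)

variable {A : Type u} [CommRing A] [IsLocalRing A] (p : ℕ) [hp : Fact p.Prime]
  [CharP (ResidueField A) p]

theorem isLocalRing_quot_sq : IsLocalRing (A ⧸ maximalIdeal A ^ 2) :=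
  isLocalRing_quotient _ (Ideal.pow_le_self two_ne_zero)

theorem charP_quot_sq (hpA : (p : A) ∈ maximalIdeal A ^ 2) :
    CharP (A ⧸ maximalIdeal A ^ 2) p := by
  haveI := isLocalRing_quot_sq (A := A)
  have hp0 : (p : A ⧸ maximalIdeal A ^ 2) = 0 := by
    rw [← map_natCast (Ideal.Quotient.mk (maximalIdeal A ^ 2))]
    exact Ideal.Quotient.eq_zero_iff_mem.mpr hpA
  haveI : IsLocalHom (Ideal.Quotient.mk (maximalIdeal A ^ 2)) :=
    .of_surjective _ Ideal.Quotient.mk_surjective
  haveI : CharP (ResidueField (A ⧸ maximalIdeal A ^ 2)) p :=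
    charP_of_injective_ringHom
      (ResidueField.map (Ideal.Quotient.mk (maximalIdeal A ^ 2))).injective p
  constructor
  intro n
  constructor
  · intro h
    exact (CharP.cast_eq_zero_iff (ResidueField (A ⧸ maximalIdeal A ^ 2)) p n).mp
      (by rw [← map_natCast (residue (A ⧸ maximalIdeal A ^ 2)), h, map_zero])
  · rintro ⟨k, rfl⟩
    rw [Nat.cast_mul, hp0, zero_mul]

theorem main [IsNoetherianRing A] (hpA : (p : A) ∈ maximalIdeal A ^ 2) {r : ℕ}
    (G : Fin r → A[X]) (hG : ∀ i, (G i).Monic) (f : Fin r → A)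
    (hGf : ∀ i, (G i).map (Ideal.Quotient.mk (maximalIdeal A ^ 2)) =
      Gp p (Ideal.Quotient.mk _ (f i))) :
    ∃ _ : IsLocalRing (SepVar.Quot A G),
      (maximalIdeal A).spanFinrank ≤ (maximalIdeal (SepVar.Quot A G)).spanFinrank ∧
      ((maximalIdeal (SepVar.Quot A G)).spanFinrank = (maximalIdeal A).spanFinrank ↔
        LinearIndependent (ResidueField A) (fun i => vv (f i))) ∧
      Module.Finite A (SepVar.Quot A G) ∧ Module.Free A (SepVar.Quot A G) := by
  haveI := isLocalRing_quot_sq (A := A)
  haveI := charP_quot_sq p hpA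
  obtain ⟨hloc', h1, h2⟩ := klProp p r (A ⧸ maximalIdeal A ^ 2)
    (fun i => Ideal.Quotient.mk _ (f i))
  have hGbar : Gbar (maximalIdeal A ^ 2) G =
      fun i => Gp p (Ideal.Quotient.mk (maximalIdeal A ^ 2) (f i)) := funext hGf
  have e := bcEquiv (maximalIdeal A ^ 2) G
  rw [hGbar] at e
  haveI : IsLocalRing (SepVar.Quot A G ⧸
      (maximalIdeal A ^ 2).map (algebraMap A (SepVar.Quot A G))) := e.symm.isLocalRing
  obtain ⟨hfree, hrank⟩ := SepVar.free_and_finrank r A G hG
  have hdeg : ∀ i, (G i).natDegree = p := by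
    intro i
    rw [← (hG i).natDegree_map (Ideal.Quotient.mk (maximalIdeal A ^ 2)), hGf i, natDegree_Gp]
  haveI : Module.Finite A (SepVar.Quot A G) := by
    apply Module.finite_of_finrank_pos
    rw [hrank]
    apply Finset.prod_pos
    intro i _
    rw [hdeg i]
    exact hp.out.pos
  haveI : IsLocalRing (SepVar.Quot A G) :=
    isLocalRing_of_quotient ((maximalIdeal A ^ 2).map (algebraMap A (SepVar.Quot A G)))
      (fun M hM => (Ideal.map_mono (Ideal.pow_le_self two_ne_zero)).trans
        (map_maximalIdeal_le_of_isIntegral M hM))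
  have hJ : (maximalIdeal A ^ 2).map (algebraMap A (SepVar.Quot A G)) ≤
      maximalIdeal (SepVar.Quot A G) ^ 2 := by
    rw [Ideal.map_pow]
    exact Ideal.pow_right_mono
      (map_maximalIdeal_le_of_isIntegral _ (maximalIdeal.isMaximal _)) 2
  have EB := edim_quotient_of_le_sq _ hJ
  have EA := edim_quotient_of_le_sq (maximalIdeal A ^ 2) le_rfl
  have Ee := edim_eq_of_ringEquiv
    (R := SepVar.Quot A G ⧸ (maximalIdeal A ^ 2).map (algebraMap A (SepVar.Quot A G)))
    (S := SepVar.Quot (A ⧸ maximalIdeal A ^ 2)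
      fun i => Gp p ((Ideal.Quotient.mk (maximalIdeal A ^ 2)) (f i))) e
  have hLI := linearIndependent_vv_quotient_iff (maximalIdeal A ^ 2) le_rfl f
  refine ⟨inferInstance, ?_, ?_, inferInstance, hfree⟩
  · omega
  · rw [← hLI, ← h2]
    constructor
    · intro h; omega
    · intro h; omega

end Main

end



open Groth.Agent.Lib.Helper23 Groth.Agent.Lib.Helper23.KeyLemma

noncomputable section

section Poly

variable {A : Type u} [CommRing A] (p : ℕ) [hp : Fact p.Prime]

/-- the one-variable polynomial `T^p + p Σ c_j T^{p-j} - f`. -/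
def GG (c : Fin p → A) (f : A) : A[X] :=
  X ^ p + (p : A[X]) * (Finset.univ.sum fun j : Fin p =>
    if (j : ℕ) = 0 then 0 else C (c j) * X ^ (p - (j : ℕ))) - C f

omit hp in
theorem aeval_GG {r : ℕ} (c : Fin p → A) (f : A) (i : Fin r) :
    Polynomial.aeval (MvPolynomial.X i : MvPolynomial (Fin r) A) (GG p c f) =
      MvPolynomial.X i ^ p + (p : MvPolynomial (Fin r) A) * (Finset.univ.sum fun j : Fin p =>
        if (j : ℕ) = 0 then 0 else MvPolynomial.C (c j) * MvPolynomial.X i ^ (p - (j : ℕ))) -
        MvPolynomial.C (f) := by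
  simp only [GG, map_sub, map_add, map_mul, map_pow, Polynomial.aeval_X, map_natCast, map_sum,
    Polynomial.aeval_C, MvPolynomial.algebraMap_eq]
  congr 3
  apply Finset.sum_congr rfl
  intro j _
  split_ifs <;> simp [MvPolynomial.algebraMap_eq]

theorem monic_GG [Nontrivial A] (c : Fin p → A) (f : A) : (GG p c f).Monic := by
  have h : GG p c f = X ^ p + ((p : A) • (Finset.univ.sum fun j : Fin p =>
      if (j : ℕ) = 0 then 0 else C (c j) * X ^ (p - (j : ℕ))) - C f) := by
    rw [GG, add_sub_assoc, Polynomial.smul_eq_C_mul, Polynomial.C_eq_natCast]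
  rw [h]
  apply Polynomial.monic_X_pow_add
  rw [← Polynomial.mem_degreeLT]
  apply Submodule.sub_mem
  · apply Submodule.smul_mem
    apply Submodule.sum_mem
    intro j _
    split_ifs with hj
    · exact Submodule.zero_mem _
    · rw [Polynomial.mem_degreeLT]
      refine (Polynomial.degree_C_mul_X_pow_le _ _).trans_lt ?_
      exact_mod_cast Nat.sub_lt hp.out.pos (Nat.pos_of_ne_zero hj)
  · rw [Polynomial.mem_degreeLT]
    exact (Polynomial.degree_C_le).trans_lt (by exact_mod_cast hp.out.pos)

omit hp in
theorem map_GG (I : Ideal A) (hpI : (p : A) ∈ I) (c : Fin p → A) (f : A) :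
    (GG p c f).map (Ideal.Quotient.mk I) = Gp p (Ideal.Quotient.mk I f) := by
  have h0 : ((p : ℕ) : (A ⧸ I)[X]) = 0 := by
    rw [← Polynomial.C_eq_natCast, ← map_natCast (Ideal.Quotient.mk I),
      Ideal.Quotient.eq_zero_iff_mem.mpr hpI, map_zero]
  simp only [GG, Gp, Polynomial.map_sub, Polynomial.map_add, Polynomial.map_mul,
    Polynomial.map_pow, Polynomial.map_X, Polynomial.map_natCast, Polynomial.map_C, h0, zero_mul,
    add_zero]

end Poly

section Final

variable {A : Type u} [CommRing A] [IsRegularLocalRing A] (p : ℕ) [hp : Fact p.Prime]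
  [CharP (ResidueField A) p]

theorem isRegularRing_iff_of_isLocalRing (B : Type u) [CommRing B] [IsLocalRing B]
    [IsNoetherianRing B] : IsRegularRing B ↔ IsRegularLocalRing B := by
  constructor
  · intro h
    exact IsRegularLocalRing.of_isRegularRing_of_isLocalRing B
  · intro h
    rw [isRegularRing_iff]
    intro q _
    exact Groth.Agent.Lib.Helper18.SerreReg.isRegularLocalRing_localization_atPrime B q

theorem final (hpA : (p : A) ∈ maximalIdeal A ^ 2) {r : ℕ}
    (c : Fin r → Fin p → A) (f : Fin r → A) :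
    ∃ _ : IsLocalRing (SepVar.Quot A (fun i => GG p (c i) (f i))),
      (IsRegularRing (SepVar.Quot A (fun i => GG p (c i) (f i))) ↔
        LinearIndependent (ResidueField A) (fun i => vv (f i))) := by
  obtain ⟨hloc, h1, h2, hfin, hfree⟩ := main p hpA (fun i => GG p (c i) (f i))
    (fun i => monic_GG p (c i) (f i)) f (fun i => map_GG p _ hpA (c i) (f i))
  refine ⟨hloc, ?_⟩
  rw [isRegularRing_iff_of_isLocalRing, isRegularLocalRing_iff, ← h2]
  have hinj : Function.Injective (algebraMap A (SepVar.Quot A (fun i => GG p (c i) (f i)))) :=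
    FaithfulSMul.algebraMap_injective _ _
  have hdim := Groth.Agent.Lib.Helper12.ringKrullDim_eq_of_isIntegral_of_injective A
    (SepVar.Quot A (fun i => GG p (c i) (f i))) hinj
  rw [← hdim, ← IsRegularLocalRing.spanFinrank_maximalIdeal (R := A)]
  exact Nat.cast_inj

end Final

end

end Groth.Agent.Lib.Helper23.KeyLemma2
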