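import Mathlib
import Groth.Prelude.Def_CAlgX
import Groth.Prelude.Def_PP16
import Groth.Agent.Lib.Helper23.SymPow
import Groth.Agent.Lib.Helper23.SymGr
import Groth.Agent.Lib.Helper12.QuasiReg2
import Groth.Agent.Lib.Helper21.RegularLocal
import Groth.Agent.Lib.Helper23.QuasiRegReg

/-!
# Regular local rings and `Sym(𝔪/𝔪²) ≅ gr_𝔪(A)` (EGA 0_IV 17.1.1)

For an ideal `J` and `x : Fin c → J`:
* `injective_of_isQuasiRegular`: `x` generates `J` and is quasi-regular ⇒ `SymGr.can A J ι` injective (all nonempty `ι`);
* `coeff_mem_of_injective`, `isQuasiRegular_of_injective`: conversely if the classes of `x` form a basis of `J/J²`.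
For a Noetherian local ring `A`:
* `isRegularLocalRing_iff_symGrBijective : IsRegularLocalRing A ↔ PP16.SymGrBijective A (maximalIdeal A)`.
-/

set_option autoImplicit false
universe u


namespace Groth.Agent.Lib.Helper23.SymGrRegular


open MvPolynomial Groth.Agent.Lib.Helper23

section mon

variable {c : ℕ}

/-- the exponent vector of a function `ι → Fin c` (viewed as a monomial). -/
noncomputable def mon {ι : Type*} [Fintype ι] (s : ι → Fin c) : Fin c →₀ ℕ :=
  ∑ i, Finsupp.single (s i) 1

lemma degree_mon {ι : Type*} [Fintype ι] (s : ι → Fin c) : (mon s).degree = Fintype.card ι := by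
  unfold mon
  rw [map_sum]
  simp

lemma prod_X_eq {R : Type*} [CommSemiring R] {ι : Type*} [Fintype ι] (s : ι → Fin c) :
    ∏ i, (X (s i) : MvPolynomial (Fin c) R) = monomial (mon s) 1 := by
  unfold mon
  rw [monomial_sum_one]
  rfl

lemma mon_apply {ι : Type*} [Fintype ι] [DecidableEq ι] (s : ι → Fin c) (j : Fin c) :
    mon s j = Fintype.card {i // s i = j} := by
  classical
  unfold mon
  rw [Finsupp.finset_sum_apply, Fintype.card_subtype]
  simp only [Finsupp.single_apply]
  rw [Finset.sum_ite, Finset.sum_const_zero, add_zero, Finset.sum_const, smul_eq_mul, mul_one]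

lemma exists_fin_of_degree : ∀ (n : ℕ) (d : Fin c →₀ ℕ), d.degree = n →
    ∃ s : Fin n → Fin c, mon s = d := by
  intro n
  induction n with
  | zero =>
    intro d hd
    refine ⟨Fin.elim0, ?_⟩
    rw [Finsupp.degree_eq_zero_iff] at hd
    rw [hd]
    simp [mon]
  | succ n ih =>
    intro d hd
    have hne : d ≠ 0 := by
      rintro rfl
      simp at hd
    obtain ⟨j, hj⟩ : ∃ j, d j ≠ 0 := by
      by_contra h
      push_neg at h
      exact hne (Finsupp.ext h)
    set d' : Fin c →₀ ℕ := d - Finsupp.single j 1 with hd'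
    have hdd : d = d' + Finsupp.single j 1 := by
      ext k
      simp only [hd', Finsupp.coe_add, Finsupp.coe_tsub, Pi.add_apply, Pi.sub_apply,
        Finsupp.single_apply]
      split_ifs with hk
      · subst hk; omega
      · omega
    have hdeg' : d'.degree = n := by
      have := congrArg Finsupp.degree hdd
      rw [map_add, Finsupp.degree_single, hd] at this
      omega
    obtain ⟨s', hs'⟩ := ih d' hdeg'
    refine ⟨Fin.cons j s', ?_⟩
    unfold mon at hs' ⊢
    rw [Fin.sum_univ_succ]
    simp only [Fin.cons_zero, Fin.cons_succ]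
    rw [hs', hdd, add_comm]

lemma exists_fun_of_degree {ι : Type*} [Fintype ι] (d : Fin c →₀ ℕ)
    (hd : d.degree = Fintype.card ι) : ∃ s : ι → Fin c, mon s = d := by
  obtain ⟨s₀, hs₀⟩ := exists_fin_of_degree (Fintype.card ι) d hd
  refine ⟨s₀ ∘ (Fintype.equivFin ι), ?_⟩
  rw [← hs₀]
  unfold mon
  exact Equiv.sum_comp (Fintype.equivFin ι) (fun k => Finsupp.single (s₀ k) 1)

lemma exists_perm_of_mon_eq {ι : Type*} [Fintype ι] (s s' : ι → Fin c) (h : mon s = mon s') :
    ∃ e : Equiv.Perm ι, ∀ i, s' (e i) = s i := by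
  classical
  have hcard : ∀ j, Fintype.card {i // s i = j} = Fintype.card {i // s' i = j} := by
    intro j
    rw [← mon_apply, ← mon_apply, h]
  refine ⟨Equiv.ofFiberEquiv (fun j => Fintype.equivOfCardEq (hcard j)), fun i => ?_⟩
  exact Equiv.ofFiberEquiv_map _ i

end mon



open MvPolynomial Groth.Agent.Lib.Helper23

section T

variable {A : Type u} [CommRing A] (J : Ideal A) {c : ℕ} (x : Fin c → J) (ι : Type u) [Fintype ι]

/-- the symmetric tensor of the classes `x̄_{s i}`. -/
noncomputable def T (s : ι → Fin c) : SymmetricPower A ι J.Cotangent :=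
  SymmetricPower.tprod A (fun i => J.toCotangent (x (s i)))

lemma T_eq_of_mon_eq (s s' : ι → Fin c) (h : mon s = mon s') : T J x ι s = T J x ι s' := by
  obtain ⟨e, he⟩ := exists_perm_of_mon_eq s s' h
  unfold T
  have := SymmetricPower.tprod_equiv (R := A) e (fun i => J.toCotangent (x (s' i)))
  rw [← this]
  congr 1
  funext i
  rw [he]

lemma can_T (s : ι → Fin c) :
    SymGr.can A J ι (T J x ι s) = PP16.zetaJ A J (fun i => x (s i)) :=
  SymGr.can_tprod A J ι (fun i => x (s i))

lemma eval_monomial_mon (s : ι → Fin c) :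
    eval (fun j => (x j : A)) (monomial (mon s) 1) = ∏ i, (x (s i) : A) := by
  rw [← prod_X_eq, map_prod]
  simp

end T



open MvPolynomial Groth.Agent.Lib.Helper23

section part2

variable {A : Type u} [CommRing A] (J : Ideal A) {c : ℕ} (x : Fin c → J) (ι : Type u) [Fintype ι]
  (hli : LinearIndependent (A ⧸ J) (fun j => J.toCotangent (x j)))
  (hsp : Submodule.span (A ⧸ J) (Set.range fun j => J.toCotangent (x j)) = ⊤)

/-- the basis of `J/J²` given by the classes of the `x j`. -/
noncomputable def bas : Module.Basis (Fin c) (A ⧸ J) J.Cotangent :=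
  Module.Basis.mk hli (by rw [hsp])

/-- the linear form `J/J² → (A/J)[X]`, `x̄_j ↦ X_j`. -/
noncomputable def L : J.Cotangent →ₗ[A] MvPolynomial (Fin c) (A ⧸ J) :=
  ((Finsupp.linearCombination (A ⧸ J) (fun j => (X j : MvPolynomial (Fin c) (A ⧸ J)))) ∘ₗ
    (bas J x hli hsp).repr.toLinearMap).restrictScalars A

lemma L_x (j : Fin c) : L J x hli hsp (J.toCotangent (x j)) = X j := by
  have h1 : J.toCotangent (x j) = bas J x hli hsp j := by
    unfold bas
    rw [Module.Basis.mk_apply]
  unfold L
  rw [LinearMap.restrictScalars_apply, LinearMap.comp_apply, h1]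
  simp

lemma prodMap_T (s : ι → Fin c) :
    SymPow.prodMap (L J x hli hsp) (T J x ι s) = monomial (mon s) 1 := by
  unfold T
  rw [SymPow.prodMap_tprod]
  simp_rw [L_x]
  exact prod_X_eq s

include hli hsp in
theorem coeff_mem_of_injective (hinj : Function.Injective (SymGr.can A J ι))
    (P : MvPolynomial (Fin c) A) (hP : P.IsHomogeneous (Fintype.card ι))
    (hev : eval (fun j => (x j : A)) P ∈ J ^ (Fintype.card ι + 1)) (d : Fin c →₀ ℕ) :
    P.coeff d ∈ J := by
  classical
  have hdeg : ∀ e ∈ P.support, e.degree = Fintype.card ι := by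
    intro e he
    by_contra h
    exact (mem_support_iff.1 he) (hP.coeff_eq_zero h)
  have hex : ∀ e : P.support, ∃ s : ι → Fin c, mon s = e.1 :=
    fun e => exists_fun_of_degree e.1 (hdeg e.1 e.2)
  choose sOf hsOf using hex
  set z : SymmetricPower A ι J.Cotangent :=
    ∑ e ∈ P.support.attach, P.coeff e.1 • T J x ι (sOf e) with hz
  -- (i)
  have h1 : SymPow.prodMap (L J x hli hsp) z = map (Ideal.Quotient.mk J) P := by
    rw [hz, map_sum]
    conv_rhs => rw [P.as_sum, map_sum, ← Finset.sum_attach]
    refine Finset.sum_congr rfl fun e _ => ?_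
    rw [map_smul, prodMap_T, hsOf, smul_monomial, map_monomial]
    congr 1
    rw [Algebra.smul_def, mul_one]
    rfl
  -- (ii)
  have hmem : ∀ e : P.support, ∏ i, (x (sOf e i) : A) ∈ J ^ Fintype.card ι := fun e => by
    simpa using PP16.prod_mem_pow J Finset.univ (fun i => (x (sOf e i) : A)) (fun i _ => (x (sOf e i)).2)
  have h2 : SymGr.can A J ι z = 0 := by
    rw [hz, map_sum]
    have h3 : ∀ e ∈ P.support.attach, SymGr.can A J ι (P.coeff e.1 • T J x ι (sOf e)) =
        Submodule.mkQ _ (P.coeff e.1 • (⟨∏ i, (x (sOf e i) : A), hmem e⟩ : ↥(J ^ Fintype.card ι))) := by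
      intro e _
      rw [map_smul, can_T, map_smul]
      rfl
    rw [Finset.sum_congr rfl h3, ← map_sum, Submodule.mkQ_apply, Submodule.Quotient.mk_eq_zero,
      Submodule.mem_comap, Submodule.subtype_apply, Submodule.coe_sum]
    have h4 : eval (fun j => (x j : A)) P =
        ∑ e ∈ P.support.attach, ((P.coeff e.1 • (⟨∏ i, (x (sOf e i) : A), hmem e⟩ :
          ↥(J ^ Fintype.card ι)) : ↥(J ^ Fintype.card ι)) : A) := by
      conv_lhs => rw [P.as_sum, map_sum, ← Finset.sum_attach]
      refine Finset.sum_congr rfl fun e _ => ?_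
      rw [Submodule.coe_smul, smul_eq_mul]
      have : monomial e.1 (P.coeff e.1) = C (P.coeff e.1) * monomial (mon (sOf e)) 1 := by
        rw [hsOf, C_mul_monomial, mul_one]
      rw [this, map_mul, eval_C, eval_monomial_mon]
    rw [← h4]
    exact hev
  have h5 : z = 0 := hinj (by rw [h2, map_zero])
  rw [h5, map_zero] at h1
  have h6 := congrArg (coeff d) h1
  rw [coeff_zero, coeff_map] at h6
  exact Ideal.Quotient.eq_zero_iff_mem.mp h6.symm

end part2



open MvPolynomial Groth.Agent.Lib.Helper23

section part3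

variable {A : Type u} [CommRing A] (J : Ideal A) {c : ℕ} (x : Fin c → J) (ι : Type u) [Fintype ι]

open Classical in
/-- a chosen symmetric tensor for each exponent vector. -/
noncomputable def Td (d : Fin c →₀ ℕ) : SymmetricPower A ι J.Cotangent :=
  if h : d.degree = Fintype.card ι then T J x ι (exists_fun_of_degree d h).choose else 0

lemma Td_mon (s : ι → Fin c) : Td J x ι (mon s) = T J x ι s := by
  unfold Td
  rw [dif_pos (degree_mon s)]
  apply T_eq_of_mon_eq
  exact (exists_fun_of_degree (mon s) (degree_mon s)).choose_spec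

/-- polynomials → symmetric tensors, `X^d ↦ Td d`. -/
noncomputable def Psi : MvPolynomial (Fin c) A →ₗ[A] SymmetricPower A ι J.Cotangent :=
  (MvPolynomial.basisMonomials (Fin c) A).constr A (Td J x ι)

lemma Psi_monomial (d : Fin c →₀ ℕ) (a : A) : Psi J x ι (monomial d a) = a • Td J x ι d := by
  have h : monomial d a = a • (basisMonomials (Fin c) A d) := by
    rw [coe_basisMonomials, smul_monomial, smul_eq_mul, mul_one]
  rw [h, map_smul, Psi, Module.Basis.constr_basis]

lemma Psi_eq_zero [Nonempty ι] (Q : MvPolynomial (Fin c) A) (hQ : ∀ d, Q.coeff d ∈ J) :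
    Psi J x ι Q = 0 := by
  rw [Q.as_sum, map_sum]
  apply Finset.sum_eq_zero
  intro d _
  rw [Psi_monomial]
  exact SymPow.smul_eq_zero_of_forall _ (fun m => Ideal.Cotangent.smul_eq_zero_of_mem (hQ d) m) _

lemma eval_mem (Q : MvPolynomial (Fin c) A) (hQ : Q.IsHomogeneous (Fintype.card ι)) :
    eval (fun j => (x j : A)) Q ∈ J ^ Fintype.card ι := by
  have h1 := Groth.Agent.Lib.Helper12.QR.eval_mem_pow_of_isHomogeneous (fun j => (x j : A)) hQ
  refine Ideal.pow_right_mono ?_ _ h1
  rw [Ideal.span_le]
  rintro _ ⟨j, rfl⟩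
  exact (x j).2

/-- representability of a symmetric tensor by a form. -/
def Good (z : SymmetricPower A ι J.Cotangent) : Prop :=
  ∃ (Q : MvPolynomial (Fin c) A) (hQ : Q.IsHomogeneous (Fintype.card ι)), Psi J x ι Q = z ∧
    SymGr.can A J ι z = Submodule.Quotient.mk ⟨eval (fun j => (x j : A)) Q, eval_mem J x ι Q hQ⟩

lemma good_add (z w : SymmetricPower A ι J.Cotangent) (hz : Good J x ι z) (hw : Good J x ι w) :
    Good J x ι (z + w) := by
  obtain ⟨Q, hQ, h1, h2⟩ := hz
  obtain ⟨Q', hQ', h1', h2'⟩ := hw
  refine ⟨Q + Q', hQ.add hQ', by rw [map_add, h1, h1'], ?_⟩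
  rw [map_add, h2, h2', ← Submodule.Quotient.mk_add]
  congr 1
  apply Subtype.ext
  simp

lemma good_smul (a : A) (z : SymmetricPower A ι J.Cotangent) (hz : Good J x ι z) :
    Good J x ι (a • z) := by
  obtain ⟨Q, hQ, h1, h2⟩ := hz
  refine ⟨C a * Q, hQ.C_mul a, ?_, ?_⟩
  · rw [← smul_eq_C_mul, map_smul, h1]
  · rw [map_smul, h2, ← Submodule.Quotient.mk_smul]
    congr 1
    apply Subtype.ext
    simp

end part3



open MvPolynomial Groth.Agent.Lib.Helper23

section part3

variable {A : Type u} [CommRing A] (J : Ideal A) {c : ℕ} (x : Fin c → J) (ι : Type u) [Fintype ι]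
  (hs : Ideal.span (Set.range fun j => (x j : A)) = J)

include hs in
lemma exists_coeffs (p : J.Cotangent) : ∃ a : Fin c → A, p = ∑ j, a j • J.toCotangent (x j) := by
  obtain ⟨y, rfl⟩ := J.toCotangent_surjective p
  have hy : (y : A) ∈ Ideal.span (Set.range fun j => (x j : A)) := by rw [hs]; exact y.2
  obtain ⟨a, ha⟩ := Ideal.mem_span_range_iff_exists_fun.1 hy
  refine ⟨a, ?_⟩
  have : y = ∑ j, a j • x j := by
    apply Subtype.ext
    simp [ha]
  rw [this, map_sum]
  simp

include hs in
lemma good_tprod (p : ι → J.Cotangent) : Good J x ι (SymmetricPower.tprod A p) := by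
  classical
  choose a ha using fun i => exists_coeffs J x hs (p i)
  set Q : MvPolynomial (Fin c) A := ∑ r : ι → Fin c, monomial (mon r) (∏ i, a i (r i)) with hQdef
  have hQ : Q.IsHomogeneous (Fintype.card ι) :=
    IsHomogeneous.sum _ _ _ fun r _ => isHomogeneous_monomial _ (degree_mon r)
  refine ⟨Q, hQ, ?_, ?_⟩
  · rw [hQdef, map_sum]
    have hp : p = fun i => ∑ j, a i j • J.toCotangent (x j) := funext ha
    rw [hp, MultilinearMap.map_sum]
    refine Finset.sum_congr rfl fun r _ => ?_
    rw [Psi_monomial, Td_mon, T]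
    exact (MultilinearMap.map_smul_univ (SymmetricPower.tprod A) (fun i => a i (r i))
      (fun i => J.toCotangent (x (r i)))).symm
  · set y : ι → J := fun i => ∑ j, a i j • x j with hy
    have hpy : p = fun i => J.toCotangent (y i) := by
      funext i
      rw [ha i, hy, map_sum]
      simp
    rw [hpy, SymGr.can_tprod, PP16.zetaJ]
    congr 1
    apply Subtype.ext
    change ∏ i, (y i : A) = eval (fun j => (x j : A)) Q
    have h1 : ∀ i, (y i : A) = ∑ j, a i j * (x j : A) := by
      intro i
      simp [hy]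
    simp_rw [h1]
    rw [Finset.prod_univ_sum, hQdef, map_sum]
    rw [Fintype.piFinset_univ]
    refine Finset.sum_congr rfl fun r _ => ?_
    have : monomial (mon r) (∏ i, a i (r i)) = C (∏ i, a i (r i)) * monomial (mon r) 1 := by
      rw [C_mul_monomial, mul_one]
    rw [this, map_mul, eval_C, eval_monomial_mon, Finset.prod_mul_distrib]

include hs in
lemma good_all (z : SymmetricPower A ι J.Cotangent) : Good J x ι z := by
  induction z using SymPow.induction_on with
  | tprod r p => exact good_smul J x ι r _ (good_tprod J x ι hs p)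
  | add a b ha hb => exact good_add J x ι a b ha hb

include hs in
/-- quasi-regular generators ⇒ `Sym^n(J/J²) → J^n/J^{n+1}` injective. -/
theorem injective_of_isQuasiRegular [Nonempty ι]
    (hq : CAlgX.IsQuasiRegular (fun j => (x j : A))) :
    Function.Injective (SymGr.can A J ι) := by
  rw [injective_iff_map_eq_zero]
  intro z hz
  obtain ⟨Q, hQ, h1, h2⟩ := good_all J x ι hs z
  rw [hz, eq_comm, Submodule.Quotient.mk_eq_zero, Submodule.mem_comap, Submodule.subtype_apply] at h2
  have h3 : eval (fun j => (x j : A)) Q ∈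
      Ideal.span (Set.range fun j => (x j : A)) ^ (Fintype.card ι + 1) := by
    rw [hs]
    exact h2
  have h4 : ∀ d, Q.coeff d ∈ J := fun d => by
    have := hq (Fintype.card ι) Q hQ h3 d
    rwa [hs] at this
  rw [← h1]
  exact Psi_eq_zero J x ι Q h4

end part3



open MvPolynomial Groth.Agent.Lib.Helper23 IsLocalRing

section final

variable {A : Type u} [CommRing A] (J : Ideal A) {c : ℕ} (x : Fin c → J)

/-- `Sym ≅ gr` ⇒ the lifted basis of `J/J²` is quasi-regular. -/
theorem isQuasiRegular_of_injective
    (hli : LinearIndependent (A ⧸ J) (fun j => J.toCotangent (x j)))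
    (hsp : Submodule.span (A ⧸ J) (Set.range fun j => J.toCotangent (x j)) = ⊤)
    (hs : Ideal.span (Set.range fun j => (x j : A)) = J)
    (hinj : ∀ (ι : Type u) [Fintype ι] [Nonempty ι], Function.Injective (SymGr.can A J ι)) :
    CAlgX.IsQuasiRegular (fun j => (x j : A)) := by
  intro n P hP hev d
  rw [hs] at hev ⊢
  rcases n with _ | n
  · have hPC : P = C (P.coeff 0) :=
      totalDegree_eq_zero_iff_eq_C.mp (Nat.le_zero.mp hP.totalDegree_le)
    by_cases hd : d = 0
    · subst hd
      have : eval (fun j => (x j : A)) P = P.coeff 0 := by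
        conv_lhs => rw [hPC]
        rw [eval_C]
      rw [this] at hev
      simpa using hev
    · rw [hPC, coeff_C, if_neg (Ne.symm hd)]
      exact zero_mem _
  · have hcard : Fintype.card (ULift.{u} (Fin (n + 1))) = n + 1 := by simp
    have hP' : P.IsHomogeneous (Fintype.card (ULift.{u} (Fin (n + 1)))) := by
      rw [hcard]; exact hP
    exact coeff_mem_of_injective J x (ULift.{u} (Fin (n + 1))) hli hsp
      (hinj (ULift.{u} (Fin (n + 1)))) P hP' (by rw [hcard]; exact hev) d

end final

section regular

variable (A : Type u) [CommRing A] [IsLocalRing A] [IsNoetherianRing A]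

theorem symGrBijective_of_isRegularLocalRing [IsRegularLocalRing A] :
    PP16.SymGrBijective A (maximalIdeal A) := by
  classical
  rw [SymGr.symGrBijective_iff]
  intro ι _ _
  obtain ⟨n, hn⟩ := Groth.Agent.Lib.Helper21.exists_nat_eq_ringKrullDim (R := A)
  obtain ⟨s, hcard, hspan⟩ := Submodule.FG.exists_span_finset_card_eq_spanFinrank
    (maximalIdeal A).fg_of_isNoetherianRing
  have h2 : ((maximalIdeal A).spanFinrank : WithBot ℕ∞) = ringKrullDim A :=
    IsRegularLocalRing.spanFinrank_maximalIdeal
  rw [hn] at h2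
  have h3 : (maximalIdeal A).spanFinrank = n := by exact_mod_cast h2
  rw [h3] at hcard
  let e := s.equivFinOfCardEq hcard
  let x : Fin n → A := fun i => ((e.symm i : s) : A)
  have hrange : Set.range x = (s : Set A) := by
    ext y
    constructor
    · rintro ⟨i, rfl⟩
      exact (e.symm i).2
    · intro hy
      exact ⟨e ⟨y, hy⟩, by simp [x]⟩
  have hx : Ideal.span (Set.range x) = maximalIdeal A := by
    rw [hrange]
    exact hspan
  have hreg := Groth.Agent.Lib.Helper21.isRegular_ofFn_of_span_eq_maximalIdeal n A hn x hx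
  have hq := Groth.Agent.Lib.Helper12.QR.isQuasiRegular_of_isWeaklyRegular n x hreg.toIsWeaklyRegular
  have hmem : ∀ i, x i ∈ maximalIdeal A := fun i => hx ▸ Ideal.subset_span ⟨i, rfl⟩
  exact injective_of_isQuasiRegular (maximalIdeal A) (fun i => ⟨x i, hmem i⟩) ι hx hq

theorem isRegularLocalRing_of_symGrBijective (h : PP16.SymGrBijective A (maximalIdeal A)) :
    IsRegularLocalRing A := by
  classical
  have hinj := (SymGr.symGrBijective_iff A (maximalIdeal A)).mp h
  let b := Module.finBasis (ResidueField A) (CotangentSpace A)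
  set d := Module.finrank (ResidueField A) (CotangentSpace A) with hd
  choose x hx using fun j => (maximalIdeal A).toCotangent_surjective (b j)
  have hfun : (fun j => (maximalIdeal A).toCotangent (x j)) = ⇑b := funext hx
  have hli : LinearIndependent (A ⧸ maximalIdeal A) (fun j => (maximalIdeal A).toCotangent (x j)) := by
    rw [hfun]
    exact b.linearIndependent
  have hsp : Submodule.span (A ⧸ maximalIdeal A)
      (Set.range fun j => (maximalIdeal A).toCotangent (x j)) = ⊤ := by
    rw [hfun]
    exact b.span_eq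
  have hs : Ideal.span (Set.range fun j => (x j : A)) = maximalIdeal A :=
    Groth.Agent.Lib.Helper12.QR.span_eq_of_cotangent_span_eq_top (maximalIdeal A)
      (maximalIdeal A).fg_of_isNoetherianRing (maximalIdeal_le_jacobson ⊥) x hsp
  have hq := isQuasiRegular_of_injective (maximalIdeal A) x hli hsp hs hinj
  have hmem : ∀ i, (x i : A) ∈ maximalIdeal A := fun i => (x i).2
  have hwr := Groth.Agent.Lib.Helper23.QRR.isWeaklyRegular_of_isQuasiRegular d A (fun j => (x j : A)) hmem hq
  have hreg : RingTheory.Sequence.IsRegular A (List.ofFn fun j => (x j : A)) :=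
    RingTheory.Sequence.IsRegular.of_isWeaklyRegular_of_mem_maximalIdeal A (by
      intro r hr
      rw [List.mem_ofFn] at hr
      obtain ⟨i, rfl⟩ := hr
      exact hmem i) hwr
  have hdim := ringKrullDim_add_length_eq_ringKrullDim_of_isRegular _ hreg
  rw [List.length_ofFn] at hdim
  apply IsRegularLocalRing.of_spanFinrank_maximalIdeal_le
  have h1 : (maximalIdeal A).spanFinrank ≤ d := by
    rw [← hs]
    refine (Submodule.spanFinrank_span_le_ncard_of_finite (Set.finite_range _)).trans ?_
    have := Set.ncard_image_le (f := fun j => (x j : A)) (s := Set.univ) Set.finite_univ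
    simpa [Set.image_univ, Set.ncard_univ, Nat.card_eq_fintype_card] using this
  have h2 : (d : WithBot ℕ∞) ≤ ringKrullDim A := by
    rw [← hdim]
    have h0 : (0 : WithBot ℕ∞) ≤ ringKrullDim (A ⧸ Ideal.ofList (List.ofFn fun j => (x j : A))) := by
      haveI : Nontrivial (A ⧸ Ideal.ofList (List.ofFn fun j => (x j : A))) := by
        rw [Ideal.Quotient.nontrivial_iff]
        intro htop
        have hle : Ideal.ofList (List.ofFn fun j => (x j : A)) ≤ maximalIdeal A := by
          unfold Ideal.ofList
          rw [Ideal.span_le]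
          intro r hr
          simp only [Set.mem_setOf_eq, List.mem_ofFn] at hr
          obtain ⟨i, rfl⟩ := hr
          exact hmem i
        rw [htop] at hle
        exact (maximalIdeal.isMaximal A).ne_top (top_le_iff.mp hle)
      exact ringKrullDim_nonneg_of_nontrivial
    calc (d : WithBot ℕ∞) = 0 + d := by rw [zero_add]
      _ ≤ _ := add_le_add_left h0 _
  exact le_trans (by exact_mod_cast h1) h2

theorem isRegularLocalRing_iff_symGrBijective :
    IsRegularLocalRing A ↔ PP16.SymGrBijective A (maximalIdeal A) :=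
  ⟨fun _ => symGrBijective_of_isRegularLocalRing A, isRegularLocalRing_of_symGrBijective A⟩

end regular

end Groth.Agent.Lib.Helper23.SymGrRegular
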