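import Mathlib
import Groth.Prelude.Def_CAlgX

/-!
# Reduction of adic formal smoothness to steps whose kernel is killed by the ideal of definition

`of_smallStepB`: to prove `CAlgX.IsAdicFormallySmooth A B J` it suffices to lift `u : B → E''` along
surjections `π : E' → E''` of `A`-algebras whose kernel `K` satisfies `K² = 0` and `u(J)·K = 0`
(with the lift again killing a power of `J`).
-/

set_option autoImplicit false
universe u

namespace Groth.Agent.Lib.Helper23.AdicSmoothB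

theorem of_smallStepB {A B : Type u} [CommRing A] [CommRing B] [Algebra A B] (J : Ideal B)
    (hstep : ∀ {E' E'' : Type u} [CommRing E'] [CommRing E''] [Algebra A E'] [Algebra A E'']
      (π : E' →ₐ[A] E''), Function.Surjective π →
      (∀ x y, π x = 0 → π y = 0 → x * y = 0) →
      ∀ u : B →ₐ[A] E'', (∃ m : ℕ, ∀ x ∈ J ^ m, u x = 0) →
      (∀ x ∈ J, ∀ e κ, π e = u x → π κ = 0 → e * κ = 0) →
        ∃ v : B →ₐ[A] E', (∀ b, π (v b) = u b) ∧ ∃ m : ℕ, ∀ x ∈ J ^ m, v x = 0) :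
    CAlgX.IsAdicFormallySmooth A B J := by
  intro E _ _ N hN ψ hψ
  obtain ⟨k, hk⟩ := hψ
  set M : Ideal E := Ideal.comap (Ideal.Quotient.mk N) (J.map ψ.toRingHom) with hM
  have hNM : N ≤ M := by
    intro c hc
    rw [hM, Ideal.mem_comap, Ideal.Quotient.eq_zero_iff_mem.mpr hc]
    exact Ideal.zero_mem _
  have hMk : M ^ k ≤ N := by
    have h1 : M ^ k ≤ Ideal.comap (Ideal.Quotient.mk N) ((J.map ψ.toRingHom) ^ k) :=
      Ideal.le_comap_pow _ k
    refine h1.trans ?_
    have e1 := Ideal.map_pow ψ.toRingHom J k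
    rw [← e1]
    have h2 : (J ^ k).map ψ.toRingHom = ⊥ := by
      rw [Ideal.map_eq_bot_iff_le_ker]
      intro x hx
      exact hk x hx
    rw [h2]
    intro c hc
    rw [Ideal.mem_comap, Ideal.mem_bot] at hc
    exact Ideal.Quotient.eq_zero_iff_mem.mp hc
  have hLN : ∀ i, N * M ^ i ≤ N := fun i => Ideal.mul_le_left
  have claim : ∀ i : ℕ, ∃ v : B →ₐ[A] E ⧸ (N * M ^ i),
      (∀ b, ∃ c, Ideal.Quotient.mk (N * M ^ i) c = v b ∧ Ideal.Quotient.mk N c = ψ b) ∧
      ∃ m : ℕ, ∀ x ∈ J ^ m, v x = 0 := by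
    intro i
    induction i with
    | zero =>
      have h0 : N = N * M ^ 0 := by rw [pow_zero, Ideal.one_eq_top, Ideal.mul_top]
      refine ⟨(Ideal.quotientEquivAlgOfEq A h0).toAlgHom.comp ψ, ?_, ?_⟩
      · intro b
        obtain ⟨c, hc⟩ := Ideal.Quotient.mk_surjective (ψ b)
        refine ⟨c, ?_, hc⟩
        show _ = Ideal.quotientEquivAlgOfEq A h0 (ψ b)
        rw [← hc, Ideal.quotientEquivAlgOfEq_mk]
      · refine ⟨k, fun x hx => ?_⟩
        show Ideal.quotientEquivAlgOfEq A h0 (ψ x) = 0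
        rw [hk x hx, map_zero]
    | succ i ih =>
      obtain ⟨vi, hvi, hvi0⟩ := ih
      have hle : N * M ^ (i + 1) ≤ N * M ^ i := by
        rw [pow_succ, ← mul_assoc]
        exact Ideal.mul_le_left
      let π : (E ⧸ (N * M ^ (i + 1))) →ₐ[A] (E ⧸ (N * M ^ i)) := Ideal.Quotient.factorₐ A hle
      have hπmk : ∀ c, π (Ideal.Quotient.mk _ c) = Ideal.Quotient.mk _ c := fun c => rfl
      have hπsurj : Function.Surjective π := Ideal.Quotient.factor_surjective hle
      have hker : ∀ x, π x = 0 → ∃ c ∈ N * M ^ i, Ideal.Quotient.mk _ c = x := by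
        intro x hx
        obtain ⟨c, rfl⟩ := Ideal.Quotient.mk_surjective x
        rw [hπmk, Ideal.Quotient.eq_zero_iff_mem] at hx
        exact ⟨c, hx, rfl⟩
      have hmulmem : ∀ c ∈ N * M ^ i, ∀ c' ∈ M, c * c' ∈ N * M ^ (i + 1) := by
        intro c hc c' hc'
        rw [pow_succ, ← mul_assoc]
        exact Ideal.mul_mem_mul hc hc'
      have hK2 : ∀ x y, π x = 0 → π y = 0 → x * y = 0 := by
        intro x y hx hy
        obtain ⟨c, hc, rfl⟩ := hker x hx
        obtain ⟨c', hc', rfl⟩ := hker y hy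
        rw [← map_mul, Ideal.Quotient.eq_zero_iff_mem]
        exact hmulmem c hc c' (hNM (hLN i hc'))
      have hJK : ∀ x ∈ J, ∀ e κ, π e = vi x → π κ = 0 → e * κ = 0 := by
        intro x hx e κ he hκ
        obtain ⟨c₀, rfl⟩ := Ideal.Quotient.mk_surjective e
        obtain ⟨c', hc', rfl⟩ := hker κ hκ
        obtain ⟨c, hc1, hc2⟩ := hvi x
        rw [hπmk, ← hc1, Ideal.Quotient.eq] at he
        have hcM : c ∈ M := by
          rw [hM, Ideal.mem_comap, hc2]
          exact Ideal.mem_map_of_mem ψ.toRingHom hx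
        have hc₀M : c₀ ∈ M := by
          have := Ideal.add_mem _ (hNM (hLN i he)) hcM
          rwa [sub_add_cancel] at this
        rw [← map_mul, Ideal.Quotient.eq_zero_iff_mem, mul_comm c₀ c']
        exact hmulmem c' hc' c₀ hc₀M
      obtain ⟨v', hv', hv'0⟩ := hstep π hπsurj hK2 vi hvi0 hJK
      refine ⟨v', ?_, hv'0⟩
      intro b
      obtain ⟨c', hc'⟩ := Ideal.Quotient.mk_surjective (v' b)
      obtain ⟨c, hc1, hc2⟩ := hvi b
      refine ⟨c', hc', ?_⟩
      rw [← hc2, Ideal.Quotient.eq]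
      apply hLN i
      rw [← Ideal.Quotient.eq, hc1, ← hv', ← hc', hπmk]
  obtain ⟨vN, hvN, -⟩ := claim k
  have hbot : N * M ^ k = ⊥ := by
    rw [eq_bot_iff, ← hN, pow_two]
    exact Ideal.mul_mono_right hMk
  let e : (E ⧸ (N * M ^ k)) ≃ₐ[A] E :=
    (Ideal.quotientEquivAlgOfEq A hbot).trans (AlgEquiv.quotientBot A E)
  have he : ∀ c, e (Ideal.Quotient.mk _ c) = c := fun c => rfl
  refine ⟨e.toAlgHom.comp vN, ?_⟩
  ext b
  obtain ⟨c, hc1, hc2⟩ := hvN b
  show Ideal.Quotient.mk N (e (vN b)) = ψ b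
  rw [← hc1, he, hc2]

end Groth.Agent.Lib.Helper23.AdicSmoothB
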