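import Mathlib
import Groth.Prelude.Def_CAlgX
import Groth.Prelude.Def_PP16
import Groth.Agent.Lib.Helper23.AdicSmoothSym
import Groth.Agent.Lib.Helper23.AdicSmoothB

/-!
# Jacobian-type criterion for adic formal smoothness (EGA 0_IV 22.6 / 20.7)

For a tower `Λ → A → B`, `J : Ideal B`, `M1 := (B ⧸ J) ⊗[B] (B ⊗[A] Ω[A⁄Λ])`:
* `adic_comp : FormallySmooth Λ A → IsAdicFormallySmooth A B J → IsAdicFormallySmooth Λ B J`
* `gamma_injective : IsAdicFormallySmooth A B J → Injective ((mapBaseChange Λ A B).lTensor (B ⧸ J))`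
  (with the explicit retraction `retr`, `retr_comp`, built from a derivation `exists_derivation`)
* `exists_retr` : injective + projective cokernel ⇒ retraction
* `adic_of_retr : IsAdicFormallySmooth Λ B J → retraction of (mapBaseChange).lTensor (B ⧸ J) → IsAdicFormallySmooth A B J`
* `correct_lift` : correcting a `Λ`-lift to an `A`-lift by a derivation.
-/

set_option autoImplicit false
universe u


namespace Groth.Agent.Lib.Helper23.AdicJacobian

open TensorProduct KaehlerDifferential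

section comp

variable {Λ A B : Type u} [CommRing Λ] [CommRing A] [CommRing B] [Algebra Λ A] [Algebra A B]
  [Algebra Λ B] [IsScalarTower Λ A B] (J : Ideal B)

/-- Composition: `A` formally smooth over `Λ` (discrete) and `B` adically formally smooth over `A`
implies `B` adically formally smooth over `Λ`. -/
theorem adic_comp [Algebra.FormallySmooth Λ A] (h : CAlgX.IsAdicFormallySmooth A B J) :
    CAlgX.IsAdicFormallySmooth Λ B J := by
  intro E _ _ N hN ψ hψ
  obtain ⟨α, hα⟩ := Algebra.FormallySmooth.comp_surjective Λ A N hN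
    (ψ.comp (IsScalarTower.toAlgHom Λ A B))
  have hα' : ∀ a, Ideal.Quotient.mk N (α a) = ψ (algebraMap A B a) := fun a =>
    congrArg (fun f => f a) hα
  letI algAE : Algebra A E := α.toRingHom.toAlgebra
  haveI : IsScalarTower Λ A E := IsScalarTower.of_algebraMap_eq (fun l => (α.commutes l).symm)
  let ψ' : B →ₐ[A] E ⧸ N :=
    { ψ.toRingHom with
      commutes' := fun a => by
        show ψ (algebraMap A B a) = Ideal.Quotient.mk N (α a)
        exact (hα' a).symm }
  obtain ⟨χ, hχ⟩ := h E N hN ψ' hψ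
  refine ⟨χ.restrictScalars Λ, ?_⟩
  ext b
  exact congrArg (fun f => f b) hχ

end comp


open TensorProduct KaehlerDifferential

section twist

variable (Λ A : Type u) {B : Type u} [CommRing Λ] [CommRing A] [CommRing B] [Algebra Λ A]
  [Algebra A B] [Algebra Λ B] [IsScalarTower Λ A B] (J : Ideal B)

/-- `C ⊗_B (B ⊗_A Ω_{A/Λ})`. -/
abbrev M1 : Type u := (B ⧸ J) ⊗[B] (B ⊗[A] Ω[A⁄Λ])

/-- `a ↦ 1 ⊗ (1 ⊗ da)`. -/
noncomputable def dA (a : A) : M1 Λ A J := (1 : B ⧸ J) ⊗ₜ[B] ((1 : B) ⊗ₜ[A] D Λ A a)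

lemma dA_add (a a' : A) : dA Λ A J (a + a') = dA Λ A J a + dA Λ A J a' := by
  simp only [dA, map_add, TensorProduct.tmul_add]

lemma one_tmul_smul' (b : B) (y : B ⊗[A] Ω[A⁄Λ]) :
    (1 : B ⧸ J) ⊗ₜ[B] (b • y) = (Ideal.Quotient.mk J b) • ((1 : B ⧸ J) ⊗ₜ[B] y) := by
  rw [TensorProduct.tmul_smul, ← Ideal.Quotient.algebraMap_eq, algebraMap_smul]

lemma one_tmul_one_tmul_smul (a : A) (ω : Ω[A⁄Λ]) :
    (1 : B ⧸ J) ⊗ₜ[B] ((1 : B) ⊗ₜ[A] (a • ω)) =
      (Ideal.Quotient.mk J (algebraMap A B a)) • ((1 : B ⧸ J) ⊗ₜ[B] ((1 : B) ⊗ₜ[A] ω)) := by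
  have h1 : (1 : B) ⊗ₜ[A] (a • ω) = (algebraMap A B a) • ((1 : B) ⊗ₜ[A] ω) := by
    rw [TensorProduct.tmul_smul, algebraMap_smul]
  rw [h1, one_tmul_smul']

lemma dA_mul (a a' : A) : dA Λ A J (a * a') =
    (Ideal.Quotient.mk J (algebraMap A B a)) • dA Λ A J a' +
      (Ideal.Quotient.mk J (algebraMap A B a')) • dA Λ A J a := by
  simp only [dA, Derivation.leibniz, TensorProduct.tmul_add]
  rw [one_tmul_one_tmul_smul, one_tmul_one_tmul_smul]

lemma dA_algebraMap (l : Λ) : dA Λ A J (algebraMap Λ A l) = 0 := by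
  simp [dA]

/-- The twisted structure map `A → C ⊕ M1`. -/
noncomputable def alphaHom : A →+* TrivSqZeroExt (B ⧸ J) (M1 Λ A J) where
  toFun a := TrivSqZeroExt.inl (Ideal.Quotient.mk J (algebraMap A B a)) +
    TrivSqZeroExt.inr (dA Λ A J a)
  map_one' := by
    have : dA Λ A J (1 : A) = 0 := by
      have := dA_algebraMap Λ A J 1
      rwa [map_one] at this
    rw [this]
    simp
  map_mul' a a' := by
    ext
    · simp
    · simp only [TrivSqZeroExt.snd_add, TrivSqZeroExt.snd_inl, TrivSqZeroExt.snd_inr, zero_add,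
        TrivSqZeroExt.snd_mul, TrivSqZeroExt.fst_add, TrivSqZeroExt.fst_inl, TrivSqZeroExt.fst_inr,
        add_zero, dA_mul, op_smul_eq_smul]
  map_zero' := by
    have : dA Λ A J (0 : A) = 0 := by
      have := dA_algebraMap Λ A J 0
      rwa [map_zero] at this
    rw [this]
    simp
  map_add' a a' := by
    ext
    · simp
    · simp [dA_add]

lemma alphaHom_fst (a : A) : (alphaHom Λ A J a).fst = Ideal.Quotient.mk J (algebraMap A B a) := by
  simp [alphaHom]

lemma alphaHom_snd (a : A) : (alphaHom Λ A J a).snd = dA Λ A J a := by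
  simp [alphaHom]

/-- The trivial square-zero extension `C ⊕ M1` with the twisted `A`-algebra structure. -/
def Tw : Type u := TrivSqZeroExt (B ⧸ J) (M1 Λ A J)

noncomputable instance : CommRing (Tw Λ A J) :=
  inferInstanceAs (CommRing (TrivSqZeroExt (B ⧸ J) (M1 Λ A J)))

noncomputable instance : Algebra A (Tw Λ A J) := (alphaHom Λ A J).toAlgebra

/-- first projection as an `A`-algebra map. -/
noncomputable def fstTw : Tw Λ A J →ₐ[A] B ⧸ J where
  toFun x := TrivSqZeroExt.fst (R := B ⧸ J) (M := M1 Λ A J) x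
  map_one' := rfl
  map_mul' x y := TrivSqZeroExt.fst_mul (R := B ⧸ J) (M := M1 Λ A J) x y
  map_zero' := rfl
  map_add' x y := rfl
  commutes' a := alphaHom_fst Λ A J a

end twist


open TensorProduct KaehlerDifferential

section twist2

variable (Λ A : Type u) {B : Type u} [CommRing Λ] [CommRing A] [CommRing B] [Algebra Λ A]
  [Algebra A B] [Algebra Λ B] [IsScalarTower Λ A B] (J : Ideal B)

/-- second projection. -/
noncomputable def sndTw (x : Tw Λ A J) : M1 Λ A J :=
  TrivSqZeroExt.snd (R := B ⧸ J) (M := M1 Λ A J) x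

lemma sndTw_add (x y : Tw Λ A J) : sndTw Λ A J (x + y) = sndTw Λ A J x + sndTw Λ A J y := rfl

lemma sndTw_mul (x y : Tw Λ A J) : sndTw Λ A J (x * y) =
    fstTw Λ A J x • sndTw Λ A J y + fstTw Λ A J y • sndTw Λ A J x := by
  have := TrivSqZeroExt.snd_mul (R := B ⧸ J) (M := M1 Λ A J) x y
  rw [op_smul_eq_smul] at this
  exact this

lemma sndTw_algebraMap (a : A) : sndTw Λ A J (algebraMap A (Tw Λ A J) a) = dA Λ A J a :=
  alphaHom_snd Λ A J a

lemma Tw_ext {x y : Tw Λ A J} (h1 : fstTw Λ A J x = fstTw Λ A J y)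
    (h2 : sndTw Λ A J x = sndTw Λ A J y) : x = y :=
  TrivSqZeroExt.ext (R := B ⧸ J) (M := M1 Λ A J) h1 h2

lemma fstTw_surjective : Function.Surjective (fstTw Λ A J) := fun c =>
  ⟨(TrivSqZeroExt.inl c : TrivSqZeroExt (B ⧸ J) (M1 Λ A J)), TrivSqZeroExt.fst_inl (M1 Λ A J) c⟩

lemma Tw_mul_eq_zero (x y : Tw Λ A J) (hx : fstTw Λ A J x = 0) (hy : fstTw Λ A J y = 0) :
    x * y = 0 := by
  apply Tw_ext
  · rw [map_mul, hx, zero_mul, map_zero]
  · rw [sndTw_mul, hx, hy, zero_smul, zero_smul, add_zero]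
    rfl

variable {Λ A}

lemma exists_vTw (h : CAlgX.IsAdicFormallySmooth A B J) :
    ∃ v : B →ₐ[A] Tw Λ A J, ∀ b, fstTw Λ A J (v b) = Ideal.Quotient.mk J b := by
  obtain ⟨v, hv, -⟩ := Groth.Agent.S4537.lift_of_ker_sq h (fstTw Λ A J) (fstTw_surjective Λ A J)
    (fun x y hx hy => Tw_mul_eq_zero Λ A J x y hx hy) (Ideal.Quotient.mkₐ A J)
    ⟨1, fun x hx => by
      rw [pow_one] at hx
      exact Ideal.Quotient.eq_zero_iff_mem.mpr hx⟩
  exact ⟨v, hv⟩

variable (v : B →ₐ[A] Tw Λ A J) (hv : ∀ b, fstTw Λ A J (v b) = Ideal.Quotient.mk J b)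

include hv in
/-- the derivation `B → M1` extending `dA`. -/
lemma exists_derivation : ∃ D' : Derivation Λ B (M1 Λ A J),
    ∀ a : A, D' (algebraMap A B a) = dA Λ A J a := by
  have hmul : ∀ b b' : B, sndTw Λ A J (v (b * b')) =
      b • sndTw Λ A J (v b') + b' • sndTw Λ A J (v b) := by
    intro b b'
    rw [map_mul, sndTw_mul, hv, hv, ← Ideal.Quotient.algebraMap_eq, algebraMap_smul,
      algebraMap_smul]
  have halg : ∀ a : A, sndTw Λ A J (v (algebraMap A B a)) = dA Λ A J a := by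
    intro a
    rw [AlgHom.commutes, sndTw_algebraMap]
  refine ⟨Derivation.mk'
    { toFun := fun b => sndTw Λ A J (v b)
      map_add' := fun b b' => by rw [map_add, sndTw_add]
      map_smul' := fun l b => by
        rw [Algebra.smul_def, hmul, IsScalarTower.algebraMap_apply Λ A B, halg, dA_algebraMap,
          smul_zero, add_zero, ← IsScalarTower.algebraMap_apply Λ A B, algebraMap_smul,
          RingHom.id_apply] }
    (fun b b' => hmul b b'), ?_⟩
  intro a
  exact halg a

end twist2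


open TensorProduct KaehlerDifferential

section gamma

variable {Λ A B : Type u} [CommRing Λ] [CommRing A] [CommRing B] [Algebra Λ A]
  [Algebra A B] [Algebra Λ B] [IsScalarTower Λ A B] (J : Ideal B)

/-- retraction from a derivation -/
noncomputable def retr (D' : Derivation Λ B (M1 Λ A J)) :
    (B ⧸ J) ⊗[B] Ω[B⁄Λ] →ₗ[B ⧸ J] M1 Λ A J :=
  LinearMap.liftBaseChange (B ⧸ J) D'.liftKaehlerDifferential

lemma retr_comp (D' : Derivation Λ B (M1 Λ A J))
    (hD' : ∀ a : A, D' (algebraMap A B a) = dA Λ A J a) (y : M1 Λ A J) :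
    retr J D' ((mapBaseChange Λ A B).lTensor (B ⧸ J) y) = y := by
  have key : ∀ (ω : Ω[A⁄Λ]) (b : B) (c : B ⧸ J),
      retr J D' ((mapBaseChange Λ A B).lTensor (B ⧸ J) (c ⊗ₜ[B] (b ⊗ₜ[A] ω))) =
        c ⊗ₜ[B] (b ⊗ₜ[A] ω) := by
    intro ω
    have hω : ω ∈ Submodule.span A (Set.range (D Λ A)) := by
      rw [KaehlerDifferential.span_range_derivation]; trivial
    induction hω using Submodule.span_induction with
    | mem ω hmem =>
      obtain ⟨a, rfl⟩ := hmem
      intro b c
      rw [LinearMap.lTensor_tmul, mapBaseChange_tmul, KaehlerDifferential.map_D, retr,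
        LinearMap.liftBaseChange_tmul, map_smul, Derivation.liftKaehlerDifferential_comp_D, hD', dA,
        TensorProduct.smul_tmul', TensorProduct.smul_tmul']
      have e1 : c • b • (1 : B ⧸ J) = b • c := by
        rw [smul_comm, smul_eq_mul, mul_one]
      rw [e1, TensorProduct.smul_tmul, TensorProduct.smul_tmul', smul_eq_mul, mul_one]
    | zero =>
      intro b c
      simp
    | add ω ω' _ _ ih ih' =>
      intro b c
      rw [TensorProduct.tmul_add, TensorProduct.tmul_add, map_add, map_add, ih, ih']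
    | smul a ω _ ih =>
      intro b c
      have : b ⊗ₜ[A] (a • ω) = (a • b) ⊗ₜ[A] ω := by
        rw [TensorProduct.tmul_smul, TensorProduct.smul_tmul']
      rw [this, ih]
  induction y using TensorProduct.induction_on with
  | zero => simp
  | add y y' ih ih' => rw [map_add, map_add, ih, ih']
  | tmul c z =>
    induction z using TensorProduct.induction_on with
    | zero => simp
    | add z z' ih ih' =>
      rw [TensorProduct.tmul_add, map_add, map_add, ih, ih']
    | tmul b ω => exact key ω b c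

theorem gamma_injective (h : CAlgX.IsAdicFormallySmooth A B J) :
    Function.Injective ((mapBaseChange Λ A B).lTensor (B ⧸ J)) := by
  obtain ⟨v, hv⟩ := exists_vTw (Λ := Λ) J h
  obtain ⟨D', hD'⟩ := exists_derivation J v hv
  exact Function.LeftInverse.injective (g := retr J D') (retr_comp J D' hD')

end gamma


open TensorProduct KaehlerDifferential

section retr

variable {Λ A B : Type u} [CommRing Λ] [CommRing A] [CommRing B] [Algebra Λ A]
  [Algebra A B] [Algebra Λ B] [IsScalarTower Λ A B] (J : Ideal B)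

lemma exists_retr (hinj : Function.Injective ((mapBaseChange Λ A B).lTensor (B ⧸ J)))
    (hproj : Module.Projective (B ⧸ J) ((B ⧸ J) ⊗[B] Ω[B⁄A])) :
    ∃ r : (B ⧸ J) ⊗[B] Ω[B⁄Λ] →ₗ[B ⧸ J] M1 Λ A J,
      ∀ y, r ((mapBaseChange Λ A B).lTensor (B ⧸ J) y) = y := by
  let f := (mapBaseChange Λ A B).baseChange (B ⧸ J)
  let g := (KaehlerDifferential.map Λ A B B).baseChange (B ⧸ J)
  have hex : Function.Exact f g :=
    lTensor_exact (B ⧸ J) (exact_mapBaseChange_map Λ A B) (KaehlerDifferential.map_surjective Λ A B)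
  have hg : Function.Surjective g :=
    LinearMap.lTensor_surjective (B ⧸ J) (KaehlerDifferential.map_surjective Λ A B)
  obtain ⟨l, hl⟩ := ((hex.split_tfae'.out 0 1 rfl rfl).mp
    ⟨hinj, Module.projective_lifting_property g LinearMap.id hg⟩).2
  exact ⟨l, fun y => congrArg (fun k => k y) hl⟩

end retr

section correct

variable {Λ A B : Type u} [CommRing Λ] [CommRing A] [CommRing B] [Algebra Λ A]
  [Algebra A B] [Algebra Λ B] [IsScalarTower Λ A B] (J : Ideal B)

lemma correct_lift (r : (B ⧸ J) ⊗[B] Ω[B⁄Λ] →ₗ[B ⧸ J] M1 Λ A J)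
    (hr : ∀ y, r ((mapBaseChange Λ A B).lTensor (B ⧸ J) y) = y)
    {E' : Type u} [CommRing E'] [Algebra Λ E'] (I : Ideal E') (hI : I ^ 2 = ⊥)
    (α : A →ₐ[Λ] E') (v₀ : B →ₐ[Λ] E')
    (hαv : ∀ a, α a - v₀ (algebraMap A B a) ∈ I)
    (hJI : ∀ x ∈ J, ∀ κ ∈ I, v₀ x * κ = 0) :
    ∃ v : B →ₐ[Λ] E', (∀ b, v b - v₀ b ∈ I) ∧ ∀ a, v (algebraMap A B a) = α a := by
  letI algB : Algebra B E' := v₀.toRingHom.toAlgebra
  haveI towΛB : IsScalarTower Λ B E' := IsScalarTower.of_algebraMap_eq (fun l => (v₀.commutes l).symm)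
  letI algA : Algebra A E' := (v₀.toRingHom.comp (algebraMap A B)).toAlgebra
  haveI towAB : IsScalarTower A B E' := IsScalarTower.of_algebraMap_eq (fun _ => rfl)
  haveI towΛA : IsScalarTower Λ A E' := IsScalarTower.of_algebraMap_eq (fun l => by
    show algebraMap Λ E' l = v₀ (algebraMap A B (algebraMap Λ A l))
    rw [← IsScalarTower.algebraMap_apply Λ A B, v₀.commutes])
  have halgB : ∀ b : B, algebraMap B E' b = v₀ b := fun _ => rfl
  have halgA : ∀ a : A, algebraMap A E' a = v₀ (algebraMap A B a) := fun _ => rfl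
  -- the derivation `A → I`
  have he : (Ideal.Quotient.mkₐ Λ I).comp α = IsScalarTower.toAlgHom Λ A (E' ⧸ I) := by
    ext a
    show Ideal.Quotient.mk I (α a) = algebraMap A (E' ⧸ I) a
    rw [IsScalarTower.algebraMap_apply A E' (E' ⧸ I), Ideal.Quotient.algebraMap_eq,
      Ideal.Quotient.eq, halgA]
    exact hαv a
  let D : Derivation Λ A I := derivationToSquareZeroOfLift I hI α he
  have hD : ∀ a, ((D a : I) : E') = α a - v₀ (algebraMap A B a) := fun a =>
    derivationToSquareZeroOfLift_apply I hI α he a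
  -- `I` is a `B/J`-module
  have htors : Module.IsTorsionBySet B I (J : Set B) := by
    intro κ x
    apply Subtype.ext
    show algebraMap B E' (x : B) * (κ : E') = 0
    rw [halgB]
    exact hJI x x.2 κ κ.2
  letI modC : Module (B ⧸ J) I := htors.module
  haveI towBC : IsScalarTower B (B ⧸ J) I := htors.isScalarTower
  let dt : B ⊗[A] Ω[A⁄Λ] →ₗ[B] I := LinearMap.liftBaseChange B D.liftKaehlerDifferential
  let dtC : M1 Λ A J →ₗ[B ⧸ J] I := LinearMap.liftBaseChange (B ⧸ J) dt
  let Dlin : Ω[B⁄Λ] →ₗ[B] I :=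
    (dtC.restrictScalars B) ∘ₗ (r.restrictScalars B) ∘ₗ (TensorProduct.mk B (B ⧸ J) Ω[B⁄Λ] 1)
  let D' : Derivation Λ B I := Dlin.compDer (KaehlerDifferential.D Λ B)
  have hD' : ∀ a, D' (algebraMap A B a) = D a := by
    intro a
    show dtC (r ((1 : B ⧸ J) ⊗ₜ[B] KaehlerDifferential.D Λ B (algebraMap A B a))) = D a
    have h1 : (1 : B ⧸ J) ⊗ₜ[B] KaehlerDifferential.D Λ B (algebraMap A B a) =
        (mapBaseChange Λ A B).lTensor (B ⧸ J) ((1 : B ⧸ J) ⊗ₜ[B] ((1 : B) ⊗ₜ[A] KaehlerDifferential.D Λ A a)) := by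
      rw [LinearMap.lTensor_tmul, mapBaseChange_tmul, KaehlerDifferential.map_D, one_smul]
    rw [h1, hr]
    show (1 : B ⧸ J) • dt ((1 : B) ⊗ₜ[A] KaehlerDifferential.D Λ A a) = D a
    rw [one_smul]
    show (1 : B) • D.liftKaehlerDifferential (KaehlerDifferential.D Λ A a) = D a
    rw [one_smul, Derivation.liftKaehlerDifferential_comp_D]
  refine ⟨liftOfDerivationToSquareZero I hI D', ?_, ?_⟩
  · intro b
    rw [liftOfDerivationToSquareZero_apply, halgB, add_sub_cancel_right]
    exact (D' b).2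
  · intro a
    rw [liftOfDerivationToSquareZero_apply, hD', hD, halgB]
    ring

end correct


open TensorProduct KaehlerDifferential

section partI

variable {Λ A B : Type u} [CommRing Λ] [CommRing A] [CommRing B] [Algebra Λ A]
  [Algebra A B] [Algebra Λ B] [IsScalarTower Λ A B] (J : Ideal B)

theorem adic_of_retr (hΛ : CAlgX.IsAdicFormallySmooth Λ B J)
    (r : (B ⧸ J) ⊗[B] Ω[B⁄Λ] →ₗ[B ⧸ J] M1 Λ A J)
    (hr : ∀ y, r ((mapBaseChange Λ A B).lTensor (B ⧸ J) y) = y) :
    CAlgX.IsAdicFormallySmooth A B J := by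
  apply Groth.Agent.Lib.Helper23.AdicSmoothB.of_smallStepB
  intro E' E'' _ _ _ _ π hπ hK2 u hu hJK
  letI algΛE' : Algebra Λ E' := Algebra.compHom E' (algebraMap Λ A)
  haveI : IsScalarTower Λ A E' := IsScalarTower.of_algebraMap_eq (fun _ => rfl)
  letI algΛE'' : Algebra Λ E'' := Algebra.compHom E'' (algebraMap Λ A)
  haveI : IsScalarTower Λ A E'' := IsScalarTower.of_algebraMap_eq (fun _ => rfl)
  obtain ⟨m, hm⟩ := hu
  obtain ⟨v₀, hv₀, -⟩ := Groth.Agent.S4537.lift_of_ker_sq hΛ (π.restrictScalars Λ) hπ hK2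
    (u.restrictScalars Λ) ⟨m, hm⟩
  have hI : (RingHom.ker π) ^ 2 = ⊥ := by
    rw [eq_bot_iff, pow_two, Ideal.mul_le]
    intro x hx y hy
    rw [Ideal.mem_bot]
    exact hK2 x y hx hy
  obtain ⟨v, hv1, hv2⟩ := correct_lift J r hr (RingHom.ker π) hI (IsScalarTower.toAlgHom Λ A E') v₀
    (by
      intro a
      rw [RingHom.mem_ker, map_sub]
      have h1 : π (IsScalarTower.toAlgHom Λ A E' a) = algebraMap A E'' a := π.commutes a
      have h2 : π (v₀ (algebraMap A B a)) = algebraMap A E'' a := by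
        rw [show π (v₀ (algebraMap A B a)) = u (algebraMap A B a) from hv₀ _, u.commutes]
      rw [h1, h2, sub_self])
    (by
      intro x hx κ hκ
      exact hJK x hx (v₀ x) κ (hv₀ x) hκ)
  have hπv : ∀ b, π (v b) = u b := by
    intro b
    have h1 : π (v b - v₀ b) = 0 := hv1 b
    rw [map_sub, sub_eq_zero] at h1
    rw [h1]
    exact hv₀ b
  refine ⟨{ v.toRingHom with commutes' := fun a => hv2 a }, hπv, 2 * m, ?_⟩
  intro x hx
  show v x = 0
  rw [mul_comm, pow_mul, pow_two] at hx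
  refine Submodule.mul_induction_on hx ?_ ?_
  · intro y hy y' hy'
    rw [map_mul]
    apply hK2
    · rw [hπv, hm y hy]
    · rw [hπv, hm y' hy']
  · intro y y' hy hy'
    rw [map_add, hy, hy', add_zero]

end partI

end Groth.Agent.Lib.Helper23.AdicJacobian
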