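import Mathlib
import Groth.Agent.Lib.Helper23.KeyLemma2
import Groth.Agent.Lib.Helper23.SymGrRegular
import Groth.Agent.S4571
import Groth.Agent.Lib.Helper23.SepVar
import Groth.Agent.S4570

/-!
# EGA 0_IV 22.5.8: adic formal smoothness over a field k ⇔ k' ⊗ A regular for all finite k'/k with k'^p ⊆ k

isLocalRing_of_pow_mem_range, isAdicFormallySmooth_mono / _baseChange, regular_of_adic (⇒),
Gmap / tensorEquiv (A ⊗[k] SepVar.Quot k G ≃ SepVar.Quot A (G.map)), isField_quot (k[T_i]/(T_i^p - μ_i) is a field when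
the μ_i have dual derivations), final_Gp, finite_LI, adic_of_regular_prime / _zero (⇐), t4573main.
-/

set_option autoImplicit false
universe u
open IsLocalRing TensorProduct
open IsLocalRing TensorProduct Polynomial
open IsLocalRing TensorProduct Polynomial KaehlerDifferential

namespace Groth.Agent.Lib.Helper23.KeyLemma3


open Groth.Agent.Lib.Helper23

section General

theorem isLocalRing_of_pow_mem_range {R R' : Type*} [CommRing R] [IsLocalRing R] [CommRing R']
    [Nontrivial R'] (φ : R →+* R') [IsLocalHom φ] (p : ℕ) [ExpChar R' p]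
    (h : ∀ y : R', y ^ p ∈ φ.range) : IsLocalRing R' := by
  have hp0 : p ≠ 0 := (expChar_pos R' p).ne'
  apply IsLocalRing.of_nonunits_add
  intro y z hy hz
  obtain ⟨a, ha⟩ := h y
  obtain ⟨b, hb⟩ := h z
  have hya : a ∈ maximalIdeal R := by
    rw [mem_maximalIdeal]
    intro hu
    apply hy
    have : IsUnit (y ^ p) := by rw [← ha]; exact hu.map _
    exact (isUnit_pow_iff hp0).mp this
  have hzb : b ∈ maximalIdeal R := by
    rw [mem_maximalIdeal]
    intro hu
    apply hz
    have : IsUnit (z ^ p) := by rw [← hb]; exact hu.map _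
    exact (isUnit_pow_iff hp0).mp this
  intro hyz
  have h1 : IsUnit ((y + z) ^ p) := hyz.pow p
  rw [add_pow_expChar, ← ha, ← hb, ← map_add] at h1
  have h2 : IsUnit (a + b) := isUnit_of_map_unit φ _ h1
  exact (mem_maximalIdeal _).mp (Ideal.add_mem _ hya hzb) h2

theorem isAdicFormallySmooth_mono {R S : Type u} [CommRing R] [CommRing S] [Algebra R S]
    (𝔫 𝔫' : Ideal S) (hle : 𝔫 ≤ 𝔫') (h : CAlgX.IsAdicFormallySmooth R S 𝔫) :
    CAlgX.IsAdicFormallySmooth R S 𝔫' := by
  intro C _ _ J hJ ψ ⟨n, hn⟩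
  exact h C J hJ ψ ⟨n, fun x hx => hn x (Ideal.pow_right_mono hle n hx)⟩

theorem isAdicFormallySmooth_baseChange (k A k' : Type u) [CommRing k] [CommRing A] [Algebra k A]
    [CommRing k'] [Algebra k k'] (𝔫 : Ideal A) (h : CAlgX.IsAdicFormallySmooth k A 𝔫) :
    CAlgX.IsAdicFormallySmooth k' (k' ⊗[k] A)
      (𝔫.map (Algebra.TensorProduct.includeRight : A →ₐ[k] k' ⊗[k] A)) := by
  intro C _ _ J hJ ψ ⟨n, hn⟩
  letI : Algebra k C := ((algebraMap k' C).comp (algebraMap k k')).toAlgebra
  haveI : IsScalarTower k k' C := IsScalarTower.of_algebraMap_eq (fun _ => rfl)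
  let ψ₀ : A →ₐ[k] C ⧸ J := (ψ.restrictScalars k).comp Algebra.TensorProduct.includeRight
  obtain ⟨χ₀, hχ₀⟩ := h C J hJ ψ₀ ⟨n, fun x hx => by
    show ψ (Algebra.TensorProduct.includeRight x) = 0
    apply hn
    rw [← Ideal.map_pow]
    exact Ideal.mem_map_of_mem _ hx⟩
  let χ : k' ⊗[k] A →ₐ[k'] C :=
    Algebra.TensorProduct.lift (Algebra.ofId k' C) χ₀ (fun _ _ => Commute.all _ _)
  refine ⟨χ, ?_⟩
  apply Algebra.TensorProduct.ext'
  intro c a
  have h1 : χ (c ⊗ₜ a) = algebraMap k' C c * χ₀ a := by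
    simp [χ, Algebra.ofId_apply]
  have h2 : (Ideal.Quotient.mkₐ k J) (χ₀ a) = ψ₀ a := by
    rw [← hχ₀]; rfl
  show Ideal.Quotient.mk J (χ (c ⊗ₜ a)) = ψ (c ⊗ₜ a)
  rw [h1, map_mul]
  have h3 : Ideal.Quotient.mk J (χ₀ a) = ψ (1 ⊗ₜ a) := h2
  rw [h3]
  have h4 : (c ⊗ₜ[k] a : k' ⊗[k] A) = c • (1 ⊗ₜ[k] a) := by
    rw [TensorProduct.smul_tmul', smul_eq_mul, mul_one]
  rw [h4, map_smul, Algebra.smul_def]
  rfl

end General



open Groth.Agent.Lib.Helper23

section Forward

variable {k A : Type u} [Field k] (p : ℕ) [ExpChar k p] [CommRing A] [IsLocalRing A]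
  [Algebra k A]

theorem nontrivial_tensor (k' : Type u) [Field k'] [Algebra k k'] (B : Type u) [CommRing B]
    [Nontrivial B] [Algebra k B] : Nontrivial (k' ⊗[k] B) := by
  rw [← not_subsingleton_iff_nontrivial, ← rank_zero_iff (R := k), rank_tensorProduct',
    mul_eq_zero, rank_zero_iff, rank_zero_iff, not_or, not_subsingleton_iff_nontrivial,
    not_subsingleton_iff_nontrivial]
  exact ⟨inferInstance, inferInstance⟩

theorem isLocalHom_includeRight (k' : Type u) [Field k'] [Algebra k k'] :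
    IsLocalHom ((Algebra.TensorProduct.includeRight : A →ₐ[k] k' ⊗[k] A) : A →+* k' ⊗[k] A) := by
  constructor
  intro a ha
  by_contra hna
  have hmem : a ∈ maximalIdeal A := (mem_maximalIdeal a).mpr hna
  letI : Field (A ⧸ maximalIdeal A) := Ideal.Quotient.field _
  haveI : Nontrivial (k' ⊗[k] (A ⧸ maximalIdeal A)) := nontrivial_tensor k' _
  let g : k' ⊗[k] A →ₐ[k] k' ⊗[k] (A ⧸ maximalIdeal A) :=
    Algebra.TensorProduct.map (AlgHom.id k k') (Ideal.Quotient.mkₐ k (maximalIdeal A))
  have h1 : IsUnit (g (1 ⊗ₜ a)) := ha.map g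
  have h2 : g (1 ⊗ₜ a) = 0 := by
    simp only [g, Algebra.TensorProduct.map_tmul, Ideal.Quotient.mkₐ_eq_mk,
      Ideal.Quotient.eq_zero_iff_mem.mpr hmem, tmul_zero]
  rw [h2] at h1
  exact not_isUnit_zero h1

include p in
theorem pow_mem_range (k' : Type u) [Field k'] [Algebra k k']
    (hpow : ∀ x : k', x ^ p ∈ (algebraMap k k').range) (y : k' ⊗[k] A) :
    y ^ p ∈ ((Algebra.TensorProduct.includeRight : A →ₐ[k] k' ⊗[k] A) : A →+* k' ⊗[k] A).range := by
  haveI : Nontrivial (k' ⊗[k] A) := nontrivial_tensor k' A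
  haveI : ExpChar (k' ⊗[k] A) p :=
    expChar_of_injective_algebraMap (algebraMap k (k' ⊗[k] A)).injective p
  induction y using TensorProduct.induction_on with
  | zero =>
    exact ⟨0, by rw [map_zero, zero_pow (expChar_pos k p).ne']⟩
  | tmul c a =>
    obtain ⟨l, hl⟩ := hpow c
    refine ⟨l • a ^ p, ?_⟩
    show (1 : k') ⊗ₜ[k] (l • a ^ p) = (c ⊗ₜ[k] a) ^ p
    rw [Algebra.TensorProduct.tmul_pow, ← hl, ← TensorProduct.smul_tmul,
      Algebra.algebraMap_eq_smul_one]
  | add y z hy hz =>
    rw [add_pow_expChar]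
    exact Subring.add_mem _ hy hz

theorem regular_of_adic [IsNoetherianRing A]
    (h : CAlgX.IsAdicFormallySmooth k A (maximalIdeal A)) (k' : Type u) [Field k'] [Algebra k k']
    (hfin : Module.Finite k k') (hpow : ∀ x : k', x ^ p ∈ (algebraMap k k').range) :
    IsRegularRing (k' ⊗[k] A) := by
  haveI : Nontrivial (k' ⊗[k] A) := nontrivial_tensor k' A
  haveI : ExpChar (k' ⊗[k] A) p :=
    expChar_of_injective_algebraMap (algebraMap k (k' ⊗[k] A)).injective p
  haveI := isLocalHom_includeRight (k := k) (A := A) k'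
  haveI : IsLocalRing (k' ⊗[k] A) :=
    isLocalRing_of_pow_mem_range
      ((Algebra.TensorProduct.includeRight : A →ₐ[k] k' ⊗[k] A) : A →+* k' ⊗[k] A) p
      (pow_mem_range p k' hpow)
  haveI : IsNoetherianRing (A ⊗[k] k') := IsNoetherianRing.of_finite A _
  haveI : IsNoetherianRing (k' ⊗[k] A) :=
    isNoetherianRing_of_ringEquiv _ (Algebra.TensorProduct.comm k A k').toRingEquiv
  have h1 := isAdicFormallySmooth_baseChange k A k' _ h
  have h2 := isAdicFormallySmooth_mono _ (maximalIdeal (k' ⊗[k] A))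
    (map_maximalIdeal_le
      ((Algebra.TensorProduct.includeRight : A →ₐ[k] k' ⊗[k] A) : A →+* k' ⊗[k] A)) h1
  have h3 := (Groth.Agent.S4571.result (k := k') (A := k' ⊗[k] A)).mp h2
  rw [KeyLemma2.isRegularRing_iff_of_isLocalRing]
  exact SymGrRegular.isRegularLocalRing_of_symGrBijective _ h3.1

end Forward



open Groth.Agent.Lib.Helper23

noncomputable section

section BCk

variable {k A : Type u} [CommRing k] [CommRing A] [Algebra k A] {r : ℕ} (G : Fin r → k[X])

/-- base change of the polynomials. -/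
def Gmap : Fin r → A[X] := fun i => (G i).map (algebraMap k A)

theorem aeval_Gmap {C : Type*} [CommRing C] [Algebra k C] [Algebra A C] [IsScalarTower k A C]
    (x : C) (i : Fin r) : Polynomial.aeval x (Gmap (A := A) G i) = Polynomial.aeval x (G i) :=
  Polynomial.aeval_map_algebraMap A x (G i)

/-- `k[T]/(G) → A[T]/(G)`. -/
def phi1 : SepVar.Quot k G →ₐ[k] SepVar.Quot A (Gmap (A := A) G) :=
  SepVar.lift G (fun i => SepVar.t (Gmap (A := A) G) i) (fun i => by
    rw [← aeval_Gmap (A := A)]
    exact SepVar.aeval_t _ i)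

theorem phi1_t (i : Fin r) : phi1 (A := A) G (SepVar.t G i) = SepVar.t (Gmap (A := A) G) i :=
  SepVar.lift_t ..

/-- `A ⊗ k[T]/(G) → A[T]/(G)`. -/
def Phi : A ⊗[k] SepVar.Quot k G →ₐ[A] SepVar.Quot A (Gmap (A := A) G) :=
  Algebra.TensorProduct.lift (Algebra.ofId A _) (phi1 G) (fun _ _ => Commute.all _ _)

/-- `A[T]/(G) → A ⊗ k[T]/(G)`. -/
def Psi : SepVar.Quot A (Gmap (A := A) G) →ₐ[A] A ⊗[k] SepVar.Quot k G :=
  SepVar.lift (Gmap (A := A) G) (fun i => (1 : A) ⊗ₜ[k] SepVar.t G i) (fun i => by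
    rw [aeval_Gmap (A := A) G ((1 : A) ⊗ₜ[k] SepVar.t G i) i]
    have h := Polynomial.aeval_algHom_apply
      (Algebra.TensorProduct.includeRight : SepVar.Quot k G →ₐ[k] A ⊗[k] SepVar.Quot k G)
      (SepVar.t G i) (G i)
    rw [SepVar.aeval_t, map_zero] at h
    exact h)

theorem Psi_t (i : Fin r) : Psi (A := A) G (SepVar.t (Gmap (A := A) G) i) = 1 ⊗ₜ SepVar.t G i :=
  SepVar.lift_t ..

theorem Psi_phi1 : ((Psi (A := A) G).restrictScalars k).comp (phi1 G) =
    (Algebra.TensorProduct.includeRight : SepVar.Quot k G →ₐ[k] A ⊗[k] SepVar.Quot k G) :=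
  SepVar.algHom_ext G (C := A ⊗[k] SepVar.Quot k G)
    (((Psi (A := A) G).restrictScalars k).comp (phi1 G))
    (Algebra.TensorProduct.includeRight : SepVar.Quot k G →ₐ[k] A ⊗[k] SepVar.Quot k G)
    (fun i => by
      rw [AlgHom.comp_apply, phi1_t]
      show Psi G (SepVar.t (Gmap (A := A) G) i) = _
      rw [Psi_t]
      rfl)

theorem Phi_tmul (a : A) (b : SepVar.Quot k G) :
    Phi (A := A) G (a ⊗ₜ b) = algebraMap A _ a * phi1 G b := by
  show Algebra.TensorProduct.lift _ _ _ _ = _
  rw [Algebra.TensorProduct.lift_tmul]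
  rfl

theorem Psi_Phi (z : A ⊗[k] SepVar.Quot k G) : Psi G (Phi G z) = z := by
  induction z using TensorProduct.induction_on with
  | zero => simp
  | add x y hx hy => rw [map_add, map_add, hx, hy]
  | tmul a b =>
    rw [Phi_tmul, map_mul, AlgHom.commutes]
    have h := congrArg (fun f : SepVar.Quot k G →ₐ[k] A ⊗[k] SepVar.Quot k G => f b) (Psi_phi1 (A := A) G)
    have h' : Psi (A := A) G (phi1 G b) = (1 : A) ⊗ₜ[k] b := h
    rw [h', Algebra.TensorProduct.algebraMap_apply, Algebra.TensorProduct.tmul_mul_tmul, mul_one,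
      one_mul]
    rfl

theorem Phi_Psi (z : SepVar.Quot A (Gmap (A := A) G)) : Phi G (Psi G z) = z := by
  have : (Phi (A := A) G).comp (Psi G) = AlgHom.id A _ :=
    SepVar.algHom_ext (Gmap (A := A) G) _ _ (fun i => by
      rw [AlgHom.comp_apply, Psi_t, AlgHom.id_apply, Phi_tmul, map_one, one_mul, phi1_t])
  exact congrArg (fun f : SepVar.Quot A (Gmap (A := A) G) →ₐ[A] SepVar.Quot A (Gmap (A := A) G) => f z) this

/-- base change of `k[T]/(G)`. -/
def tensorEquiv : A ⊗[k] SepVar.Quot k G ≃ₐ[A] SepVar.Quot A (Gmap (A := A) G) :=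
  AlgEquiv.ofAlgHom (Phi G) (Psi G) (AlgHom.ext (Phi_Psi G)) (AlgHom.ext (Psi_Phi G))

end BCk

end



open Groth.Agent.Lib.Helper23 Groth.Agent.Lib.Helper23.KeyLemma Groth.Agent.Lib.Helper23.KeyLemma2

noncomputable section

section FieldExt

variable {k : Type u} [Field k] (p : ℕ) [hp : Fact p.Prime] [CharP k p] {r : ℕ} (μ : Fin r → k)

theorem finite_quot_Gp {A : Type u} [CommRing A] [Nontrivial A] (f : Fin r → A) :
    Module.Finite A (SepVar.Quot A (fun i => Gp p (f i))) := by
  obtain ⟨hfree, hrank⟩ := SepVar.free_and_finrank r A (fun i => Gp p (f i))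
    (fun i => monic_Gp p (f i))
  apply Module.finite_of_finrank_pos
  rw [hrank]
  apply Finset.prod_pos
  intro i _
  rw [natDegree_Gp]
  exact hp.out.pos

theorem t_pow {A : Type u} [CommRing A] (f : Fin r → A) (i : Fin r) :
    (SepVar.t (fun i => Gp p (f i)) i) ^ p =
      algebraMap A (SepVar.Quot A (fun i => Gp p (f i))) (f i) := by
  have h := SepVar.aeval_t (fun i => Gp p (f i)) i
  rw [Polynomial.aeval_def, eval₂_Gp] at h
  exact sub_eq_zero.mp h

theorem pow_mem_range_quot {A : Type u} [CommRing A] [CharP A p] [Nontrivial A] (f : Fin r → A)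
    (y : SepVar.Quot A (fun i => Gp p (f i))) :
    y ^ p ∈ (algebraMap A (SepVar.Quot A (fun i => Gp p (f i)))).range := by
  obtain ⟨hfree, hrank⟩ := SepVar.free_and_finrank r A (fun i => Gp p (f i))
    (fun i => monic_Gp p (f i))
  haveI := finite_quot_Gp p f
  haveI : Nontrivial (SepVar.Quot A (fun i => Gp p (f i))) := by
    apply Module.nontrivial_of_finrank_pos (R := A)
    rw [hrank]
    apply Finset.prod_pos
    intro i _
    rw [natDegree_Gp]
    exact hp.out.pos
  haveI : CharP (SepVar.Quot A (fun i => Gp p (f i))) p :=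
    charP_of_injective_algebraMap (FaithfulSMul.algebraMap_injective A _) p
  obtain ⟨q, rfl⟩ := Ideal.Quotient.mk_surjective y
  induction q using MvPolynomial.induction_on with
  | C a =>
    refine ⟨a ^ p, ?_⟩
    rw [map_pow]
    rfl
  | add q₁ q₂ h₁ h₂ =>
    rw [map_add, add_pow_char]
    exact Subring.add_mem _ h₁ h₂
  | mul_X q i h =>
    rw [map_mul, mul_pow]
    refine Subring.mul_mem _ h ?_
    exact ⟨f i, (t_pow p f i).symm⟩

theorem isField_quot (hD : ∀ j, ∃ D : Derivation ℤ k k, D (μ j) = 1 ∧ ∀ i, i ≠ j → D (μ i) = 0) :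
    IsField (SepVar.Quot k (fun i => Gp p (μ i))) := by
  obtain ⟨hloc, h1, h2⟩ := klProp p r k μ
  have hLI : LinearIndependent (ResidueField k) (fun i => vv (μ i)) := by
    apply linearIndependent_of_dual_derivation
    intro j
    obtain ⟨D, hD1, hD0⟩ := hD j
    refine ⟨(Algebra.linearMap k (ResidueField k)).compDer D, ?_, ?_⟩
    · show algebraMap k (ResidueField k) (D (μ j)) = 1
      rw [hD1, map_one]
    · intro i hi
      show algebraMap k (ResidueField k) (D (μ i)) = 0
      rw [hD0 i hi, map_zero]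
  have h3 := h2.mpr hLI
  rw [maximalIdeal_eq_bot, Submodule.spanFinrank_bot] at h3
  rw [isField_iff_maximalIdeal_eq]
  exact (Submodule.spanFinrank_eq_zero_iff_eq_bot
    (maximalIdeal (SepVar.Quot k (fun i => Gp p (μ i)))).fg_of_isNoetherianRing).mp h3

end FieldExt

section FinalGp

variable {A : Type u} [CommRing A] [IsRegularLocalRing A] (p : ℕ) [hp : Fact p.Prime]
  [CharP A p]

theorem final_Gp {r : ℕ} (f : Fin r → A) :
    IsRegularRing (SepVar.Quot A (fun i => Gp p (f i))) ↔
      LinearIndependent (ResidueField A) (fun i => vv (f i)) := by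
  obtain ⟨hloc, h1, h2⟩ := klProp p r A f
  haveI := finite_quot_Gp p f
  obtain ⟨hfree, hrank⟩ := SepVar.free_and_finrank r A (fun i => Gp p (f i))
    (fun i => monic_Gp p (f i))
  haveI : Nontrivial (SepVar.Quot A (fun i => Gp p (f i))) := hloc.toNontrivial
  rw [isRegularRing_iff_of_isLocalRing, isRegularLocalRing_iff, ← h2]
  have hinj : Function.Injective (algebraMap A (SepVar.Quot A (fun i => Gp p (f i)))) :=
    FaithfulSMul.algebraMap_injective _ _
  have hdim := Groth.Agent.Lib.Helper12.ringKrullDim_eq_of_isIntegral_of_injective A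
    (SepVar.Quot A (fun i => Gp p (f i))) hinj
  rw [← hdim, ← IsRegularLocalRing.spanFinrank_maximalIdeal (R := A)]
  exact Nat.cast_inj

end FinalGp

end



open Groth.Agent.Lib.Helper23 Groth.Agent.Lib.Helper23.KeyLemma Groth.Agent.Lib.Helper23.KeyLemma2

noncomputable section

section Backward

variable {k A : Type u} [Field k] (p : ℕ) [CommRing A] [IsLocalRing A]
  [IsNoetherianRing A] [Algebra k A]

theorem regular_A
    (hreg : ∀ (k' : Type u) [Field k'] [Algebra k k'], Module.Finite k k' →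
      (∀ x : k', x ^ p ∈ (algebraMap k k').range) → IsRegularRing (k' ⊗[k] A)) :
    IsRegularLocalRing A := by
  have h := hreg k inferInstance (fun x => ⟨x ^ p, rfl⟩)
  haveI : IsRegularRing A := IsRegularRing.of_ringEquiv (Algebra.TensorProduct.lid k A).toRingEquiv
  exact IsRegularLocalRing.of_isRegularRing_of_isLocalRing A

variable [hp : Fact p.Prime] [CharP k p]

theorem finite_LI
    (hreg : ∀ (k' : Type u) [Field k'] [Algebra k k'], Module.Finite k k' →
      (∀ x : k', x ^ p ∈ (algebraMap k k').range) → IsRegularRing (k' ⊗[k] A))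
    {r : ℕ} (μ : Fin r → k)
    (hD : ∀ j, ∃ D : Derivation ℤ k k, D (μ j) = 1 ∧ ∀ i, i ≠ j → D (μ i) = 0) :
    LinearIndependent (ResidueField A) (fun i => vv (algebraMap k A (μ i))) := by
  haveI := regular_A p hreg
  haveI : CharP A p := charP_of_injective_algebraMap (algebraMap k A).injective p
  have hF := isField_quot p μ hD
  have hfin := finite_quot_Gp p μ
  have h := @hreg (SepVar.Quot k (fun i => Gp p (μ i))) hF.toField
    (inferInstanceAs (Algebra k (SepVar.Quot k (fun i => Gp p (μ i))))) hfin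
    (fun x => pow_mem_range_quot p μ x)
  let e1 := (Algebra.TensorProduct.comm k (SepVar.Quot k (fun i => Gp p (μ i))) A).toRingEquiv
  let e2 := (tensorEquiv (A := A) (fun i => Gp p (μ i))).toRingEquiv
  have hG : Gmap (A := A) (fun i => Gp p (μ i)) = fun i => Gp p (algebraMap k A (μ i)) :=
    funext (fun i => map_Gp p _ _)
  have h' : IsRegularRing (SepVar.Quot A (Gmap (A := A) (fun i => Gp p (μ i)))) :=
    @IsRegularRing.of_ringEquiv _ _ _ _ (e1.trans e2) h
  rw [hG] at h'
  exact (final_Gp p _).mp h'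

end Backward

end



open Groth.Agent.Lib.Helper23 Groth.Agent.Lib.Helper23.KeyLemma Groth.Agent.Lib.Helper23.KeyLemma2

noncomputable section

section Assemble

variable {k A : Type u} [Field k] (p : ℕ) [CommRing A] [IsLocalRing A]
  [IsNoetherianRing A] [Algebra k A]

theorem subsingleton_kaehler_primeField [hp : Fact p.Prime] :
    Subsingleton (Ω[ULift.{u} (ZMod p)⁄ℤ]) := by
  apply Groth.Agent.S4571.subsingleton_of_D_eq_zero
  intro x
  have : x = (Nat.cast (ZMod.val x.down) : ULift.{u} (ZMod p)) := by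
    apply ULift.ext
    show x.down = ((ZMod.val x.down : ℕ) : ZMod p)
    exact (ZMod.natCast_zmod_val _).symm
  rw [this]
  exact Derivation.map_natCast _ _

theorem adic_of_regular_prime [hp : Fact p.Prime] [CharP k p]
    (hreg : ∀ (k' : Type u) [Field k'] [Algebra k k'], Module.Finite k k' →
      (∀ x : k', x ^ p ∈ (algebraMap k k').range) → IsRegularRing (k' ⊗[k] A)) :
    CAlgX.IsAdicFormallySmooth k A (maximalIdeal A) := by
  classical
  haveI hregA := regular_A p hreg
  rw [Groth.Agent.S4571.result]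
  refine ⟨SymGrRegular.symGrBijective_of_isRegularLocalRing A, ?_⟩
  letI : Algebra (ULift.{u} (ZMod p)) k := primeAlgebra p k
  have hΛ : Subsingleton (Ω[ULift.{u} (ZMod p)⁄ℤ]) := subsingleton_kaehler_primeField p
  obtain ⟨S, hS⟩ := PBasisField.exists_isPBasis' p (ULift.{u} (ZMod p)) (K := k)
  obtain ⟨b, hb⟩ := PBasisDer.exists_basis_kaehler p (Subtype.val : S → k) hS
  let e : Ω[k⁄ℤ] ≃ₗ[k] Ω[k⁄ULift.{u} (ZMod p)] :=
    LinearEquiv.ofBijective (KaehlerDifferential.map ℤ (ULift.{u} (ZMod p)) k k)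
      (Groth.Agent.S4571.map_bijective (ULift.{u} (ZMod p)) k hΛ)
  let b' : Module.Basis S k (Ω[k⁄ℤ]) := b.map e.symm
  have hb' : ∀ α : S, b' α = KaehlerDifferential.D ℤ k α.1 := by
    intro α
    show e.symm (b α) = _
    rw [LinearEquiv.symm_apply_eq, hb]
    show _ = KaehlerDifferential.map ℤ (ULift.{u} (ZMod p)) k k (KaehlerDifferential.D ℤ k α.1)
    rw [KaehlerDifferential.map_D]
    rfl
  let B₁ := Algebra.TensorProduct.basis A b'
  let B₂ := Algebra.TensorProduct.basis (ResidueField A) B₁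
  have hinj : Function.Injective ((mapBaseChange ℤ k A).baseChange (ResidueField A)) := by
    apply LinearMap.injective_of_linearIndependent (v := B₂) B₂.span_eq
    have hcomp : ((mapBaseChange ℤ k A).baseChange (ResidueField A)) ∘ B₂ =
        fun α : S => vv (algebraMap k A α.1) := by
      funext α
      simp only [Function.comp_apply, B₂, B₁, Algebra.TensorProduct.basis_apply, hb',
        LinearMap.baseChange_tmul, mapBaseChange_tmul, one_smul, KaehlerDifferential.map_D, vv]
    rw [hcomp, linearIndependent_iff_finset_linearIndependent]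
    intro s
    rw [← linearIndependent_equiv s.equivFin.symm]
    apply finite_LI p hreg (fun i => (s.equivFin.symm i).1.1)
    intro j
    obtain ⟨D, hD⟩ := PBasisDer.exists_derivationA_of_pBasis p (Subtype.val : S → k) hS (L := k)
      (fun β => if β = (s.equivFin.symm j).1 then 1 else 0)
    refine ⟨D.restrictScalars ℤ, ?_, ?_⟩
    · show D _ = 1
      rw [hD (s.equivFin.symm j).1, if_pos rfl]
    · intro i hi
      show D _ = 0
      rw [hD (s.equivFin.symm i).1, if_neg]
      intro h
      exact hi (s.equivFin.symm.injective (Subtype.ext h))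
  intro x y hxy
  apply hinj
  rw [LinearMap.baseChange_eq_ltensor]
  exact hxy

theorem adic_of_regular_zero [CharZero k] (hregA : IsRegularLocalRing A) :
    CAlgX.IsAdicFormallySmooth k A (maximalIdeal A) := by
  letI : Field (A ⧸ maximalIdeal A) := Ideal.Quotient.field _
  haveI : Algebra.FormallySmooth k (A ⧸ maximalIdeal A) :=
    FieldSmooth.formallySmooth_of_perfectField k _
  have key := (Groth.Agent.S4570.result (Λ := k) (A := k) (B := A) (maximalIdeal A)).1
  apply key
  refine ⟨Module.Projective.of_free, SymGrRegular.symGrBijective_of_isRegularLocalRing A, ?_,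
    Module.Projective.of_free⟩
  haveI : Subsingleton (Ω[k⁄k]) := inferInstance
  haveI : Subsingleton ((A ⧸ maximalIdeal A) ⊗[A] (A ⊗[k] Ω[k⁄k])) := inferInstance
  exact Function.injective_of_subsingleton _

theorem t4573main [ExpChar k p] :
    CAlgX.IsAdicFormallySmooth k A (maximalIdeal A) ↔
      ∀ (k' : Type u) [Field k'] [Algebra k k'], Module.Finite k k' →
        (∀ x : k', x ^ p ∈ (algebraMap k k').range) → IsRegularRing (k' ⊗[k] A) := by
  constructor
  · intro h k' _ _ hfin hpow
    exact regular_of_adic p h k' hfin hpow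
  · intro hreg
    have hregA := regular_A p hreg
    rcases ‹ExpChar k p› with _ | ⟨hprime⟩
    · exact adic_of_regular_zero hregA
    · haveI : Fact p.Prime := ⟨hprime⟩
      exact adic_of_regular_prime p hreg

end Assemble

end

end Groth.Agent.Lib.Helper23.KeyLemma3
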