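import Mathlib
import Groth.Agent.Lib.Helper23.KeyLemma3
import Groth.Agent.S4573

/-!
# geometric regularity ⇔ adic formal smoothness over a field (EGA 0_IV 22.5.8 / IV 6.7.7 type statements)

isAdicFormallySmooth_localization, isRegularRing_of_adic (Noetherian ring adic-f.s. over a field for J ≤ rad is regular),
includeRight_isIntegral, isRegularRing_tensor_of_adic, geomRegular_iff_adic (any characteristic).
-/

set_option autoImplicit false
universe u
open IsLocalRing TensorProduct

namespace Groth.Agent.Lib.Helper23.GeomRegular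


open Groth.Agent.Lib.Helper23 Groth.Agent.Lib.Helper23.KeyLemma3

section Loc

theorem isAdicFormallySmooth_localization {k R : Type u} [CommRing k] [CommRing R] [Algebra k R]
    (M : Submonoid R) (J : Ideal R) (h : CAlgX.IsAdicFormallySmooth k R J) :
    CAlgX.IsAdicFormallySmooth k (Localization M) (J.map (algebraMap R (Localization M))) := by
  intro C _ _ N hN ψ ⟨n, hn⟩
  let ψ₀ : R →ₐ[k] C ⧸ N := ψ.comp (IsScalarTower.toAlgHom k R (Localization M))
  obtain ⟨χ₀, hχ₀⟩ := h C N hN ψ₀ ⟨n, fun x hx => by
    show ψ (algebraMap R (Localization M) x) = 0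
    apply hn
    rw [← Ideal.map_pow]
    exact Ideal.mem_map_of_mem _ hx⟩
  have hunits : ∀ s : M, IsUnit (χ₀ s) := by
    intro s
    apply (IsNilpotent.isUnit_quotient_mk_iff ⟨2, hN⟩).mp
    have h1 : Ideal.Quotient.mk N (χ₀ s) = ψ₀ s := by
      rw [← hχ₀]; rfl
    rw [h1]
    exact (IsLocalization.map_units (Localization M) s).map ψ
  refine ⟨IsLocalization.liftAlgHom (M := M) (f := χ₀) hunits, ?_⟩
  apply AlgHom.coe_ringHom_injective
  apply IsLocalization.ringHom_ext M
  ext x
  show Ideal.Quotient.mk N (IsLocalization.lift hunits (algebraMap R (Localization M) x)) =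
    ψ (algebraMap R (Localization M) x)
  rw [IsLocalization.lift_eq]
  have h1 : Ideal.Quotient.mk N (χ₀ x) = ψ₀ x := by
    rw [← hχ₀]; rfl
  exact h1

/-- a Noetherian ring adic formally smooth over a field for an ideal contained in all maximal
ideals is regular. -/
theorem isRegularRing_of_adic {k R : Type u} [Field k] [CommRing R] [IsNoetherianRing R]
    [Algebra k R] (J : Ideal R) (hJ : ∀ M : Ideal R, M.IsMaximal → J ≤ M)
    (h : CAlgX.IsAdicFormallySmooth k R J) : IsRegularRing R := by
  rw [isRegularRing_iff]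
  intro P hP
  obtain ⟨𝔫, h𝔫, hP𝔫⟩ := Ideal.exists_le_maximal P hP.ne_top
  haveI : IsNoetherianRing (Localization.AtPrime 𝔫) :=
    IsLocalization.isNoetherianRing 𝔫.primeCompl _ inferInstance
  have h1 := isAdicFormallySmooth_localization 𝔫.primeCompl J h
  have hle : J.map (algebraMap R (Localization.AtPrime 𝔫)) ≤
      maximalIdeal (Localization.AtPrime 𝔫) := by
    rw [← Localization.AtPrime.map_eq_maximalIdeal]
    exact Ideal.map_mono (hJ 𝔫 h𝔫)
  have h2 := isAdicFormallySmooth_mono _ _ hle h1
  have h3 := (Groth.Agent.S4571.result (k := k) (A := Localization.AtPrime 𝔫)).mp h2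
  haveI : IsRegularLocalRing (Localization.AtPrime 𝔫) :=
    SymGrRegular.isRegularLocalRing_of_symGrBijective _ h3.1
  -- the prime of the localization
  have hdisj : Disjoint (𝔫.primeCompl : Set R) (P : Set R) := by
    rw [Set.disjoint_left]
    intro x hx hxP
    exact hx (hP𝔫 hxP)
  haveI hp' : (P.map (algebraMap R (Localization.AtPrime 𝔫))).IsPrime :=
    IsLocalization.isPrime_of_isPrime_disjoint 𝔫.primeCompl _ P hP hdisj
  have hcomap : (P.map (algebraMap R (Localization.AtPrime 𝔫))).comap
      (algebraMap R (Localization.AtPrime 𝔫)) = P :=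
    IsLocalization.comap_map_of_isPrime_disjoint 𝔫.primeCompl _ hP hdisj
  haveI : IsRegularLocalRing (Localization.AtPrime
      (P.map (algebraMap R (Localization.AtPrime 𝔫)))) :=
    Groth.Agent.Lib.Helper18.SerreReg.isRegularLocalRing_localization_atPrime _ _
  have e := IsLocalization.localizationLocalizationAtPrimeIsoLocalization 𝔫.primeCompl
    (P.map (algebraMap R (Localization.AtPrime 𝔫)))
  have h4 : IsRegularLocalRing (Localization.AtPrime
      ((P.map (algebraMap R (Localization.AtPrime 𝔫))).comap
        (algebraMap R (Localization.AtPrime 𝔫)))) :=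
    IsRegularLocalRing.of_ringEquiv e.symm.toRingEquiv
  have key : ∀ (Q : Ideal R) [Q.IsPrime], Q = (P.map (algebraMap R (Localization.AtPrime 𝔫))).comap
      (algebraMap R (Localization.AtPrime 𝔫)) → IsRegularLocalRing (Localization.AtPrime Q) := by
    intro Q _ hQ
    subst hQ
    exact h4
  exact key P hcomap.symm

end Loc



open Groth.Agent.Lib.Helper23 Groth.Agent.Lib.Helper23.KeyLemma3

section GR

variable {k A : Type u} [Field k] [CommRing A] [IsLocalRing A] [IsNoetherianRing A] [Algebra k A]

omit [IsLocalRing A] [IsNoetherianRing A] in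
theorem includeRight_isIntegral (k' : Type u) [Field k'] [Algebra k k'] [Module.Finite k k'] :
    ((Algebra.TensorProduct.includeRight : A →ₐ[k] k' ⊗[k] A) : A →+* k' ⊗[k] A).IsIntegral := by
  have h1 : ((Algebra.TensorProduct.includeRight : A →ₐ[k] k' ⊗[k] A) : A →+* k' ⊗[k] A) =
      ((Algebra.TensorProduct.comm k A k').toRingEquiv.toRingHom).comp
        (algebraMap A (A ⊗[k] k')) := by
    ext a
    simp
  rw [h1]
  apply RingHom.IsIntegral.trans
  · exact algebraMap_isIntegral_iff.mpr inferInstance
  · exact RingHom.isIntegral_of_surjective _ (Algebra.TensorProduct.comm k A k').surjective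

theorem isRegularRing_tensor_of_adic (h : CAlgX.IsAdicFormallySmooth k A (maximalIdeal A))
    (k' : Type u) [Field k'] [Algebra k k'] (hfin : Module.Finite k k') :
    IsRegularRing (k' ⊗[k] A) := by
  haveI : IsNoetherianRing (A ⊗[k] k') := IsNoetherianRing.of_finite A _
  haveI : IsNoetherianRing (k' ⊗[k] A) :=
    isNoetherianRing_of_ringEquiv _ (Algebra.TensorProduct.comm k A k').toRingEquiv
  have h1 := isAdicFormallySmooth_baseChange k A k' _ h
  refine isRegularRing_of_adic _ ?_ h1
  intro M hM
  rw [Ideal.map_le_iff_le_comap]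
  have : (M.comap ((Algebra.TensorProduct.includeRight : A →ₐ[k] k' ⊗[k] A) :
      A →+* k' ⊗[k] A)).IsMaximal :=
    Ideal.isMaximal_comap_of_isIntegral_of_isMaximal' _ (includeRight_isIntegral k') M
  rw [← eq_maximalIdeal this]
  rfl

theorem geomRegular_iff_adic :
    CAlg.IsGeometricallyRegular k A ↔ CAlgX.IsAdicFormallySmooth k A (maximalIdeal A) := by
  constructor
  · intro h
    obtain ⟨q, hq⟩ := ExpChar.exists k
    rw [Groth.Agent.S4573.result (k := k) (A := A) q]
    intro k' _ _ hfin _
    exact h k' hfin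
  · intro h k' _ _ hfin
    exact isRegularRing_tensor_of_adic h k' hfin

end GR

end Groth.Agent.Lib.Helper23.GeomRegular
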