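import Mathlib
import Groth.Agent.Lib.Helper23.FieldSmooth
import Groth.Agent.S4571
import Groth.Agent.Lib.Helper23.SymGrRegular
import Groth.Agent.Lib.Helper23.AdicSmoothSym
import Groth.Agent.Lib.Helper21.RegularLocal
import Groth.Agent.Lib27.SepGen
import Groth.Agent.Lib.Helper23.PBasisDer

/-!
MacLane's separability criterion for arbitrary field extensions: for fields k ⊆ K,
formally smooth ⇔ geometrically reduced ⇔ K ⊗ Ω_{k/ℤ} → Ω_{K/ℤ} injective ⇔ derivations k → K extend to K
(EGA 0_IV 19.6.1, 20.6.3).  Also: Noetherian formally smooth over a perfect field ⇒ regular / reduced;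
essentially finite type formally smooth over a field ⇒ geometrically reduced.
-/

set_option autoImplicit false
universe u v w
open TensorProduct KaehlerDifferential
open TensorProduct KaehlerDifferential EGA41

namespace Groth.Agent.Lib.Helper23.FieldSep


/-- `INJ ⇒ EXT` over any base ring: if `K ⊗ Ω_{k/R} → Ω_{K/R}` is injective (`K` a field), every
`R`-derivation `k → K` extends to `K`. -/
theorem exists_extension_of_injective (R : Type w) (k : Type u) (K : Type v) [CommRing R] [CommRing k]
    [Field K] [Algebra R k] [Algebra k K] [Algebra R K] [IsScalarTower R k K]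
    (hinj : Function.Injective (mapBaseChange R k K)) (D : Derivation R k K) :
    ∃ D' : Derivation R K K, ∀ a : k, D' (algebraMap k K a) = D a := by
  obtain ⟨g, hg⟩ := (mapBaseChange R k K).exists_leftInverse_of_injective
    (LinearMap.ker_eq_bot.mpr hinj)
  let fD : K ⊗[k] Ω[k⁄R] →ₗ[K] K := LinearMap.liftBaseChange K D.liftKaehlerDifferential
  refine ⟨(fD ∘ₗ g).compDer (KaehlerDifferential.D R K), fun a => ?_⟩
  show fD (g (KaehlerDifferential.D R K (algebraMap k K a))) = D a
  have h1 : mapBaseChange R k K ((1 : K) ⊗ₜ[k] KaehlerDifferential.D R k a)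
      = KaehlerDifferential.D R K (algebraMap k K a) := by
    simp
  rw [← h1]
  have h2 : g (mapBaseChange R k K ((1 : K) ⊗ₜ[k] KaehlerDifferential.D R k a))
      = (1 : K) ⊗ₜ[k] KaehlerDifferential.D R k a :=
    congrArg (fun f : _ →ₗ[K] _ => f _) hg
  rw [h2]
  simp [fD]

/-- `EXT ⇒ INJ` over any base ring. -/
theorem injective_of_exists_extension (R : Type w) (k : Type u) (K : Type v) [CommRing R]
    [CommRing k] [Field K] [Algebra R k] [Algebra k K] [Algebra R K] [IsScalarTower R k K]
    (hext : ∀ D : Derivation R k K, ∃ D' : Derivation R K K, ∀ a : k, D' (algebraMap k K a) = D a) :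
    Function.Injective (mapBaseChange R k K) := by
  rw [← LinearMap.ker_eq_bot, eq_bot_iff]
  intro z hz
  rw [LinearMap.mem_ker] at hz
  rw [Submodule.mem_bot]
  by_contra hne
  -- a functional not vanishing at z
  obtain ⟨φ, hφ⟩ : ∃ φ : K ⊗[k] Ω[k⁄R] →ₗ[K] K, φ z ≠ 0 := by
    by_contra hall
    push_neg at hall
    exact hne ((Module.forall_dual_apply_eq_zero_iff K z).mp hall)
  -- the derivation attached to φ
  let ℓ : Ω[k⁄R] →ₗ[k] K := (φ.restrictScalars k) ∘ₗ (TensorProduct.mk k K (Ω[k⁄R]) 1)
  obtain ⟨D', hD'⟩ := hext (ℓ.compDer (KaehlerDifferential.D R k))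
  have key : D'.liftKaehlerDifferential ∘ₗ mapBaseChange R k K = φ := by
    apply LinearMap.ext
    intro w
    induction w using TensorProduct.induction_on with
    | zero => simp
    | add a b ha hb => rw [map_add, map_add, ha, hb]
    | tmul c ω =>
      have hω : ω ∈ Submodule.span k (Set.range (KaehlerDifferential.D R k)) := by
        rw [KaehlerDifferential.span_range_derivation]; trivial
      induction hω using Submodule.span_induction generalizing c with
      | mem ω hω =>
        obtain ⟨a, rfl⟩ := hω
        have h1 : c ⊗ₜ[k] KaehlerDifferential.D R k a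
            = c • ((1 : K) ⊗ₜ[k] KaehlerDifferential.D R k a) := by
          rw [TensorProduct.smul_tmul', smul_eq_mul, mul_one]
        rw [h1, map_smul, map_smul]
        congr 1
        simp only [LinearMap.coe_comp, Function.comp_apply, mapBaseChange_tmul, one_smul, map_D,
          Derivation.liftKaehlerDifferential_comp_D]
        rw [hD']
        rfl
      | zero => simp
      | add ω₁ ω₂ _ _ h₁ h₂ => rw [TensorProduct.tmul_add, map_add, map_add, h₁ c, h₂ c]
      | smul r ω _ h =>
        rw [← TensorProduct.smul_tmul]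
        exact h (r • c)
  apply hφ
  rw [← key, LinearMap.comp_apply, hz, map_zero]



open Groth.Agent.Lib.Helper23.FieldSmooth

/-- Formally smooth ⇒ `T ⊗ Ω_{S/R} → Ω_{T/R}` injective (any base `R`). -/
theorem injective_mapBaseChange_of_formallySmooth (R : Type w) (S : Type u) (T : Type v)
    [CommRing R] [CommRing S] [CommRing T] [Algebra R S] [Algebra S T] [Algebra R T]
    [IsScalarTower R S T] [Algebra.FormallySmooth S T] :
    Function.Injective (mapBaseChange R S T) := by
  rw [← LinearMap.ker_eq_bot, eq_bot_iff]
  intro z hz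
  rw [LinearMap.mem_ker] at hz
  obtain ⟨x, rfl⟩ := (Algebra.H1Cotangent.exact_δ_mapBaseChange R S T z).mp hz
  rw [Subsingleton.elim x 0, map_zero]
  exact Submodule.zero_mem _

/-- transfer of injectivity between base `ℤ` and a base `Λ` with `Ω[Λ⁄ℤ] = 0`. -/
theorem injective_iff_of_subsingleton (Λ k A : Type u) [CommRing Λ] [CommRing k] [CommRing A]
    [Algebra Λ k] [Algebra k A] [Algebra Λ A] [IsScalarTower Λ k A] (h : Subsingleton (Ω[Λ⁄ℤ])) :
    Function.Injective (mapBaseChange ℤ k A) ↔ Function.Injective (mapBaseChange Λ k A) := by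
  have h1 : Function.Bijective ((KaehlerDifferential.map ℤ Λ k k).baseChange A) := by
    have : Function.Bijective ((KaehlerDifferential.map ℤ Λ k k).lTensor A) :=
      Groth.Agent.S4571.lTensor_bijective A _ (Groth.Agent.S4571.map_bijective Λ k h)
    rw [← LinearMap.baseChange_eq_ltensor] at this
    exact this
  have h2 : Function.Bijective (KaehlerDifferential.map ℤ Λ A A) :=
    Groth.Agent.S4571.map_bijective Λ A h
  have hsq := Groth.Agent.S4571.square Λ k A
  constructor
  · intro hinj
    have h3 : Function.Injective ((KaehlerDifferential.map ℤ Λ A A) ∘ₗ (mapBaseChange ℤ k A)) := by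
      rw [LinearMap.coe_comp]
      exact h2.1.comp hinj
    rw [← hsq, LinearMap.coe_comp] at h3
    intro a b hab
    obtain ⟨a', rfl⟩ := h1.2 a
    obtain ⟨b', rfl⟩ := h1.2 b
    exact congrArg _ (h3 hab)
  · intro hinj
    have h3 : Function.Injective ((mapBaseChange Λ k A) ∘ₗ
        ((KaehlerDifferential.map ℤ Λ k k).baseChange A)) := by
      rw [LinearMap.coe_comp]
      exact hinj.comp h1.1
    rw [hsq, LinearMap.coe_comp] at h3
    exact Function.Injective.of_comp h3

/-- `INJ ⇒ FS` for field extensions. -/
theorem formallySmooth_of_injective (k K : Type u) [Field k] [Field K] [Algebra k K]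
    (hinj : Function.Injective (mapBaseChange ℤ k K)) : Algebra.FormallySmooth k K := by
  obtain ⟨Λ, _, _, hΛ, hperf⟩ := Groth.Agent.S4571.exists_primeField k
  letI : Algebra Λ K := ((algebraMap k K).comp (algebraMap Λ k)).toAlgebra
  haveI : IsScalarTower Λ k K := IsScalarTower.of_algebraMap_eq (fun _ => rfl)
  have hinj' := (injective_iff_of_subsingleton Λ k K hΛ).mp hinj
  haveI : Algebra.FormallySmooth Λ K := formallySmooth_of_perfectField Λ K
  refine ⟨inferInstance, ?_⟩
  refine ⟨fun x y => ?_⟩
  have hx : ∀ x : Algebra.H1Cotangent k K, x = 0 := by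
    intro x
    have h1 : Algebra.H1Cotangent.δ Λ k K x = 0 := by
      apply hinj'
      rw [map_zero]
      exact (Algebra.H1Cotangent.exact_δ_mapBaseChange Λ k K _).mpr ⟨x, rfl⟩
    obtain ⟨y, rfl⟩ := (Algebra.H1Cotangent.exact_map_δ Λ k K x).mp h1
    rw [Subsingleton.elim y 0, map_zero]
  rw [hx x, hx y]

theorem formallySmooth_iff_injective (k K : Type u) [Field k] [Field K] [Algebra k K] :
    Algebra.FormallySmooth k K ↔ Function.Injective (mapBaseChange ℤ k K) :=
  ⟨fun _ => injective_mapBaseChange_of_formallySmooth ℤ k K, formallySmooth_of_injective k K⟩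

theorem injective_iff_exists_extension (k K : Type u) [Field k] [Field K] [Algebra k K] :
    Function.Injective (mapBaseChange ℤ k K) ↔
      ∀ D : Derivation ℤ k K, ∃ D' : Derivation ℤ K K, ∀ a : k, D' (algebraMap k K a) = D a :=
  ⟨exists_extension_of_injective ℤ k K, injective_of_exists_extension ℤ k K⟩



open Groth.Agent.Lib.Helper23.FieldSmooth

/-- discrete formal smoothness implies adic formal smoothness for any ideal. -/
theorem adic_of_formallySmooth (A B : Type u) [CommRing A] [CommRing B] [Algebra A B]
    [Algebra.FormallySmooth A B] (J : Ideal B) : CAlgX.IsAdicFormallySmooth A B J := by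
  intro C _ _ I hI ψ _
  obtain ⟨χ, hχ⟩ := Algebra.FormallySmooth.comp_surjective A B I hI ψ
  exact ⟨χ, hχ⟩

/-- A Noetherian local ring formally smooth over a perfect field is regular. -/
theorem isRegularLocalRing_of_formallySmooth (L T : Type u) [Field L] [PerfectField L] [CommRing T]
    [Algebra L T] [IsLocalRing T] [IsNoetherianRing T] [Algebra.FormallySmooth L T] :
    IsRegularLocalRing T := by
  haveI : Algebra.FormallySmooth L (T ⧸ IsLocalRing.maximalIdeal T) :=
    formallySmooth_of_perfectField L (IsLocalRing.ResidueField T)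
  have h1 := adic_of_formallySmooth L T (IsLocalRing.maximalIdeal T)
  have h2 := (Groth.Agent.Lib.Helper23.AdicSmoothSym.adicSmooth_iff
    (A := L) (B := T) (IsLocalRing.maximalIdeal T)).mp h1
  exact (Groth.Agent.Lib.Helper23.SymGrRegular.isRegularLocalRing_iff_symGrBijective T).mpr h2.2

/-- A Noetherian ring formally smooth over a perfect field is reduced. -/
theorem isReduced_of_formallySmooth (L T : Type u) [Field L] [PerfectField L] [CommRing T]
    [Algebra L T] [IsNoetherianRing T] [Algebra.FormallySmooth L T] : IsReduced T := by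
  apply isReduced_ofLocalizationMaximal
  intro J hJ
  haveI : Algebra.FormallySmooth L (Localization.AtPrime J) := inferInstance
  haveI : IsNoetherianRing (Localization.AtPrime J) :=
    IsLocalization.isNoetherianRing J.primeCompl _ inferInstance
  haveI := isRegularLocalRing_of_formallySmooth L (Localization.AtPrime J)
  haveI := Groth.Agent.Lib.Helper21.isDomain_of_isRegularLocalRing (Localization.AtPrime J)
  infer_instance

/-- **(G2)** an essentially finite type formally smooth algebra over a field is geometrically
reduced. -/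
theorem isGeometricallyReduced_of_formallySmooth (k E : Type u) [Field k] [CommRing E] [Algebra k E]
    [Algebra.EssFiniteType k E] [Algebra.FormallySmooth k E] :
    Algebra.IsGeometricallyReduced k E := by
  rw [Algebra.isGeometricallyReduced_field_iff]
  haveI : IsNoetherianRing (AlgebraicClosure k ⊗[k] E) :=
    Algebra.EssFiniteType.isNoetherianRing (AlgebraicClosure k) _
  exact isReduced_of_formallySmooth (AlgebraicClosure k) (AlgebraicClosure k ⊗[k] E)



open Groth.Agent.Lib.Helper23.FieldSmooth

/-- MacLane's condition: `K` and `k^{1/p}` are linearly disjoint over `k`. -/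
def MacLane (p : ℕ) (k : Type u) (K : Type v) [Field k] [Field K] [Algebra k K] : Prop :=
  ∀ s : Finset K, LinearIndepOn k _root_.id (s : Set K) → LinearIndepOn k (· ^ p) (s : Set K)

theorem MacLane.intermediateField {p : ℕ} {k : Type u} {K : Type v} [Field k] [Field K]
    [Algebra k K] (H : MacLane p k K) (E : IntermediateField k K) : MacLane p k E := by
  classical
  intro s hs
  have h1 : LinearIndepOn k (fun x : E => (x : K)) (s : Set E) :=
    hs.map_injOn E.val.toLinearMap (fun x _ y _ h => Subtype.ext h)
  have h2 := h1.id_image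
  have h3 : ((fun x : E => (x : K)) '' (s : Set E)) = ((s.image (fun x : E => (x : K)) : Finset K) : Set K) := by
    rw [Finset.coe_image]
  rw [h3] at h2
  have h4 := H _ h2
  rw [← h3] at h4
  have h5 := h4.comp_of_image (fun x _ y _ h => Subtype.ext h)
  exact LinearIndepOn.of_comp E.val.toLinearMap h5

/-- a field extension all of whose finitely generated subextensions are formally smooth is
geometrically reduced. -/
theorem isGeometricallyReduced_of_forall_fg (k K : Type u) [Field k] [Field K] [Algebra k K]
    (h : ∀ t : Finset K, Algebra.FormallySmooth k (IntermediateField.adjoin k (t : Set K))) :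
    Algebra.IsGeometricallyReduced k K := by
  apply Algebra.IsGeometricallyReduced.of_forall_fg
  rintro B ⟨t, rfl⟩
  let E := IntermediateField.adjoin k (t : Set K)
  haveI : Algebra.EssFiniteType k E := IntermediateField.essFiniteType_iff.mpr ⟨t, rfl⟩
  haveI : Algebra.FormallySmooth k E := h t
  haveI : Algebra.IsGeometricallyReduced k E := isGeometricallyReduced_of_formallySmooth k E
  have hle : Algebra.adjoin k (t : Set K) ≤ E.toSubalgebra :=
    IntermediateField.algebra_adjoin_le_adjoin k _
  exact Algebra.IsGeometricallyReduced.of_injective (Subalgebra.inclusion hle)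
    (Subalgebra.inclusion_injective hle)

theorem isGeometricallyReduced_of_charZero (k K : Type u) [Field k] [Field K] [Algebra k K]
    [CharZero k] : Algebra.IsGeometricallyReduced k K :=
  isGeometricallyReduced_of_forall_fg k K (fun _ => formallySmooth_of_charZero k _)

theorem isGeometricallyReduced_of_macLane (p : ℕ) (hp : p.Prime) (k K : Type u) [Field k] [Field K]
    [Algebra k K] [ExpChar k p] (H : MacLane p k K) : Algebra.IsGeometricallyReduced k K := by
  apply isGeometricallyReduced_of_forall_fg
  intro t
  let E := IntermediateField.adjoin k (t : Set K)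
  haveI : Algebra.EssFiniteType k E := IntermediateField.essFiniteType_iff.mpr ⟨t, rfl⟩
  obtain ⟨s, hs, Hs⟩ :=
    exists_isTranscendenceBasis_and_isSeparable_of_linearIndepOn_pow_of_essFiniteType
      (k := k) (K := E) p hp (H.intermediateField E)
  have : Algebra.IsSeparable (↥(IntermediateField.adjoin k (Set.range ((↑) : s → E)))) E := by
    convert! Hs <;> simp
  exact .of_algebraicIndependent_of_isSeparable hs.1

theorem macLane_of_isGeometricallyReduced (p : ℕ) (hp : p.Prime) (k : Type u) (K : Type v)
    [Field k] [Field K] [Algebra k K] [ExpChar k p] [Algebra.IsGeometricallyReduced k K] :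
    MacLane p k K :=
  fun s hs => Groth.Agent.Lib27.linearIndepOn_pow_of_isGeometricallyReduced k K p hp s hs



open Groth.Agent.Lib.Helper23.PBasisField Groth.Agent.Lib.Helper23.PBasisDer

section

variable (p : ℕ) [Fact p.Prime] (Λ k K : Type u) [Field Λ] [Field k] [Field K] [Algebra Λ k]
  [Algebra k K] [Algebra Λ K] [IsScalarTower Λ k K] [CharP k p]

/-- for a perfect base field, `Λ[k^p]` is the set of `p`-th powers. -/
theorem mem_pPower_iff_perfect [PerfectField Λ] (b : k) :
    b ∈ pPowerSubalgebra p Λ k ↔ ∃ c : k, b = c ^ p := by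
  haveI : CharP Λ p := (algebraMap Λ k).charP_iff (algebraMap Λ k).injective p |>.mpr inferInstance
  haveI : ExpChar Λ p := ExpChar.prime Fact.out
  haveI : PerfectRing Λ p := PerfectField.toPerfectRing p
  constructor
  · intro hb
    unfold pPowerSubalgebra at hb
    induction hb using Algebra.adjoin_induction with
    | mem b hb => obtain ⟨c, rfl⟩ := hb; exact ⟨c, rfl⟩
    | algebraMap a =>
      obtain ⟨y, hy⟩ := surjective_frobenius Λ p a
      refine ⟨algebraMap Λ k y, ?_⟩
      rw [← map_pow, ← hy]; rfl
    | add b c _ _ hb hc =>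
      obtain ⟨b', rfl⟩ := hb
      obtain ⟨c', rfl⟩ := hc
      exact ⟨b' + c', (add_pow_char b' c' p).symm⟩
    | mul b c _ _ hb hc =>
      obtain ⟨b', rfl⟩ := hb
      obtain ⟨c', rfl⟩ := hc
      exact ⟨b' * c', (mul_pow b' c' p).symm⟩
  · rintro ⟨c, rfl⟩
    exact Algebra.subset_adjoin ⟨c, rfl⟩

variable {k}

/-- **(E1)** if derivations `k → K` extend to `K`, a `p`-basis of `k` stays `p`-independent in `K`. -/
theorem isPIndependent_of_exists_extension
    (hext : ∀ D : Derivation Λ k K, ∃ D' : Derivation Λ K K, ∀ a : k, D' (algebraMap k K a) = D a)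
    {ι : Type u} (x : ι → k) (hx : IsPBasis p Λ x) :
    IsPIndependent p Λ (fun i => algebraMap k K (x i)) := by
  classical
  haveI : CharP K p := (algebraMap k K).charP_iff (algebraMap k K).injective p |>.mp inferInstance
  rw [isPIndependent_iff]
  intro a ha
  obtain ⟨D₀, hD₀⟩ := exists_derivationA_of_pBasis p x hx (L := k)
    (fun i => if i = a then 1 else 0)
  obtain ⟨D', hD'⟩ := hext ((Algebra.linearMap k K).compDer D₀)
  -- the subfield of constants of D'
  let Z : Subfield K :=
    { carrier := {y | D' y = 0}
      mul_mem' := by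
        intro y z hy hz
        show D' (y * z) = 0
        rw [Derivation.leibniz, show D' y = 0 from hy, show D' z = 0 from hz, smul_zero, smul_zero,
          add_zero]
      one_mem' := Derivation.map_one_eq_zero D'
      add_mem' := by
        intro y z hy hz
        show D' (y + z) = 0
        rw [map_add, show D' y = 0 from hy, show D' z = 0 from hz, add_zero]
      zero_mem' := map_zero D'
      neg_mem' := by
        intro y hy
        show D' (-y) = 0
        rw [map_neg, show D' y = 0 from hy, neg_zero]
      inv_mem' := by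
        intro y hy
        show D' y⁻¹ = 0
        rw [Derivation.leibniz_inv, show D' y = 0 from hy, smul_zero] }
  let Z' : IntermediateField (pPowerSubfield p Λ K) K :=
    Subfield.toIntermediateField Z (fun s =>
      derivation_eq_zero_of_mem_pPower p D' s.1 s.2)
  have hle : IntermediateField.adjoin (pPowerSubfield p Λ K)
      ((fun i => algebraMap k K (x i)) '' {b | b ≠ a}) ≤ Z' := by
    rw [IntermediateField.adjoin_le_iff]
    rintro _ ⟨b, hb, rfl⟩
    show D' (algebraMap k K (x b)) = 0
    rw [hD']
    show algebraMap k K (D₀ (x b)) = 0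
    rw [hD₀, if_neg hb, map_zero]
  have h0 : D' (algebraMap k K (x a)) = 0 := hle ha
  rw [hD'] at h0
  have h1 : algebraMap k K (D₀ (x a)) = 0 := h0
  rw [hD₀, if_pos rfl, map_one] at h1
  exact one_ne_zero h1

/-- **(E2)** if a `p`-basis of `k` stays `p`-independent in `K`, derivations extend. -/
theorem exists_extension_of_isPIndependent
    {ι : Type u} (x : ι → k) (hx : IsPBasis p Λ x)
    (hxK : IsPIndependent p Λ (fun i => algebraMap k K (x i)))
    (D : Derivation Λ k K) :
    ∃ D' : Derivation Λ K K, ∀ a : k, D' (algebraMap k K a) = D a := by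
  classical
  haveI : CharP K p := (algebraMap k K).charP_iff (algebraMap k K).injective p |>.mp inferInstance
  have hinj : Function.Injective (fun i => algebraMap k K (x i)) := by
    intro i j hij
    by_contra hne
    rw [isPIndependent_iff] at hxK
    apply hxK i
    apply IntermediateField.subset_adjoin
    exact ⟨j, fun h => hne h.symm, hij.symm⟩
  let L : Set K := Set.range (fun i => algebraMap k K (x i))
  have hL : IsPIndependent p Λ (Subtype.val : L → K) := by
    rw [isPIndependent_val_iff]
    rintro _ ⟨i, rfl⟩ hmem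
    rw [isPIndependent_iff] at hxK
    apply hxK i
    refine IntermediateField.adjoin.mono _ _ _ ?_ hmem
    rintro _ ⟨⟨j, rfl⟩, hj⟩
    exact ⟨j, fun h => hj (by rw [h]; rfl), rfl⟩
  obtain ⟨B', hLB', -, hB'⟩ := exists_isPBasis p Λ (Set.univ : Set K) L (Set.subset_univ _)
    ((isPGenerating_val_iff p Λ _).mpr (by
      rw [eq_top_iff]; intro m _; exact IntermediateField.subset_adjoin _ _ (Set.mem_univ m))) hL
  let y : B' → K := fun b' => if h : ∃ i, algebraMap k K (x i) = b'.1 then D (x h.choose) else 0
  obtain ⟨D', hD'⟩ := exists_derivationA_of_pBasis p (Subtype.val : B' → K) hB' (L := K) y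
  refine ⟨D', ?_⟩
  have hxi : ∀ i, D' (algebraMap k K (x i)) = D (x i) := by
    intro i
    have hmem : algebraMap k K (x i) ∈ B' := hLB' ⟨i, rfl⟩
    have := hD' ⟨_, hmem⟩
    rw [this]
    have hex : ∃ j, algebraMap k K (x j) = algebraMap k K (x i) := ⟨i, rfl⟩
    show (if h : ∃ j, algebraMap k K (x j) = algebraMap k K (x i) then D (x h.choose) else 0) = _
    rw [dif_pos hex]
    have := hinj hex.choose_spec
    rw [this]
  have := derivationA_ext_of_pGenerating p x hx.2 (D'.compAlgebraMap k) D hxi
  intro a
  exact congrArg (fun d : Derivation Λ k K => d a) this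

end



open Groth.Agent.Lib.Helper23.PBasisField Groth.Agent.Lib.Helper23.PBasisDer

section

theorem pMonomial_map {k K : Type u} [CommRing k] [CommRing K] (f : k →+* K) {ι : Type u}
    (x : ι → k) (e : ι →₀ ℕ) : pMonomial (fun i => f (x i)) e = f (pMonomial x e) := by
  unfold pMonomial
  rw [map_finsuppProd]
  simp only [map_pow]

theorem key_identity (p : ℕ) [Fact p.Prime] {k K : Type u} [Field k] [Field K] [Algebra k K]
    [CharP K p] {E : Type*} (m : E → k) (s : Finset K) (U : Finset E) (c : K → E → k) :
    ∑ a ∈ s, (∑ e ∈ U, (c a e) ^ p * m e) • a ^ p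
      = ∑ e ∈ U, (∑ a ∈ s, c a e • a) ^ p * algebraMap k K (m e) := by
  have h1 : ∀ e ∈ U, (∑ a ∈ s, c a e • a) ^ p * algebraMap k K (m e)
      = ∑ a ∈ s, ((c a e) ^ p * m e) • a ^ p := by
    intro e _
    rw [sum_pow_char, Finset.sum_mul]
    refine Finset.sum_congr rfl (fun a _ => ?_)
    rw [smul_pow, Algebra.smul_def, Algebra.smul_def, map_mul, map_pow]
    ring
  rw [Finset.sum_congr rfl h1, Finset.sum_comm]
  refine Finset.sum_congr rfl (fun a _ => ?_)
  rw [Finset.sum_smul]

variable (p : ℕ) [Fact p.Prime] (Λ : Type u) {k K : Type u} [Field Λ] [Field k] [Field K]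
  [Algebra Λ k] [Algebra k K] [Algebra Λ K] [IsScalarTower Λ k K] [CharP k p] [PerfectField Λ]

/-- **(E3)** -/
theorem macLane_of_isPIndependent {ι : Type u} (x : ι → k) (hx : IsPGenerating p Λ x)
    (hxK : IsPIndependent p Λ (fun i => algebraMap k K (x i))) : MacLane p k K := by
  classical
  haveI : CharP K p := (algebraMap k K).charP_iff (algebraMap k K).injective p |>.mp inferInstance
  have hp : p ≠ 0 := (Fact.out : p.Prime).ne_zero
  intro s hs
  rw [linearIndepOn_finset_iff] at hs ⊢
  intro g hg
  -- expansions of the coefficients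
  have hexp : ∀ a : K, ∃ c : {e : ι →₀ ℕ // ∀ i, e i < p} →₀ k,
      g a = ∑ e ∈ c.support, (c e) ^ p * pMonomial x e.1 := by
    intro a
    have hmem : g a ∈ Submodule.span (pPowerSubalgebra p Λ k)
        (Set.range fun e : {e : ι →₀ ℕ // ∀ i, e i < p} => pMonomial x e.1) := by
      rw [show Submodule.span (pPowerSubalgebra p Λ k)
        (Set.range fun e : {e : ι →₀ ℕ // ∀ i, e i < p} => pMonomial x e.1) = ⊤ from hx]
      trivial
    obtain ⟨c₀, hc₀⟩ := Finsupp.mem_span_range_iff_exists_finsupp.mp hmem
    have hroot : ∀ r : pPowerSubalgebra p Λ k, ∃ y : k, r.1 = y ^ p := fun r =>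
      (mem_pPower_iff_perfect p Λ k r.1).mp r.2
    choose root hroot using hroot
    have hroot0 : root 0 = 0 := by
      have := hroot 0
      exact pow_eq_zero_iff hp |>.mp this.symm
    refine ⟨c₀.mapRange root hroot0, ?_⟩
    rw [← hc₀, Finsupp.sum]
    have hsub : (c₀.mapRange root hroot0).support ⊆ c₀.support := Finsupp.support_mapRange
    have hsum : ∑ e ∈ (c₀.mapRange root hroot0).support,
        ((c₀.mapRange root hroot0) e) ^ p * pMonomial x e.1
        = ∑ e ∈ c₀.support, ((c₀.mapRange root hroot0) e) ^ p * pMonomial x e.1 := by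
      apply Finset.sum_subset hsub
      intro e _ he
      rw [Finsupp.notMem_support_iff] at he
      rw [he, zero_pow hp, zero_mul]
    rw [hsum]
    refine Finset.sum_congr rfl (fun e _ => ?_)
    rw [Finsupp.mapRange_apply, ← hroot]
    rfl
  choose c hc using hexp
  let U : Finset {e : ι →₀ ℕ // ∀ i, e i < p} := s.biUnion (fun a => (c a).support)
  have hc' : ∀ a ∈ s, g a = ∑ e ∈ U, (c a e) ^ p * pMonomial x e.1 := by
    intro a ha
    rw [hc a]
    apply Finset.sum_subset (Finset.subset_biUnion_of_mem (fun a => (c a).support) ha)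
    intro e _ he
    rw [Finsupp.notMem_support_iff] at he
    rw [he, zero_pow hp, zero_mul]
  have h1 : ∑ a ∈ s, (∑ e ∈ U, (c a e) ^ p * pMonomial x e.1) • a ^ p = 0 := by
    rw [← hg]
    exact Finset.sum_congr rfl (fun a ha => by rw [hc' a ha])
  rw [key_identity p (fun e : {e : ι →₀ ℕ // ∀ i, e i < p} => pMonomial x e.1) s U
    (fun a e => c a e)] at h1
  let r : {e : ι →₀ ℕ // ∀ i, e i < p} → pPowerSubalgebra p Λ K := fun e =>
    ⟨(∑ a ∈ s, c a e • a) ^ p, Algebra.subset_adjoin ⟨_, rfl⟩⟩
  have h2 : ∑ e ∈ U, r e • pMonomial (fun i => algebraMap k K (x i)) e.1 = 0 := by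
    rw [← h1]
    refine Finset.sum_congr rfl (fun e _ => ?_)
    rw [pMonomial_map]
    rfl
  have h3 := linearIndependent_iff'.mp hxK U r h2
  have h4 : ∀ e ∈ U, ∀ a ∈ s, c a e = 0 := by
    intro e he
    have := congrArg Subtype.val (h3 e he)
    have h5 : (∑ a ∈ s, c a e • a) ^ p = 0 := this
    exact hs (fun a => c a e) (pow_eq_zero_iff hp |>.mp h5)
  intro a ha
  rw [hc' a ha]
  apply Finset.sum_eq_zero
  intro e he
  rw [h4 e he a ha, zero_pow hp, zero_mul]

/-- **(E4)** -/
theorem isPIndependent_of_macLane {ι : Type u} (x : ι → k) (hx : IsPIndependent p Λ x)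
    (H : MacLane p k K) : IsPIndependent p Λ (fun i => algebraMap k K (x i)) := by
  classical
  haveI : CharP K p := (algebraMap k K).charP_iff (algebraMap k K).injective p |>.mp inferInstance
  have hp : p ≠ 0 := (Fact.out : p.Prime).ne_zero
  unfold IsPIndependent
  rw [linearIndependent_iff']
  intro U r hr
  have hroot : ∀ e : {e : ι →₀ ℕ // ∀ i, e i < p}, ∃ y : K, (r e).1 = y ^ p := fun e =>
    (mem_pPower_iff_perfect p Λ K (r e).1).mp (r e).2
  choose c hc using hroot
  obtain ⟨b, hb, hspan, hbli⟩ := exists_linearIndependent k (c '' (U : Set _))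
  have hbfin : b.Finite := (U.finite_toSet.image c).subset hb
  let s : Finset K := hbfin.toFinset
  have hs : LinearIndepOn k _root_.id (s : Set K) := by
    rw [Set.Finite.coe_toFinset]
    exact hbli
  have hf : ∀ e : {e : ι →₀ ℕ // ∀ i, e i < p}, ∃ f : K → k, e ∈ U → ∑ a ∈ s, f a • a = c e := by
    intro e
    by_cases he : e ∈ U
    · have : c e ∈ Submodule.span k (s : Set K) := by
        rw [Set.Finite.coe_toFinset, hspan]
        exact Submodule.subset_span ⟨e, he, rfl⟩
      obtain ⟨f, -, hf⟩ := Submodule.mem_span_finset.mp this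
      exact ⟨f, fun _ => hf⟩
    · exact ⟨0, fun h => absurd h he⟩
  choose f hf using hf
  have h1 : ∑ e ∈ U, (∑ a ∈ s, f e a • a) ^ p
      * algebraMap k K (pMonomial x e.1) = 0 := by
    rw [← hr]
    refine Finset.sum_congr rfl (fun e he => ?_)
    rw [hf e he, pMonomial_map, ← hc]
    rfl
  rw [← key_identity p (fun e : {e : ι →₀ ℕ // ∀ i, e i < p} => pMonomial x e.1) s U
    (fun a e => f e a)] at h1
  have h2 := (linearIndepOn_finset_iff.mp (H s hs))
    (fun a => ∑ e ∈ U, (f e a) ^ p * pMonomial x e.1) h1
  have h3 : ∀ a ∈ s, ∀ e ∈ U, f e a = 0 := by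
    intro a ha
    have h4 := h2 a ha
    let r' : {e : ι →₀ ℕ // ∀ i, e i < p} → pPowerSubalgebra p Λ k := fun e =>
      ⟨(f e a) ^ p, Algebra.subset_adjoin ⟨_, rfl⟩⟩
    have h5 : ∑ e ∈ U, r' e • pMonomial x e.1 = 0 := h4
    have h6 := linearIndependent_iff'.mp hx U r' h5
    intro e he
    have := congrArg Subtype.val (h6 e he)
    exact pow_eq_zero_iff hp |>.mp this
  intro e he
  apply Subtype.ext
  rw [hc e, ← hf e he]
  have : ∑ a ∈ s, f e a • a = 0 := by
    apply Finset.sum_eq_zero
    intro a ha
    rw [h3 a ha e he, zero_smul]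
  rw [this, zero_pow hp]
  rfl

end



open Groth.Agent.Lib.Helper23.PBasisField Groth.Agent.Lib.Helper23.PBasisDer
  Groth.Agent.Lib.Helper23.FieldSmooth

/-- `INJ ⇒ FS` for field extensions, over a perfect base field. -/
theorem formallySmooth_of_injective_perfect (Λ k K : Type u) [Field Λ] [PerfectField Λ] [Field k]
    [Field K] [Algebra Λ k] [Algebra k K] [Algebra Λ K] [IsScalarTower Λ k K]
    (hinj : Function.Injective (mapBaseChange Λ k K)) : Algebra.FormallySmooth k K := by
  haveI : Algebra.FormallySmooth Λ K := formallySmooth_of_perfectField Λ K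
  refine ⟨inferInstance, ?_⟩
  refine ⟨fun x y => ?_⟩
  have hx : ∀ x : Algebra.H1Cotangent k K, x = 0 := by
    intro x
    have h1 : Algebra.H1Cotangent.δ Λ k K x = 0 := by
      apply hinj
      rw [map_zero]
      exact (Algebra.H1Cotangent.exact_δ_mapBaseChange Λ k K _).mpr ⟨x, rfl⟩
    obtain ⟨y, rfl⟩ := (Algebra.H1Cotangent.exact_map_δ Λ k K x).mp h1
    rw [Subsingleton.elim y 0, map_zero]
  rw [hx x, hx y]

/-- the equivalence `EXT ⇔ MacLane` in characteristic `p`, over a perfect base field. -/
theorem exists_extension_iff_macLane (p : ℕ) [Fact p.Prime] (Λ k K : Type u) [Field Λ]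
    [PerfectField Λ] [Field k] [Field K] [Algebra Λ k] [Algebra k K] [Algebra Λ K]
    [IsScalarTower Λ k K] [CharP k p] :
    (∀ D : Derivation Λ k K, ∃ D' : Derivation Λ K K, ∀ a : k, D' (algebraMap k K a) = D a) ↔
      MacLane p k K := by
  obtain ⟨B, hB⟩ := exists_isPBasis' p Λ (K := k)
  constructor
  · intro hext
    exact macLane_of_isPIndependent p Λ _ hB.2
      (isPIndependent_of_exists_extension p Λ K hext _ hB)
  · intro H D
    exact exists_extension_of_isPIndependent p Λ K _ hB
      (isPIndependent_of_macLane p Λ _ hB.1 H) D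

/-- **MacLane's criterion**: for a field extension, formally smooth ⇔ geometrically reduced. -/
theorem formallySmooth_iff_isGeometricallyReduced (k K : Type u) [Field k] [Field K]
    [Algebra k K] : Algebra.FormallySmooth k K ↔ Algebra.IsGeometricallyReduced k K := by
  obtain ⟨p, hp⟩ := CharP.exists k
  rcases CharP.char_is_prime_or_zero k p with h | h
  · haveI : Fact p.Prime := ⟨h⟩
    haveI : ExpChar k p := ExpChar.prime h
    obtain ⟨Λ, _, _, -, hperf⟩ := Groth.Agent.S4571.exists_primeField k
    letI : Algebra Λ K := ((algebraMap k K).comp (algebraMap Λ k)).toAlgebra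
    haveI : IsScalarTower Λ k K := IsScalarTower.of_algebraMap_eq (fun _ => rfl)
    constructor
    · intro hfs
      have h1 := injective_mapBaseChange_of_formallySmooth Λ k K
      have h2 := exists_extension_of_injective Λ k K h1
      exact isGeometricallyReduced_of_macLane p h k K
        ((exists_extension_iff_macLane p Λ k K).mp h2)
    · intro hgr
      have h1 := macLane_of_isGeometricallyReduced p h k K
      have h2 := (exists_extension_iff_macLane p Λ k K).mpr h1
      exact formallySmooth_of_injective_perfect Λ k K (injective_of_exists_extension Λ k K h2)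
  · subst h
    haveI : CharZero k := CharP.charP_to_charZero k
    exact ⟨fun _ => isGeometricallyReduced_of_charZero k K,
      fun _ => formallySmooth_of_charZero k K⟩

theorem isGeometricallyReduced_iff_injective (k K : Type u) [Field k] [Field K] [Algebra k K] :
    Algebra.IsGeometricallyReduced k K ↔ Function.Injective (mapBaseChange ℤ k K) :=
  (formallySmooth_iff_isGeometricallyReduced k K).symm.trans (formallySmooth_iff_injective k K)

theorem isGeometricallyReduced_iff_exists_extension (k K : Type u) [Field k] [Field K]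
    [Algebra k K] :
    Algebra.IsGeometricallyReduced k K ↔
      ∀ D : Derivation ℤ k K, ∃ D' : Derivation ℤ K K, ∀ a : k, D' (algebraMap k K a) = D a :=
  (isGeometricallyReduced_iff_injective k K).trans (injective_iff_exists_extension k K)

/-- geometrically reduced ⇒ `K ⊗ Ω_{k/R} → Ω_{K/R}` injective for every base `R`. -/
theorem injective_mapBaseChange_of_isGeometricallyReduced (R : Type w) (k K : Type u) [CommRing R]
    [Field k] [Field K] [Algebra R k] [Algebra k K] [Algebra R K] [IsScalarTower R k K]
    [Algebra.IsGeometricallyReduced k K] : Function.Injective (mapBaseChange R k K) := by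
  haveI := (formallySmooth_iff_isGeometricallyReduced k K).mpr inferInstance
  exact injective_mapBaseChange_of_formallySmooth R k K

end Groth.Agent.Lib.Helper23.FieldSep
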