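import Mathlib
import Groth.Agent.Lib.Helper21.LeftInv
import Groth.Agent.Lib.Helper12.QuasiReg

/-!
Jacobian criterion (EGA 0_IV 22.6): for P local, formally smooth over R, and P → A surjective with kernel K,
A is formally smooth over R iff there are generators g_i of K/K² and functionals w_j on Ω[P/R] with det(w_j(dg_i)) a unit
(exists_retraction_of_det / exists_det_of_retraction).  For P = B_q a localization of a Noetherian formally smooth R-algebra B and
K = J B_q: iff there are f_i ∈ J generating J B_q and R-derivations D_j of B with det(D_j f_i) ∉ q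
(formallySmooth_of_jacobian / jacobian_of_formallySmooth).  Bridges: exists_functional_of_derivation, exists_derivation_of_functional
(clearing denominators using projectivity of Ω[B/R]), quotLocEquiv : B_q/J B_q ≃ₐ (B/J)_{q/J}.
-/

set_option autoImplicit false
universe u
open TensorProduct KaehlerDifferential IsLocalRing

namespace Groth.Agent.Lib.Helper23.Jacobian


section J1

variable {R P A : Type u} [CommRing R] [CommRing P] [CommRing A] [Algebra R P] [Algebra P A]
  [Algebra R A] [IsScalarTower R P A]

/-- elements of the kernel act by zero on the conormal module. -/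
theorem ker_smul_cotangent (k : P) (hk : k ∈ RingHom.ker (algebraMap P A))
    (x : (RingHom.ker (algebraMap P A)).Cotangent) : k • x = 0 := by
  obtain ⟨y, rfl⟩ := Ideal.toCotangent_surjective _ x
  rw [← map_smul, Ideal.toCotangent_eq_zero]
  show k * y.1 ∈ _
  rw [pow_two]
  exact Ideal.mul_mem_mul hk y.2

variable (R) in
/-- the functional `A ⊗ Ω[P/R] → A` attached to a functional `Ω[P/R] → P`. -/
noncomputable def phiOne (w : Ω[P⁄R] →ₗ[P] P) : A ⊗[P] Ω[P⁄R] →ₗ[P] A :=
  (LinearMap.liftBaseChange A ((Algebra.linearMap P A) ∘ₗ w)).restrictScalars P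

theorem phiOne_tmul (w : Ω[P⁄R] →ₗ[P] P) (a : A) (ω : Ω[P⁄R]) :
    phiOne R w (a ⊗ₜ[P] ω) = a * algebraMap P A (w ω) := by
  simp [phiOne, Algebra.smul_def, mul_comm]

/-- **(⇐)** of the local Jacobian criterion. -/
theorem exists_retraction_of_det (hf : Function.Surjective (algebraMap P A)) {m : ℕ}
    (g : Fin m → RingHom.ker (algebraMap P A)) (w : Fin m → (Ω[P⁄R] →ₗ[P] P))
    (hspan : Submodule.span P (Set.range fun i => (RingHom.ker (algebraMap P A)).toCotangent (g i)) = ⊤)
    (hdet : IsUnit (Matrix.det (Matrix.of fun i j => w j (D R P (g i).1)))) :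
    ∃ l : A ⊗[P] Ω[P⁄R] →ₗ[P] (RingHom.ker (algebraMap P A)).Cotangent,
      l ∘ₗ (kerCotangentToTensor R P A) = LinearMap.id := by
  classical
  let Mat : Matrix (Fin m) (Fin m) P := Matrix.of fun i j => w j (D R P (g i).1)
  have hMat : IsUnit Mat := (Matrix.isUnit_iff_isUnit_det Mat).mpr hdet
  -- the maps
  let G : (Fin m → P) →ₗ[P] (RingHom.ker (algebraMap P A)).Cotangent :=
    Fintype.linearCombination P (fun i => (RingHom.ker (algebraMap P A)).toCotangent (g i))
  have hG : Function.Surjective G := by
    rw [← LinearMap.range_eq_top, Fintype.range_linearCombination]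
    exact hspan
  let φ : A ⊗[P] Ω[P⁄R] →ₗ[P] (Fin m → A) := LinearMap.pi (fun j => phiOne R (w j))
  let π : (Fin m → P) →ₗ[P] (Fin m → A) :=
    LinearMap.pi (fun j => (Algebra.linearMap P A) ∘ₗ LinearMap.proj j)
  have hπ : Function.Surjective π := by
    intro y
    choose z hz using fun j => hf (y j)
    exact ⟨z, funext hz⟩
  have hkerπ : ∀ y, π y = 0 → ∀ j, y j ∈ RingHom.ker (algebraMap P A) := by
    intro y hy j
    have := congrFun hy j
    exact this
  -- G kills ker π
  have hGker : ∀ y, π y = 0 → G y = 0 := by
    intro y hy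
    show Fintype.linearCombination P (fun i => (RingHom.ker (algebraMap P A)).toCotangent (g i)) y = 0
    rw [Fintype.linearCombination_apply]
    apply Finset.sum_eq_zero
    intro i _
    exact ker_smul_cotangent (y i) (hkerπ y hy i) _
  -- the matrix action
  let μ : (Fin m → P) →ₗ[P] (Fin m → P) := Matrix.toLin' Mat.transpose
  let ν : (Fin m → P) →ₗ[P] (Fin m → P) := Matrix.toLin' (Mat⁻¹).transpose
  have hνμ : ν ∘ₗ μ = LinearMap.id := by
    rw [← Matrix.toLin'_mul, ← Matrix.transpose_mul, Matrix.mul_nonsing_inv Mat hdet,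
      Matrix.transpose_one, Matrix.toLin'_one]
  -- key computation
  have hkey : ∀ y, φ (kerCotangentToTensor R P A (G y)) = π (μ y) := by
    intro y
    have h1 : ∀ i, φ (kerCotangentToTensor R P A ((RingHom.ker (algebraMap P A)).toCotangent (g i))) =
        π (μ (Pi.single i 1)) := by
      intro i
      funext j
      rw [kerCotangentToTensor_toCotangent]
      show phiOne R (w j) (1 ⊗ₜ[P] D R P (g i).1) = algebraMap P A (μ (Pi.single i 1) j)
      rw [phiOne_tmul, one_mul]
      congr 1
      show _ = Matrix.toLin' Mat.transpose (Pi.single i 1) j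
      rw [Matrix.toLin'_apply, Matrix.mulVec_single_one]
      rfl
    have h2 : (φ ∘ₗ kerCotangentToTensor R P A ∘ₗ G) = π ∘ₗ μ := by
      apply LinearMap.pi_ext'
      intro i
      apply LinearMap.ext_ring
      show φ (kerCotangentToTensor R P A (G (Pi.single i 1))) = π (μ (Pi.single i 1))
      rw [← h1 i]
      congr 2
      show Fintype.linearCombination P (fun i => (RingHom.ker (algebraMap P A)).toCotangent (g i)) (Pi.single i 1) = _
      rw [Fintype.linearCombination_apply_single, one_smul]
    exact congrArg (fun f : (Fin m → P) →ₗ[P] (Fin m → A) => f y) h2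
  -- ker π is stable under ν
  have hνker : ∀ y, π y = 0 → π (ν y) = 0 := by
    intro y hy
    funext j
    show algebraMap P A (ν y j) = 0
    show algebraMap P A (Matrix.toLin' (Mat⁻¹).transpose y j) = 0
    rw [Matrix.toLin'_apply, Matrix.mulVec, dotProduct, map_sum]
    apply Finset.sum_eq_zero
    intro i _
    rw [map_mul, show algebraMap P A (y i) = 0 from hkerπ y hy i, mul_zero]
  -- the retraction
  let H : (Fin m → P) →ₗ[P] (RingHom.ker (algebraMap P A)).Cotangent := G ∘ₗ ν
  have hH : LinearMap.ker π ≤ LinearMap.ker H := by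
    intro y hy
    rw [LinearMap.mem_ker] at hy ⊢
    exact hGker _ (hνker y hy)
  let Hbar : (Fin m → A) →ₗ[P] (RingHom.ker (algebraMap P A)).Cotangent :=
    (Submodule.liftQ (LinearMap.ker π) H hH) ∘ₗ (π.quotKerEquivOfSurjective hπ).symm.toLinearMap
  have hHbar : ∀ y, Hbar (π y) = H y := by
    intro y
    show Submodule.liftQ (LinearMap.ker π) H hH ((π.quotKerEquivOfSurjective hπ).symm (π y)) = H y
    have : (π.quotKerEquivOfSurjective hπ).symm (π y) = Submodule.Quotient.mk y := by
      rw [LinearEquiv.symm_apply_eq]
      rfl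
    rw [this, Submodule.liftQ_apply]
  refine ⟨Hbar ∘ₗ φ, ?_⟩
  apply LinearMap.ext
  intro x
  obtain ⟨y, rfl⟩ := hG x
  show Hbar (φ (kerCotangentToTensor R P A (G y))) = G y
  rw [hkey, hHbar]
  show G (ν (μ y)) = G y
  have := congrArg (fun f : (Fin m → P) →ₗ[P] (Fin m → P) => f y) hνμ
  simp only [LinearMap.comp_apply, LinearMap.id_apply] at this
  rw [this]

end J1



section J1b

/-- the kernel of `M → κ ⊗ M` is `𝔪 M`. -/
theorem mem_smul_top_of_one_tmul_eq_zero {P : Type u} [CommRing P] [IsLocalRing P] {M : Type u}
    [AddCommGroup M] [Module P M] (x : M) (hx : (1 : ResidueField P) ⊗ₜ[P] x = 0) :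
    x ∈ (maximalIdeal P • ⊤ : Submodule P M) := by
  have h1 := TensorProduct.quotTensorEquivQuotSMul_mk_one_tmul (M := M) (maximalIdeal P) x
  have h2 : (TensorProduct.quotTensorEquivQuotSMul M (maximalIdeal P))
      ((1 : P ⧸ maximalIdeal P) ⊗ₜ[P] x) = 0 :=
    (congrArg (TensorProduct.quotTensorEquivQuotSMul M (maximalIdeal P)) hx).trans (map_zero _)
  have h3 : (Submodule.Quotient.mk x : M ⧸ (maximalIdeal P • ⊤ : Submodule P M)) = 0 := by
    rw [← h2]; exact h1.symm
  exact (Submodule.Quotient.mk_eq_zero _).mp h3

theorem one_tmul_eq_zero_of_mem_smul_top {P : Type u} [CommRing P] [IsLocalRing P] {M : Type u}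
    [AddCommGroup M] [Module P M] (x : M) (hx : x ∈ (maximalIdeal P • ⊤ : Submodule P M)) :
    (1 : ResidueField P) ⊗ₜ[P] x = 0 := by
  refine Submodule.smul_induction_on hx ?_ ?_
  · intro a ha y _
    rw [TensorProduct.tmul_smul, TensorProduct.smul_tmul', Algebra.smul_def, mul_one]
    have : algebraMap P (ResidueField P) a = 0 := (residue_eq_zero_iff a).mpr ha
    rw [this, TensorProduct.zero_tmul]
  · intro y z hy hz
    rw [TensorProduct.tmul_add, hy, hz, add_zero]

variable {R P A : Type u} [CommRing R] [CommRing P] [CommRing A] [Algebra R P] [Algebra P A]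
  [Algebra R A] [IsScalarTower R P A]

/-- **(⇒)** of the local Jacobian criterion. -/
theorem exists_det_of_retraction [IsLocalRing P] [Algebra.FormallySmooth R P]
    [Module.Finite P (RingHom.ker (algebraMap P A)).Cotangent]
    (hK : RingHom.ker (algebraMap P A) ≤ maximalIdeal P)
    (l : A ⊗[P] Ω[P⁄R] →ₗ[P] (RingHom.ker (algebraMap P A)).Cotangent)
    (hl : l ∘ₗ (kerCotangentToTensor R P A) = LinearMap.id) :
    ∃ (m : ℕ) (g : Fin m → RingHom.ker (algebraMap P A)) (w : Fin m → (Ω[P⁄R] →ₗ[P] P)),
      Submodule.span P (Set.range fun i => (RingHom.ker (algebraMap P A)).toCotangent (g i)) = ⊤ ∧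
      IsUnit (Matrix.det (Matrix.of fun i j => w j (D R P (g i).1))) := by
  classical
  -- a basis of κ ⊗ M made of pure tensors
  let S : Set (ResidueField P ⊗[P] (RingHom.ker (algebraMap P A)).Cotangent) :=
    Set.range (fun x => (1 : ResidueField P) ⊗ₜ[P] x)
  have hS : ⊤ ≤ Submodule.span (ResidueField P) S := by
    intro z _
    clear ‹z ∈ ⊤›
    induction z using TensorProduct.induction_on with
    | zero => exact Submodule.zero_mem _
    | add a b ha hb => exact Submodule.add_mem _ ha hb
    | tmul c x =>
      have : c ⊗ₜ[P] x = c • ((1 : ResidueField P) ⊗ₜ[P] x) := by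
        rw [TensorProduct.smul_tmul', smul_eq_mul, mul_one]
      rw [this]
      exact Submodule.smul_mem _ _ (Submodule.subset_span ⟨x, rfl⟩)
  let b₀ := Module.Basis.ofSpan hS
  haveI : Fintype ((linearIndepOn_empty (ResidueField P) id).extend (Set.empty_subset S)) :=
    FiniteDimensional.fintypeBasisIndex b₀
  let e := Fintype.equivFin ((linearIndepOn_empty (ResidueField P) id).extend (Set.empty_subset S))
  let b := b₀.reindex e
  have hbS : ∀ i, b i ∈ S := by
    intro i
    apply Module.Basis.ofSpan_subset hS
    exact ⟨e.symm i, by simp [b, b₀]⟩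
  choose x hx using hbS
  choose g hg using fun i => Ideal.toCotangent_surjective _ (x i)
  have hspan : Submodule.span P
      (Set.range fun i => (RingHom.ker (algebraMap P A)).toCotangent (g i)) = ⊤ := by
    have := IsLocalRing.span_eq_top_of_tmul_eq_basis (R := P) x b hx
    convert this using 3
    funext i
    exact hg i
  -- linear independence of the differentials
  have hli : LinearIndependent (ResidueField P)
      (fun i => (1 : ResidueField P) ⊗ₜ[P] D R P (g i).1) := by
    rw [Fintype.linearIndependent_iff]
    intro c hc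
    choose ct hct using fun i => residue_surjective (c i)
    let y : RingHom.ker (algebraMap P A) := ∑ i, ct i • g i
    have hy : (y : P) = ∑ i, ct i * (g i).1 := by
      simp [y, Submodule.coe_sum]
    have hDy : (1 : ResidueField P) ⊗ₜ[P] D R P (y : P) = 0 := by
      rw [hy, map_sum, TensorProduct.tmul_sum]
      rw [← hc]
      refine Finset.sum_congr rfl (fun i _ => ?_)
      rw [Derivation.leibniz, TensorProduct.tmul_add, TensorProduct.tmul_smul,
        TensorProduct.tmul_smul, TensorProduct.smul_tmul', TensorProduct.smul_tmul',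
        Algebra.smul_def, mul_one, Algebra.smul_def, mul_one]
      have h0 : algebraMap P (ResidueField P) (g i).1 = 0 :=
        (residue_eq_zero_iff _).mpr (hK (g i).2)
      rw [h0, TensorProduct.zero_tmul, add_zero, ← hct i, TensorProduct.smul_tmul',
        smul_eq_mul, mul_one]
      rfl
    have hDy' := mem_smul_top_of_one_tmul_eq_zero _ hDy
    -- so kCT (toCot y) ∈ 𝔪 (A ⊗ Ω)
    have h1 : kerCotangentToTensor R P A ((RingHom.ker (algebraMap P A)).toCotangent y) ∈
        (maximalIdeal P • ⊤ : Submodule P (A ⊗[P] Ω[P⁄R])) := by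
      rw [kerCotangentToTensor_toCotangent]
      refine Submodule.smul_induction_on hDy' ?_ ?_
      · intro a ha ω _
        rw [TensorProduct.tmul_smul]
        exact Submodule.smul_mem_smul ha trivial
      · intro ω ω' h h'
        rw [TensorProduct.tmul_add]
        exact Submodule.add_mem _ h h'
    have h2 : (RingHom.ker (algebraMap P A)).toCotangent y ∈
        (maximalIdeal P • ⊤ : Submodule P (RingHom.ker (algebraMap P A)).Cotangent) := by
      have h3 : l (kerCotangentToTensor R P A ((RingHom.ker (algebraMap P A)).toCotangent y)) =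
          (RingHom.ker (algebraMap P A)).toCotangent y :=
        congrArg (fun f : _ →ₗ[P] _ => f _) hl
      rw [← h3]
      refine Submodule.smul_induction_on h1 ?_ ?_
      · intro a ha t _
        rw [map_smul]
        exact Submodule.smul_mem_smul ha trivial
      · intro t t' h h'
        rw [map_add]
        exact Submodule.add_mem _ h h'
    have h4 := one_tmul_eq_zero_of_mem_smul_top _ h2
    have h5 : (1 : ResidueField P) ⊗ₜ[P] (RingHom.ker (algebraMap P A)).toCotangent y
        = ∑ i, c i • b i := by
      simp only [y, map_sum, map_smul, TensorProduct.tmul_sum]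
      refine Finset.sum_congr rfl (fun i _ => ?_)
      rw [hg, ← hx, ← hct i, TensorProduct.tmul_smul, TensorProduct.smul_tmul', Algebra.smul_def,
        mul_one, TensorProduct.smul_tmul', smul_eq_mul, mul_one]
      rfl
    rw [h5] at h4
    exact (Fintype.linearIndependent_iff.mp b.linearIndependent) c h4
  -- the retraction of the differentials
  let v : (Fin (Fintype.card ((linearIndepOn_empty (ResidueField P) id).extend
      (Set.empty_subset S))) → P) →ₗ[P] Ω[P⁄R] :=
    Fintype.linearCombination P (fun i => D R P (g i).1)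
  have hvs : ∀ i, v (Pi.single i 1) = D R P (g i).1 := by
    intro i
    show Fintype.linearCombination P (fun i => D R P (g i).1) (Pi.single i 1) = _
    rw [Fintype.linearCombination_apply_single, one_smul]
  have hv : Function.Injective (v.baseChange (ResidueField P)) := by
    apply Groth.Agent.Lib.Helper21.baseChange_injective_of_linearIndependent v
      (fun i => Pi.single i 1)
    · have := (Pi.basisFun P (Fin (Fintype.card ((linearIndepOn_empty (ResidueField P) id).extend
        (Set.empty_subset S))))).span_eq
      have hr : (Set.range fun i : Fin (Fintype.card ((linearIndepOn_empty (ResidueField P)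
          id).extend (Set.empty_subset S))) => (Pi.single i 1 : _ → P)) =
          Set.range ⇑(Pi.basisFun P (Fin (Fintype.card ((linearIndepOn_empty (ResidueField P)
          id).extend (Set.empty_subset S))))) := by
        congr 1
        funext i
        simp
      rw [hr]
      exact this
    · convert hli using 2 with i
      rw [hvs]
  obtain ⟨w, hw⟩ :=
    (Groth.Agent.Lib.Helper21.leftInverse_iff_baseChange_residueField_injective v).mpr hv
  refine ⟨_, g, fun j => LinearMap.proj j ∘ₗ w, hspan, ?_⟩
  have hone : Matrix.of (fun i j => (LinearMap.proj j ∘ₗ w) (D R P (g i).1)) = 1 := by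
    ext i j
    have h1 : w (v (Pi.single i 1)) = Pi.single i 1 :=
      congrArg (fun f : _ →ₗ[P] _ => f (Pi.single i 1)) hw
    rw [hvs] at h1
    show w (D R P (g i).1) j = (1 : Matrix _ _ P) i j
    rw [h1, Matrix.one_apply, Pi.single_apply]
    simp [eq_comm]
  rw [hone, Matrix.det_one]
  exact isUnit_one

end J1b



section Bridge

variable {R B P : Type u} [CommRing R] [CommRing B] [CommRing P] [Algebra R B] [Algebra B P]
  [Algebra R P] [IsScalarTower R B P]

/-- a derivation of `B` induces a functional on `Ω[P/R]` for a localization `P` of `B`. -/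
theorem exists_functional_of_derivation (M : Submonoid B) [IsLocalization M P]
    (D₀ : Derivation R B B) :
    ∃ w : Ω[P⁄R] →ₗ[P] P, ∀ b : B, w (D R P (algebraMap B P b)) = algebraMap B P (D₀ b) := by
  haveI : Algebra.FormallyEtale B P := Algebra.FormallyEtale.of_isLocalization (Rₘ := P) M
  let ℓ : Ω[B⁄R] →ₗ[B] P := (Algebra.linearMap B P) ∘ₗ D₀.liftKaehlerDifferential
  refine ⟨(LinearMap.liftBaseChange P ℓ) ∘ₗ
    (tensorKaehlerEquivOfFormallyEtale R B P).symm.toLinearMap, fun b => ?_⟩
  show LinearMap.liftBaseChange P ℓ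
    ((tensorKaehlerEquivOfFormallyEtale R B P).symm (D R P (algebraMap B P b))) = _
  rw [tensorKaehlerEquivOfFormallyEtale_symm_D_algebraMap, LinearMap.liftBaseChange_tmul, one_smul]
  show algebraMap B P (D₀.liftKaehlerDifferential (D R B b)) = _
  rw [Derivation.liftKaehlerDifferential_comp_D]

/-- functionals on `Ω[P/R]` come, up to a common denominator and on finitely many elements, from
derivations of `B` when `Ω[B/R]` is projective. -/
theorem exists_derivation_of_functional (M : Submonoid B) [IsLocalization M P]
    [Module.Projective B Ω[B⁄R]] {m n : ℕ} (w : Fin m → (Ω[P⁄R] →ₗ[P] P)) (f : Fin n → B) :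
    ∃ (s : M) (D₀ : Fin m → Derivation R B B), ∀ i j,
      algebraMap B P (D₀ j (f i)) = algebraMap B P s * w j (D R P (algebraMap B P (f i))) := by
  classical
  obtain ⟨ι, hι⟩ := Module.projective_def'.mp (inferInstance : Module.Projective B Ω[B⁄R])
  -- the finitely many coordinates involved
  let S : Finset (Ω[B⁄R]) := Finset.univ.biUnion (fun i => (ι (D R B (f i))).support)
  have hS : ∀ i, (ι (D R B (f i))).support ⊆ S := fun i =>
    Finset.subset_biUnion_of_mem (fun i => (ι (D R B (f i))).support) (Finset.mem_univ i)
  -- values of the functionals on these coordinates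
  let val : Ω[B⁄R] × Fin m → P := fun aj => w aj.2 (KaehlerDifferential.map R R B P aj.1)
  obtain ⟨s, hs⟩ := IsLocalization.exist_integer_multiples M (S ×ˢ (Finset.univ : Finset (Fin m))) val
  choose! c hc using hs
  -- the functionals on the free module
  let L : Fin m → ((Ω[B⁄R] →₀ B) →ₗ[B] B) := fun j =>
    Finsupp.linearCombination B (fun a => if a ∈ S then c (a, j) else 0)
  refine ⟨s, fun j => ((L j) ∘ₗ ι).compDer (D R B), fun i j => ?_⟩
  show algebraMap B P (L j (ι (D R B (f i)))) = _
  have h1 : L j (ι (D R B (f i))) = ∑ a ∈ S, (ι (D R B (f i))) a * c (a, j) := by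
    show Finsupp.linearCombination B (fun a => if a ∈ S then c (a, j) else 0) _ = _
    rw [Finsupp.linearCombination_apply, Finsupp.sum_of_support_subset _ (hS i)]
    · refine Finset.sum_congr rfl (fun a ha => ?_)
      rw [if_pos ha, smul_eq_mul]
    · intro a _
      rw [zero_smul]
  have h2 : D R B (f i) = ∑ a ∈ S, (ι (D R B (f i))) a • a := by
    have := congrArg (fun g : Ω[B⁄R] →ₗ[B] Ω[B⁄R] => g (D R B (f i))) hι
    simp only [LinearMap.comp_apply, LinearMap.id_apply] at this
    rw [Finsupp.linearCombination_apply, Finsupp.sum_of_support_subset _ (hS i)] at this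
    · exact this.symm
    · intro a _
      rw [zero_smul]
  have h3 : D R P (algebraMap B P (f i)) = KaehlerDifferential.map R R B P (D R B (f i)) := by
    rw [KaehlerDifferential.map_D]
  rw [h1, map_sum, h3]
  conv_rhs => rw [h2, map_sum, map_sum, Finset.mul_sum]
  refine Finset.sum_congr rfl (fun a ha => ?_)
  have h4 := hc (a, j) (Finset.mem_product.mpr ⟨ha, Finset.mem_univ j⟩)
  rw [map_mul, h4, LinearMap.map_smul, ← algebraMap_smul P ((ι (D R B (f i))) a), map_smul,
    Algebra.smul_def, smul_eq_mul]
  show _ = _ * (_ * val (a, j))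
  ring

end Bridge



section J2

variable {R B P A : Type u} [CommRing R] [CommRing B] [CommRing P] [CommRing A] [Algebra R B]
  [Algebra B P] [Algebra R P] [IsScalarTower R B P] [Algebra P A] [Algebra R A]
  [IsScalarTower R P A]

/-- **(⇐)** Jacobian criterion at a localization: generators and derivations with invertible
Jacobian determinant give formal smoothness. -/
theorem formallySmooth_of_jacobian (q : Ideal B) [q.IsPrime] [IsLocalization.AtPrime P q]
    [Algebra.FormallySmooth R B] (J : Ideal B)
    (hf : Function.Surjective (algebraMap P A))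
    (hker : RingHom.ker (algebraMap P A) = J.map (algebraMap B P))
    {m : ℕ} (f : Fin m → B) (D₀ : Fin m → Derivation R B B) (hfJ : ∀ i, f i ∈ J)
    (hgen : J.map (algebraMap B P) = Ideal.span (Set.range fun i => algebraMap B P (f i)))
    (hdet : Matrix.det (Matrix.of fun i j => D₀ j (f i)) ∉ q) :
    Algebra.FormallySmooth R A := by
  haveI : Algebra.FormallySmooth B P := Algebra.FormallySmooth.of_isLocalization q.primeCompl
  haveI : Algebra.FormallySmooth R P := Algebra.FormallySmooth.comp R B P
  rw [Algebra.FormallySmooth.iff_split_injection hf]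
  have hmem : ∀ i, algebraMap B P (f i) ∈ RingHom.ker (algebraMap P A) := by
    intro i
    rw [hker]
    exact Ideal.mem_map_of_mem _ (hfJ i)
  choose w hw using fun j => exists_functional_of_derivation (P := P) q.primeCompl (D₀ j)
  apply exists_retraction_of_det hf (fun i => ⟨algebraMap B P (f i), hmem i⟩) w
  · -- span
    rw [eq_top_iff]
    intro x _
    obtain ⟨y, rfl⟩ := Ideal.toCotangent_surjective _ x
    have hy : (y : P) ∈ Ideal.span (Set.range fun i => algebraMap B P (f i)) := by
      rw [← hgen, ← hker]
      exact y.2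
    obtain ⟨c, hc⟩ := (Ideal.mem_span_range_iff_exists_fun).mp hy
    have hy' : y = ∑ i, c i • (⟨algebraMap B P (f i), hmem i⟩ : RingHom.ker (algebraMap P A)) := by
      apply Subtype.ext
      rw [← hc]
      simp [Submodule.coe_sum]
    rw [hy', map_sum]
    refine Submodule.sum_mem _ (fun i _ => ?_)
    rw [map_smul]
    exact Submodule.smul_mem _ _ (Submodule.subset_span ⟨i, rfl⟩)
  · -- determinant
    have h1 : (Matrix.of fun i j => w j (D R P (algebraMap B P (f i)))) =
        (algebraMap B P).mapMatrix (Matrix.of fun i j => D₀ j (f i)) := by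
      ext i j
      simp [hw]
    show IsUnit (Matrix.det (Matrix.of fun i j => w j (D R P (algebraMap B P (f i)))))
    rw [h1, ← RingHom.map_det]
    exact IsLocalization.map_units P (⟨_, hdet⟩ : q.primeCompl)

end J2



section J2b

variable {R B P A : Type u} [CommRing R] [CommRing B] [CommRing P] [CommRing A] [Algebra R B]
  [Algebra B P] [Algebra R P] [IsScalarTower R B P] [Algebra P A] [Algebra R A]
  [IsScalarTower R P A]

/-- **(⇒)** Jacobian criterion at a localization. -/
theorem jacobian_of_formallySmooth (q : Ideal B) [q.IsPrime] [IsLocalization.AtPrime P q]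
    [Algebra.FormallySmooth R B] [IsNoetherianRing B] (J : Ideal B) (hJq : J ≤ q)
    (hf : Function.Surjective (algebraMap P A))
    (hker : RingHom.ker (algebraMap P A) = J.map (algebraMap B P))
    [Algebra.FormallySmooth R A] :
    ∃ (m : ℕ) (f : Fin m → B) (D₀ : Fin m → Derivation R B B), (∀ i, f i ∈ J) ∧
      J.map (algebraMap B P) = Ideal.span (Set.range fun i => algebraMap B P (f i)) ∧
      Matrix.det (Matrix.of fun i j => D₀ j (f i)) ∉ q := by
  classical
  haveI : IsLocalRing P := IsLocalization.AtPrime.isLocalRing P q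
  haveI : IsNoetherianRing P := IsLocalization.isNoetherianRing q.primeCompl P inferInstance
  haveI : Algebra.FormallySmooth B P := Algebra.FormallySmooth.of_isLocalization q.primeCompl
  haveI : Algebra.FormallySmooth R P := Algebra.FormallySmooth.comp R B P
  obtain ⟨l, hl⟩ := (Algebra.FormallySmooth.iff_split_injection (R := R) hf).mp inferInstance
  have hK : RingHom.ker (algebraMap P A) ≤ maximalIdeal P := by
    rw [hker, ← IsLocalization.AtPrime.map_eq_maximalIdeal q P]
    exact Ideal.map_mono hJq
  haveI : Module.Finite P (RingHom.ker (algebraMap P A)).Cotangent :=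
    Module.Finite.of_surjective (RingHom.ker (algebraMap P A)).toCotangent
      (Ideal.toCotangent_surjective _)
  obtain ⟨m, g, w, hspan, hdet⟩ := exists_det_of_retraction hK l hl
  -- step a: the g_i generate the kernel
  have hspan' : Submodule.span (P ⧸ RingHom.ker (algebraMap P A))
      (Set.range fun i => (RingHom.ker (algebraMap P A)).toCotangent (g i)) = ⊤ := by
    rw [eq_top_iff]
    intro x _
    have : x ∈ Submodule.span P
        (Set.range fun i => (RingHom.ker (algebraMap P A)).toCotangent (g i)) := by
      rw [hspan]; trivial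
    exact Submodule.span_le_restrictScalars P (P ⧸ RingHom.ker (algebraMap P A)) _ this
  have hgen := Groth.Agent.Lib.Helper12.QR.span_eq_of_cotangent_span_eq_top
    (RingHom.ker (algebraMap P A)) (IsNoetherian.noetherian _)
    (hK.trans (IsLocalRing.maximalIdeal_le_jacobson ⊥)) g hspan'
  -- step b: numerators
  have hnum : ∀ i, ∃ x : J × q.primeCompl,
      (g i : P) * algebraMap B P x.2 = algebraMap B P x.1 := by
    intro i
    have : (g i : P) ∈ J.map (algebraMap B P) := hker ▸ (g i).2
    exact (IsLocalization.mem_map_algebraMap_iff q.primeCompl P).mp this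
  choose x hx using hnum
  let f : Fin m → B := fun i => (x i).1
  have hσ : ∀ i, IsUnit (algebraMap B P (x i).2) := fun i => IsLocalization.map_units P (x i).2
  have hgen' : J.map (algebraMap B P) = Ideal.span (Set.range fun i => algebraMap B P (f i)) := by
    rw [← hker, ← hgen]
    apply le_antisymm
    · rw [Ideal.span_le]
      rintro _ ⟨i, rfl⟩
      obtain ⟨u, hu⟩ := hσ i
      have : (g i : P) = algebraMap B P (f i) * ↑u⁻¹ := by
        rw [← hx i, ← hu, mul_assoc, Units.mul_inv, mul_one]
      show (g i : P) ∈ _
      rw [this]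
      exact Ideal.mul_mem_right _ _ (Ideal.subset_span ⟨i, rfl⟩)
    · rw [Ideal.span_le]
      rintro _ ⟨i, rfl⟩
      show algebraMap B P (f i) ∈ _
      rw [← hx i]
      exact Ideal.mul_mem_right _ _ (Ideal.subset_span ⟨i, rfl⟩)
  -- step c: derivations
  obtain ⟨s, D₀, hD₀⟩ := exists_derivation_of_functional (P := P) q.primeCompl w f
  refine ⟨m, f, D₀, fun i => (x i).1.2, hgen', ?_⟩
  rw [← Ideal.mem_primeCompl_iff, ← IsLocalization.AtPrime.isUnit_to_map_iff P q,
    RingHom.map_det, ← IsLocalRing.residue_ne_zero_iff_isUnit, RingHom.map_det]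
  have hmat : (residue P).mapMatrix ((algebraMap B P).mapMatrix (Matrix.of fun i j => D₀ j (f i)))
      = Matrix.diagonal (fun i => residue P (algebraMap B P s * algebraMap B P (x i).2)) *
        (residue P).mapMatrix (Matrix.of fun i j => w j (D R P (g i).1)) := by
    ext i j
    rw [Matrix.diagonal_mul]
    simp only [RingHom.mapMatrix_apply, Matrix.map_apply, Matrix.of_apply]
    rw [hD₀ i j]
    show residue P (algebraMap B P s * w j (D R P (algebraMap B P (x i).1))) = _
    rw [← hx i, Derivation.leibniz, map_add, map_smul, map_smul, smul_eq_mul, smul_eq_mul,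
      mul_add, map_add, map_mul, map_mul (residue P) (g i : P)]
    have h0 : residue P (g i : P) = 0 := (residue_eq_zero_iff _).mpr (hK (g i).2)
    rw [h0, zero_mul, mul_zero, zero_add, map_mul, map_mul, map_mul]
    ring
  rw [hmat, Matrix.det_mul, Matrix.det_diagonal, ← RingHom.map_det]
  apply mul_ne_zero
  · rw [Finset.prod_ne_zero_iff]
    intro i _
    rw [IsLocalRing.residue_ne_zero_iff_isUnit]
    exact (IsLocalization.map_units P s).mul (hσ i)
  · rw [IsLocalRing.residue_ne_zero_iff_isUnit]
    exact hdet

end J2b



section Quot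

variable {R B : Type u} [CommRing R] [CommRing B] [Algebra R B]

theorem algebraMapSubmonoid_primeCompl_eq (J q : Ideal B) [q.IsPrime] (hJq : J ≤ q)
    [(q.map (Ideal.Quotient.mk J)).IsPrime] :
    Algebra.algebraMapSubmonoid (B ⧸ J) q.primeCompl = (q.map (Ideal.Quotient.mk J)).primeCompl := by
  ext x
  obtain ⟨b, rfl⟩ := Ideal.Quotient.mk_surjective x
  have key : Ideal.Quotient.mk J b ∈ q.map (Ideal.Quotient.mk J) ↔ b ∈ q := by
    rw [← Ideal.mem_comap, Ideal.comap_map_of_surjective _ Ideal.Quotient.mk_surjective,
      ← RingHom.ker_eq_comap_bot, Ideal.mk_ker, sup_eq_left.mpr hJq]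
  constructor
  · rintro ⟨c, hc, hcb⟩
    show Ideal.Quotient.mk J b ∉ _
    rw [← show algebraMap B (B ⧸ J) c = Ideal.Quotient.mk J b from hcb]
    intro h
    have : Ideal.Quotient.mk J c ∈ q.map (Ideal.Quotient.mk J) := h
    rw [show (Ideal.Quotient.mk J c ∈ q.map (Ideal.Quotient.mk J) ↔ c ∈ q) from by
      rw [← Ideal.mem_comap, Ideal.comap_map_of_surjective _ Ideal.Quotient.mk_surjective,
        ← RingHom.ker_eq_comap_bot, Ideal.mk_ker, sup_eq_left.mpr hJq]] at this
    exact hc this
  · intro h
    refine ⟨b, ?_, rfl⟩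
    intro hb
    exact h (key.mpr hb)

/-- the localization of `B/J` at `q/J` is the quotient of `B_q` by `J B_q`. -/
noncomputable def quotLocEquiv (J q : Ideal B) [q.IsPrime] (hJq : J ≤ q)
    [(q.map (Ideal.Quotient.mk J)).IsPrime] :
    (Localization.AtPrime q ⧸ J.map (algebraMap B (Localization.AtPrime q))) ≃ₐ[R]
      Localization.AtPrime (q.map (Ideal.Quotient.mk J)) :=
  haveI : IsLocalization.AtPrime
      (Localization.AtPrime q ⧸ J.map (algebraMap B (Localization.AtPrime q)))
      (q.map (Ideal.Quotient.mk J)) := by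
    show IsLocalization (q.map (Ideal.Quotient.mk J)).primeCompl _
    rw [← algebraMapSubmonoid_primeCompl_eq J q hJq]
    infer_instance
  haveI : IsScalarTower R (B ⧸ J)
      (Localization.AtPrime q ⧸ J.map (algebraMap B (Localization.AtPrime q))) :=
    IsScalarTower.of_algebraMap_eq (fun r => by
      rw [IsScalarTower.algebraMap_apply R B (B ⧸ J),
        IsScalarTower.algebraMap_apply R (Localization.AtPrime q)
          (Localization.AtPrime q ⧸ J.map (algebraMap B (Localization.AtPrime q))),
        IsScalarTower.algebraMap_apply R B (Localization.AtPrime q)]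
      rfl)
  (IsLocalization.algEquiv (q.map (Ideal.Quotient.mk J)).primeCompl
    (Localization.AtPrime q ⧸ J.map (algebraMap B (Localization.AtPrime q)))
    (Localization.AtPrime (q.map (Ideal.Quotient.mk J)))).restrictScalars R

end Quot

end Groth.Agent.Lib.Helper23.Jacobian
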