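import Mathlib
import Groth.Agent.Lib.Helper23.Jacobian

/-!
Jacobian criterion, pointwise form (EGA 0_IV 22.6.4): A → B formally smooth, B → C surjective with kernel J, J/J² finite.
General setting: S ⊆ B submonoid, P = S⁻¹B, Q = S⁻¹C with [Algebra P Q] compatible.  algebraMap_surjective, ker_algebraMap_eq (= J.map),
mu : J/J² → J_P/J_P² (isLocalizedModule_mu), nu : C ⊗ Ω[B/A] → Q ⊗[P] Ω[P/A] (isLocalizedModule_nu), kerCotangentToTensor_mu (compatibility),
lTensor_bijective / lTensor_injective_iff (fibres of localized modules), lTensor_injective_iff_restrictScalars,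
exists_det_of_injective, formallySmooth_iff_injective_residueField, formallySmooth_iff_injective_of_field (local criterion with any residue field model),
residueFieldEquiv, lTensor_kerCotangentToTensor_injective_iff (fibre comparison), formallySmooth_atPrime_iff ((a)⇔(b)),
formallySmooth_of_jacobian_data / exists_jacobian_data (global Jacobian data up to denominators), formallySmooth_atPrime_of_away ((c)⇒(a)),
exists_formallySmooth_away ((a)⇒(c)).
-/

set_option autoImplicit false
universe u
open TensorProduct KaehlerDifferential IsLocalRing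

namespace Groth.Agent.Lib.Helper23.JacobianLoc


section GS

variable {B C P Q : Type u} [CommRing B] [CommRing C] [CommRing P] [CommRing Q]
  [Algebra B C] [Algebra B P] [Algebra C Q] [Algebra B Q] [IsScalarTower B C Q]
  [Algebra P Q] [IsScalarTower B P Q] (S : Submonoid B) [IsLocalization S P]
  [IsLocalization (Algebra.algebraMapSubmonoid C S) Q]

include S in
theorem algebraMap_surjective (hsurj : Function.Surjective (algebraMap B C)) :
    Function.Surjective (algebraMap P Q) := by
  have h1 : algebraMap P Q = IsLocalization.map Q (algebraMap B C) (M := S)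
      (T := Algebra.algebraMapSubmonoid C S) (Submonoid.le_comap_map S) := by
    apply IsLocalization.ringHom_ext S
    ext b
    simp only [RingHom.comp_apply, IsLocalization.map_eq]
    rw [← IsScalarTower.algebraMap_apply, ← IsScalarTower.algebraMap_apply]
  rw [h1]
  haveI : IsLocalization (Submonoid.map (algebraMap B C) S) Q :=
    ‹IsLocalization (Algebra.algebraMapSubmonoid C S) Q›
  exact IsLocalization.map_surjective_of_surjective S P Q hsurj

include S in
theorem ker_algebraMap_eq :
    RingHom.ker (algebraMap P Q) = (RingHom.ker (algebraMap B C)).map (algebraMap B P) := by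
  apply le_antisymm
  · intro x hx
    rw [RingHom.mem_ker] at hx
    obtain ⟨b, s, rfl⟩ := IsLocalization.exists_mk'_eq S x
    have h1 : algebraMap P Q (algebraMap B P b) = 0 := by
      have := IsLocalization.mk'_spec P b s
      rw [← this, map_mul, hx, zero_mul]
    rw [← IsScalarTower.algebraMap_apply, IsScalarTower.algebraMap_apply B C Q] at h1
    obtain ⟨t', ht'⟩ := (IsLocalization.map_eq_zero_iff (Algebra.algebraMapSubmonoid C S) Q _).mp h1
    obtain ⟨t, htS, htt'⟩ := t'.2
    have h2 : t * b ∈ RingHom.ker (algebraMap B C) := by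
      rw [RingHom.mem_ker, map_mul, htt']
      exact ht'
    rw [IsLocalization.mem_map_algebraMap_iff S P]
    refine ⟨(⟨t * b, h2⟩, ⟨t, htS⟩ * s), ?_⟩
    show IsLocalization.mk' P b s * algebraMap B P (t * s) = algebraMap B P (t * b)
    rw [map_mul, map_mul, mul_comm (algebraMap B P t), ← mul_assoc, IsLocalization.mk'_spec, mul_comm]
  · rw [Ideal.map_le_iff_le_comap]
    intro j hj
    rw [RingHom.mem_ker] at hj
    rw [Ideal.mem_comap, RingHom.mem_ker, ← IsScalarTower.algebraMap_apply,
      IsScalarTower.algebraMap_apply B C Q, hj, map_zero]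

variable (B C P Q) in
theorem ker_le_comap :
    RingHom.ker (algebraMap B C) ≤
      (RingHom.ker (algebraMap P Q)).comap (IsScalarTower.toAlgHom B B P) := by
  intro j hj
  rw [RingHom.mem_ker] at hj
  rw [Ideal.mem_comap, RingHom.mem_ker]
  show algebraMap P Q (algebraMap B P j) = 0
  rw [← IsScalarTower.algebraMap_apply, IsScalarTower.algebraMap_apply B C Q, hj, map_zero]

variable (B C P Q) in
/-- the comparison map of conormal modules. -/
noncomputable def mu : (RingHom.ker (algebraMap B C)).Cotangent →ₗ[B]
    (RingHom.ker (algebraMap P Q)).Cotangent :=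
  Ideal.mapCotangent _ _ (IsScalarTower.toAlgHom B B P) (ker_le_comap B C P Q)

theorem mu_toCotangent (x : RingHom.ker (algebraMap B C)) :
    mu B C P Q ((RingHom.ker (algebraMap B C)).toCotangent x) =
      (RingHom.ker (algebraMap P Q)).toCotangent ⟨algebraMap B P x.1, ker_le_comap B C P Q x.2⟩ := rfl

include S in
theorem isLocalizedModule_mu : IsLocalizedModule S (mu B C P Q) where
  map_units s := by
    rw [← (Algebra.lsmul B (A := P) B (RingHom.ker (algebraMap P Q)).Cotangent).commutes]
    exact (IsLocalization.map_units P s).map _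
  surj y := by
    obtain ⟨⟨x, hx⟩, rfl⟩ := Ideal.toCotangent_surjective _ y
    have hx' : x ∈ (RingHom.ker (algebraMap B C)).map (algebraMap B P) := by
      rw [← ker_algebraMap_eq (C := C) (Q := Q) S]; exact hx
    obtain ⟨⟨j, s⟩, hjs⟩ := (IsLocalization.mem_map_algebraMap_iff S P).mp hx'
    refine ⟨(( RingHom.ker (algebraMap B C)).toCotangent j, s), ?_⟩
    rw [mu_toCotangent]
    show s • (RingHom.ker (algebraMap P Q)).toCotangent ⟨x, hx⟩ = _
    rw [Submonoid.smul_def, ← algebraMap_smul P (s : B), ← map_smul]
    congr 1
    apply Subtype.ext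
    show algebraMap B P s * x = algebraMap B P j
    rw [mul_comm]
    exact hjs
  exists_of_eq := by
    intro x₁ x₂ h
    obtain ⟨j₁, rfl⟩ := Ideal.toCotangent_surjective _ x₁
    obtain ⟨j₂, rfl⟩ := Ideal.toCotangent_surjective _ x₂
    rw [← sub_eq_zero, ← map_sub, ← map_sub, mu_toCotangent, Ideal.toCotangent_eq_zero] at h
    have h' : algebraMap B P (j₁ - j₂ : RingHom.ker (algebraMap B C)).1 ∈
        ((RingHom.ker (algebraMap B C)) ^ 2).map (algebraMap B P) := by
      rw [Ideal.map_pow, ← ker_algebraMap_eq (C := C) (Q := Q) S]
      exact h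
    obtain ⟨⟨k, s⟩, hks⟩ := (IsLocalization.mem_map_algebraMap_iff S P).mp h'
    rw [← map_mul] at hks
    obtain ⟨t, ht⟩ := (IsLocalization.eq_iff_exists S P).mp hks
    refine ⟨t * s, ?_⟩
    rw [← sub_eq_zero, ← smul_sub, ← map_sub, Submonoid.smul_def, ← map_smul,
      Ideal.toCotangent_eq_zero]
    show ((t * s : S) : B) * ((j₁ - j₂ : RingHom.ker (algebraMap B C)) : B) ∈ _
    have : ((t * s : S) : B) * ((j₁ - j₂ : RingHom.ker (algebraMap B C)) : B) = t * k := by
      rw [← ht]; push_cast; ring
    rw [this]
    exact Ideal.mul_mem_left _ _ k.2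

end GS



section Eps

variable (A : Type u) {B : Type u} (P Q : Type u) [CommRing A] [CommRing B] [CommRing P] [CommRing Q]
  [Algebra A B] [Algebra B P] [Algebra A P] [IsScalarTower A B P]
  [Algebra B Q] [Algebra P Q] [IsScalarTower B P Q]
  (S : Submonoid B) [IsLocalization S P]

include S in
theorem compatibleSMul : TensorProduct.CompatibleSMul B P Q Ω[P⁄A] :=
  IsLocalization.tensorProduct_compatibleSMul S P Q Ω[P⁄A]

/-- tensoring over the localization or over the base is the same. -/
noncomputable def eps : Q ⊗[P] Ω[P⁄A] ≃ₗ[B] Q ⊗[B] Ω[P⁄A] :=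
  haveI := compatibleSMul A P Q S
  TensorProduct.equivOfCompatibleSMul B P B Q Ω[P⁄A]

variable {A P Q}

theorem eps_tmul (x : Q) (ω : Ω[P⁄A]) : eps A P Q S (x ⊗ₜ[P] ω) = x ⊗ₜ[B] ω := rfl

theorem eps_symm_tmul (x : Q) (ω : Ω[P⁄A]) : (eps A P Q S).symm (x ⊗ₜ[B] ω) = x ⊗ₜ[P] ω := rfl

end Eps

section G4

variable {A B C P Q : Type u} [CommRing A] [CommRing B] [CommRing C] [CommRing P] [CommRing Q]
  [Algebra A B] [Algebra B C] [Algebra A C] [IsScalarTower A B C]
  [Algebra B P] [Algebra A P] [IsScalarTower A B P]
  [Algebra C Q] [Algebra B Q] [IsScalarTower B C Q]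
  [Algebra P Q] [IsScalarTower B P Q] [Algebra A Q] [IsScalarTower A P Q]
  (S : Submonoid B) [IsLocalization S P]
  [IsLocalization (Algebra.algebraMapSubmonoid C S) Q]

variable (A B C P Q) in
noncomputable def nu0 : C ⊗[B] Ω[B⁄A] →ₗ[B] Q ⊗[B] Ω[P⁄A] :=
  TensorProduct.map (IsScalarTower.toAlgHom B C Q).toLinearMap (KaehlerDifferential.map A A B P)

include S in
theorem isLocalizedModule_nu0 : IsLocalizedModule S (nu0 A B C P Q) := by
  unfold nu0
  infer_instance

variable (A C P Q) in
noncomputable def nu : C ⊗[B] Ω[B⁄A] →ₗ[B] Q ⊗[P] Ω[P⁄A] :=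
  (eps A P Q S).symm.toLinearMap ∘ₗ nu0 A B C P Q

theorem nu_tmul (c : C) (ω : Ω[B⁄A]) :
    nu A C P Q S (c ⊗ₜ[B] ω) = algebraMap C Q c ⊗ₜ[P] KaehlerDifferential.map A A B P ω := rfl

theorem isLocalizedModule_nu : IsLocalizedModule S (nu A C P Q S) := by
  haveI := isLocalizedModule_nu0 (A := A) (C := C) (Q := Q) (P := P) S
  exact IsLocalizedModule.of_linearEquiv S (nu0 A B C P Q) (eps A P Q S).symm

theorem kerCotangentToTensor_mu (x : (RingHom.ker (algebraMap B C)).Cotangent) :
    kerCotangentToTensor A P Q (mu B C P Q x) = nu A C P Q S (kerCotangentToTensor A B C x) := by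
  obtain ⟨j, rfl⟩ := Ideal.toCotangent_surjective _ x
  rw [mu_toCotangent, kerCotangentToTensor_toCotangent, kerCotangentToTensor_toCotangent, nu_tmul,
    KaehlerDifferential.map_D, map_one]

end G4



section LBC

variable {B : Type u} [CommRing B] (S : Submonoid B) (P : Type u) [CommRing P] [Algebra B P]
  [IsLocalization S P] (κ : Type u) [Field κ] [Algebra B κ] [Algebra P κ] [IsScalarTower B P κ]

include S P in
theorem algebraMap_ne_zero (s : S) : algebraMap B κ s ≠ 0 := by
  rw [IsScalarTower.algebraMap_apply B P κ]
  exact ((IsLocalization.map_units P s).map (algebraMap P κ)).ne_zero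

include P in
theorem lTensor_bijective {M M' : Type u} [AddCommGroup M] [AddCommGroup M'] [Module B M]
    [Module B M'] (μ : M →ₗ[B] M') [IsLocalizedModule S μ] :
    Function.Bijective (μ.lTensor κ) := by
  haveI : IsLocalizedModule S (LinearMap.id : κ →ₗ[B] κ) := isLocalizedModule_id S κ P
  have h : IsLocalizedModule S (TensorProduct.map (LinearMap.id : κ →ₗ[B] κ) μ) := inferInstance
  have hT : ∀ z, (μ.lTensor κ) z = (μ.baseChange κ) z := fun z => rfl
  constructor
  · rw [injective_iff_map_eq_zero]
    intro z hz
    obtain ⟨s, hs⟩ := (IsLocalizedModule.eq_zero_iff S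
      (TensorProduct.map (LinearMap.id : κ →ₗ[B] κ) μ)).mp hz
    rw [Submonoid.smul_def, ← algebraMap_smul κ (s : B) z] at hs
    exact (smul_eq_zero.mp hs).resolve_left (algebraMap_ne_zero S P κ s)
  · intro y
    obtain ⟨⟨x, s⟩, hxs⟩ := IsLocalizedModule.surj S
      (TensorProduct.map (LinearMap.id : κ →ₗ[B] κ) μ) y
    refine ⟨(algebraMap B κ s)⁻¹ • x, ?_⟩
    rw [hT, map_smul, ← hT]
    show (algebraMap B κ s)⁻¹ • (TensorProduct.map (LinearMap.id : κ →ₗ[B] κ) μ) x = y
    rw [← hxs]
    show (algebraMap B κ s)⁻¹ • ((s : B) • y) = y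
    rw [← algebraMap_smul κ (s : B) y, smul_smul, inv_mul_cancel₀ (algebraMap_ne_zero S P κ s),
      one_smul]

include P in
/-- injectivity on fibres can be checked after localization. -/
theorem lTensor_injective_iff {M M' N N' : Type u} [AddCommGroup M] [AddCommGroup M'] [Module B M]
    [Module B M'] [AddCommGroup N] [AddCommGroup N'] [Module B N] [Module B N']
    (μ : M →ₗ[B] M') [IsLocalizedModule S μ] (ν : N →ₗ[B] N') [IsLocalizedModule S ν]
    (φ : M →ₗ[B] N) (φ' : M' →ₗ[B] N') (h : φ' ∘ₗ μ = ν ∘ₗ φ) :
    Function.Injective (φ.lTensor κ) ↔ Function.Injective (φ'.lTensor κ) := by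
  have hμ := lTensor_bijective S P κ μ
  have hν := lTensor_bijective S P κ ν
  have hsq : (φ'.lTensor κ) ∘ₗ (μ.lTensor κ) = (ν.lTensor κ) ∘ₗ (φ.lTensor κ) := by
    rw [← LinearMap.lTensor_comp, ← LinearMap.lTensor_comp, h]
  have hsq' : ∀ z, (φ'.lTensor κ) ((μ.lTensor κ) z) = (ν.lTensor κ) ((φ.lTensor κ) z) :=
    fun z => LinearMap.congr_fun hsq z
  constructor
  · intro hinj x y hxy
    obtain ⟨x', rfl⟩ := hμ.2 x
    obtain ⟨y', rfl⟩ := hμ.2 y
    rw [hsq', hsq'] at hxy
    rw [hinj (hν.1 hxy)]
  · intro hinj x y hxy
    apply hμ.1
    apply hinj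
    rw [hsq', hsq', hxy]

include S in
/-- tensoring over the localization or over the base. -/
theorem lTensor_injective_iff_restrictScalars {X Y : Type u} [AddCommGroup X] [AddCommGroup Y]
    [Module B X] [Module P X] [IsScalarTower B P X] [Module B Y] [Module P Y] [IsScalarTower B P Y]
    (u : X →ₗ[P] Y) :
    Function.Injective ((u.restrictScalars B).lTensor κ) ↔ Function.Injective (u.lTensor κ) := by
  haveI := IsLocalization.tensorProduct_compatibleSMul S P κ X
  haveI := IsLocalization.tensorProduct_compatibleSMul S P κ Y
  let eX : κ ⊗[P] X ≃ₗ[B] κ ⊗[B] X := TensorProduct.equivOfCompatibleSMul B P B κ X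
  let eY : κ ⊗[P] Y ≃ₗ[B] κ ⊗[B] Y := TensorProduct.equivOfCompatibleSMul B P B κ Y
  have hsq : ∀ z, eY ((u.lTensor κ) z) = ((u.restrictScalars B).lTensor κ) (eX z) := by
    intro z
    induction z using TensorProduct.induction_on with
    | zero => simp
    | tmul c x => rfl
    | add a b ha hb => rw [map_add, map_add, ha, hb, map_add, map_add]
  constructor
  · intro hinj x y hxy
    apply eX.injective
    apply hinj
    rw [← hsq, ← hsq, hxy]
  · intro hinj x y hxy
    obtain ⟨x', rfl⟩ := eX.surjective x
    obtain ⟨y', rfl⟩ := eX.surjective y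
    rw [← hsq, ← hsq] at hxy
    rw [hinj (eY.injective hxy)]

end LBC



section LC

variable {R P A : Type u} [CommRing R] [CommRing P] [CommRing A] [Algebra R P] [Algebra P A]
  [Algebra R A] [IsScalarTower R P A]

/-- from fibrewise injectivity to the determinant data. -/
theorem exists_det_of_injective [IsLocalRing P] [Algebra.FormallySmooth R P]
    [Module.Finite P (RingHom.ker (algebraMap P A)).Cotangent]
    (hinj : Function.Injective ((kerCotangentToTensor R P A).lTensor (ResidueField P))) :
    ∃ (m : ℕ) (g : Fin m → RingHom.ker (algebraMap P A)) (w : Fin m → (Ω[P⁄R] →ₗ[P] P)),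
      Submodule.span P (Set.range fun i => (RingHom.ker (algebraMap P A)).toCotangent (g i)) = ⊤ ∧
      IsUnit (Matrix.det (Matrix.of fun i j => w j (D R P (g i).1))) := by
  classical
  -- a basis of κ ⊗ M made of pure tensors
  let S : Set (ResidueField P ⊗[P] (RingHom.ker (algebraMap P A)).Cotangent) :=
    Set.range (fun x => (1 : ResidueField P) ⊗ₜ[P] x)
  have hS : ⊤ ≤ Submodule.span (ResidueField P) S := by
    intro z _
    clear ‹z ∈ ⊤›
    induction z using TensorProduct.induction_on with
    | zero => exact Submodule.zero_mem _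
    | add a b ha hb => exact Submodule.add_mem _ ha hb
    | tmul c x =>
      have : c ⊗ₜ[P] x = c • ((1 : ResidueField P) ⊗ₜ[P] x) := by
        rw [TensorProduct.smul_tmul', smul_eq_mul, mul_one]
      rw [this]
      exact Submodule.smul_mem _ _ (Submodule.subset_span ⟨x, rfl⟩)
  let b₀ := Module.Basis.ofSpan hS
  haveI : Fintype ((linearIndepOn_empty (ResidueField P) id).extend (Set.empty_subset S)) :=
    FiniteDimensional.fintypeBasisIndex b₀
  let e := Fintype.equivFin ((linearIndepOn_empty (ResidueField P) id).extend (Set.empty_subset S))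
  let b := b₀.reindex e
  have hbS : ∀ i, b i ∈ S := by
    intro i
    apply Module.Basis.ofSpan_subset hS
    exact ⟨e.symm i, by simp [b, b₀]⟩
  choose x hx using hbS
  choose g hg using fun i => Ideal.toCotangent_surjective _ (x i)
  have hspan : Submodule.span P
      (Set.range fun i => (RingHom.ker (algebraMap P A)).toCotangent (g i)) = ⊤ := by
    have := IsLocalRing.span_eq_top_of_tmul_eq_basis (R := P) x b hx
    convert this using 3
    funext i
    exact hg i
  -- linear independence of the differentials
  have hli : LinearIndependent (ResidueField P)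
      (fun i => (1 : ResidueField P) ⊗ₜ[P] D R P (g i).1) := by
    rw [Fintype.linearIndependent_iff]
    intro c hc
    -- push to κ ⊗ (A ⊗ Ω)
    have h1 : ((kerCotangentToTensor R P A).lTensor (ResidueField P)) (∑ i, c i • b i) = 0 := by
      have h2 := congrArg ((TensorProduct.mk P A Ω[P⁄R] 1).baseChange (ResidueField P)) hc
      rw [map_zero, map_sum] at h2
      rw [map_sum, ← h2]
      refine Finset.sum_congr rfl (fun i _ => ?_)
      have hb : c i • b i = c i ⊗ₜ[P] (RingHom.ker (algebraMap P A)).toCotangent (g i) := by
        rw [← hx i, ← hg i]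
        show c i • ((1 : ResidueField P) ⊗ₜ[P] _) = _
        rw [TensorProduct.smul_tmul', smul_eq_mul, mul_one]
      rw [hb, LinearMap.lTensor_tmul, kerCotangentToTensor_toCotangent, map_smul,
        LinearMap.baseChange_tmul, TensorProduct.smul_tmul', smul_eq_mul, mul_one]
      rfl
    have h3 := hinj (h1.trans (map_zero _).symm)
    exact (Fintype.linearIndependent_iff.mp b.linearIndependent) c h3
  -- the retraction of the differentials
  let v : (Fin (Fintype.card ((linearIndepOn_empty (ResidueField P) id).extend
      (Set.empty_subset S))) → P) →ₗ[P] Ω[P⁄R] :=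
    Fintype.linearCombination P (fun i => D R P (g i).1)
  have hvs : ∀ i, v (Pi.single i 1) = D R P (g i).1 := by
    intro i
    show Fintype.linearCombination P (fun i => D R P (g i).1) (Pi.single i 1) = _
    rw [Fintype.linearCombination_apply_single, one_smul]
  have hv : Function.Injective (v.baseChange (ResidueField P)) := by
    apply Groth.Agent.Lib.Helper21.baseChange_injective_of_linearIndependent v
      (fun i => Pi.single i 1)
    · have := (Pi.basisFun P (Fin (Fintype.card ((linearIndepOn_empty (ResidueField P) id).extend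
        (Set.empty_subset S))))).span_eq
      have hr : (Set.range fun i : Fin (Fintype.card ((linearIndepOn_empty (ResidueField P)
          id).extend (Set.empty_subset S))) => (Pi.single i 1 : _ → P)) =
          Set.range ⇑(Pi.basisFun P (Fin (Fintype.card ((linearIndepOn_empty (ResidueField P)
          id).extend (Set.empty_subset S))))) := by
        congr 1
        funext i
        simp
      rw [hr]
      exact this
    · convert hli using 2 with i
      rw [hvs]
  obtain ⟨w, hw⟩ :=
    (Groth.Agent.Lib.Helper21.leftInverse_iff_baseChange_residueField_injective v).mpr hv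
  refine ⟨_, g, fun j => LinearMap.proj j ∘ₗ w, hspan, ?_⟩
  have hone : Matrix.of (fun i j => (LinearMap.proj j ∘ₗ w) (D R P (g i).1)) = 1 := by
    ext i j
    have h1 : w (v (Pi.single i 1)) = Pi.single i 1 :=
      congrArg (fun f : _ →ₗ[P] _ => f (Pi.single i 1)) hw
    rw [hvs] at h1
    show w (D R P (g i).1) j = (1 : Matrix _ _ P) i j
    rw [h1, Matrix.one_apply, Pi.single_apply]
    simp [eq_comm]
  rw [hone, Matrix.det_one]
  exact isUnit_one

/-- **local Jacobian criterion, fibre form** (EGA 0_IV 22.6.4 for local rings). -/
theorem formallySmooth_iff_injective_residueField [IsLocalRing P] [Algebra.FormallySmooth R P]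
    (hf : Function.Surjective (algebraMap P A))
    [Module.Finite P (RingHom.ker (algebraMap P A)).Cotangent] :
    Algebra.FormallySmooth R A ↔
      Function.Injective ((kerCotangentToTensor R P A).lTensor (ResidueField P)) := by
  rw [Algebra.FormallySmooth.iff_split_injection hf]
  constructor
  · rintro ⟨l, hl⟩
    have : (l.lTensor (ResidueField P)) ∘ₗ ((kerCotangentToTensor R P A).lTensor (ResidueField P)) =
        LinearMap.id := by
      rw [← LinearMap.lTensor_comp, hl, LinearMap.lTensor_id]
    exact Function.HasLeftInverse.injective ⟨_, LinearMap.congr_fun this⟩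
  · intro hinj
    obtain ⟨m, g, w, hspan, hdet⟩ := exists_det_of_injective hinj
    exact Groth.Agent.Lib.Helper23.Jacobian.exists_retraction_of_det hf g w hspan hdet

end LC



section RF

variable {P : Type u} [CommRing P]

theorem lTensor_injective_iff_of_linearEquiv {κ₁ κ₂ X Y : Type u} [AddCommGroup κ₁] [AddCommGroup κ₂]
    [Module P κ₁] [Module P κ₂] [AddCommGroup X] [AddCommGroup Y] [Module P X] [Module P Y]
    (e : κ₁ ≃ₗ[P] κ₂) (u : X →ₗ[P] Y) :
    Function.Injective (u.lTensor κ₁) ↔ Function.Injective (u.lTensor κ₂) := by
  have hsq : ∀ z, (e.rTensor Y) ((u.lTensor κ₁) z) = (u.lTensor κ₂) ((e.rTensor X) z) := by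
    intro z
    induction z using TensorProduct.induction_on with
    | zero => simp
    | tmul c x => simp
    | add a b ha hb => rw [map_add, map_add, ha, hb, map_add, map_add]
  constructor
  · intro hinj x y hxy
    obtain ⟨x', rfl⟩ := (e.rTensor X).surjective x
    obtain ⟨y', rfl⟩ := (e.rTensor X).surjective y
    rw [← hsq, ← hsq] at hxy
    rw [hinj ((e.rTensor Y).injective hxy)]
  · intro hinj x y hxy
    apply (e.rTensor X).injective
    apply hinj
    rw [← hsq, ← hsq, hxy]

variable [IsLocalRing P] (κ : Type u) [Field κ] [Algebra P κ]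

theorem ker_algebraMap_eq_maximalIdeal (hκ : Function.Surjective (algebraMap P κ)) :
    RingHom.ker (algebraMap P κ) = maximalIdeal P := by
  haveI : (RingHom.ker (algebraMap P κ)).IsMaximal := RingHom.ker_isMaximal_of_surjective _ hκ
  exact IsLocalRing.eq_maximalIdeal inferInstance

/-- any residue field model is the residue field. -/
noncomputable def residueFieldEquiv (hκ : Function.Surjective (algebraMap P κ)) :
    ResidueField P ≃ₐ[P] κ :=
  (Ideal.quotientEquivAlgOfEq P (ker_algebraMap_eq_maximalIdeal κ hκ).symm).trans
    (Ideal.quotientKerAlgEquivOfSurjective (f := Algebra.ofId P κ) hκ)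

end RF

section LCk

variable {R P A : Type u} [CommRing R] [CommRing P] [CommRing A] [Algebra R P] [Algebra P A]
  [Algebra R A] [IsScalarTower R P A]

/-- **local Jacobian criterion, fibre form**, with an arbitrary model of the residue field. -/
theorem formallySmooth_iff_injective_of_field [IsLocalRing P] [Algebra.FormallySmooth R P]
    (hf : Function.Surjective (algebraMap P A))
    [Module.Finite P (RingHom.ker (algebraMap P A)).Cotangent]
    (κ : Type u) [Field κ] [Algebra P κ] (hκ : Function.Surjective (algebraMap P κ)) :
    Algebra.FormallySmooth R A ↔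
      Function.Injective ((kerCotangentToTensor R P A).lTensor κ) := by
  rw [formallySmooth_iff_injective_residueField hf]
  exact lTensor_injective_iff_of_linearEquiv (residueFieldEquiv κ hκ).toLinearEquiv _

end LCk

section FC

variable {A B C P Q : Type u} [CommRing A] [CommRing B] [CommRing C] [CommRing P] [CommRing Q]
  [Algebra A B] [Algebra B C] [Algebra A C] [IsScalarTower A B C]
  [Algebra B P] [Algebra A P] [IsScalarTower A B P]
  [Algebra C Q] [Algebra B Q] [IsScalarTower B C Q]
  [Algebra P Q] [IsScalarTower B P Q] [Algebra A Q] [IsScalarTower A P Q]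
  (S : Submonoid B) [IsLocalization S P]
  [IsLocalization (Algebra.algebraMapSubmonoid C S) Q]
  (κ : Type u) [Field κ] [Algebra B κ] [Algebra P κ] [IsScalarTower B P κ]

include S in
/-- **fibre comparison**: the fibre of the conormal map at a point can be computed after
localization. -/
theorem lTensor_kerCotangentToTensor_injective_iff :
    Function.Injective ((kerCotangentToTensor A B C).lTensor κ) ↔
      Function.Injective ((kerCotangentToTensor A P Q).lTensor κ) := by
  haveI := isLocalizedModule_mu (C := C) (P := P) (Q := Q) S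
  haveI := isLocalizedModule_nu (A := A) (C := C) (P := P) (Q := Q) S
  refine (lTensor_injective_iff S P κ (mu B C P Q) (nu A C P Q S) (kerCotangentToTensor A B C)
    ((kerCotangentToTensor A P Q).restrictScalars B) ?_).trans
    (lTensor_injective_iff_restrictScalars S P κ _)
  ext x
  exact kerCotangentToTensor_mu S x

end FC



section AtPrime

variable {A B C : Type u} [CommRing A] [CommRing B] [CommRing C] [Algebra A B] [Algebra B C]
  [Algebra A C] [IsScalarTower A B C]

theorem algebraMapSubmonoid_primeCompl (hsurj : Function.Surjective (algebraMap B C))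
    (p : Ideal C) [p.IsPrime] :
    Algebra.algebraMapSubmonoid C (p.under B).primeCompl = p.primeCompl := by
  ext c
  constructor
  · rintro ⟨b, hb, rfl⟩
    exact hb
  · intro hc
    obtain ⟨b, rfl⟩ := hsurj c
    exact ⟨b, hc, rfl⟩

/-- **EGA 0_IV 22.6.4, (a) ⇔ (b)**. -/
theorem formallySmooth_atPrime_iff [Algebra.FormallySmooth A B]
    (hsurj : Function.Surjective (algebraMap B C))
    [Module.Finite B (RingHom.ker (algebraMap B C)).Cotangent] (p : Ideal C) [p.IsPrime] :
    Algebra.FormallySmooth A (Localization.AtPrime p) ↔
      Function.Injective ((kerCotangentToTensor A B C).lTensor p.ResidueField) := by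
  letI := Localization.AtPrime.algebraOfLiesOver (p.under B) p
  haveI : IsLocalization (Algebra.algebraMapSubmonoid C (p.under B).primeCompl)
      (Localization.AtPrime p) := by
    rw [algebraMapSubmonoid_primeCompl hsurj p]
    infer_instance
  haveI : Algebra.FormallySmooth B (Localization.AtPrime (p.under B)) :=
    Algebra.FormallySmooth.of_isLocalization (p.under B).primeCompl
  haveI : Algebra.FormallySmooth A (Localization.AtPrime (p.under B)) :=
    Algebra.FormallySmooth.comp A B _
  have hf : Function.Surjective
      (algebraMap (Localization.AtPrime (p.under B)) (Localization.AtPrime p)) :=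
    algebraMap_surjective (p.under B).primeCompl hsurj
  haveI := isLocalizedModule_mu (C := C) (P := Localization.AtPrime (p.under B))
    (Q := Localization.AtPrime p) (p.under B).primeCompl
  haveI : Module.Finite (Localization.AtPrime (p.under B))
      (RingHom.ker (algebraMap (Localization.AtPrime (p.under B))
        (Localization.AtPrime p))).Cotangent :=
    Module.Finite.of_isLocalizedModule (p.under B).primeCompl
      (mu B C (Localization.AtPrime (p.under B)) (Localization.AtPrime p))
  have hκ : Function.Surjective
      (algebraMap (Localization.AtPrime (p.under B)) p.ResidueField) := by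
    rw [IsScalarTower.algebraMap_eq (Localization.AtPrime (p.under B)) (Localization.AtPrime p)
      p.ResidueField]
    exact (IsLocalRing.residue_surjective).comp hf
  rw [formallySmooth_iff_injective_of_field hf p.ResidueField hκ]
  exact (lTensor_kerCotangentToTensor_injective_iff (p.under B).primeCompl p.ResidueField).symm

end AtPrime



section SP1

variable {A B C P Q : Type u} [CommRing A] [CommRing B] [CommRing C] [CommRing P] [CommRing Q]
  [Algebra A B] [Algebra B C] [Algebra A C] [IsScalarTower A B C]
  [Algebra B P] [Algebra A P] [IsScalarTower A B P]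
  [Algebra C Q] [Algebra B Q] [IsScalarTower B C Q]
  [Algebra P Q] [IsScalarTower B P Q] [Algebra A Q] [IsScalarTower A P Q]
  (S : Submonoid B) [IsLocalization S P]
  [IsLocalization (Algebra.algebraMapSubmonoid C S) Q]

include S in
/-- global Jacobian data give formal smoothness of the corresponding localization. -/
theorem formallySmooth_of_jacobian_data [Algebra.FormallySmooth A B]
    (hsurj : Function.Surjective (algebraMap B C)) {m : ℕ}
    (f : Fin m → RingHom.ker (algebraMap B C)) (D₀ : Fin m → Derivation A B B)
    (hgen : ∀ x : (RingHom.ker (algebraMap B C)).Cotangent, ∃ s : S,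
      (s : B) • x ∈ Submodule.span B (Set.range fun i => (RingHom.ker (algebraMap B C)).toCotangent (f i)))
    (hdet : IsUnit (algebraMap B P (Matrix.det (Matrix.of fun i j => D₀ j (f i).1)))) :
    Algebra.FormallySmooth A Q := by
  haveI : Algebra.FormallySmooth B P := Algebra.FormallySmooth.of_isLocalization S
  haveI : Algebra.FormallySmooth A P := Algebra.FormallySmooth.comp A B P
  have hf : Function.Surjective (algebraMap P Q) := algebraMap_surjective S hsurj
  rw [Algebra.FormallySmooth.iff_split_injection hf]
  choose w hw using fun j =>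
    Groth.Agent.Lib.Helper23.Jacobian.exists_functional_of_derivation (P := P) S (D₀ j)
  haveI := isLocalizedModule_mu (C := C) (P := P) (Q := Q) S
  apply Groth.Agent.Lib.Helper23.Jacobian.exists_retraction_of_det hf
    (fun i => ⟨algebraMap B P (f i).1, ker_le_comap B C P Q (f i).2⟩) w
  · rw [eq_top_iff]
    intro y _
    obtain ⟨⟨x, s⟩, hxs⟩ := IsLocalizedModule.surj S (mu B C P Q) y
    obtain ⟨s', hs'⟩ := hgen x
    have h1 : mu B C P Q ((s' : B) • x) ∈ Submodule.span P (Set.range fun i =>
        (RingHom.ker (algebraMap P Q)).toCotangent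
          ⟨algebraMap B P (f i).1, ker_le_comap B C P Q (f i).2⟩) := by
      have h2 : Submodule.span B (Set.range fun i =>
          (RingHom.ker (algebraMap B C)).toCotangent (f i)) ≤
          Submodule.comap (mu B C P Q)
          ((Submodule.span P (Set.range fun i => (RingHom.ker (algebraMap P Q)).toCotangent
            ⟨algebraMap B P (f i).1, ker_le_comap B C P Q (f i).2⟩)).restrictScalars B) := by
        rw [Submodule.span_le]
        rintro _ ⟨i, rfl⟩
        show mu B C P Q _ ∈ Submodule.span P _
        rw [mu_toCotangent]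
        exact Submodule.subset_span ⟨i, rfl⟩
      exact h2 hs'
    have hxs' : (s : B) • y = mu B C P Q x := hxs
    rw [map_smul, ← hxs'] at h1
    -- units
    have hu : IsUnit (algebraMap B P ((s' : B) * (s : B))) := by
      rw [map_mul]
      exact (IsLocalization.map_units P s').mul (IsLocalization.map_units P s)
    obtain ⟨u, hu'⟩ := hu
    have h3 : y = (↑u⁻¹ : P) • ((s' : B) • (s : B) • y) := by
      rw [← algebraMap_smul P (s' : B), ← algebraMap_smul P (s : B) y, smul_smul, smul_smul,
        mul_assoc, ← map_mul, ← hu', Units.inv_mul, one_smul]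
    rw [h3]
    exact Submodule.smul_mem _ _ h1
  · have h1 : (Matrix.of fun i j => w j (D A P (algebraMap B P (f i).1))) =
        (algebraMap B P).mapMatrix (Matrix.of fun i j => D₀ j (f i).1) := by
      ext i j
      simp [hw]
    show IsUnit (Matrix.det (Matrix.of fun i j => w j (D A P (algebraMap B P (f i).1))))
    rw [h1, ← RingHom.map_det]
    exact hdet

end SP1



section SP2

variable {A B C P Q : Type u} [CommRing A] [CommRing B] [CommRing C] [CommRing P] [CommRing Q]
  [Algebra A B] [Algebra B C] [Algebra A C] [IsScalarTower A B C]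
  [Algebra B P] [Algebra A P] [IsScalarTower A B P]
  [Algebra C Q] [Algebra B Q] [IsScalarTower B C Q]
  [Algebra P Q] [IsScalarTower B P Q] [Algebra A Q] [IsScalarTower A P Q]
  (S : Submonoid B) [IsLocalization S P]
  [IsLocalization (Algebra.algebraMapSubmonoid C S) Q]

include S in
/-- formal smoothness of the localization at a point gives global Jacobian data. -/
theorem exists_jacobian_data [Algebra.FormallySmooth A B] [IsLocalRing P]
    (hsurj : Function.Surjective (algebraMap B C))
    [Module.Finite B (RingHom.ker (algebraMap B C)).Cotangent]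
    (hK : RingHom.ker (algebraMap P Q) ≤ maximalIdeal P)
    [Algebra.FormallySmooth A Q] :
    ∃ (m : ℕ) (f : Fin m → RingHom.ker (algebraMap B C)) (D₀ : Fin m → Derivation A B B),
      (∀ x : (RingHom.ker (algebraMap B C)).Cotangent, ∃ s : S, (s : B) • x ∈
        Submodule.span B (Set.range fun i => (RingHom.ker (algebraMap B C)).toCotangent (f i))) ∧
      IsUnit (algebraMap B P (Matrix.det (Matrix.of fun i j => D₀ j (f i).1))) := by
  classical
  haveI : Algebra.FormallySmooth B P := Algebra.FormallySmooth.of_isLocalization S
  haveI : Algebra.FormallySmooth A P := Algebra.FormallySmooth.comp A B P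
  have hf : Function.Surjective (algebraMap P Q) := algebraMap_surjective S hsurj
  haveI := isLocalizedModule_mu (C := C) (P := P) (Q := Q) S
  haveI : Module.Finite P (RingHom.ker (algebraMap P Q)).Cotangent :=
    Module.Finite.of_isLocalizedModule S (mu B C P Q)
  obtain ⟨l, hl⟩ := (Algebra.FormallySmooth.iff_split_injection (R := A) hf).mp inferInstance
  obtain ⟨m, g, w, hspan, hdet⟩ :=
    Groth.Agent.Lib.Helper23.Jacobian.exists_det_of_retraction hK l hl
  -- numerators
  have hnum : ∀ i, ∃ x : RingHom.ker (algebraMap B C) × S,
      (g i : P) * algebraMap B P x.2 = algebraMap B P x.1 := by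
    intro i
    have : (g i : P) ∈ (RingHom.ker (algebraMap B C)).map (algebraMap B P) := by
      rw [← ker_algebraMap_eq (C := C) (Q := Q) S]
      exact (g i).2
    exact (IsLocalization.mem_map_algebraMap_iff S P).mp this
  choose x hx using hnum
  let f : Fin m → RingHom.ker (algebraMap B C) := fun i => (x i).1
  have hσ : ∀ i, IsUnit (algebraMap B P (x i).2) := fun i => IsLocalization.map_units P (x i).2
  obtain ⟨s, D₀, hD₀⟩ := Groth.Agent.Lib.Helper23.Jacobian.exists_derivation_of_functional
    (P := P) S w (fun i => (f i).1)
  refine ⟨m, f, D₀, ?_, ?_⟩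
  · -- generation up to denominators
    intro z
    -- `mu [f i]` span
    have hspan' : Submodule.span P (Set.range fun i =>
        mu B C P Q ((RingHom.ker (algebraMap B C)).toCotangent (f i))) = ⊤ := by
      rw [eq_top_iff, ← hspan, Submodule.span_le]
      rintro _ ⟨i, rfl⟩
      obtain ⟨u, hu⟩ := hσ i
      have h1 : (RingHom.ker (algebraMap P Q)).toCotangent (g i) =
          (↑u⁻¹ : P) • mu B C P Q ((RingHom.ker (algebraMap B C)).toCotangent (f i)) := by
        rw [mu_toCotangent, ← map_smul]
        congr 1
        apply Subtype.ext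
        show (g i : P) = ↑u⁻¹ * algebraMap B P (f i).1
        rw [← hx i, ← hu]
        rw [mul_comm (g i : P), ← mul_assoc, Units.inv_mul, one_mul]
      show (RingHom.ker (algebraMap P Q)).toCotangent (g i) ∈ _
      rw [h1]
      exact Submodule.smul_mem _ _ (Submodule.subset_span ⟨i, rfl⟩)
    have hz : mu B C P Q z ∈ Submodule.span P (Set.range fun i =>
        mu B C P Q ((RingHom.ker (algebraMap B C)).toCotangent (f i))) := by
      rw [hspan']; trivial
    obtain ⟨c, hc⟩ := (Submodule.mem_span_range_iff_exists_fun P).mp hz
    obtain ⟨t, ht⟩ := IsLocalization.exist_integer_multiples S (Finset.univ : Finset (Fin m)) c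
    choose b hb using fun i => ht i (Finset.mem_univ i)
    have h2 : mu B C P Q ((t : B) • z) =
        mu B C P Q (∑ i, b i • (RingHom.ker (algebraMap B C)).toCotangent (f i)) := by
      rw [map_smul, ← hc, map_sum, Finset.smul_sum]
      refine Finset.sum_congr rfl (fun i _ => ?_)
      rw [map_smul, ← algebraMap_smul P (b i), hb i, ← algebraMap_smul P (t : B), smul_smul,
        Algebra.smul_def]
    obtain ⟨t', ht'⟩ := IsLocalizedModule.exists_of_eq (S := S) h2
    refine ⟨t' * t, ?_⟩
    have h3 : ((t' * t : S) : B) • z = (t' : B) • ((t : B) • z) := by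
      rw [smul_smul]; rfl
    rw [h3]
    have ht'' : (t' : B) • ((t : B) • z) =
        (t' : B) • ∑ i, b i • (RingHom.ker (algebraMap B C)).toCotangent (f i) := ht'
    rw [ht'']
    refine Submodule.smul_mem _ _ (Submodule.sum_mem _ (fun i _ => ?_))
    exact Submodule.smul_mem _ _ (Submodule.subset_span ⟨i, rfl⟩)
  · -- determinant
    rw [RingHom.map_det, ← IsLocalRing.residue_ne_zero_iff_isUnit, RingHom.map_det]
    have hmat : (residue P).mapMatrix ((algebraMap B P).mapMatrix
        (Matrix.of fun i j => D₀ j (f i).1))
        = Matrix.diagonal (fun i => residue P (algebraMap B P s * algebraMap B P (x i).2)) *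
          (residue P).mapMatrix (Matrix.of fun i j => w j (D A P (g i).1)) := by
      ext i j
      rw [Matrix.diagonal_mul]
      simp only [RingHom.mapMatrix_apply, Matrix.map_apply, Matrix.of_apply]
      rw [hD₀ i j]
      show residue P (algebraMap B P s * w j (D A P (algebraMap B P (x i).1))) = _
      rw [← hx i, Derivation.leibniz, map_add, map_smul, map_smul, smul_eq_mul, smul_eq_mul,
        mul_add, map_add, map_mul, map_mul (residue P) (g i : P)]
      have h0 : residue P (g i : P) = 0 := (residue_eq_zero_iff _).mpr (hK (g i).2)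
      rw [h0, zero_mul, mul_zero, zero_add, map_mul, map_mul, map_mul]
      ring
    rw [hmat, Matrix.det_mul, Matrix.det_diagonal, ← RingHom.map_det]
    apply mul_ne_zero
    · rw [Finset.prod_ne_zero_iff]
      intro i _
      rw [IsLocalRing.residue_ne_zero_iff_isUnit]
      exact (IsLocalization.map_units P s).mul (hσ i)
    · rw [IsLocalRing.residue_ne_zero_iff_isUnit]
      exact hdet

end SP2



section Final

variable {A B C : Type u} [CommRing A] [CommRing B] [CommRing C] [Algebra A B] [Algebra B C]
  [Algebra A C] [IsScalarTower A B C]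

/-- **EGA 0_IV 22.6.4, (c) ⇒ (a)**. -/
theorem formallySmooth_atPrime_of_away (p : Ideal C) [p.IsPrime] (f : C) (hf : f ∉ p)
    [Algebra.FormallySmooth A (Localization.Away f)] :
    Algebra.FormallySmooth A (Localization.AtPrime p) := by
  have hle : Submonoid.powers f ≤ p.primeCompl := (Submonoid.powers_le).mpr hf
  letI := IsLocalization.localizationAlgebraOfSubmonoidLe (Localization.Away f)
    (Localization.AtPrime p) (Submonoid.powers f) p.primeCompl hle
  haveI := IsLocalization.localization_isScalarTower_of_submonoid_le (Localization.Away f)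
    (Localization.AtPrime p) (Submonoid.powers f) p.primeCompl hle
  haveI := IsLocalization.isLocalization_of_submonoid_le (Localization.Away f)
    (Localization.AtPrime p) (Submonoid.powers f) p.primeCompl hle
  haveI : Algebra.FormallySmooth (Localization.Away f) (Localization.AtPrime p) :=
    Algebra.FormallySmooth.of_isLocalization
      (p.primeCompl.map (algebraMap C (Localization.Away f)))
  haveI : IsScalarTower A (Localization.Away f) (Localization.AtPrime p) :=
    IsScalarTower.of_algebraMap_eq (fun a => by
      rw [IsScalarTower.algebraMap_apply A C (Localization.AtPrime p),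
        IsScalarTower.algebraMap_apply A C (Localization.Away f),
        ← IsScalarTower.algebraMap_apply C (Localization.Away f) (Localization.AtPrime p)])
  exact Algebra.FormallySmooth.comp A (Localization.Away f) (Localization.AtPrime p)

/-- **EGA 0_IV 22.6.4, (a) ⇒ (c)**. -/
theorem exists_formallySmooth_away [Algebra.FormallySmooth A B]
    (hsurj : Function.Surjective (algebraMap B C))
    [Module.Finite B (RingHom.ker (algebraMap B C)).Cotangent] (p : Ideal C) [p.IsPrime]
    [Algebra.FormallySmooth A (Localization.AtPrime p)] :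
    ∃ f : C, f ∉ p ∧ Algebra.FormallySmooth A (Localization.Away f) := by
  classical
  letI := Localization.AtPrime.algebraOfLiesOver (p.under B) p
  haveI : IsLocalization (Algebra.algebraMapSubmonoid C (p.under B).primeCompl)
      (Localization.AtPrime p) := by
    rw [algebraMapSubmonoid_primeCompl hsurj p]
    infer_instance
  have hK : RingHom.ker (algebraMap (Localization.AtPrime (p.under B)) (Localization.AtPrime p)) ≤
      maximalIdeal (Localization.AtPrime (p.under B)) := by
    rw [ker_algebraMap_eq (C := C) (p.under B).primeCompl,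
      ← IsLocalization.AtPrime.map_eq_maximalIdeal (p.under B) (Localization.AtPrime (p.under B))]
    apply Ideal.map_mono
    intro j hj
    rw [RingHom.mem_ker] at hj
    show algebraMap B C j ∈ p
    rw [hj]
    exact zero_mem _
  obtain ⟨m, f, D₀, hgen, hdet⟩ := exists_jacobian_data (A := A) (C := C)
    (P := Localization.AtPrime (p.under B)) (Q := Localization.AtPrime p)
    (p.under B).primeCompl hsurj hK
  -- finitely many generators
  obtain ⟨n, y, hy⟩ := Module.Finite.exists_fin (R := B)
    (M := (RingHom.ker (algebraMap B C)).Cotangent)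
  choose s hs using fun k => hgen (y k)
  set δ : B := Matrix.det (Matrix.of fun i j => D₀ j (f i).1) with hδ
  have hδq : δ ∈ (p.under B).primeCompl :=
    (IsLocalization.AtPrime.isUnit_to_map_iff (Localization.AtPrime (p.under B)) (p.under B) δ).mp hdet
  let h : B := δ * ∏ k, (s k : B)
  have hh : h ∈ (p.under B).primeCompl :=
    mul_mem hδq (prod_mem (fun k _ => (s k).2))
  refine ⟨algebraMap B C h, hh, ?_⟩
  -- the instances
  haveI : IsLocalization (Algebra.algebraMapSubmonoid C (Submonoid.powers h))
      (Localization.Away (algebraMap B C h)) := by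
    have : Algebra.algebraMapSubmonoid C (Submonoid.powers h) =
        Submonoid.powers (algebraMap B C h) := Submonoid.map_powers _ _
    rw [this]
    infer_instance
  letI : Algebra (Localization.Away h) (Localization.Away (algebraMap B C h)) :=
    localizationAlgebra (Submonoid.powers h) C
  haveI : IsScalarTower B (Localization.Away h) (Localization.Away (algebraMap B C h)) :=
    isScalarTower_localizationAlgebra (Submonoid.powers h) C
  haveI : IsScalarTower A (Localization.Away h) (Localization.Away (algebraMap B C h)) :=
    IsScalarTower.of_algebraMap_eq (fun a => by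
      rw [IsScalarTower.algebraMap_apply A B (Localization.Away h),
        ← IsScalarTower.algebraMap_apply B (Localization.Away h)
          (Localization.Away (algebraMap B C h)),
        IsScalarTower.algebraMap_apply A C (Localization.Away (algebraMap B C h)),
        IsScalarTower.algebraMap_apply A B C,
        ← IsScalarTower.algebraMap_apply B C (Localization.Away (algebraMap B C h))])
  apply formallySmooth_of_jacobian_data (A := A) (C := C) (P := Localization.Away h)
    (Q := Localization.Away (algebraMap B C h)) (Submonoid.powers h) hsurj f D₀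
  · intro x
    refine ⟨⟨h, Submonoid.mem_powers h⟩, ?_⟩
    show h • x ∈ _
    have hx : x ∈ Submodule.span B (Set.range y) := by rw [hy]; trivial
    obtain ⟨c, rfl⟩ := (Submodule.mem_span_range_iff_exists_fun B).mp hx
    rw [Finset.smul_sum]
    refine Submodule.sum_mem _ (fun k _ => ?_)
    rw [smul_comm]
    refine Submodule.smul_mem _ _ ?_
    have hk : h = (δ * ∏ k' ∈ Finset.univ.erase k, (s k' : B)) * (s k : B) := by
      show δ * ∏ k, (s k : B) = _
      rw [← Finset.mul_prod_erase Finset.univ (fun k => (s k : B)) (Finset.mem_univ k)]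
      ring
    rw [hk, mul_smul]
    exact Submodule.smul_mem _ _ (hs k)
  · have h1 : IsUnit (algebraMap B (Localization.Away h) h) :=
      IsLocalization.Away.algebraMap_isUnit h
    have h2 : algebraMap B (Localization.Away h) h =
        algebraMap B (Localization.Away h) δ *
          algebraMap B (Localization.Away h) (∏ k, (s k : B)) := by
      rw [← map_mul]
    rw [h2] at h1
    exact isUnit_of_mul_isUnit_left h1

end Final

end Groth.Agent.Lib.Helper23.JacobianLoc
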