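import Mathlib
import Groth.Agent.Lib.Helper23.JacobianLoc
import Groth.Agent.Lib.Helper21.LeftInv

/-!
Left invertibility of u : M → N (M finite, N projective) and localization (EGA 0_IV 19.1.12–14).
leftInvIdeal u = {f | ∃ W, W ∘ u = f • id} (an ideal), MutFactor (maps factoring through each other), exists_mutFactor_finite_free
(reduction to a finite free target), LocLeftInv S u (the statement form of left invertibility of S⁻¹u), locLeftInv_iff (⇔ S meets leftInvIdeal u),
locLeftInv_iff_lTensor_injective ((a)⇔(b)), locLeftInv_prime_iff_powers ((a)⇔(d)), isOpen_setOf_locLeftInv, leftInverse_iff_forall_maximal.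
-/

set_option autoImplicit false
universe u
open TensorProduct

namespace Groth.Agent.Lib.Helper23.LeftInvLoc


section Basic

variable {A : Type u} [CommRing A] {M N : Type u} [AddCommGroup M] [Module A M]
  [AddCommGroup N] [Module A N]

/-- the ideal of scalars `f` such that `f • id` factors through `u`. -/
def leftInvIdeal (u : M →ₗ[A] N) : Ideal A where
  carrier := {f | ∃ W : N →ₗ[A] M, W ∘ₗ u = f • LinearMap.id}
  add_mem' := by
    rintro a b ⟨W₁, h₁⟩ ⟨W₂, h₂⟩
    exact ⟨W₁ + W₂, by rw [LinearMap.add_comp, h₁, h₂, add_smul]⟩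
  zero_mem' := ⟨0, by rw [LinearMap.zero_comp, zero_smul]⟩
  smul_mem' := by
    rintro c a ⟨W, h⟩
    exact ⟨c • W, by rw [LinearMap.smul_comp, h, smul_smul, smul_eq_mul]⟩

theorem mem_leftInvIdeal {u : M →ₗ[A] N} {f : A} :
    f ∈ leftInvIdeal u ↔ ∃ W : N →ₗ[A] M, W ∘ₗ u = f • LinearMap.id := Iff.rfl

theorem one_mem_leftInvIdeal {u : M →ₗ[A] N} :
    (1 : A) ∈ leftInvIdeal u ↔ ∃ W : N →ₗ[A] M, W ∘ₗ u = LinearMap.id := by
  rw [mem_leftInvIdeal]
  simp only [one_smul]

/-- two maps factoring through each other. -/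
def MutFactor {N' : Type u} [AddCommGroup N'] [Module A N'] (u : M →ₗ[A] N) (u' : M →ₗ[A] N') : Prop :=
  ∃ (θ : N →ₗ[A] N') (τ : N' →ₗ[A] N), u' = θ ∘ₗ u ∧ u = τ ∘ₗ u'

theorem leftInvIdeal_eq_of_mutFactor {N' : Type u} [AddCommGroup N'] [Module A N']
    {u : M →ₗ[A] N} {u' : M →ₗ[A] N'} (h : MutFactor u u') :
    leftInvIdeal u = leftInvIdeal u' := by
  obtain ⟨θ, τ, h1, h2⟩ := h
  ext f
  constructor
  · rintro ⟨W, hW⟩
    refine ⟨W ∘ₗ τ, ?_⟩
    rw [LinearMap.comp_assoc, ← h2, hW]
  · rintro ⟨W, hW⟩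
    refine ⟨W ∘ₗ θ, ?_⟩
    rw [LinearMap.comp_assoc, ← h1, hW]

/-- reduction to a finite free target. -/
theorem exists_mutFactor_finite_free [Module.Finite A M] [Module.Projective A N] (u : M →ₗ[A] N) :
    ∃ (ι : Type u) (_ : Fintype ι) (u₀ : M →ₗ[A] (ι → A)), MutFactor u u₀ := by
  classical
  obtain ⟨i, hi⟩ := Module.projective_def'.mp (inferInstance : Module.Projective A N)
  obtain ⟨n, x, hx⟩ := Module.Finite.exists_fin (R := A) (M := M)
  let I₀ : Finset N := Finset.univ.biUnion (fun j => (i (u (x j))).support)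
  -- everything in the image is supported in I₀
  have hsupp : ∀ y : M, i (u y) ∈ Finsupp.supported A A (I₀ : Set N) := by
    intro y
    have hy : y ∈ Submodule.span A (Set.range x) := by rw [hx]; trivial
    have : Submodule.span A (Set.range x) ≤
        Submodule.comap (i ∘ₗ u) (Finsupp.supported A A (I₀ : Set N)) := by
      rw [Submodule.span_le]
      rintro _ ⟨j, rfl⟩
      show i (u (x j)) ∈ Finsupp.supported A A (I₀ : Set N)
      rw [Finsupp.mem_supported]
      intro k hk
      exact Finset.mem_biUnion.mpr ⟨j, Finset.mem_univ j, hk⟩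
    exact this hy
  let ρ : (N →₀ A) →ₗ[A] (I₀ → A) := LinearMap.pi (fun k => Finsupp.lapply k.1)
  let σ : (I₀ → A) →ₗ[A] (N →₀ A) :=
    Fintype.linearCombination A (fun k : I₀ => Finsupp.single k.1 (1 : A))
  have hσρ : ∀ v ∈ Finsupp.supported A A (I₀ : Set N), σ (ρ v) = v := by
    intro v hv
    show Fintype.linearCombination A (fun k : I₀ => Finsupp.single k.1 (1 : A)) (ρ v) = v
    rw [Fintype.linearCombination_apply]
    ext k
    rw [Finsupp.finset_sum_apply]
    simp only [Finsupp.smul_apply, Finsupp.single_apply, smul_eq_mul, mul_ite, mul_one, mul_zero]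
    by_cases hk : k ∈ I₀
    · rw [Finset.sum_eq_single ⟨k, hk⟩]
      · simp [ρ]
      · intro b _ hb
        rw [if_neg]
        intro h
        exact hb (Subtype.ext h)
      · intro h
        exact absurd (Finset.mem_univ _) h
    · rw [Finset.sum_eq_zero]
      · have : v k = 0 := by
          by_contra h
          exact hk ((Finsupp.mem_supported A v).mp hv (Finsupp.mem_support_iff.mpr h))
        rw [this]
      · intro b _
        rw [if_neg]
        intro h
        exact hk (h ▸ b.2)
  refine ⟨I₀, inferInstance, ρ ∘ₗ i ∘ₗ u, ρ ∘ₗ i, (Finsupp.linearCombination A id) ∘ₗ σ, rfl, ?_⟩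
  ext y
  show u y = Finsupp.linearCombination A id (σ (ρ (i (u y))))
  rw [hσρ _ (hsupp y)]
  exact (LinearMap.congr_fun hi (u y)).symm

end Basic



section K

variable {A : Type u} [CommRing A] {M N : Type u} [AddCommGroup M] [Module A M]
  [AddCommGroup N] [Module A N] (S : Submonoid A)

/-- left invertibility of the localization. -/
def LocLeftInv (u : M →ₗ[A] N) : Prop :=
  ∃ w : LocalizedModule S N →ₗ[A] LocalizedModule S M,
    w ∘ₗ (LocalizedModule.map S u).restrictScalars A = LinearMap.id

theorem locLeftInv_of_mem (u : M →ₗ[A] N) (s : A) (hs : s ∈ S) (hsI : s ∈ leftInvIdeal u) :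
    LocLeftInv S u := by
  obtain ⟨W, hW⟩ := hsI
  refine ⟨((Localization.mk 1 ⟨s, hs⟩ : Localization S) • LocalizedModule.map S W).restrictScalars A, ?_⟩
  ext x
  induction x using LocalizedModule.induction_on with
  | h m t =>
    show (Localization.mk 1 ⟨s, hs⟩ : Localization S) •
      LocalizedModule.map S W (LocalizedModule.map S u (LocalizedModule.mk m t)) = LocalizedModule.mk m t
    rw [LocalizedModule.map_mk, LocalizedModule.map_mk]
    have : W (u m) = s • m := LinearMap.congr_fun hW m
    rw [this, LocalizedModule.mk_smul_mk, one_smul]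
    exact LocalizedModule.mk_cancel_common_left ⟨s, hs⟩ t m

theorem locLeftInv_of_mutFactor {N' : Type u} [AddCommGroup N'] [Module A N']
    {u : M →ₗ[A] N} {u' : M →ₗ[A] N'} (h : MutFactor u u') (hu : LocLeftInv S u) :
    LocLeftInv S u' := by
  obtain ⟨θ, τ, h1, h2⟩ := h
  obtain ⟨w, hw⟩ := hu
  refine ⟨w ∘ₗ (LocalizedModule.map S τ).restrictScalars A, ?_⟩
  ext x
  induction x using LocalizedModule.induction_on with
  | h m t =>
    have := LinearMap.congr_fun hw (LocalizedModule.mk m t)
    simp only [LinearMap.comp_apply, LinearMap.restrictScalars_apply, LocalizedModule.map_mk,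
      LinearMap.id_apply] at this ⊢
    rw [← this]
    congr 2
    exact (LinearMap.congr_fun h2 m).symm

/-- spreading out a left inverse: finite free target. -/
theorem exists_mem_of_locLeftInv_free [Module.Finite A M] {ι : Type u} [Fintype ι]
    (u₀ : M →ₗ[A] (ι → A)) (h : LocLeftInv S u₀) : ∃ s ∈ S, s ∈ leftInvIdeal u₀ := by
  classical
  obtain ⟨w, hw⟩ := h
  have hsurj : ∀ k : ι, ∃ ms : M × S, w (LocalizedModule.mk (Pi.single k (1 : A)) 1) =
      LocalizedModule.mk ms.1 ms.2 := by
    intro k
    induction w (LocalizedModule.mk (Pi.single k (1 : A)) 1) using LocalizedModule.induction_on with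
    | h m t => exact ⟨(m, t), rfl⟩
  choose ms hms using hsurj
  let s : S := ∏ k, (ms k).2
  let m' : ι → M := fun k => (∏ l ∈ Finset.univ.erase k, ((ms l).2 : A)) • (ms k).1
  have hsk : ∀ k, (s : A) • w (LocalizedModule.mk (Pi.single k (1 : A)) 1) =
      LocalizedModule.mk (m' k) 1 := by
    intro k
    rw [hms k, LocalizedModule.smul'_mk, LocalizedModule.mk_eq]
    refine ⟨1, ?_⟩
    simp only [one_smul]
    symm
    show ((ms k).2 : A) • ((∏ l ∈ Finset.univ.erase k, ((ms l).2 : A)) • (ms k).1) = _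
    rw [smul_smul, Finset.mul_prod_erase Finset.univ (fun l => ((ms l).2 : A)) (Finset.mem_univ k)]
    simp [s, Submonoid.coe_finset_prod]
  let W' : (ι → A) →ₗ[A] M := Fintype.linearCombination A m'
  have hW' : (LocalizedModule.mkLinearMap S M) ∘ₗ W' =
      (s : A) • (w ∘ₗ LocalizedModule.mkLinearMap S (ι → A)) := by
    apply LinearMap.pi_ext'
    intro k
    apply LinearMap.ext_ring
    show LocalizedModule.mk (W' (Pi.single k 1)) 1 =
      (s : A) • w (LocalizedModule.mk (Pi.single k (1 : A)) 1)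
    rw [hsk k]
    congr 1
    show Fintype.linearCombination A m' (Pi.single k 1) = m' k
    rw [Fintype.linearCombination_apply_single, one_smul]
  have hx : ∀ x : M, ∃ t : S, (t : A) • W' (u₀ x) = (t : A) • (s : A) • x := by
    intro x
    have h1 : LocalizedModule.mk (W' (u₀ x)) (1 : S) = LocalizedModule.mk ((s : A) • x) 1 := by
      have h2 := LinearMap.congr_fun hW' (u₀ x)
      have h3 : w (LocalizedModule.mk (u₀ x) 1) = LocalizedModule.mk x 1 := by
        have := LinearMap.congr_fun hw (LocalizedModule.mk x 1)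
        simpa [LocalizedModule.map_mk] using this
      show LocalizedModule.mk (W' (u₀ x)) (1 : S) = _
      have h4 : LocalizedModule.mk (W' (u₀ x)) (1 : S) =
          (s : A) • w (LocalizedModule.mk (u₀ x) 1) := h2
      rw [h4, h3, LocalizedModule.smul'_mk]
    obtain ⟨t, ht⟩ := LocalizedModule.mk_eq.mp h1
    refine ⟨t, ?_⟩
    have ht' : t • (1 : S) • W' (u₀ x) = t • (1 : S) • ((s : A) • x) := ht
    simpa [Submonoid.smul_def] using ht'
  obtain ⟨n, x, hxspan⟩ := Module.Finite.exists_fin (R := A) (M := M)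
  choose t ht using fun j => hx (x j)
  let T : S := ∏ j, t j
  refine ⟨(T : A) * (s : A), (T * s).2, (T : A) • W', ?_⟩
  apply LinearMap.ext_on hxspan
  rintro _ ⟨j, rfl⟩
  show (T : A) • W' (u₀ (x j)) = ((T : A) * (s : A)) • x j
  have hT : (T : A) = (∏ l ∈ Finset.univ.erase j, ((t l : S) : A)) * (t j : A) := by
    rw [mul_comm, Finset.mul_prod_erase Finset.univ (fun l => ((t l : S) : A)) (Finset.mem_univ j)]
    simp [T, Submonoid.coe_finset_prod]
  rw [hT, mul_smul, ht j, mul_smul, mul_smul]

/-- **key lemma**: the localization of `u` is left invertible iff `S` meets the ideal. -/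
theorem locLeftInv_iff [Module.Finite A M] [Module.Projective A N] (u : M →ₗ[A] N) :
    LocLeftInv S u ↔ ∃ s ∈ S, s ∈ leftInvIdeal u := by
  constructor
  · intro h
    obtain ⟨ι, _, u₀, hmf⟩ := exists_mutFactor_finite_free u
    obtain ⟨s, hs, hsI⟩ := exists_mem_of_locLeftInv_free S u₀ (locLeftInv_of_mutFactor S hmf h)
    exact ⟨s, hs, by rw [leftInvIdeal_eq_of_mutFactor hmf]; exact hsI⟩
  · rintro ⟨s, hs, hsI⟩
    exact locLeftInv_of_mem S u s hs hsI

end K



section Pt

variable {A : Type u} [CommRing A] {M N : Type u} [AddCommGroup M] [Module A M]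
  [AddCommGroup N] [Module A N]

/-- (a) ⇔ (b) of EGA 0_IV 19.1.12. -/
theorem locLeftInv_iff_lTensor_injective [Module.Finite A M] [Module.Projective A N]
    (u : M →ₗ[A] N) (p : Ideal A) [p.IsPrime] :
    LocLeftInv p.primeCompl u ↔ Function.Injective (u.lTensor p.ResidueField) := by
  haveI : Module.Finite (Localization.AtPrime p) (LocalizedModule p.primeCompl M) :=
    Module.Finite.of_isLocalizedModule p.primeCompl (LocalizedModule.mkLinearMap p.primeCompl M)
  have h1 : LocLeftInv p.primeCompl u ↔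
      ∃ w : LocalizedModule p.primeCompl N →ₗ[Localization.AtPrime p]
        LocalizedModule p.primeCompl M, w ∘ₗ LocalizedModule.map p.primeCompl u = LinearMap.id := by
    constructor
    · rintro ⟨w, hw⟩
      refine ⟨LinearMap.extendScalarsOfIsLocalization p.primeCompl (Localization.AtPrime p) w, ?_⟩
      ext x
      exact LinearMap.congr_fun hw x
    · rintro ⟨w, hw⟩
      refine ⟨w.restrictScalars A, ?_⟩
      ext x
      exact LinearMap.congr_fun hw x
  rw [h1, Groth.Agent.Lib.Helper21.leftInverse_iff_baseChange_residueField_injective]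
  have h2 : Function.Injective ((LocalizedModule.map p.primeCompl u).baseChange
      (IsLocalRing.ResidueField (Localization.AtPrime p))) ↔
      Function.Injective ((LocalizedModule.map p.primeCompl u).lTensor p.ResidueField) := Iff.rfl
  rw [h2, ← Groth.Agent.Lib.Helper23.JacobianLoc.lTensor_injective_iff_restrictScalars p.primeCompl
    (Localization.AtPrime p) p.ResidueField]
  refine (Groth.Agent.Lib.Helper23.JacobianLoc.lTensor_injective_iff p.primeCompl
    (Localization.AtPrime p) p.ResidueField (LocalizedModule.mkLinearMap p.primeCompl M)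
    (LocalizedModule.mkLinearMap p.primeCompl N) u
    ((LocalizedModule.map p.primeCompl u).restrictScalars A) ?_).symm
  ext x
  simp [LocalizedModule.mkLinearMap_apply, LocalizedModule.map_mk]

theorem locLeftInv_prime_iff_powers [Module.Finite A M] [Module.Projective A N]
    (u : M →ₗ[A] N) (p : Ideal A) [p.IsPrime] :
    LocLeftInv p.primeCompl u ↔ ∃ f : A, f ∉ p ∧ LocLeftInv (Submonoid.powers f) u := by
  constructor
  · intro h
    obtain ⟨s, hs, hsI⟩ := (locLeftInv_iff p.primeCompl u).mp h
    exact ⟨s, hs, (locLeftInv_iff _ u).mpr ⟨s, Submonoid.mem_powers s, hsI⟩⟩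
  · rintro ⟨f, hf, h⟩
    obtain ⟨s, ⟨k, rfl⟩, hsI⟩ := (locLeftInv_iff _ u).mp h
    refine (locLeftInv_iff p.primeCompl u).mpr ⟨f ^ k, ?_, hsI⟩
    exact fun hk => hf (Ideal.IsPrime.mem_of_pow_mem inferInstance k hk)

theorem isOpen_setOf_locLeftInv [Module.Finite A M] [Module.Projective A N] (u : M →ₗ[A] N) :
    IsOpen {p : PrimeSpectrum A | LocLeftInv p.asIdeal.primeCompl u} := by
  have : {p : PrimeSpectrum A | LocLeftInv p.asIdeal.primeCompl u} =
      (PrimeSpectrum.zeroLocus (leftInvIdeal u : Set A))ᶜ := by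
    ext p
    rw [Set.mem_setOf_eq, locLeftInv_iff, Set.mem_compl_iff, PrimeSpectrum.mem_zeroLocus]
    constructor
    · rintro ⟨s, hs, hsI⟩ hle
      exact hs (hle hsI)
    · intro h
      obtain ⟨s, hsI, hs⟩ := Set.not_subset.mp h
      exact ⟨s, hs, hsI⟩
  rw [this]
  exact (PrimeSpectrum.isClosed_zeroLocus _).isOpen_compl

/-- EGA 0_IV 19.1.14 (i): left invertibility is local at maximal ideals. -/
theorem leftInverse_iff_forall_maximal [Module.Finite A M] [Module.Projective A N]
    (u : M →ₗ[A] N) :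
    (∃ w : N →ₗ[A] M, w ∘ₗ u = LinearMap.id) ↔
      ∀ (m : Ideal A) [m.IsMaximal], LocLeftInv m.primeCompl u := by
  rw [← one_mem_leftInvIdeal]
  constructor
  · intro h m _
    exact (locLeftInv_iff _ u).mpr ⟨1, Submonoid.one_mem _, h⟩
  · intro h
    by_contra h1
    have hne : leftInvIdeal u ≠ ⊤ := fun htop => h1 (htop ▸ Submodule.mem_top)
    obtain ⟨m, hm, hle⟩ := Ideal.exists_le_maximal _ hne
    obtain ⟨s, hs, hsI⟩ := (locLeftInv_iff m.primeCompl u).mp (h m)
    exact hs (hle hsI)

end Pt

end Groth.Agent.Lib.Helper23.LeftInvLoc
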