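import Mathlib
import Groth.Agent.Lib.Helper23.LeftInvLoc

/-!
Left invertibility and faithfully flat base change (EGA 0_IV 19.1.14 (ii)).
lTensor_injective_of_field_ext (fibrewise injectivity descends along field extensions),
lTensor_injective_of_baseChange_leftInverse, leftInverse_iff_baseChange_faithfullyFlat.
-/

set_option autoImplicit false
universe u
open TensorProduct

namespace Groth.Agent.Lib.Helper23.LeftInvLoc


section FE

variable {A : Type u} [CommRing A] {M N : Type u} [AddCommGroup M] [Module A M]
  [AddCommGroup N] [Module A N]

/-- injectivity on a fibre can be tested after a field extension. -/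
theorem lTensor_injective_of_field_ext (u : M →ₗ[A] N) (κ K : Type u) [Field κ] [Field K]
    [Algebra A κ] [Algebra A K] [Algebra κ K] [IsScalarTower A κ K]
    (h : Function.Injective (u.lTensor K)) : Function.Injective (u.lTensor κ) := by
  rw [injective_iff_map_eq_zero]
  intro z hz
  have key : ∀ z : κ ⊗[A] M, (u.lTensor K)
      (TensorProduct.AlgebraTensorModule.cancelBaseChange A κ K K M ((1 : K) ⊗ₜ[κ] z)) =
      TensorProduct.AlgebraTensorModule.cancelBaseChange A κ K K N
        ((1 : K) ⊗ₜ[κ] (u.lTensor κ z)) := by
    intro z
    induction z using TensorProduct.induction_on with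
    | zero => simp
    | tmul c m => simp
    | add a b ha hb => simp only [TensorProduct.tmul_add, map_add, ha, hb]
  have h1 := key z
  rw [hz, TensorProduct.tmul_zero, map_zero] at h1
  have h2 := h (h1.trans (map_zero _).symm)
  have h3 : (1 : K) ⊗ₜ[κ] z = 0 :=
    (TensorProduct.AlgebraTensorModule.cancelBaseChange A κ K K M).injective
      (h2.trans (map_zero _).symm)
  exact Module.FaithfullyFlat.tensorProduct_mk_injective (A := κ) (B := K) _
    (h3.trans (TensorProduct.tmul_zero _ _).symm)

end FE



section FF

variable {A : Type u} [CommRing A] {M N : Type u} [AddCommGroup M] [Module A M]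
  [AddCommGroup N] [Module A N]

/-- a left inverse after base change gives injectivity on all fibres over the new ring. -/
theorem lTensor_injective_of_baseChange_leftInverse (u : M →ₗ[A] N) (A' : Type u) [CommRing A']
    [Algebra A A'] (K : Type u) [Field K] [Algebra A K] [Algebra A' K] [IsScalarTower A A' K]
    (w' : A' ⊗[A] N →ₗ[A'] A' ⊗[A] M) (hw' : w' ∘ₗ u.baseChange A' = LinearMap.id) :
    Function.Injective (u.lTensor K) := by
  have key : ∀ y : K ⊗[A'] (A' ⊗[A] M), (u.lTensor K)
      (TensorProduct.AlgebraTensorModule.cancelBaseChange A A' K K M y) =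
      TensorProduct.AlgebraTensorModule.cancelBaseChange A A' K K N
        ((u.baseChange A').lTensor K y) := by
    intro y
    induction y using TensorProduct.induction_on with
    | zero => simp
    | tmul c t =>
      induction t using TensorProduct.induction_on with
      | zero => simp
      | tmul a m => simp
      | add a b ha hb => simp only [TensorProduct.tmul_add, map_add, ha, hb]
    | add a b ha hb => simp only [map_add, ha, hb]
  have hinj : Function.Injective ((u.baseChange A').lTensor K) := by
    have : (w'.lTensor K) ∘ₗ ((u.baseChange A').lTensor K) = LinearMap.id := by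
      rw [← LinearMap.lTensor_comp, hw', LinearMap.lTensor_id]
    exact Function.HasLeftInverse.injective ⟨_, LinearMap.congr_fun this⟩
  rw [injective_iff_map_eq_zero]
  intro z hz
  obtain ⟨y, rfl⟩ := (TensorProduct.AlgebraTensorModule.cancelBaseChange A A' K K M).surjective z
  rw [key] at hz
  have h1 := (TensorProduct.AlgebraTensorModule.cancelBaseChange A A' K K N).injective
    (hz.trans (map_zero _).symm)
  rw [hinj (h1.trans (map_zero _).symm), map_zero]

/-- EGA 0_IV 19.1.14 (ii). -/
theorem leftInverse_iff_baseChange_faithfullyFlat [Module.Finite A M] [Module.Projective A N]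
    (u : M →ₗ[A] N) (A' : Type u) [CommRing A'] [Algebra A A'] [Module.FaithfullyFlat A A'] :
    (∃ w : N →ₗ[A] M, w ∘ₗ u = LinearMap.id) ↔
      ∃ w : A' ⊗[A] N →ₗ[A'] A' ⊗[A] M, w ∘ₗ u.baseChange A' = LinearMap.id := by
  constructor
  · rintro ⟨w, hw⟩
    exact ⟨w.baseChange A', by rw [← LinearMap.baseChange_comp, hw, LinearMap.baseChange_id]⟩
  · rintro ⟨w', hw'⟩
    rw [leftInverse_iff_forall_maximal]
    intro m hm
    rw [locLeftInv_iff_lTensor_injective]
    obtain ⟨P, hP, hPm⟩ := Ideal.exists_isPrime_liesOver_of_faithfullyFlat (B := A') m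
    letI := Localization.AtPrime.algebraOfLiesOver m P
    apply lTensor_injective_of_field_ext u m.ResidueField P.ResidueField
    exact lTensor_injective_of_baseChange_leftInverse u A' P.ResidueField w' hw'

end FF

end Groth.Agent.Lib.Helper23.LeftInvLoc
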