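import Mathlib
import Groth.Agent.Lib.Helper23.LeftInvLoc2
import Groth.Agent.Lib.Helper23.JacobianLoc

/-!
EGA 0_IV 22.6.5: C = B/J (J/J² finite, B formally smooth over A) is formally smooth over A as soon as all C_m (m maximal) are.
lTensor_injective_iff_of_surjective, formallySmooth_of_forall_maximal.
-/

set_option autoImplicit false
universe u
open TensorProduct KaehlerDifferential
open Groth.Agent.Lib.Helper23.LeftInvLoc Groth.Agent.Lib.Helper23.JacobianLoc

namespace Groth.Agent.Lib.Helper23.JacobianLoc


section Surj

variable {B C : Type u} [CommRing B] [CommRing C] [Algebra B C]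

/-- tensoring over a quotient or over the base. -/
theorem lTensor_injective_iff_of_surjective (hsurj : Function.Surjective (algebraMap B C))
    (κ : Type u) [AddCommGroup κ] [Module B κ] [Module C κ] [IsScalarTower B C κ]
    {X Y : Type u} [AddCommGroup X] [AddCommGroup Y]
    [Module B X] [Module C X] [IsScalarTower B C X] [Module B Y] [Module C Y] [IsScalarTower B C Y]
    (u : X →ₗ[C] Y) :
    Function.Injective ((u.restrictScalars B).lTensor κ) ↔ Function.Injective (u.lTensor κ) := by
  haveI := TensorProduct.CompatibleSMul.of_algebraMap_surjective κ X hsurj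
  haveI := TensorProduct.CompatibleSMul.of_algebraMap_surjective κ Y hsurj
  let eX : κ ⊗[C] X ≃ₗ[B] κ ⊗[B] X := TensorProduct.equivOfCompatibleSMul B C B κ X
  let eY : κ ⊗[C] Y ≃ₗ[B] κ ⊗[B] Y := TensorProduct.equivOfCompatibleSMul B C B κ Y
  have hsq : ∀ z, eY ((u.lTensor κ) z) = ((u.restrictScalars B).lTensor κ) (eX z) := by
    intro z
    induction z using TensorProduct.induction_on with
    | zero => simp
    | tmul c x => rfl
    | add a b ha hb => rw [map_add, map_add, ha, hb, map_add, map_add]
  constructor
  · intro hinj x y hxy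
    apply eX.injective
    apply hinj
    rw [← hsq, ← hsq, hxy]
  · intro hinj x y hxy
    obtain ⟨x', rfl⟩ := eX.surjective x
    obtain ⟨y', rfl⟩ := eX.surjective y
    rw [← hsq, ← hsq] at hxy
    rw [hinj (eY.injective hxy)]

end Surj

section Main

variable {A B C : Type u} [CommRing A] [CommRing B] [CommRing C] [Algebra A B] [Algebra B C]
  [Algebra A C] [IsScalarTower A B C]

/-- EGA 0_IV 22.6.5 (⇐). -/
theorem formallySmooth_of_forall_maximal [Algebra.FormallySmooth A B]
    (hsurj : Function.Surjective (algebraMap B C))
    [Module.Finite B (RingHom.ker (algebraMap B C)).Cotangent]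
    (h : ∀ (m : Ideal C) [m.IsMaximal], Algebra.FormallySmooth A (Localization.AtPrime m)) :
    Algebra.FormallySmooth A C := by
  rw [Algebra.FormallySmooth.iff_split_injection hsurj]
  -- the `C`-module structure on the conormal module
  let e : (B ⧸ RingHom.ker (algebraMap B C)) ≃ₐ[B] C :=
    Ideal.quotientKerAlgEquivOfSurjective (f := Algebra.ofId B C) hsurj
  letI : Module C (RingHom.ker (algebraMap B C)).Cotangent :=
    Module.compHom _ (e.symm : C →+* B ⧸ RingHom.ker (algebraMap B C))
  haveI : IsScalarTower B C (RingHom.ker (algebraMap B C)).Cotangent := by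
    refine IsScalarTower.of_algebraMap_smul (fun b x => ?_)
    show (e.symm (algebraMap B C b)) • x = b • x
    rw [e.symm.commutes, Ideal.Quotient.algebraMap_eq, ← Ideal.Quotient.algebraMap_eq,
      algebraMap_smul]
  haveI : Module.Finite C (RingHom.ker (algebraMap B C)).Cotangent :=
    Module.Finite.of_restrictScalars_finite B C _
  let φ : (RingHom.ker (algebraMap B C)).Cotangent →ₗ[C] C ⊗[B] Ω[B⁄A] :=
    LinearMap.extendScalarsOfSurjective hsurj (kerCotangentToTensor A B C)
  have hφ : φ.restrictScalars B = kerCotangentToTensor A B C := by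
    ext x; rfl
  have key : ∃ w : C ⊗[B] Ω[B⁄A] →ₗ[C] (RingHom.ker (algebraMap B C)).Cotangent,
      w ∘ₗ φ = LinearMap.id := by
    rw [leftInverse_iff_forall_maximal]
    intro m hm
    rw [locLeftInv_iff_lTensor_injective,
      ← lTensor_injective_iff_of_surjective hsurj m.ResidueField φ, hφ]
    haveI := h m
    exact (formallySmooth_atPrime_iff (A := A) hsurj m).mp inferInstance
  obtain ⟨w, hw⟩ := key
  refine ⟨w.restrictScalars B, ?_⟩
  ext x
  exact LinearMap.congr_fun hw x

end Main

end Groth.Agent.Lib.Helper23.JacobianLoc
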