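import Mathlib
import Groth.Agent.S12136
import Groth.Agent.Lib.Helper23.JacobianLoc2
import Groth.Agent.Lib.Helper23.FieldSep

/-!
Adic vs discrete formal smoothness for quotients of Noetherian local formally smooth algebras (EGA 0_IV 22.6.6).
isAdicFormallySmooth_of_localization_base (the base may be replaced by the ring it is a localization of),
formallySmooth_of_isAdicFormallySmooth (P Noetherian local formally smooth over A, P → Q surjective local: adic f.s. ⇒ f.s.; uses S12136).
-/

set_option autoImplicit false
universe u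
open TensorProduct KaehlerDifferential IsLocalRing
open Groth.Agent.Lib.Helper23.JacobianLoc

namespace Groth.Agent.Lib.Helper23.JacobianAdic


section T1

variable {A Rm S : Type u} [CommRing A] [CommRing Rm] [CommRing S] [Algebra A Rm] [Algebra A S]
  [Algebra Rm S] [IsScalarTower A Rm S] (M : Submonoid A) [IsLocalization M Rm]

include M in
/-- adic formal smoothness over a localization of the base implies it over the base. -/
theorem isAdicFormallySmooth_of_localization_base (𝔫 : Ideal S)
    (h : CAlgX.IsAdicFormallySmooth Rm S 𝔫) : CAlgX.IsAdicFormallySmooth A S 𝔫 := by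
  intro T _ _ J' hJ' ψ hk
  have hunits : ∀ s : M, IsUnit (algebraMap A T s) := by
    intro s
    apply (IsNilpotent.isUnit_quotient_mk_iff ⟨2, hJ'⟩).mp
    have h1 : IsUnit (ψ (algebraMap A S s)) := by
      rw [IsScalarTower.algebraMap_apply A Rm S]
      exact ((IsLocalization.map_units Rm s).map (algebraMap Rm S)).map ψ
    rw [ψ.commutes] at h1
    exact h1
  letI : Algebra Rm T := (IsLocalization.lift hunits).toAlgebra
  haveI : IsScalarTower A Rm T :=
    IsScalarTower.of_algebraMap_eq (fun a => (IsLocalization.lift_eq hunits a).symm)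
  let ψ' : S →ₐ[Rm] T ⧸ J' :=
    { ψ.toRingHom with
      commutes' := by
        intro r
        have : (ψ.toRingHom.comp (algebraMap Rm S)) = algebraMap Rm (T ⧸ J') := by
          apply IsLocalization.ringHom_ext M
          ext a
          simp only [RingHom.comp_apply]
          rw [← IsScalarTower.algebraMap_apply A Rm S, ← IsScalarTower.algebraMap_apply A Rm (T ⧸ J')]
          exact ψ.commutes a
        exact congrArg (fun f : Rm →+* T ⧸ J' => f r) this }
  obtain ⟨χ', hχ'⟩ := h T J' hJ' ψ' hk
  refine ⟨χ'.restrictScalars A, ?_⟩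
  ext x
  exact congrArg (fun f : S →ₐ[Rm] T ⧸ J' => f x) hχ'

end T1



section Main

local notation "KK" P Q => RingHom.ker (algebraMap P Q)

variable {A P Q : Type u} [CommRing A] [CommRing P] [CommRing Q] [Algebra A P] [Algebra P Q]
  [Algebra A Q] [IsScalarTower A P Q]

/-- for a quotient of a Noetherian local formally smooth algebra, adic formal smoothness implies
formal smoothness. -/
theorem formallySmooth_of_isAdicFormallySmooth [IsLocalRing P] [IsNoetherianRing P]
    [IsLocalRing Q] [Algebra.FormallySmooth A P] (hf : Function.Surjective (algebraMap P Q))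
    (h : CAlgX.IsAdicFormallySmooth A Q (maximalIdeal Q)) : Algebra.FormallySmooth A Q := by
  -- the model P ⧸ J
  let e : (P ⧸ RingHom.ker (algebraMap P Q)) ≃ₐ[A] Q :=
    (Ideal.quotientKerAlgEquivOfSurjective (f := Algebra.ofId P Q) hf).restrictScalars A
  have he : ∀ z : P, e (Ideal.Quotient.mk _ z) = algebraMap P Q z := fun z => rfl
  have hK : RingHom.ker (algebraMap P Q) ≤ maximalIdeal P := by
    intro z hz
    by_contra hz'
    have hu : IsUnit z := by
      by_contra hu
      exact hz' ((IsLocalRing.mem_maximalIdeal z).mpr hu)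
    have := hu.map (algebraMap P Q)
    rw [RingHom.mem_ker.mp hz] at this
    exact not_isUnit_zero this
  let J : Ideal P := RingHom.ker (algebraMap P Q)
  let Q₀ : Ideal (P ⧸ J) := (maximalIdeal P).map (Ideal.Quotient.mk J)
  -- adic smoothness of the model
  have h1 : CAlgX.IsAdicFormallySmooth A (P ⧸ J) Q₀ := by
    intro T _ _ J' hJ' ψ hk
    obtain ⟨k, hk⟩ := hk
    obtain ⟨χ, hχ⟩ := h T J' hJ' (ψ.comp e.symm.toAlgHom) ⟨k, fun x hx => by
      show ψ (e.symm x) = 0
      apply hk
      have h2 : Ideal.map e.symm.toAlgHom (maximalIdeal Q ^ k) ≤ Q₀ ^ k := by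
        rw [Ideal.map_pow]
        apply Ideal.pow_right_mono
        rw [Ideal.map_le_iff_le_comap]
        intro y hy
        obtain ⟨z, rfl⟩ := hf y
        have hz : z ∈ maximalIdeal P := by
          by_contra hz
          have hu : IsUnit z := by
            by_contra hu
            exact hz ((IsLocalRing.mem_maximalIdeal z).mpr hu)
          exact ((IsLocalRing.mem_maximalIdeal _).mp hy) (hu.map (algebraMap P Q))
        show e.symm (algebraMap P Q z) ∈ Q₀
        rw [← he z, AlgEquiv.symm_apply_apply]
        exact Ideal.mem_map_of_mem _ hz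
      exact h2 (Ideal.mem_map_of_mem _ hx)⟩
    refine ⟨χ.comp e.toAlgHom, ?_⟩
    ext x
    have := congrArg (fun f : Q →ₐ[A] T ⧸ J' => f (e x)) hχ
    simpa using this
  -- apply S12136
  have hB : CAlgX.IsAdicFormallySmooth A P (maximalIdeal P) :=
    Groth.Agent.Lib.Helper23.FieldSep.adic_of_formallySmooth A P _
  obtain ⟨g, hg⟩ := (Groth.Agent.S12136.result (maximalIdeal P) J hB Q₀ ⟨1, by rw [pow_one]⟩
    ⟨1, by rw [pow_one]⟩).mp h1
  -- the residue field
  have hQ₀max : Q₀.IsMaximal := by
    have hsurj : Function.Surjective (Ideal.Quotient.mk J) := Ideal.Quotient.mk_surjective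
    rcases Ideal.map_eq_top_or_isMaximal_of_surjective (Ideal.Quotient.mk J) hsurj
      (IsLocalRing.maximalIdeal.isMaximal P) with h | h
    · exfalso
      have h3 : (maximalIdeal P).map (Ideal.Quotient.mk J) = ⊤ := h
      have h4 := congrArg (Ideal.comap (Ideal.Quotient.mk J)) h3
      rw [Ideal.comap_map_of_surjective _ hsurj, Ideal.comap_top, ← RingHom.ker_eq_comap_bot,
        Ideal.mk_ker, sup_eq_left.mpr hK] at h4
      exact (IsLocalRing.maximalIdeal.isMaximal P).ne_top h4
    · exact h
  letI : Field ((P ⧸ J) ⧸ Q₀) := Ideal.Quotient.field Q₀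
  have hκ : Function.Surjective (algebraMap P ((P ⧸ J) ⧸ Q₀)) := by
    intro y
    obtain ⟨y', rfl⟩ := Ideal.Quotient.mk_surjective y
    obtain ⟨z, rfl⟩ := Ideal.Quotient.mk_surjective y'
    exact ⟨z, rfl⟩
  have hinj : Function.Injective
      ((kerCotangentToTensor A P (P ⧸ J)).lTensor ((P ⧸ J) ⧸ Q₀)) := by
    have : Function.Injective
        (LinearMap.baseChange ((P ⧸ J) ⧸ Q₀) (kerCotangentToTensor A P (P ⧸ J))) :=
      Function.HasLeftInverse.injective ⟨g, LinearMap.congr_fun hg⟩
    exact this
  haveI : Module.Finite P (RingHom.ker (algebraMap P (P ⧸ J))).Cotangent :=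
    Module.Finite.of_surjective (RingHom.ker (algebraMap P (P ⧸ J))).toCotangent
      (Ideal.toCotangent_surjective _)
  haveI : Algebra.FormallySmooth A (P ⧸ J) :=
    (formallySmooth_iff_injective_of_field (R := A) (P := P) (A := P ⧸ J)
      Ideal.Quotient.mk_surjective ((P ⧸ J) ⧸ Q₀) hκ).mpr hinj
  exact Algebra.FormallySmooth.of_equiv e

end Main

end Groth.Agent.Lib.Helper23.JacobianAdic
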