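import Mathlib
import Groth.Agent.Lib.Helper23.JacobianLoc
import Groth.Agent.Lib.Helper23.JacobianAdic
import Groth.Agent.Lib.Helper23.FieldSep
import Groth.Agent.Lib.Helper23.GeomRegular
import Groth.Agent.S4577
import Groth.Agent.Lib.Helper16.RegularRingFacts

/-!
# EGA 0_IV 22.6.5-22.6.7: finite type algebras over a separable extension k of k₀

formallySmooth_atPrime_iff_adic, tfae_atPrime (S4578), isRegularLocalRing_atPrime_of_localization,
geomRegular_atPrime, geomRegular_of_atPrime, tfae_global (S4579).
-/

set_option autoImplicit false
universe u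
open IsLocalRing TensorProduct

namespace Groth.Agent.Lib.Helper23.SmoothField


open Groth.Agent.Lib.Helper23

section Gen

variable {A B C : Type u} [CommRing A] [CommRing B] [CommRing C] [Algebra A B] [Algebra B C]
  [Algebra A C] [IsScalarTower A B C] [IsNoetherianRing B] [Algebra.FormallySmooth A B]

/-- for a localization of a quotient of a Noetherian formally smooth algebra, discrete and adic
formal smoothness agree. -/
theorem formallySmooth_atPrime_iff_adic (hsurj : Function.Surjective (algebraMap B C))
    (p : Ideal C) [p.IsPrime] :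
    Algebra.FormallySmooth A (Localization.AtPrime p) ↔
      CAlgX.IsAdicFormallySmooth A (Localization.AtPrime p)
        (maximalIdeal (Localization.AtPrime p)) := by
  constructor
  · intro h
    exact FieldSep.adic_of_formallySmooth _ _ _
  · intro h1
    letI := Localization.AtPrime.algebraOfLiesOver (p.under B) p
    haveI : IsLocalization (Algebra.algebraMapSubmonoid C (p.under B).primeCompl)
        (Localization.AtPrime p) := by
      rw [JacobianLoc.algebraMapSubmonoid_primeCompl hsurj p]
      infer_instance
    haveI : Algebra.FormallySmooth B (Localization.AtPrime (p.under B)) :=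
      Algebra.FormallySmooth.of_isLocalization (p.under B).primeCompl
    haveI : Algebra.FormallySmooth A (Localization.AtPrime (p.under B)) :=
      Algebra.FormallySmooth.comp A B _
    haveI : IsNoetherianRing (Localization.AtPrime (p.under B)) :=
      IsLocalization.isNoetherianRing (p.under B).primeCompl _ inferInstance
    have hf : Function.Surjective
        (algebraMap (Localization.AtPrime (p.under B)) (Localization.AtPrime p)) :=
      JacobianLoc.algebraMap_surjective (p.under B).primeCompl hsurj
    exact JacobianAdic.formallySmooth_of_isAdicFormallySmooth (A := A) hf h1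

end Gen

section Field

variable {k₀ k C : Type u} [Field k₀] [Field k] [Algebra k₀ k]
    [Algebra.FormallySmooth k₀ k] [CommRing C] [Algebra k C] [Algebra k₀ C] [IsScalarTower k₀ k C]
    [Algebra.FiniteType k C]

include k in
theorem tfae_atPrime (p : Ideal C) [p.IsPrime] :
    [Algebra.FormallySmooth k₀ (Localization.AtPrime p),
     CAlgX.IsAdicFormallySmooth k₀ (Localization.AtPrime p) (maximalIdeal (Localization.AtPrime p)),
     ∃ f : C, f ∉ p ∧ Algebra.FormallySmooth k₀ (Localization.Away f),
     CAlg.IsGeometricallyRegular k₀ (Localization.AtPrime p)].TFAE := by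
  obtain ⟨r, f, hf⟩ := Algebra.FiniteType.iff_quotient_mvPolynomial''.mp
    (inferInstance : Algebra.FiniteType k C)
  letI : Algebra (MvPolynomial (Fin r) k) C := f.toRingHom.toAlgebra
  haveI : IsScalarTower k (MvPolynomial (Fin r) k) C :=
    IsScalarTower.of_algebraMap_eq (fun x => (f.commutes x).symm)
  haveI : IsScalarTower k₀ (MvPolynomial (Fin r) k) C :=
    IsScalarTower.of_algebraMap_eq (fun x => by
      rw [IsScalarTower.algebraMap_apply k₀ k C, IsScalarTower.algebraMap_apply k₀ k
        (MvPolynomial (Fin r) k), ← IsScalarTower.algebraMap_apply k (MvPolynomial (Fin r) k) C])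
  haveI : Algebra.FormallySmooth k₀ (MvPolynomial (Fin r) k) :=
    Algebra.FormallySmooth.comp k₀ k _
  have hsurj : Function.Surjective (algebraMap (MvPolynomial (Fin r) k) C) := hf
  haveI : Module.Finite (MvPolynomial (Fin r) k)
      (RingHom.ker (algebraMap (MvPolynomial (Fin r) k) C)).Cotangent :=
    Module.Finite.of_surjective (RingHom.ker (algebraMap (MvPolynomial (Fin r) k) C)).toCotangent
      (Ideal.toCotangent_surjective _)
  haveI : IsNoetherianRing C := isNoetherianRing_of_surjective _ _ _ hsurj
  haveI : IsNoetherianRing (Localization.AtPrime p) :=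
    IsLocalization.isNoetherianRing p.primeCompl _ inferInstance
  tfae_have 1 ↔ 2 := formallySmooth_atPrime_iff_adic (A := k₀) hsurj p
  tfae_have 1 → 3 := fun h => by
    haveI := h
    exact JacobianLoc.exists_formallySmooth_away (A := k₀) hsurj p
  tfae_have 3 → 1 := fun ⟨g, hg, h⟩ => by
    haveI := h
    exact JacobianLoc.formallySmooth_atPrime_of_away (A := k₀) p g hg
  tfae_have 4 ↔ 2 := GeomRegular.geomRegular_iff_adic
  tfae_finish

end Field



open Groth.Agent.Lib.Helper23

section LocReg

/-- if a localization of `R` is a regular ring, `R` is regular at the primes disjoint from the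
multiplicative set. -/
theorem isRegularLocalRing_atPrime_of_localization {R : Type u} [CommRing R] (M : Submonoid R)
    [IsRegularRing (Localization M)] (P : Ideal R) [hP : P.IsPrime]
    (hdisj : Disjoint (M : Set R) (P : Set R)) :
    IsRegularLocalRing (Localization.AtPrime P) := by
  haveI hp' : (P.map (algebraMap R (Localization M))).IsPrime :=
    IsLocalization.isPrime_of_isPrime_disjoint M _ P hP hdisj
  have hcomap : (P.map (algebraMap R (Localization M))).comap
      (algebraMap R (Localization M)) = P :=
    IsLocalization.comap_map_of_isPrime_disjoint M _ hP hdisj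
  have e := IsLocalization.localizationLocalizationAtPrimeIsoLocalization M
    (P.map (algebraMap R (Localization M)))
  have h4 : IsRegularLocalRing (Localization.AtPrime
      ((P.map (algebraMap R (Localization M))).comap
        (algebraMap R (Localization M)))) :=
    IsRegularLocalRing.of_ringEquiv e.symm.toRingEquiv
  have key : ∀ (Q : Ideal R) [Q.IsPrime], Q = (P.map (algebraMap R (Localization M))).comap
      (algebraMap R (Localization M)) → IsRegularLocalRing (Localization.AtPrime Q) := by
    intro Q _ hQ
    subst hQ
    exact h4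
  exact key P hcomap.symm

end LocReg

section Field

variable {k₀ k C : Type u} [Field k₀] [Field k] [Algebra k₀ k]
    [Algebra.FormallySmooth k₀ k] [CommRing C] [Algebra k C] [Algebra k₀ C] [IsScalarTower k₀ k C]
    [Algebra.FiniteType k C]

include k in
theorem isNoetherianRing_of_finiteType : IsNoetherianRing C :=
  Algebra.FiniteType.isNoetherianRing k C

/-- geometric regularity passes to localizations at primes. -/
theorem geomRegular_atPrime {k₀ C : Type u} [Field k₀] [CommRing C] [Algebra k₀ C]
    (h : CAlg.IsGeometricallyRegular k₀ C) (p : Ideal C) [p.IsPrime] :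
    CAlg.IsGeometricallyRegular k₀ (Localization.AtPrime p) := by
  intro k' _ _ hfin
  haveI := h k' hfin
  have h2 : IsRegularRing (Localization (p.primeCompl.map
      (Algebra.TensorProduct.includeRight (R := k₀) (A := k') (B := C)))) :=
    Groth.Agent.Lib.Helper16.PDR.isRegularRing_localization (k' ⊗[k₀] C) _
  let e := IsLocalization.tensorProductEquivOfMapIncludeRight k₀ k' p.primeCompl
    (Localization.AtPrime p) (Localization (p.primeCompl.map
      (Algebra.TensorProduct.includeRight (R := k₀) (A := k') (B := C))))
  exact IsRegularRing.of_ringEquiv e.symm.toRingEquiv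

/-- geometric regularity can be checked on localizations at primes. -/
theorem geomRegular_of_atPrime {k₀ C : Type u} [Field k₀] [CommRing C] [Algebra k₀ C]
    [IsNoetherianRing C]
    (h : ∀ (p : Ideal C) [p.IsPrime], CAlg.IsGeometricallyRegular k₀ (Localization.AtPrime p)) :
    CAlg.IsGeometricallyRegular k₀ C := by
  intro k' _ _ hfin
  haveI : IsNoetherianRing (C ⊗[k₀] k') := IsNoetherianRing.of_finite C _
  haveI : IsNoetherianRing (k' ⊗[k₀] C) :=
    isNoetherianRing_of_ringEquiv _ (Algebra.TensorProduct.comm k₀ C k').toRingEquiv
  rw [isRegularRing_iff]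
  intro P hP
  let φ : C →+* k' ⊗[k₀] C :=
    ((Algebra.TensorProduct.includeRight : C →ₐ[k₀] k' ⊗[k₀] C) : C →+* k' ⊗[k₀] C)
  haveI : (P.comap φ).IsPrime := Ideal.comap_isPrime φ P
  have h1 := h (P.comap φ) k' hfin
  let e := IsLocalization.tensorProductEquivOfMapIncludeRight k₀ k' (P.comap φ).primeCompl
    (Localization.AtPrime (P.comap φ)) (Localization ((P.comap φ).primeCompl.map
      (Algebra.TensorProduct.includeRight (R := k₀) (A := k') (B := C))))
  haveI : IsRegularRing (Localization ((P.comap φ).primeCompl.map
      (Algebra.TensorProduct.includeRight (R := k₀) (A := k') (B := C)))) :=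
    IsRegularRing.of_ringEquiv e.toRingEquiv
  apply isRegularLocalRing_atPrime_of_localization ((P.comap φ).primeCompl.map
      (Algebra.TensorProduct.includeRight (R := k₀) (A := k') (B := C))) P
  rw [Set.disjoint_left]
  rintro x ⟨c, hc, rfl⟩ hxP
  exact hc hxP

end Field



open Groth.Agent.Lib.Helper23

section Field

variable {k₀ k C : Type u} [Field k₀] [Field k] [Algebra k₀ k]
    [Algebra.FormallySmooth k₀ k] [CommRing C] [Algebra k C] [Algebra k₀ C] [IsScalarTower k₀ k C]
    [Algebra.FiniteType k C]

include k in
theorem tfae_global :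
    [Algebra.FormallySmooth k₀ C,
     ∀ (p : Ideal C) [p.IsPrime], Algebra.FormallySmooth k₀ (Localization.AtPrime p),
     ∀ (m : Ideal C) [m.IsMaximal], Algebra.FormallySmooth k₀ (Localization.AtPrime m),
     CAlg.IsGeometricallyRegular k₀ C].TFAE := by
  obtain ⟨r, f, hf⟩ := Algebra.FiniteType.iff_quotient_mvPolynomial''.mp
    (inferInstance : Algebra.FiniteType k C)
  letI : Algebra (MvPolynomial (Fin r) k) C := f.toRingHom.toAlgebra
  haveI : IsScalarTower k (MvPolynomial (Fin r) k) C :=
    IsScalarTower.of_algebraMap_eq (fun x => (f.commutes x).symm)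
  haveI : IsScalarTower k₀ (MvPolynomial (Fin r) k) C :=
    IsScalarTower.of_algebraMap_eq (fun x => by
      rw [IsScalarTower.algebraMap_apply k₀ k C, IsScalarTower.algebraMap_apply k₀ k
        (MvPolynomial (Fin r) k), ← IsScalarTower.algebraMap_apply k (MvPolynomial (Fin r) k) C])
  haveI : Algebra.FormallySmooth k₀ (MvPolynomial (Fin r) k) :=
    Algebra.FormallySmooth.comp k₀ k _
  have hsurj : Function.Surjective (algebraMap (MvPolynomial (Fin r) k) C) := hf
  haveI : Module.Finite (MvPolynomial (Fin r) k)
      (RingHom.ker (algebraMap (MvPolynomial (Fin r) k) C)).Cotangent :=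
    Module.Finite.of_surjective (RingHom.ker (algebraMap (MvPolynomial (Fin r) k) C)).toCotangent
      (Ideal.toCotangent_surjective _)
  haveI : IsNoetherianRing C := isNoetherianRing_of_surjective _ _ _ hsurj
  tfae_have 1 ↔ 3 := Groth.Agent.S4577.result (A := k₀) (B := MvPolynomial (Fin r) k) hsurj
  tfae_have 1 → 2 := fun h p _ => by
    haveI := h
    haveI : Algebra.FormallySmooth C (Localization.AtPrime p) :=
      Algebra.FormallySmooth.of_isLocalization p.primeCompl
    exact Algebra.FormallySmooth.comp k₀ C _
  tfae_have 2 → 3 := fun h m _ => h m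
  tfae_have 2 → 4 := fun h => by
    apply geomRegular_of_atPrime
    intro p _
    exact ((tfae_atPrime (k := k) (k₀ := k₀) p).out 0 3).mp (h p)
  tfae_have 4 → 2 := fun h p _ =>
    ((tfae_atPrime (k := k) (k₀ := k₀) p).out 3 0).mp (geomRegular_atPrime h p)
  tfae_finish

end Field

end Groth.Agent.Lib.Helper23.SmoothField
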