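import Mathlib
import Groth.Agent.Lib.Helper23.GeomRegular
import Groth.Agent.Lib.Helper23.SmoothField
import Groth.Agent.Lib.Helper18.FlatLocal

/-!
Permanence of geometric regularity (EGA IV 6.7.4–6.7.7, 6.5.1–6.5.2 type statements) for CAlg.IsGeometricallyRegular.
adic_tensor_atPrime (S_p adic f.s./k ⇒ (K⊗S)_Q adic f.s./K for Q over p, K any comm k-algebra), isRegularLocalRing_of_adic,
isRegularRing_tensor_of_geomRegular (S geom regular, K any field ext with K⊗S Noetherian ⇒ K⊗S regular), isRegularRing_tensor_atPrime,
isNoetherianRing_tensor_of_essFiniteType, geomRegular_of_purelyInseparable, t2672main, isRegularRing_of_faithfullyFlat (descent),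
geomRegular_baseChange / geomRegular_of_baseChange (K ess. f.t. field), exists_prime_fibre, isRegularRing_of_flat_of_fibres
(S regular, S→R flat Noetherian, all fibre rings κ(p)⊗R regular ⇒ R regular), isRegularRing_tensor_of_finiteType, isRegularRing_tensor, geomRegular_tensor.
-/

set_option autoImplicit false
universe u
open IsLocalRing TensorProduct

namespace Groth.Agent.Lib.Helper23.GeomRegular2


open Groth.Agent.Lib.Helper23 Groth.Agent.Lib.Helper23.KeyLemma3 Groth.Agent.Lib.Helper23.GeomRegular

section Lift

variable {k S K : Type u} [CommRing k] [CommRing S] [Algebra k S] [CommRing K] [Algebra k K]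

/-- adic formal smoothness of `S_p` over `k` gives adic formal smoothness of `(K ⊗ S)_Q` over `K`
for every prime `Q` lying over `p`. -/
theorem adic_tensor_atPrime (Q : Ideal (K ⊗[k] S)) [Q.IsPrime] (p : Ideal S) [p.IsPrime]
    (hp : p = Q.comap ((Algebra.TensorProduct.includeRight : S →ₐ[k] K ⊗[k] S) : S →+* K ⊗[k] S))
    (h : CAlgX.IsAdicFormallySmooth k (Localization.AtPrime p)
      (maximalIdeal (Localization.AtPrime p))) :
    CAlgX.IsAdicFormallySmooth K (Localization.AtPrime Q)
      (maximalIdeal (Localization.AtPrime Q)) := by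
  intro C _ _ N hN ψ ⟨n, hn⟩
  letI : Algebra k C := ((algebraMap K C).comp (algebraMap k K)).toAlgebra
  haveI : IsScalarTower k K C := IsScalarTower.of_algebraMap_eq (fun _ => rfl)
  let φ : S →+* K ⊗[k] S :=
    ((Algebra.TensorProduct.includeRight : S →ₐ[k] K ⊗[k] S) : S →+* K ⊗[k] S)
  let ι : Localization.AtPrime p →+* Localization.AtPrime Q := Localization.localRingHom p Q φ hp
  have hι : ∀ s : S, ι (algebraMap S (Localization.AtPrime p) s) =
      algebraMap (K ⊗[k] S) (Localization.AtPrime Q) (φ s) :=
    fun s => Localization.localRingHom_to_map p Q φ hp s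
  haveI : IsLocalHom ι := Localization.isLocalHom_localRingHom p Q φ hp
  let ψ₀ : Localization.AtPrime p →ₐ[k] C ⧸ N :=
    { (ψ : Localization.AtPrime Q →+* C ⧸ N).comp ι with
      commutes' := by
        intro c
        show ψ (ι (algebraMap k (Localization.AtPrime p) c)) = _
        rw [IsScalarTower.algebraMap_apply k S (Localization.AtPrime p), hι]
        have h1 : φ (algebraMap k S c) = algebraMap K (K ⊗[k] S) (algebraMap k K c) := by
          show (1 : K) ⊗ₜ[k] (algebraMap k S c) = _
          rw [Algebra.TensorProduct.algebraMap_apply, Algebra.algebraMap_eq_smul_one c,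
            Algebra.algebraMap_eq_smul_one (A := K) c, TensorProduct.tmul_smul,
            Algebra.algebraMap_self, RingHom.id_apply, TensorProduct.smul_tmul']
        rw [h1, ← IsScalarTower.algebraMap_apply K (K ⊗[k] S) (Localization.AtPrime Q),
          ψ.commutes]
        rfl }
  have hψ₀ : ∀ x, ψ₀ x = ψ (ι x) := fun x => rfl
  obtain ⟨χ₀, hχ₀⟩ := h C N hN ψ₀ ⟨n, fun x hx => by
    rw [hψ₀]
    apply hn
    have h1 : (maximalIdeal (Localization.AtPrime p)).map ι ≤
        maximalIdeal (Localization.AtPrime Q) := by
      rw [Ideal.map_le_iff_le_comap]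
      intro y hy
      rw [Ideal.mem_comap, mem_maximalIdeal, mem_nonunits_iff]
      intro hu
      exact (mem_maximalIdeal y).mp hy (isUnit_of_map_unit ι y hu)
    have h2 := Ideal.mem_map_of_mem ι hx
    rw [Ideal.map_pow] at h2
    exact Ideal.pow_right_mono h1 n h2⟩
  have hχ₀' : ∀ x, Ideal.Quotient.mk N (χ₀ x) = ψ (ι x) := by
    intro x
    rw [← hψ₀, ← hχ₀]
    rfl
  let χ₁ : K ⊗[k] S →ₐ[K] C :=
    Algebra.TensorProduct.lift (Algebra.ofId K C)
      (χ₀.comp (IsScalarTower.toAlgHom k S (Localization.AtPrime p)))
      (fun _ _ => Commute.all _ _)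
  have hχ₁ : ∀ r : K ⊗[k] S, Ideal.Quotient.mk N (χ₁ r) =
      ψ (algebraMap (K ⊗[k] S) (Localization.AtPrime Q) r) := by
    intro r
    induction r using TensorProduct.induction_on with
    | zero => simp
    | add x y hx hy => rw [map_add, map_add, hx, hy, map_add, map_add]
    | tmul c s =>
      have h1 : χ₁ (c ⊗ₜ s) = algebraMap K C c * χ₀ (algebraMap S (Localization.AtPrime p) s) := by
        simp [χ₁, Algebra.ofId_apply]
      have h4 : (c ⊗ₜ[k] s : K ⊗[k] S) = c • φ s := by
        show _ = c • ((1 : K) ⊗ₜ[k] s)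
        rw [TensorProduct.smul_tmul', smul_eq_mul, mul_one]
      rw [h1, map_mul, hχ₀', hι, h4, Algebra.smul_def, map_mul, map_mul,
        ← IsScalarTower.algebraMap_apply K (K ⊗[k] S) (Localization.AtPrime Q), ψ.commutes]
      rfl
  have hunits : ∀ s : Q.primeCompl, IsUnit (χ₁ s) := by
    intro s
    apply (IsNilpotent.isUnit_quotient_mk_iff ⟨2, hN⟩).mp
    rw [hχ₁]
    exact (IsLocalization.map_units (Localization.AtPrime Q) s).map ψ
  refine ⟨IsLocalization.liftAlgHom (M := Q.primeCompl) (f := χ₁) hunits, ?_⟩
  apply AlgHom.coe_ringHom_injective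
  apply IsLocalization.ringHom_ext Q.primeCompl
  refine RingHom.ext (fun x => ?_)
  show Ideal.Quotient.mk N (IsLocalization.lift hunits
    (algebraMap (K ⊗[k] S) (Localization.AtPrime Q) x)) =
    ψ (algebraMap (K ⊗[k] S) (Localization.AtPrime Q) x)
  rw [IsLocalization.lift_eq]
  exact hχ₁ x

end Lift

section Reg

/-- a Noetherian local algebra over a field which is adic formally smooth is regular. -/
theorem isRegularLocalRing_of_adic {K R : Type u} [Field K] [CommRing R] [IsLocalRing R]
    [IsNoetherianRing R] [Algebra K R]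
    (h : CAlgX.IsAdicFormallySmooth K R (maximalIdeal R)) : IsRegularLocalRing R := by
  have h3 := (Groth.Agent.S4571.result (k := K) (A := R)).mp h
  exact SymGrRegular.isRegularLocalRing_of_symGrBijective _ h3.1

variable {k S : Type u} [Field k] [CommRing S] [Algebra k S] [IsNoetherianRing S]

/-- a geometrically regular Noetherian algebra stays regular after any field extension for which
the base change is Noetherian. -/
theorem isRegularRing_tensor_of_geomRegular (h : CAlg.IsGeometricallyRegular k S)
    (K : Type u) [Field K] [Algebra k K] [IsNoetherianRing (K ⊗[k] S)] :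
    IsRegularRing (K ⊗[k] S) := by
  rw [isRegularRing_iff]
  intro Q hQ
  let φ : S →+* K ⊗[k] S :=
    ((Algebra.TensorProduct.includeRight : S →ₐ[k] K ⊗[k] S) : S →+* K ⊗[k] S)
  haveI : (Q.comap φ).IsPrime := Ideal.comap_isPrime φ Q
  haveI : IsNoetherianRing (Localization.AtPrime (Q.comap φ)) :=
    IsLocalization.isNoetherianRing (Q.comap φ).primeCompl _ inferInstance
  haveI : IsNoetherianRing (Localization.AtPrime Q) :=
    IsLocalization.isNoetherianRing Q.primeCompl _ inferInstance
  have h1 := SmoothField.geomRegular_atPrime h (Q.comap φ)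
  have h2 := geomRegular_iff_adic.mp h1
  exact isRegularLocalRing_of_adic (adic_tensor_atPrime Q (Q.comap φ) rfl h2)

end Reg



open Groth.Agent.Lib.Helper23 Groth.Agent.Lib.Helper23.KeyLemma3 Groth.Agent.Lib.Helper23.GeomRegular

section Loc

/-- regularity of `K ⊗ C` passes to `K ⊗ C_p`. -/
theorem isRegularRing_tensor_atPrime {k₀ C : Type u} [CommRing k₀] [CommRing C] [Algebra k₀ C]
    (K : Type u) [CommRing K] [Algebra k₀ K]
    (h : IsRegularRing (K ⊗[k₀] C)) (p : Ideal C) [p.IsPrime] :
    IsRegularRing (K ⊗[k₀] Localization.AtPrime p) := by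
  have h2 : IsRegularRing (Localization (p.primeCompl.map
      (Algebra.TensorProduct.includeRight (R := k₀) (A := K) (B := C)))) :=
    Groth.Agent.Lib.Helper16.PDR.isRegularRing_localization (K ⊗[k₀] C) _
  let e := IsLocalization.tensorProductEquivOfMapIncludeRight k₀ K p.primeCompl
    (Localization.AtPrime p) (Localization (p.primeCompl.map
      (Algebra.TensorProduct.includeRight (R := k₀) (A := K) (B := C))))
  exact IsRegularRing.of_ringEquiv e.symm.toRingEquiv

theorem isNoetherianRing_tensor_of_essFiniteType {k S : Type u} [CommRing k] [CommRing S]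
    [Algebra k S] [IsNoetherianRing S] (K : Type u) [CommRing K] [Algebra k K]
    [Algebra.EssFiniteType k K] : IsNoetherianRing (K ⊗[k] S) := by
  haveI : IsNoetherianRing (S ⊗[k] K) := Algebra.EssFiniteType.isNoetherianRing S (S ⊗[k] K)
  exact isNoetherianRing_of_ringEquiv _ (Algebra.TensorProduct.comm k S K).toRingEquiv

end Loc

section Main

variable (k S : Type u) [Field k] [CommRing S] [Algebra k S] [IsNoetherianRing S]

theorem geomRegular_of_purelyInseparable
    (h : ∀ (k' : Type u) [Field k'] [Algebra k k'], Module.Finite k k' → IsPurelyInseparable k k' →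
      IsRegularRing (k' ⊗[k] S)) : CAlg.IsGeometricallyRegular k S := by
  apply SmoothField.geomRegular_of_atPrime
  intro p _
  haveI : IsNoetherianRing (Localization.AtPrime p) :=
    IsLocalization.isNoetherianRing p.primeCompl _ inferInstance
  rw [geomRegular_iff_adic]
  obtain ⟨q, hq⟩ := ExpChar.exists k
  rw [Groth.Agent.S4573.result (k := k) (A := Localization.AtPrime p) q]
  intro k' _ _ hfin hpow
  have hpi : IsPurelyInseparable k k' := by
    rw [isPurelyInseparable_iff_pow_mem k q]
    intro x
    exact ⟨1, by rw [pow_one]; exact hpow x⟩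
  exact isRegularRing_tensor_atPrime k' (h k' hfin hpi) p

theorem t2672main :
    (CAlg.IsGeometricallyRegular k S ↔
        ∀ (k' : Type u) [Field k'] [Algebra k k'], Module.Finite k k' → IsPurelyInseparable k k' →
          IsRegularRing (k' ⊗[k] S)) ∧
      (CAlg.IsGeometricallyRegular k S ↔
        ∀ (K : Type u) [Field K] [Algebra k K], Algebra.EssFiniteType k K → IsRegularRing (K ⊗[k] S)) := by
  refine ⟨⟨fun h k' _ _ hfin _ => h k' hfin, geomRegular_of_purelyInseparable k S⟩, ?_, ?_⟩
  · intro h K _ _ hK
    haveI := isNoetherianRing_tensor_of_essFiniteType (k := k) (S := S) K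
    exact isRegularRing_tensor_of_geomRegular h K
  · intro h k' _ _ hfin
    exact h k' inferInstance

end Main



open Groth.Agent.Lib.Helper23 Groth.Agent.Lib.Helper23.KeyLemma3 Groth.Agent.Lib.Helper23.GeomRegular

section Descent

/-- regularity descends along faithfully flat ring maps. -/
theorem isRegularRing_of_faithfullyFlat (R R' : Type u) [CommRing R] [CommRing R'] [Algebra R R']
    [Module.FaithfullyFlat R R'] [IsNoetherianRing R] [hR' : IsRegularRing R'] :
    IsRegularRing R := by
  rw [isRegularRing_iff]
  intro P hP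
  obtain ⟨P', hP', hlo⟩ := Ideal.exists_isPrime_liesOver_of_faithfullyFlat (B := R') P
  have hcomap : P = P'.comap (algebraMap R R') := hlo.over
  have hflat := RingHom.Flat.localRingHom (f := algebraMap R R')
    (RingHom.flat_algebraMap_iff.mpr inferInstance) P' P hcomap
  letI := (Localization.localRingHom P P' (algebraMap R R') hcomap).toAlgebra
  haveI : Module.Flat (Localization.AtPrime P) (Localization.AtPrime P') := hflat
  haveI : IsLocalHom (algebraMap (Localization.AtPrime P) (Localization.AtPrime P')) :=
    Localization.isLocalHom_localRingHom P P' (algebraMap R R') hcomap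
  haveI : IsRegularLocalRing (Localization.AtPrime P') := isRegularRing_iff.mp hR' P'
  haveI : IsNoetherianRing (Localization.AtPrime P) :=
    IsLocalization.isNoetherianRing P.primeCompl _ inferInstance
  exact Groth.Agent.Lib.Helper18.SerreReg.isRegularLocalRing_of_flat_of_isLocalHom _
    (Localization.AtPrime P')

end Descent

section BC

variable (k S : Type u) [Field k] [CommRing S] [Algebra k S] [IsNoetherianRing S]
  (K : Type u) [Field K] [Algebra k K] [Algebra.EssFiniteType k K]

theorem geomRegular_baseChange (h : CAlg.IsGeometricallyRegular k S) :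
    CAlg.IsGeometricallyRegular K (K ⊗[k] S) := by
  intro K' _ _ hfin
  letI : Algebra k K' := ((algebraMap K K').comp (algebraMap k K)).toAlgebra
  haveI : IsScalarTower k K K' := IsScalarTower.of_algebraMap_eq (fun _ => rfl)
  haveI : Algebra.EssFiniteType k K' := Algebra.EssFiniteType.comp k K K'
  haveI := isNoetherianRing_tensor_of_essFiniteType (k := k) (S := S) K'
  have h1 := isRegularRing_tensor_of_geomRegular h K'
  let e := Algebra.TensorProduct.cancelBaseChange k K K K' S
  exact IsRegularRing.of_ringEquiv e.symm.toRingEquiv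

theorem geomRegular_of_baseChange (h : CAlg.IsGeometricallyRegular K (K ⊗[k] S)) :
    CAlg.IsGeometricallyRegular k S := by
  intro k' _ _ hfin
  haveI : Nontrivial (K ⊗[k] k') := nontrivial_tensor (k := k) K k'
  obtain ⟨M, hM⟩ := Ideal.exists_maximal (K ⊗[k] k')
  letI : Field ((K ⊗[k] k') ⧸ M) := Ideal.Quotient.field M
  let L := (K ⊗[k] k') ⧸ M
  letI : Algebra k' L := ((Ideal.Quotient.mk M).comp
    ((Algebra.TensorProduct.includeRight : k' →ₐ[k] K ⊗[k] k') : k' →+* K ⊗[k] k')).toAlgebra
  haveI : IsScalarTower k k' L := IsScalarTower.of_algebraMap_eq (fun c => by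
    show algebraMap k L c = Ideal.Quotient.mk M ((1 : K) ⊗ₜ[k] (algebraMap k k' c))
    rw [IsScalarTower.algebraMap_apply k (K ⊗[k] k') L, Ideal.Quotient.algebraMap_eq,
      Algebra.algebraMap_eq_smul_one c (A := k'), TensorProduct.tmul_smul,
      Algebra.algebraMap_eq_smul_one c (A := K ⊗[k] k')]
    rfl)
  haveI : Module.Finite K (K ⊗[k] k') := Module.Finite.base_change k K k'
  haveI : Module.Finite K L := Module.Finite.quotient K M
  have h1 : IsRegularRing (L ⊗[K] (K ⊗[k] S)) := h L inferInstance
  have h2 : IsRegularRing (L ⊗[k] S) :=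
    IsRegularRing.of_ringEquiv (Algebra.TensorProduct.cancelBaseChange k K K L S).toRingEquiv
  have h3 : IsRegularRing (L ⊗[k'] (k' ⊗[k] S)) :=
    IsRegularRing.of_ringEquiv (Algebra.TensorProduct.cancelBaseChange k k' k' L S).symm.toRingEquiv
  have h4 : IsRegularRing ((k' ⊗[k] S) ⊗[k'] L) :=
    IsRegularRing.of_ringEquiv (Algebra.TensorProduct.comm k' L (k' ⊗[k] S)).toRingEquiv
  haveI : IsNoetherianRing (S ⊗[k] k') := IsNoetherianRing.of_finite S _
  haveI : IsNoetherianRing (k' ⊗[k] S) :=
    isNoetherianRing_of_ringEquiv _ (Algebra.TensorProduct.comm k S k').toRingEquiv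
  exact isRegularRing_of_faithfullyFlat (k' ⊗[k] S) ((k' ⊗[k] S) ⊗[k'] L)

theorem t2674main :
    CAlg.IsGeometricallyRegular k S ↔ CAlg.IsGeometricallyRegular K (K ⊗[k] S) :=
  ⟨geomRegular_baseChange k S K, geomRegular_of_baseChange k S K⟩

end BC



open Groth.Agent.Lib.Helper23 Groth.Agent.Lib.Helper23.KeyLemma3 Groth.Agent.Lib.Helper23.GeomRegular

section Fibres

variable (S R : Type u) [CommRing S] [CommRing R] [Algebra S R]

/-- primes of `R` over `p` come from primes of the fibre ring. -/
theorem exists_prime_fibre (Q : Ideal R) [hQ : Q.IsPrime] (p : Ideal S) [p.IsPrime]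
    (hp : Q.comap (algebraMap S R) = p) :
    ∃ q : Ideal (p.Fiber R), ∃ _ : q.IsPrime,
      q.comap (Algebra.TensorProduct.includeRight : R →ₐ[S] p.Fiber R) = Q := by
  let P : PrimeSpectrum S := ⟨p, inferInstance⟩
  let Q' : (PrimeSpectrum.comap (algebraMap S R)) ⁻¹' {P} :=
    ⟨⟨Q, hQ⟩, by
      show PrimeSpectrum.comap (algebraMap S R) ⟨Q, hQ⟩ = P
      apply PrimeSpectrum.ext
      exact hp⟩
  let q := PrimeSpectrum.preimageEquivFiber S R P Q'
  refine ⟨q.asIdeal, q.isPrime, ?_⟩
  have h1 := (PrimeSpectrum.preimageEquivFiber S R P).left_inv Q'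
  have h2 : ((PrimeSpectrum.preimageEquivFiber S R P).symm q).1.asIdeal = Q :=
    congrArg (fun z : (PrimeSpectrum.comap (algebraMap S R)) ⁻¹' {P} => z.1.asIdeal) h1
  exact h2

end Fibres

section FlatFibres

variable (S R : Type u) [CommRing S] [CommRing R] [Algebra S R]
  [Module.Flat S R] [IsNoetherianRing R]

theorem isRegularRing_of_flat_of_fibres [hS : IsRegularRing S]
    (hfib : ∀ (p : Ideal S) [p.IsPrime], IsRegularRing (p.Fiber R)) : IsRegularRing R := by
  rw [isRegularRing_iff]
  intro Q hQ
  haveI hpprime : (Q.comap (algebraMap S R)).IsPrime := Ideal.comap_isPrime _ Q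
  obtain ⟨q, hq, hqQ⟩ := exists_prime_fibre S R Q (Q.comap (algebraMap S R)) rfl
  -- work with r = comap q
  have key : ∀ (p : Ideal S) [p.IsPrime] (q : Ideal (p.Fiber R)) [q.IsPrime]
      (Q0 : Ideal R) [Q0.IsPrime],
      Q0 = q.comap (Algebra.TensorProduct.includeRight : R →ₐ[S] p.Fiber R) →
      p = Q0.comap (algebraMap S R) →
      IsRegularLocalRing (Localization.AtPrime Q0) := by
    intro p _ q _ Q0 _ hQ0 hp
    subst hQ0
    have e := Ideal.Fiber.algEquivAux₂ p q
    haveI := hfib p
    haveI h1 : IsRegularLocalRing (Localization.AtPrime q) := isRegularRing_iff.mp (hfib p) q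
    set r := q.comap (Algebra.TensorProduct.includeRight : R →ₐ[S] p.Fiber R) with hr
    haveI h2 : IsRegularLocalRing (Localization.AtPrime r ⧸
        (p.map (algebraMap S R)).map (algebraMap R (Localization.AtPrime r))) :=
      IsRegularLocalRing.of_ringEquiv (R := Localization.AtPrime q) e.toRingEquiv
    have hflat := RingHom.Flat.localRingHom (f := algebraMap S R)
      (RingHom.flat_algebraMap_iff.mpr inferInstance) r p hp
    letI := (Localization.localRingHom p r (algebraMap S R) hp).toAlgebra
    haveI : Module.Flat (Localization.AtPrime p) (Localization.AtPrime r) := hflat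
    haveI : IsLocalHom (algebraMap (Localization.AtPrime p) (Localization.AtPrime r)) :=
      Localization.isLocalHom_localRingHom p r (algebraMap S R) hp
    haveI : IsRegularLocalRing (Localization.AtPrime p) := isRegularRing_iff.mp hS p
    haveI : IsNoetherianRing (Localization.AtPrime r) :=
      IsLocalization.isNoetherianRing r.primeCompl _ inferInstance
    have hideal : (maximalIdeal (Localization.AtPrime p)).map
        (algebraMap (Localization.AtPrime p) (Localization.AtPrime r)) =
        (p.map (algebraMap S R)).map (algebraMap R (Localization.AtPrime r)) := by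
      rw [← Localization.AtPrime.map_eq_maximalIdeal, Ideal.map_map, Ideal.map_map]
      congr 1
      ext s
      exact Localization.localRingHom_to_map p r (algebraMap S R) hp s
    haveI : IsRegularLocalRing (Localization.AtPrime r ⧸
        (maximalIdeal (Localization.AtPrime p)).map
          (algebraMap (Localization.AtPrime p) (Localization.AtPrime r))) :=
      IsRegularLocalRing.of_ringEquiv (Ideal.quotEquivOfEq hideal.symm)
    exact Groth.Agent.Lib.Helper18.FlatLocal.isRegularLocalRing_of_flat_of_fibre
      (Localization.AtPrime p) (Localization.AtPrime r)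
  exact key (Q.comap (algebraMap S R)) q Q hqQ.symm rfl

end FlatFibres



open Groth.Agent.Lib.Helper23 Groth.Agent.Lib.Helper23.KeyLemma3 Groth.Agent.Lib.Helper23.GeomRegular

section FT

/-- a finite type geometrically regular algebra stays regular after any field extension. -/
theorem isRegularRing_tensor_of_finiteType (k T : Type u) [Field k] [CommRing T] [Algebra k T]
    [Algebra.FiniteType k T] (h : CAlg.IsGeometricallyRegular k T) (K : Type u) [Field K]
    [Algebra k K] : IsRegularRing (K ⊗[k] T) := by
  haveI h1 : Algebra.FormallySmooth k T :=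
    ((SmoothField.tfae_global (k₀ := k) (k := k) (C := T)).out 0 3).mpr h
  have hfs : Algebra.FormallySmooth K (K ⊗[k] T) := inferInstance
  haveI : Algebra.FiniteType K (K ⊗[k] T) := inferInstance
  have h2 : CAlg.IsGeometricallyRegular K (K ⊗[k] T) :=
    ((SmoothField.tfae_global (k₀ := K) (k := K) (C := K ⊗[k] T)).out 0 3).mp hfs
  have h3 := h2 K inferInstance
  exact IsRegularRing.of_ringEquiv (Algebra.TensorProduct.lid K (K ⊗[k] T)).toRingEquiv

end FT

section Tensor

variable (k S T : Type u) [Field k] [CommRing S] [CommRing T] [Algebra k S] [Algebra k T]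
  [IsNoetherianRing S] [IsNoetherianRing T]

theorem isRegularRing_tensor (hft : Algebra.FiniteType k S ∨ Algebra.FiniteType k T)
    [IsNoetherianRing (S ⊗[k] T)] (hS : IsRegularRing S) (hT : CAlg.IsGeometricallyRegular k T) :
    IsRegularRing (S ⊗[k] T) := by
  apply isRegularRing_of_flat_of_fibres S (S ⊗[k] T)
  intro p _
  have hreg : IsRegularRing (p.ResidueField ⊗[k] T) := by
    rcases hft with hft | hft
    · haveI : Algebra.EssFiniteType k p.ResidueField := by
        haveI : Algebra.EssFiniteType k (Localization.AtPrime p) :=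
          Algebra.EssFiniteType.comp k S (Localization.AtPrime p)
        exact inferInstanceAs (Algebra.EssFiniteType k
          (Localization.AtPrime p ⧸ maximalIdeal (Localization.AtPrime p)))
      haveI := isNoetherianRing_tensor_of_essFiniteType (k := k) (S := T) p.ResidueField
      exact isRegularRing_tensor_of_geomRegular hT p.ResidueField
    · exact isRegularRing_tensor_of_finiteType k T hT p.ResidueField
  exact IsRegularRing.of_ringEquiv
    (Algebra.TensorProduct.cancelBaseChange k S S p.ResidueField T).symm.toRingEquiv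

theorem geomRegular_tensor (hft : Algebra.FiniteType k S ∨ Algebra.FiniteType k T)
    [IsNoetherianRing (S ⊗[k] T)] (hS : CAlg.IsGeometricallyRegular k S)
    (hT : CAlg.IsGeometricallyRegular k T) :
    CAlg.IsGeometricallyRegular k (S ⊗[k] T) := by
  intro k' _ _ hfin
  have e : (k' ⊗[k] S) ⊗[k] T ≃ₐ[k] k' ⊗[k] (S ⊗[k] T) := Algebra.TensorProduct.assoc k k k k' S T
  haveI : IsNoetherianRing ((S ⊗[k] T) ⊗[k] k') := IsNoetherianRing.of_finite (S ⊗[k] T) _
  haveI : IsNoetherianRing (k' ⊗[k] (S ⊗[k] T)) :=
    isNoetherianRing_of_ringEquiv _ (Algebra.TensorProduct.comm k (S ⊗[k] T) k').toRingEquiv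
  haveI : IsNoetherianRing ((k' ⊗[k] S) ⊗[k] T) :=
    isNoetherianRing_of_ringEquiv _ e.symm.toRingEquiv
  haveI : IsNoetherianRing (S ⊗[k] k') := IsNoetherianRing.of_finite S _
  haveI : IsNoetherianRing (k' ⊗[k] S) :=
    isNoetherianRing_of_ringEquiv _ (Algebra.TensorProduct.comm k S k').toRingEquiv
  have hft' : Algebra.FiniteType k (k' ⊗[k] S) ∨ Algebra.FiniteType k T := by
    rcases hft with hft | hft
    · left
      haveI : Algebra.FiniteType k' (k' ⊗[k] S) := inferInstance
      exact Algebra.FiniteType.trans (S := k') inferInstance inferInstance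
    · right; exact hft
  have h1 := isRegularRing_tensor k (k' ⊗[k] S) T hft' (hS k' hfin) hT
  exact IsRegularRing.of_ringEquiv e.toRingEquiv

theorem t2692main (hft : Algebra.FiniteType k S ∨ Algebra.FiniteType k T)
    [IsNoetherianRing (S ⊗[k] T)] :
    (IsRegularRing S → CAlg.IsGeometricallyRegular k T → IsRegularRing (S ⊗[k] T)) ∧
      (CAlg.IsGeometricallyRegular k S → CAlg.IsGeometricallyRegular k T →
        CAlg.IsGeometricallyRegular k (S ⊗[k] T)) :=
  ⟨isRegularRing_tensor k S T hft, geomRegular_tensor k S T hft⟩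

end Tensor

end Groth.Agent.Lib.Helper23.GeomRegular2
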