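import Mathlib
import Groth.Agent.Lib.Helper23.GeomRegular2

/-!
Regular ring maps (CAlg.IsRegularHom) and geometric regularity, part 1.
isRegularRing_of_geomRegular, smooth_fibre_iff (f.t. algebra over a field: formally smooth ⇔ geometrically regular), isRegularRing_of_isRegularHom (regular base + regular hom + Noetherian target ⇒ regular),
isRegularHom_of_smooth (smooth ⇒ regular hom), isRegularRing_of_smooth, geomRegular_of_smooth (ascent along smooth maps),
adic_of_formallyUnramified / adic_of_formallySmooth_base (change of base ring k → k' for CAlgX.IsAdicFormallySmooth), geomRegular_iff_of_isSeparable (k'/k separable algebraic).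
-/

set_option autoImplicit false
universe u
open IsLocalRing TensorProduct

namespace Groth.Agent.Lib.Helper23.RegularHom


open Groth.Agent.Lib.Helper23 Groth.Agent.Lib.Helper23.GeomRegular2

section Basic

/-- a geometrically regular algebra is regular. -/
theorem isRegularRing_of_geomRegular (K C : Type u) [Field K] [CommRing C] [Algebra K C]
    (h : CAlg.IsGeometricallyRegular K C) : IsRegularRing C := by
  have h3 := h K inferInstance
  exact IsRegularRing.of_ringEquiv (Algebra.TensorProduct.lid K C).toRingEquiv

theorem smooth_fibre_iff (K C : Type u) [Field K] [CommRing C] [Algebra K C]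
    [Algebra.FiniteType K C] :
    Algebra.FormallySmooth K C ↔ CAlg.IsGeometricallyRegular K C :=
  (SmoothField.tfae_global (k₀ := K) (k := K) (C := C)).out 0 3

/-- regular base + regular hom + Noetherian target gives a regular ring. -/
theorem isRegularRing_of_isRegularHom (R S : Type u) [CommRing R] [CommRing S] [Algebra R S]
    [IsRegularRing R] [IsNoetherianRing S] (h : CAlg.IsRegularHom R S) : IsRegularRing S := by
  haveI := h.1
  apply isRegularRing_of_flat_of_fibres R S
  intro p _
  exact isRegularRing_of_geomRegular _ _ (h.2 p).2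

/-- a smooth ring map is regular. -/
theorem isRegularHom_of_smooth (R S : Type u) [CommRing R] [CommRing S] [Algebra R S]
    [Algebra.Smooth R S] : CAlg.IsRegularHom R S := by
  refine ⟨inferInstance, fun p _ => ?_⟩
  haveI : Algebra.Smooth p.ResidueField (p.Fiber S) := inferInstance
  haveI : Algebra.FiniteType p.ResidueField (p.Fiber S) := inferInstance
  exact ⟨Algebra.FiniteType.isNoetherianRing p.ResidueField _,
    (smooth_fibre_iff _ _).mp inferInstance⟩

theorem isRegularRing_of_smooth (R S : Type u) [CommRing R] [CommRing S] [Algebra R S]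
    [IsRegularRing R] [Algebra.Smooth R S] : IsRegularRing S := by
  haveI : IsNoetherianRing S := Algebra.FiniteType.isNoetherianRing R S
  exact isRegularRing_of_isRegularHom R S (isRegularHom_of_smooth R S)

end Basic

section Ascent

theorem geomRegular_of_smooth (k : Type u) [Field k] (A : Type u) [CommRing A]
    [Algebra k A] [IsNoetherianRing A] (B : Type u) [CommRing B] [Algebra k B] [Algebra A B]
    [IsScalarTower k A B] [Algebra.Smooth A B] (hA : CAlg.IsGeometricallyRegular k A) :
    CAlg.IsGeometricallyRegular k B := by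
  intro k' _ _ hfin
  haveI := hA k' hfin
  haveI : IsRegularRing (A ⊗[k] k') :=
    IsRegularRing.of_ringEquiv (Algebra.TensorProduct.comm k k' A).toRingEquiv
  haveI : Algebra.Smooth (A ⊗[k] k') ((A ⊗[k] k') ⊗[A] B) := inferInstance
  have h1 : IsRegularRing ((A ⊗[k] k') ⊗[A] B) := isRegularRing_of_smooth (A ⊗[k] k') _
  have e1 : (A ⊗[k] k') ⊗[A] B ≃+* B ⊗[A] (A ⊗[k] k') :=
    (Algebra.TensorProduct.comm A (A ⊗[k] k') B).toRingEquiv
  have e2 : B ⊗[A] (A ⊗[k] k') ≃+* B ⊗[k] k' :=
    (Algebra.TensorProduct.cancelBaseChange k A A B k').toRingEquiv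
  have e3 : B ⊗[k] k' ≃+* k' ⊗[k] B := (Algebra.TensorProduct.comm k B k').toRingEquiv
  exact IsRegularRing.of_ringEquiv ((e1.trans e2).trans e3)

end Ascent



open Groth.Agent.Lib.Helper23 Groth.Agent.Lib.Helper23.GeomRegular2 Groth.Agent.Lib.Helper23.GeomRegular

section Etale

variable (k k' R : Type u) [CommRing k] [CommRing k'] [Algebra k k'] [CommRing R] [Algebra k R]
  [Algebra k' R] [IsScalarTower k k' R] (𝔫 : Ideal R)

/-- adic formal smoothness descends to a formally unramified intermediate ring. -/
theorem adic_of_formallyUnramified [Algebra.FormallyUnramified k k']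
    (h : CAlgX.IsAdicFormallySmooth k R 𝔫) : CAlgX.IsAdicFormallySmooth k' R 𝔫 := by
  intro C _ _ N hN ψ hψ
  letI : Algebra k C := ((algebraMap k' C).comp (algebraMap k k')).toAlgebra
  haveI : IsScalarTower k k' C := IsScalarTower.of_algebraMap_eq (fun _ => rfl)
  obtain ⟨χ, hχ⟩ := h C N hN (ψ.restrictScalars k) hψ
  have hχ' : ∀ x, Ideal.Quotient.mk N (χ x) = ψ x := fun x => by
    rw [← AlgHom.restrictScalars_apply k ψ, ← hχ]; rfl
  -- the two maps k' → C
  let f₁ : k' →ₐ[k] C := IsScalarTower.toAlgHom k k' C
  let f₂ : k' →ₐ[k] C := χ.comp (IsScalarTower.toAlgHom k k' R)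
  have hf : f₂ = f₁ := by
    apply Algebra.FormallyUnramified.ext N ⟨2, hN⟩
    intro x
    show Ideal.Quotient.mk N (χ (algebraMap k' R x)) = Ideal.Quotient.mk N (algebraMap k' C x)
    rw [hχ', ψ.commutes]
    rfl
  refine ⟨{ χ with commutes' := fun x => ?_ }, ?_⟩
  · exact AlgHom.congr_fun hf x
  · ext x
    exact hχ' x

/-- adic formal smoothness over a formally smooth intermediate ring gives it over the base. -/
theorem adic_of_formallySmooth_base [Algebra.FormallySmooth k k']
    (h : CAlgX.IsAdicFormallySmooth k' R 𝔫) : CAlgX.IsAdicFormallySmooth k R 𝔫 := by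
  intro C _ _ N hN ψ hψ
  let g₀ : k' →ₐ[k] C ⧸ N := ψ.comp (IsScalarTower.toAlgHom k k' R)
  let g : k' →ₐ[k] C := Algebra.FormallySmooth.lift N ⟨2, hN⟩ g₀
  have hg : ∀ x, Ideal.Quotient.mk N (g x) = ψ (algebraMap k' R x) := fun x =>
    Algebra.FormallySmooth.mk_lift N ⟨2, hN⟩ g₀ x
  letI : Algebra k' C := g.toRingHom.toAlgebra
  haveI : IsScalarTower k k' C := IsScalarTower.of_algebraMap_eq (fun x => (g.commutes x).symm)
  let ψ' : R →ₐ[k'] C ⧸ N :=
    { (ψ : R →+* C ⧸ N) with
      commutes' := fun x => by
        show ψ (algebraMap k' R x) = Ideal.Quotient.mk N (g x)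
        rw [hg] }
  obtain ⟨χ, hχ⟩ := h C N hN ψ' hψ
  refine ⟨χ.restrictScalars k, ?_⟩
  ext x
  have := AlgHom.congr_fun hχ x
  exact this

end Etale

section Sep

variable (k : Type u) [Field k] (k' : Type u) [Field k'] [Algebra k k'] [Algebra.IsSeparable k k']
  (A : Type u) [CommRing A] [Algebra k' A] [Algebra k A] [IsScalarTower k k' A] [IsNoetherianRing A]

theorem geomRegular_iff_of_isSeparable :
    CAlg.IsGeometricallyRegular k A ↔ CAlg.IsGeometricallyRegular k' A := by
  haveI : Algebra.FormallyEtale k k' := Algebra.FormallyEtale.of_isSeparable k k'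
  constructor
  · intro h
    apply SmoothField.geomRegular_of_atPrime
    intro p _
    haveI : IsNoetherianRing (Localization.AtPrime p) :=
      IsLocalization.isNoetherianRing p.primeCompl _ inferInstance
    have h1 := SmoothField.geomRegular_atPrime h p
    rw [geomRegular_iff_adic] at h1 ⊢
    exact adic_of_formallyUnramified k k' _ _ h1
  · intro h
    apply SmoothField.geomRegular_of_atPrime
    intro p _
    haveI : IsNoetherianRing (Localization.AtPrime p) :=
      IsLocalization.isNoetherianRing p.primeCompl _ inferInstance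
    have h1 := SmoothField.geomRegular_atPrime h p
    rw [geomRegular_iff_adic] at h1 ⊢
    exact adic_of_formallySmooth_base k k' _ _ h1

end Sep

end Groth.Agent.Lib.Helper23.RegularHom
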