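import Mathlib
import Groth.Agent.Lib.Helper23.RegularHom
import Groth.Agent.Lib.Helper4.HznNoeth

/-!
Regular ring maps (CAlg.IsRegularHom), part 2: permanence.
geomRegular_of_algEquiv, fibreEquiv (fibre of A'⊗B at P' = κ(P') ⊗_{κ(p)} fibre at p), geomRegular_of_baseChange' (descent from an arbitrary field extension),
isRegularHom_baseChange_of_essFiniteType, isRegularHom_baseChange_of_finiteType, isRegularHom_of_baseChange_faithfullyFlat, isRegularHom_of_algEquiv,
isRegularHom_localization, tensorTensorEquiv, flat_of_faithfullyFlat_comp (A→C flat, B→C faithfully flat ⇒ A→B flat), fibreFiniteEquiv,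
isRegularHom_comp (composition), isRegularHom_of_comp_faithfullyFlat (descent).
-/

set_option autoImplicit false
universe u
open IsLocalRing TensorProduct

namespace Groth.Agent.Lib.Helper23.RegularHom2


open Groth.Agent.Lib.Helper23 Groth.Agent.Lib.Helper23.GeomRegular2 Groth.Agent.Lib.Helper23.RegularHom

section Transfer

theorem geomRegular_of_algEquiv {K C C' : Type u} [Field K] [CommRing C] [CommRing C']
    [Algebra K C] [Algebra K C'] (e : C ≃ₐ[K] C') (h : CAlg.IsGeometricallyRegular K C) :
    CAlg.IsGeometricallyRegular K C' := by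
  intro k' _ _ hfin
  haveI := h k' hfin
  exact IsRegularRing.of_ringEquiv
    (Algebra.TensorProduct.congr (AlgEquiv.refl (R := K) (A₁ := k')) e).toRingEquiv

end Transfer

noncomputable section

section FibreBC

variable (A A' B : Type u) [CommRing A] [CommRing A'] [CommRing B] [Algebra A A'] [Algebra A B]
  (p : Ideal A) [p.IsPrime] (P : Ideal A') [P.IsPrime] [P.LiesOver p]
  [Algebra (Localization.AtPrime p) (Localization.AtPrime P)]
  [Localization.AtPrime.IsLiesOverAlgebra p P]

/-- the fibre of a base change is the base change of the fibre. -/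
def fibreEquiv :
    P.Fiber (A' ⊗[A] B) ≃ₐ[P.ResidueField] P.ResidueField ⊗[p.ResidueField] p.Fiber B :=
  (Algebra.TensorProduct.cancelBaseChange A A' P.ResidueField P.ResidueField B).trans
    (Algebra.TensorProduct.cancelBaseChange A p.ResidueField P.ResidueField P.ResidueField B).symm

end FibreBC

end



open Groth.Agent.Lib.Helper23 Groth.Agent.Lib.Helper23.GeomRegular2 Groth.Agent.Lib.Helper23.RegularHom
  Groth.Agent.Lib.Helper23.KeyLemma3

section Desc

variable (k S : Type u) [Field k] [CommRing S] [Algebra k S] [IsNoetherianRing S]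
  (K : Type u) [Field K] [Algebra k K]

/-- geometric regularity descends from an arbitrary field extension. -/
theorem geomRegular_of_baseChange' (h : CAlg.IsGeometricallyRegular K (K ⊗[k] S)) :
    CAlg.IsGeometricallyRegular k S := by
  intro k' _ _ hfin
  haveI : Nontrivial (K ⊗[k] k') := nontrivial_tensor (k := k) K k'
  obtain ⟨M, hM⟩ := Ideal.exists_maximal (K ⊗[k] k')
  letI : Field ((K ⊗[k] k') ⧸ M) := Ideal.Quotient.field M
  let L := (K ⊗[k] k') ⧸ M
  letI : Algebra k' L := ((Ideal.Quotient.mk M).comp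
    ((Algebra.TensorProduct.includeRight : k' →ₐ[k] K ⊗[k] k') : k' →+* K ⊗[k] k')).toAlgebra
  haveI : IsScalarTower k k' L := IsScalarTower.of_algebraMap_eq (fun c => by
    show algebraMap k L c = Ideal.Quotient.mk M ((1 : K) ⊗ₜ[k] (algebraMap k k' c))
    rw [IsScalarTower.algebraMap_apply k (K ⊗[k] k') L, Ideal.Quotient.algebraMap_eq,
      Algebra.algebraMap_eq_smul_one c (A := k'), TensorProduct.tmul_smul,
      Algebra.algebraMap_eq_smul_one c (A := K ⊗[k] k')]
    rfl)
  haveI : Module.Finite K (K ⊗[k] k') := Module.Finite.base_change k K k'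
  haveI : Module.Finite K L := Module.Finite.quotient K M
  have h1 : IsRegularRing (L ⊗[K] (K ⊗[k] S)) := h L inferInstance
  have h2 : IsRegularRing (L ⊗[k] S) :=
    IsRegularRing.of_ringEquiv (Algebra.TensorProduct.cancelBaseChange k K K L S).toRingEquiv
  have h3 : IsRegularRing (L ⊗[k'] (k' ⊗[k] S)) :=
    IsRegularRing.of_ringEquiv (Algebra.TensorProduct.cancelBaseChange k k' k' L S).symm.toRingEquiv
  have h4 : IsRegularRing ((k' ⊗[k] S) ⊗[k'] L) :=
    IsRegularRing.of_ringEquiv (Algebra.TensorProduct.comm k' L (k' ⊗[k] S)).toRingEquiv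
  haveI : IsNoetherianRing (S ⊗[k] k') := IsNoetherianRing.of_finite S _
  haveI : IsNoetherianRing (k' ⊗[k] S) :=
    isNoetherianRing_of_ringEquiv _ (Algebra.TensorProduct.comm k S k').toRingEquiv
  exact isRegularRing_of_faithfullyFlat (k' ⊗[k] S) ((k' ⊗[k] S) ⊗[k'] L)

end Desc

section BC

variable (A A' B : Type u) [CommRing A] [CommRing A'] [CommRing B] [Algebra A A'] [Algebra A B]

/-- base change of a regular hom along an essentially finite type algebra. -/
theorem isRegularHom_baseChange_of_essFiniteType [Algebra.EssFiniteType A A']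
    (h : CAlg.IsRegularHom A B) : CAlg.IsRegularHom A' (A' ⊗[A] B) := by
  haveI := h.1
  refine ⟨inferInstance, fun P _ => ?_⟩
  haveI : P.LiesOver (P.under A) := ⟨rfl⟩
  letI := Localization.AtPrime.algebraOfLiesOver (P.under A) P
  obtain ⟨hN, hG⟩ := h.2 (P.under A)
  let e := fibreEquiv A A' B (P.under A) P
  haveI : IsNoetherianRing (P.ResidueField ⊗[(P.under A).ResidueField] (P.under A).Fiber B) :=
    isNoetherianRing_tensor_of_essFiniteType P.ResidueField
  constructor
  · exact isNoetherianRing_of_ringEquiv _ e.symm.toRingEquiv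
  · exact geomRegular_of_algEquiv e.symm
      (geomRegular_baseChange (P.under A).ResidueField ((P.under A).Fiber B) P.ResidueField hG)

/-- base change of a finite type regular hom along an arbitrary algebra. -/
theorem isRegularHom_baseChange_of_finiteType [Algebra.FiniteType A B]
    (h : CAlg.IsRegularHom A B) : CAlg.IsRegularHom A' (A' ⊗[A] B) := by
  haveI := h.1
  refine ⟨inferInstance, fun P _ => ?_⟩
  haveI : P.LiesOver (P.under A) := ⟨rfl⟩
  letI := Localization.AtPrime.algebraOfLiesOver (P.under A) P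
  obtain ⟨hN, hG⟩ := h.2 (P.under A)
  let e := fibreEquiv A A' B (P.under A) P
  haveI : Algebra.FiniteType (P.under A).ResidueField ((P.under A).Fiber B) := inferInstance
  haveI hfs : Algebra.FormallySmooth (P.under A).ResidueField ((P.under A).Fiber B) :=
    (smooth_fibre_iff _ _).mpr hG
  haveI : Algebra.FiniteType P.ResidueField
      (P.ResidueField ⊗[(P.under A).ResidueField] (P.under A).Fiber B) := inferInstance
  have hfs' : Algebra.FormallySmooth P.ResidueField
      (P.ResidueField ⊗[(P.under A).ResidueField] (P.under A).Fiber B) := inferInstance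
  haveI : IsNoetherianRing (P.ResidueField ⊗[(P.under A).ResidueField] (P.under A).Fiber B) :=
    Algebra.FiniteType.isNoetherianRing P.ResidueField
      (P.ResidueField ⊗[(P.under A).ResidueField] (P.under A).Fiber B)
  constructor
  · exact isNoetherianRing_of_ringEquiv _ e.symm.toRingEquiv
  · exact geomRegular_of_algEquiv e.symm ((smooth_fibre_iff _ _).mp hfs')

/-- descent of regular homs along a faithfully flat base change. -/
theorem isRegularHom_of_baseChange_faithfullyFlat [Module.FaithfullyFlat A A']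
    [IsNoetherianRing B] (h : CAlg.IsRegularHom A' (A' ⊗[A] B)) : CAlg.IsRegularHom A B := by
  haveI := h.1
  haveI : Module.Flat A B := Module.Flat.of_flat_tensorProduct A B A'
  refine ⟨inferInstance, fun p _ => ?_⟩
  obtain ⟨P, hP, hlo⟩ := Ideal.exists_isPrime_liesOver_of_faithfullyFlat (B := A') p
  letI := Localization.AtPrime.algebraOfLiesOver p P
  obtain ⟨hN, hG⟩ := h.2 P
  let e := fibreEquiv A A' B p P
  haveI : IsNoetherianRing (B ⊗[A] p.ResidueField) :=
    Algebra.EssFiniteType.isNoetherianRing B _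
  haveI hNF : IsNoetherianRing (p.Fiber B) :=
    isNoetherianRing_of_ringEquiv _ (Algebra.TensorProduct.comm A B p.ResidueField).toRingEquiv
  refine ⟨hNF, ?_⟩
  exact geomRegular_of_baseChange' p.ResidueField (p.Fiber B) P.ResidueField
    (geomRegular_of_algEquiv e hG)

end BC



open Groth.Agent.Lib.Helper23 Groth.Agent.Lib.Helper23.GeomRegular2 Groth.Agent.Lib.Helper23.RegularHom
  Groth.Agent.Lib.Helper23.KeyLemma3

section Transfer2

theorem isRegularHom_of_algEquiv {R S S' : Type u} [CommRing R] [CommRing S] [CommRing S']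
    [Algebra R S] [Algebra R S'] (e : S ≃ₐ[R] S') (h : CAlg.IsRegularHom R S) :
    CAlg.IsRegularHom R S' := by
  haveI := h.1
  refine ⟨Module.Flat.of_linearEquiv e.symm.toLinearEquiv, fun p _ => ?_⟩
  obtain ⟨hN, hG⟩ := h.2 p
  let e' : p.Fiber S ≃ₐ[p.ResidueField] p.Fiber S' :=
    Algebra.TensorProduct.congr AlgEquiv.refl e
  exact ⟨isNoetherianRing_of_ringEquiv _ e'.toRingEquiv, geomRegular_of_algEquiv e' hG⟩

end Transfer2

section Loc

theorem isRegularHom_localization (A B : Type u) [CommRing A] [CommRing B]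
    [Algebra A B] (h : CAlg.IsRegularHom A B) (S : Submonoid A)
    (A' B' : Type u) [CommRing A'] [CommRing B'] [Algebra A A'] [Algebra B B'] [Algebra A' B']
    [Algebra A B']
    [IsScalarTower A A' B'] [IsScalarTower A B B'] [IsLocalization S A']
    [IsLocalization (Algebra.algebraMapSubmonoid B S) B'] :
    CAlg.IsRegularHom A' B' := by
  haveI : Algebra.EssFiniteType A A' := Algebra.EssFiniteType.of_isLocalization A' S
  have h1 := isRegularHom_baseChange_of_essFiniteType A A' B h
  haveI : Algebra.IsPushout A B A' B' := Algebra.isPushout_of_isLocalization S A' B B'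
  haveI : Algebra.IsPushout A A' B B' := Algebra.IsPushout.symm inferInstance
  exact isRegularHom_of_algEquiv (Algebra.IsPushout.equiv A A' B B') h1

end Loc

section FlatDescent

variable (A B C : Type u) [CommRing A] [CommRing B] [CommRing C]
    [Algebra A B] [Algebra B C] [Algebra A C] [IsScalarTower A B C]

/-- `(B ⊗[A] K) ⊗[B] C ≃ K ⊗[A] C`. -/
noncomputable def tensorTensorEquiv (K : Type u) [CommRing K] [Algebra A K] :
    (B ⊗[A] K) ⊗[B] C ≃+* K ⊗[A] C :=
  ((Algebra.TensorProduct.comm B (B ⊗[A] K) C).toRingEquiv.trans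
    (Algebra.TensorProduct.cancelBaseChange A B C C K).toRingEquiv).trans
    (Algebra.TensorProduct.comm A C K).toRingEquiv

theorem flat_of_faithfullyFlat_comp [Module.Flat A C] [Module.FaithfullyFlat B C] :
    Module.Flat A B := by
  rw [Module.Flat.iff_lTensor_preserves_injective_linearMap]
  intro N P _ _ _ _ f hf
  have h1 : Function.Injective (f.baseChange B) := by
    rw [← Module.FaithfullyFlat.lTensor_injective_iff_injective B C]
    have h2 : Function.Injective (f.baseChange C) := by
      rw [LinearMap.baseChange_eq_ltensor]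
      exact Module.Flat.lTensor_preserves_injective_linearMap f hf
    have h3 : (f.baseChange B).lTensor C =
        (TensorProduct.AlgebraTensorModule.cancelBaseChange A B C C P).symm.toLinearMap.restrictScalars B ∘ₗ
          (f.baseChange C).restrictScalars B ∘ₗ
          (TensorProduct.AlgebraTensorModule.cancelBaseChange A B C C N).toLinearMap.restrictScalars B := by
      ext c b n
      simp
    rw [h3]
    simp only [LinearMap.coe_comp, LinearMap.coe_restrictScalars, LinearEquiv.coe_coe]
    exact (LinearEquiv.injective _).comp (h2.comp (LinearEquiv.injective _))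
  rw [← LinearMap.baseChange_eq_ltensor]
  exact h1

end FlatDescent



open Groth.Agent.Lib.Helper23 Groth.Agent.Lib.Helper23.GeomRegular2 Groth.Agent.Lib.Helper23.RegularHom
  Groth.Agent.Lib.Helper23.KeyLemma3

section Comp0

/-- `k' ⊗[κ] (κ ⊗[A] B) ≃ B ⊗[A] k'`. -/
noncomputable def fibreFiniteEquiv {A : Type u} [CommRing A] (p : Ideal A) [p.IsPrime]
    (B : Type u) [CommRing B]
    [Algebra A B] (k' : Type u)
    [Field k'] [Algebra p.ResidueField k'] [Algebra A k'] [IsScalarTower A p.ResidueField k'] :
    k' ⊗[p.ResidueField] p.Fiber B ≃+* B ⊗[A] k' :=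
  (Algebra.TensorProduct.cancelBaseChange A p.ResidueField k' k' B).toRingEquiv.trans
    (Algebra.TensorProduct.comm A k' B).toRingEquiv

end Comp0

section Comp

variable (A B C : Type u) [CommRing A] [CommRing B] [CommRing C]
    [Algebra A B] [Algebra B C] [Algebra A C] [IsScalarTower A B C]

theorem isRegularHom_comp (hAB : CAlg.IsRegularHom A B) (hBC : CAlg.IsRegularHom B C)
    (hN : ∀ (p : Ideal A) [p.IsPrime], IsNoetherianRing (p.Fiber C)) :
    CAlg.IsRegularHom A C := by
  haveI := hAB.1
  haveI := hBC.1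
  refine ⟨Module.Flat.trans A B C, fun p _ => ⟨hN p, ?_⟩⟩
  intro k' _ _ hfin
  letI : Algebra A k' := ((algebraMap p.ResidueField k').comp (algebraMap A p.ResidueField)).toAlgebra
  haveI : IsScalarTower A p.ResidueField k' := IsScalarTower.of_algebraMap_eq (fun _ => rfl)
  obtain ⟨hNB, hGB⟩ := hAB.2 p
  haveI := hN p
  -- B' = B ⊗ k' is regular
  haveI := hGB k' hfin
  haveI hB' : IsRegularRing (B ⊗[A] k') :=
    IsRegularRing.of_ringEquiv (R := k' ⊗[p.ResidueField] p.Fiber B) (fibreFiniteEquiv p B k')
  -- base change of B → C along B → B'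
  haveI : Algebra.EssFiniteType A k' := Algebra.EssFiniteType.comp A p.ResidueField k'
  haveI : Algebra.EssFiniteType B (B ⊗[A] k') := inferInstance
  have h1 := isRegularHom_baseChange_of_essFiniteType B (B ⊗[A] k') C hBC
  -- C' Noetherian
  haveI : IsNoetherianRing ((p.Fiber C) ⊗[p.ResidueField] k') :=
    IsNoetherianRing.of_finite (p.Fiber C) _
  haveI : IsNoetherianRing (k' ⊗[p.ResidueField] p.Fiber C) :=
    isNoetherianRing_of_ringEquiv _
      (Algebra.TensorProduct.comm p.ResidueField (p.Fiber C) k').toRingEquiv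
  have e : k' ⊗[p.ResidueField] p.Fiber C ≃+* (B ⊗[A] k') ⊗[B] C :=
    (Algebra.TensorProduct.cancelBaseChange A p.ResidueField k' k' C).toRingEquiv.trans
      (tensorTensorEquiv A B C k').symm
  haveI : IsNoetherianRing ((B ⊗[A] k') ⊗[B] C) := isNoetherianRing_of_ringEquiv _ e
  have h2 : IsRegularRing ((B ⊗[A] k') ⊗[B] C) :=
    isRegularRing_of_isRegularHom (B ⊗[A] k') _ h1
  exact IsRegularRing.of_ringEquiv (R := (B ⊗[A] k') ⊗[B] C) e.symm

theorem isRegularHom_of_comp_faithfullyFlat (hAC : CAlg.IsRegularHom A C) [Module.Flat B C]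
    (hsurj : Function.Surjective (PrimeSpectrum.comap (algebraMap B C))) :
    CAlg.IsRegularHom A B := by
  haveI := hAC.1
  haveI : Module.FaithfullyFlat B C := Module.FaithfullyFlat.of_comap_surjective hsurj
  haveI : Module.Flat A B := flat_of_faithfullyFlat_comp A B C
  refine ⟨inferInstance, fun p _ => ?_⟩
  obtain ⟨hNC, hGC⟩ := hAC.2 p
  -- Noetherian fibre
  haveI : IsNoetherianRing ((B ⊗[A] p.ResidueField) ⊗[B] C) :=
    isNoetherianRing_of_ringEquiv _ (tensorTensorEquiv A B C p.ResidueField).symm
  haveI : IsNoetherianRing (B ⊗[A] p.ResidueField) :=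
    Groth.Agent.Lib.Helper4.Hzn.isNoetherianRing_of_faithfullyFlat (B ⊗[A] p.ResidueField)
      ((B ⊗[A] p.ResidueField) ⊗[B] C)
  haveI hNB : IsNoetherianRing (p.Fiber B) :=
    isNoetherianRing_of_ringEquiv _ (Algebra.TensorProduct.comm A B p.ResidueField).toRingEquiv
  refine ⟨hNB, ?_⟩
  intro k' _ _ hfin
  letI : Algebra A k' := ((algebraMap p.ResidueField k').comp (algebraMap A p.ResidueField)).toAlgebra
  haveI : IsScalarTower A p.ResidueField k' := IsScalarTower.of_algebraMap_eq (fun _ => rfl)
  haveI := hGC k' hfin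
  have e : k' ⊗[p.ResidueField] p.Fiber C ≃+* (B ⊗[A] k') ⊗[B] C :=
    (Algebra.TensorProduct.cancelBaseChange A p.ResidueField k' k' C).toRingEquiv.trans
      (tensorTensorEquiv A B C k').symm
  haveI : IsRegularRing ((B ⊗[A] k') ⊗[B] C) :=
    IsRegularRing.of_ringEquiv (R := k' ⊗[p.ResidueField] p.Fiber C) e
  haveI : IsNoetherianRing ((p.Fiber B) ⊗[p.ResidueField] k') :=
    IsNoetherianRing.of_finite (p.Fiber B) _
  haveI : IsNoetherianRing (k' ⊗[p.ResidueField] p.Fiber B) :=
    isNoetherianRing_of_ringEquiv _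
      (Algebra.TensorProduct.comm p.ResidueField (p.Fiber B) k').toRingEquiv
  haveI : IsNoetherianRing (B ⊗[A] k') :=
    isNoetherianRing_of_ringEquiv _ (fibreFiniteEquiv p B k')
  haveI : IsRegularRing (B ⊗[A] k') :=
    isRegularRing_of_faithfullyFlat (B ⊗[A] k') ((B ⊗[A] k') ⊗[B] C)
  exact IsRegularRing.of_ringEquiv (R := B ⊗[A] k') (fibreFiniteEquiv p B k').symm

end Comp

end Groth.Agent.Lib.Helper23.RegularHom2
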