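import Mathlib
import Groth.Agent.Lib.Helper23.RegularHom2
import Groth.Agent.Lib.Helper14.FpqcSch

/-!
Morphisms with fibres in a class PP (generic framework for regular / normal morphisms).
FibreProp PP: a property of algebras over fields, invariant under algebra isomorphisms, localization, finite Zariski covers and essentially finite type base field extension (iff).
HomP PP R S: flat with PP fibres. QP PP: the ring hom property. Results: homP_of_algEquiv, fibre_localization, homP_localization_target, fibre_of_span, homP_of_span_target, fibre_baseChange_iff, homP_baseChange (ess. finite type base change), homP_of_forall_exists (pointwise descent), homP_localization, homP_localization_source, qp_propertyIsLocal (RingHom.PropertyIsLocal), qp_of_isPushout.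
Scheme level: MorP PP := affineLocally (QP PP), hasRingHomProperty, morP_iff_appLE, flat_of_morP, morP_baseChange (base change along affine-locally ess. finite type morphisms, via Mathlib isIso_pushoutSection_of_isAffineOpen), morP_baseChange_of_locallyOfFiniteType, morP_descent (fppf descent).
-/

set_option autoImplicit false
set_option linter.style.haveILetI false
set_option linter.unusedSectionVars false
universe u
open TensorProduct
open TensorProduct CategoryTheory CategoryTheory.Limits AlgebraicGeometry

namespace Groth.Agent.Lib.Helper23.FibProp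

section


/-- a property of algebras over fields with the permanence needed to define a local class of
"morphisms with `PP` fibres": invariance under isomorphism, localization, finite Zariski covers,
and invariance under essentially finite type extensions of the base field. -/
structure FibreProp
    (PP : ∀ (k : Type u) [Field k] (F : Type u) [CommRing F] [Algebra k F], Prop) : Prop where
  of_algEquiv : ∀ {k : Type u} [Field k] {F F' : Type u} [CommRing F] [CommRing F'] [Algebra k F]
    [Algebra k F'] (_ : F ≃ₐ[k] F'), PP k F → PP k F'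
  of_isLocalization : ∀ {k : Type u} [Field k] {F T : Type u} [CommRing F] [CommRing T]
    [Algebra k F] [Algebra k T] [Algebra F T] [IsScalarTower k F T] (M : Submonoid F)
    [IsLocalization M T], PP k F → PP k T
  of_span : ∀ {k : Type u} [Field k] {F : Type u} [CommRing F] [Algebra k F] (s : Finset F),
    Ideal.span (s : Set F) = ⊤ → (∀ r ∈ s, PP k (Localization.Away r)) → PP k F
  baseChange_iff : ∀ {k K : Type u} [Field k] [Field K] [Algebra k K] [Algebra.EssFiniteType k K]
    {F : Type u} [CommRing F] [Algebra k F], PP k F ↔ PP K (K ⊗[k] F)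

variable (PP : ∀ (k : Type u) [Field k] (F : Type u) [CommRing F] [Algebra k F], Prop)

/-- flat with `PP` fibres -/
def HomP (R S : Type u) [CommRing R] [CommRing S] [Algebra R S] : Prop :=
  Module.Flat R S ∧ ∀ (p : Ideal R) [p.IsPrime], PP p.ResidueField (p.Fiber S)

variable {PP} (hPP : FibreProp PP)
include hPP

theorem of_subsingleton {k : Type u} [Field k] {F : Type u} [CommRing F] [Algebra k F]
    [Subsingleton F] : PP k F := by
  refine hPP.of_span ∅ ?_ (fun r hr => absurd hr (Finset.notMem_empty r))
  exact Subsingleton.elim _ _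

theorem homP_of_algEquiv {R S S' : Type u} [CommRing R] [CommRing S] [CommRing S']
    [Algebra R S] [Algebra R S'] (e : S ≃ₐ[R] S') (h : HomP PP R S) : HomP PP R S' := by
  haveI := h.1
  refine ⟨Module.Flat.of_linearEquiv e.symm.toLinearEquiv, fun p _ => ?_⟩
  exact hPP.of_algEquiv (Algebra.TensorProduct.congr AlgEquiv.refl e) (h.2 p)

section LocTarget

variable {R S T : Type u} [CommRing R] [CommRing S] [CommRing T] [Algebra R S] [Algebra S T]
  [Algebra R T] [IsScalarTower R S T]

/-- the fibre of a localization is a localization of the fibre -/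
theorem fibre_localization (M : Submonoid S) [IsLocalization M T] (p : Ideal R) [p.IsPrime] (h : PP p.ResidueField (p.Fiber S)) :
    PP p.ResidueField (p.Fiber T) := by
  let M' : Submonoid (p.Fiber S) :=
    M.map (Algebra.TensorProduct.includeRight (R := R) (A := p.ResidueField))
  let e := IsLocalization.tensorProductEquivOfMapIncludeRight R p.ResidueField M T
    (Localization M')
  have h1 : PP p.ResidueField (Localization M') := hPP.of_isLocalization M' h
  exact hPP.of_algEquiv e.symm h1

theorem homP_localization_target (M : Submonoid S) [IsLocalization M T] (h : HomP PP R S) : HomP PP R T := by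
  haveI := h.1
  haveI : Module.Flat S T := IsLocalization.flat T M
  exact ⟨Module.Flat.trans R S T, fun p _ => fibre_localization hPP M p (h.2 p)⟩

end LocTarget

section SpanTarget

variable {R S : Type u} [CommRing R] [CommRing S] [Algebra R S]

theorem fibre_of_span (p : Ideal R) [p.IsPrime] (s : Finset S)
    (hs : Ideal.span (s : Set S) = ⊤)
    (h : ∀ r ∈ s, PP p.ResidueField (p.Fiber (Localization.Away r))) :
    PP p.ResidueField (p.Fiber S) := by
  classical
  let ι : S →+* p.Fiber S :=
    (Algebra.TensorProduct.includeRight (R := R) (A := p.ResidueField) (B := S)).toRingHom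
  refine hPP.of_span (s.image ι) ?_ ?_
  · have := congrArg (Ideal.map ι) hs
    rw [Ideal.map_span, Ideal.map_top] at this
    rw [Finset.coe_image]
    exact this
  · intro r' hr'
    obtain ⟨r, hr, rfl⟩ := Finset.mem_image.mp hr'
    haveI : IsLocalization ((Submonoid.powers r).map
        (Algebra.TensorProduct.includeRight (R := R) (A := p.ResidueField)))
        (Localization.Away (ι r)) := by
      have : (Submonoid.powers r).map
          (Algebra.TensorProduct.includeRight (R := R) (A := p.ResidueField)) =
          Submonoid.powers (ι r) := Submonoid.map_powers _ r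
      rw [this]
      infer_instance
    let e := IsLocalization.tensorProductEquivOfMapIncludeRight R p.ResidueField
      (Submonoid.powers r) (Localization.Away r) (Localization.Away (ι r))
    exact hPP.of_algEquiv e (h r hr)

theorem homP_of_span_target (s : Finset S) (hs : Ideal.span (s : Set S) = ⊤)
    (h : ∀ r ∈ s, HomP PP R (Localization.Away r)) : HomP PP R S := by
  refine ⟨?_, fun p _ => fibre_of_span hPP p s hs (fun r hr => (h r hr).2 p)⟩
  refine Module.flat_of_isLocalized_span S S (s : Set S) hs _
    (fun r => Algebra.linearMap S (Localization.Away r.1)) ?_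
  intro r
  exact (h r.1 r.2).1

end SpanTarget


end

section


open Groth.Agent.Lib.Helper23.RegularHom2

variable {PP : ∀ (k : Type u) [Field k] (F : Type u) [CommRing F] [Algebra k F], Prop}
  (hPP : FibreProp PP)
include hPP

section FibreBC

variable (A A' B : Type u) [CommRing A] [CommRing A'] [CommRing B] [Algebra A A'] [Algebra A B]
  (p : Ideal A) [p.IsPrime] (P : Ideal A') [P.IsPrime] [P.LiesOver p]
  [Algebra (Localization.AtPrime p) (Localization.AtPrime P)]
  [Localization.AtPrime.IsLiesOverAlgebra p P]
  [Algebra.EssFiniteType p.ResidueField P.ResidueField]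

theorem fibre_baseChange_iff :
    PP p.ResidueField (p.Fiber B) ↔ PP P.ResidueField (P.Fiber (A' ⊗[A] B)) := by
  rw [hPP.baseChange_iff (k := p.ResidueField) (K := P.ResidueField)]
  exact ⟨hPP.of_algEquiv (fibreEquiv A A' B p P).symm, hPP.of_algEquiv (fibreEquiv A A' B p P)⟩

end FibreBC

section BC

variable (A A' B : Type u) [CommRing A] [CommRing A'] [CommRing B] [Algebra A A'] [Algebra A B]

theorem homP_baseChange [Algebra.EssFiniteType A A'] (h : HomP PP A B) :
    HomP PP A' (A' ⊗[A] B) := by
  haveI := h.1
  refine ⟨inferInstance, fun P _ => ?_⟩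
  haveI : P.LiesOver (P.under A) := ⟨rfl⟩
  letI := Localization.AtPrime.algebraOfLiesOver (P.under A) P
  exact (fibre_baseChange_iff hPP A A' B (P.under A) P).mp (h.2 (P.under A))

/-- pointwise descent -/
theorem homP_of_forall_exists [Module.Flat A B]
    (h : ∀ (p : Ideal A) [p.IsPrime], ∃ (A' : Type u) (_ : CommRing A') (_ : Algebra A A')
      (_ : Algebra.EssFiniteType A A') (P : Ideal A') (_ : P.IsPrime), P.under A = p ∧
      HomP PP A' (A' ⊗[A] B)) : HomP PP A B := by
  refine ⟨inferInstance, fun p _ => ?_⟩
  obtain ⟨A', _, _, _, P, _, hP, h'⟩ := h p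
  subst hP
  haveI : P.LiesOver (P.under A) := ⟨rfl⟩
  letI := Localization.AtPrime.algebraOfLiesOver (P.under A) P
  exact (fibre_baseChange_iff hPP A A' B (P.under A) P).mpr (h'.2 P)

end BC

section Loc

theorem homP_localization (A B : Type u) [CommRing A] [CommRing B]
    [Algebra A B] (h : HomP PP A B) (S : Submonoid A)
    (A' B' : Type u) [CommRing A'] [CommRing B'] [Algebra A A'] [Algebra B B'] [Algebra A' B']
    [Algebra A B']
    [IsScalarTower A A' B'] [IsScalarTower A B B'] [IsLocalization S A']
    [IsLocalization (Algebra.algebraMapSubmonoid B S) B'] :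
    HomP PP A' B' := by
  haveI : Algebra.EssFiniteType A A' := Algebra.EssFiniteType.of_isLocalization A' S
  have h1 := homP_baseChange hPP A A' B h
  haveI : Algebra.IsPushout A B A' B' := Algebra.isPushout_of_isLocalization S A' B B'
  haveI : Algebra.IsPushout A A' B B' := Algebra.IsPushout.symm inferInstance
  exact homP_of_algEquiv hPP (Algebra.IsPushout.equiv A A' B B') h1

end Loc

section Source

variable (A A' T : Type u) [CommRing A] [CommRing A'] [CommRing T] [Algebra A A'] [Algebra A' T]
  [Algebra A T] [IsScalarTower A A' T]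

/-- composition with a localization of the source -/
theorem homP_localization_source (S : Submonoid A) [IsLocalization S A'] (h : HomP PP A' T) :
    HomP PP A T := by
  haveI := h.1
  haveI : Module.Flat A A' := IsLocalization.flat A' S
  haveI : Module.Flat A T := Module.Flat.trans A A' T
  haveI : Algebra.EssFiniteType A A' := Algebra.EssFiniteType.of_isLocalization A' S
  -- `T` is its own localization at the image of `S`
  haveI : IsLocalization (Algebra.algebraMapSubmonoid T S) T := by
    refine IsLocalization.self ?_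
    rintro _ ⟨s, hs, rfl⟩
    rw [IsScalarTower.algebraMap_apply A A' T]
    exact (IsLocalization.map_units A' ⟨s, hs⟩).map _
  haveI : Algebra.IsPushout A T A' T := Algebra.isPushout_of_isLocalization S A' T T
  haveI : Algebra.IsPushout A A' T T := Algebra.IsPushout.symm inferInstance
  have h1 : HomP PP A' (A' ⊗[A] T) :=
    homP_of_algEquiv hPP (Algebra.IsPushout.equiv A A' T T).symm h
  refine ⟨inferInstance, fun p _ => ?_⟩
  by_cases hd : Disjoint (S : Set A) (p : Set A)
  · haveI hPprime : (p.map (algebraMap A A')).IsPrime :=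
      IsLocalization.isPrime_of_isPrime_disjoint S A' p inferInstance hd
    have hcomap : (p.map (algebraMap A A')).under A = p :=
      IsLocalization.under_map_of_isPrime_disjoint S A' inferInstance hd
    haveI : (p.map (algebraMap A A')).LiesOver p := ⟨hcomap.symm⟩
    letI := Localization.AtPrime.algebraOfLiesOver p (p.map (algebraMap A A'))
    exact (fibre_baseChange_iff hPP A A' T p (p.map (algebraMap A A'))).mpr (h1.2 _)
  · -- the fibre is the zero ring
    rw [Set.not_disjoint_iff] at hd
    obtain ⟨s, hsS, hsp⟩ := hd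
    haveI : Subsingleton (p.Fiber T) := by
      have hu : IsUnit (algebraMap A T s) := by
        rw [IsScalarTower.algebraMap_apply A A' T]
        exact (IsLocalization.map_units A' ⟨s, hsS⟩).map _
      have h0 : (algebraMap A p.ResidueField s) = 0 := by
        rw [Ideal.algebraMap_residueField_eq_zero]
        exact hsp
      have hz : (1 : p.ResidueField) ⊗ₜ[A] (algebraMap A T s) = 0 := by
        rw [Algebra.algebraMap_eq_smul_one, ← TensorProduct.smul_tmul,
          ← Algebra.algebraMap_eq_smul_one, h0, TensorProduct.zero_tmul]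
      have hu' : IsUnit ((1 : p.ResidueField) ⊗ₜ[A] (algebraMap A T s)) :=
        hu.map (Algebra.TensorProduct.includeRight (R := A) (A := p.ResidueField) (B := T))
      rw [hz] at hu'
      exact subsingleton_of_zero_eq_one ((isUnit_zero_iff.mp hu'))
    exact of_subsingleton hPP

end Source


end

section


variable (PP : ∀ (k : Type u) [Field k] (F : Type u) [CommRing F] [Algebra k F], Prop)

/-- the ring hom property: flat with `PP` fibres -/
def QP {R S : Type u} [CommRing R] [CommRing S] (f : R →+* S) : Prop :=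
  letI := f.toAlgebra
  HomP PP R S

variable {PP} (hPP : FibreProp PP)
include hPP

theorem qp_localizationAwayPreserves : RingHom.LocalizationAwayPreserves (QP PP) := by
  intro R S _ _ f r R' S' _ _ _ _ _ _ h
  letI := f.toAlgebra
  letI : Algebra R' S' := (IsLocalization.Away.map R' S' f r).toAlgebra
  letI : Algebra R S' := ((algebraMap S S').comp f).toAlgebra
  haveI : IsScalarTower R S S' := IsScalarTower.of_algebraMap_eq (fun _ => rfl)
  haveI : IsScalarTower R R' S' := IsScalarTower.of_algebraMap_eq (fun x => by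
    show (algebraMap S S') (f x) = (IsLocalization.Away.map R' S' f r) (algebraMap R R' x)
    rw [IsLocalization.Away.map, IsLocalization.map_eq])
  haveI : IsLocalization (Algebra.algebraMapSubmonoid S (Submonoid.powers r)) S' := by
    have : Algebra.algebraMapSubmonoid S (Submonoid.powers r) = Submonoid.powers (f r) :=
      Submonoid.map_powers _ r
    rw [this]
    infer_instance
  exact homP_localization hPP R S h (Submonoid.powers r) R' S'

theorem qp_stableUnderCompositionWithLocalizationAwayTarget :
    RingHom.StableUnderCompositionWithLocalizationAwayTarget (QP PP) := by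
  intro R S T _ _ _ _ s _ f h
  letI := f.toAlgebra
  letI : Algebra R T := ((algebraMap S T).comp f).toAlgebra
  haveI : IsScalarTower R S T := IsScalarTower.of_algebraMap_eq (fun _ => rfl)
  exact homP_localization_target hPP (Submonoid.powers s) h

theorem qp_stableUnderCompositionWithLocalizationAwaySource :
    RingHom.StableUnderCompositionWithLocalizationAwaySource (QP PP) := by
  intro R S T _ _ _ _ r _ f h
  letI := f.toAlgebra
  letI : Algebra R T := (f.comp (algebraMap R S)).toAlgebra
  haveI : IsScalarTower R S T := IsScalarTower.of_algebraMap_eq (fun _ => rfl)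
  exact homP_localization_source hPP R S T (Submonoid.powers r) h

theorem qp_ofLocalizationSpanTarget : RingHom.OfLocalizationSpanTarget (QP PP) := by
  rw [RingHom.ofLocalizationSpanTarget_iff_finite]
  intro R S _ _ f s hs h
  letI := f.toAlgebra
  refine homP_of_span_target hPP s hs (fun r hr => ?_)
  have h1 : @HomP PP R (Localization.Away r) _ _
      ((algebraMap S (Localization.Away r)).comp f).toAlgebra := h ⟨r, hr⟩
  have heq : (((algebraMap S (Localization.Away r)).comp f).toAlgebra :
      Algebra R (Localization.Away r)) = (inferInstance : Algebra R (Localization.Away r)) := by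
    refine Algebra.algebra_ext _ _ (fun x => ?_)
    rw [IsScalarTower.algebraMap_apply R S (Localization.Away r)]
    rfl
  rw [heq] at h1
  exact h1

theorem qp_propertyIsLocal : RingHom.PropertyIsLocal (QP PP) where
  localizationAwayPreserves := qp_localizationAwayPreserves hPP
  ofLocalizationSpanTarget := qp_ofLocalizationSpanTarget hPP
  ofLocalizationSpan := (qp_ofLocalizationSpanTarget hPP).ofLocalizationSpan
    (qp_stableUnderCompositionWithLocalizationAwaySource hPP)
  StableUnderCompositionWithLocalizationAwayTarget :=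
    qp_stableUnderCompositionWithLocalizationAwayTarget hPP


end

section


variable {PP : ∀ (k : Type u) [Field k] (F : Type u) [CommRing F] [Algebra k F], Prop}

section ring

variable (hPP : FibreProp PP)
include hPP

/-- `QP` is stable under essentially finite type cobase change -/
theorem qp_of_isPushout {R S R' S' : CommRingCat.{u}} {f : R ⟶ S} {g : R ⟶ R'} {g' : S ⟶ S'}
    {f' : R' ⟶ S'} (h : IsPushout f g g' f') (hf : QP PP f.hom) (hg : g.hom.EssFiniteType) :
    QP PP f'.hom := by
  letI : Algebra R S := f.hom.toAlgebra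
  letI : Algebra R R' := g.hom.toAlgebra
  letI : Algebra R' S' := f'.hom.toAlgebra
  letI : Algebra S S' := g'.hom.toAlgebra
  letI : Algebra R S' := (f'.hom.comp g.hom).toAlgebra
  haveI : IsScalarTower R R' S' := IsScalarTower.of_algebraMap_eq (fun _ => rfl)
  haveI : IsScalarTower R S S' := IsScalarTower.of_algebraMap_eq (fun x => by
    have := congrArg (fun φ => φ.hom x) h.w
    exact this.symm)
  haveI : Algebra.EssFiniteType R R' := hg
  have hpo : Algebra.IsPushout R R' S S' := by
    rw [← CommRingCat.isPushout_iff_isPushout]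
    exact h.flip
  have h1 : HomP PP R' (R' ⊗[R] S) := homP_baseChange hPP R R' S hf
  exact homP_of_algEquiv hPP (Algebra.IsPushout.equiv R R' S S') h1

end ring

variable (PP) in
/-- the class of morphisms: flat with `PP` fibres, affine-locally -/
def MorP : MorphismProperty Scheme.{u} := affineLocally (QP PP)

theorem hasRingHomProperty (hPP : FibreProp PP) : HasRingHomProperty (MorP PP) (QP PP) :=
  ⟨qp_propertyIsLocal hPP, rfl⟩

section scheme

variable (hPP : FibreProp PP)
include hPP

variable {X Y X' Y' : Scheme.{u}} {f : X ⟶ Y} {f' : X' ⟶ Y'} {g' : X' ⟶ X} {g : Y' ⟶ Y}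

theorem morP_iff_appLE :
    MorP PP f ↔ ∀ (U : X.Opens) (V : Y.Opens) (_ : IsAffineOpen U) (_ : IsAffineOpen V)
      (hUV : U ≤ f ⁻¹ᵁ V), QP PP (f.appLE V U hUV).hom := by
  haveI := hasRingHomProperty hPP
  rw [HasRingHomProperty.iff_appLE (P := MorP PP)]
  exact ⟨fun h U V hU hV e => h ⟨V, hV⟩ ⟨U, hU⟩ e, fun h V U e => h U.1 V.1 U.2 V.2 e⟩

theorem flat_of_morP (hf : MorP PP f) : Flat f := by
  haveI := hasRingHomProperty hPP
  rw [HasRingHomProperty.iff_appLE (P := @Flat)]
  intro V U e
  exact (HasRingHomProperty.appLE (P := MorP PP) f hf V U e).1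

/-- base change along a morphism which is affine-locally essentially of finite type -/
theorem morP_baseChange (hc : IsPullback g' f' f g)
    (hg : ∀ (V : Y.Opens) (V' : Y'.Opens) (_ : IsAffineOpen V) (_ : IsAffineOpen V')
      (e : V' ≤ g ⁻¹ᵁ V), (g.appLE V V' e).hom.EssFiniteType)
    (hf : MorP PP f) : MorP PP f' := by
  haveI := hasRingHomProperty hPP
  rw [HasRingHomProperty.iff_exists_appLE (P := MorP PP)
    (qp_stableUnderCompositionWithLocalizationAwaySource hPP)]
  intro x'
  obtain ⟨V, hV, hyV, -⟩ := TopologicalSpace.Opens.isBasis_iff_nbhd.mp Y.isBasis_affineOpens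
    (TopologicalSpace.Opens.mem_top (g (f' x')))
  obtain ⟨V', hV', hy'V', hV'V⟩ := TopologicalSpace.Opens.isBasis_iff_nbhd.mp
    Y'.isBasis_affineOpens (show f' x' ∈ g ⁻¹ᵁ V from hyV)
  have hx : g' x' ∈ f ⁻¹ᵁ V := by
    show f (g' x') ∈ V
    rw [← Scheme.Hom.comp_apply, hc.w, Scheme.Hom.comp_apply]
    exact hyV
  obtain ⟨U, hU, hxU, hUV⟩ := TopologicalSpace.Opens.isBasis_iff_nbhd.mp
    X.isBasis_affineOpens hx
  have hUY : IsAffineOpen (g' ⁻¹ᵁ U ⊓ f' ⁻¹ᵁ V') := by
    haveI : IsAffine V := hV
    haveI : IsAffine V' := hV'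
    haveI : IsAffine U := hU
    exact .of_isIso (Scheme.Hom.isPullback_resLE hc hV'V hUV rfl).isoPullback.hom
  refine ⟨⟨V', hV'⟩, ⟨g' ⁻¹ᵁ U ⊓ f' ⁻¹ᵁ V', hUY⟩, ⟨hxU, hy'V'⟩, inf_le_right, ?_⟩
  have hpo := (isIso_pushoutSection_iff hc hV'V hUV rfl).mp
    (isIso_pushoutSection_of_isAffineOpen hc hV'V hUV rfl hV hV' hU)
  exact qp_of_isPushout hPP hpo
    (HasRingHomProperty.appLE (P := MorP PP) f hf ⟨V, hV⟩ ⟨U, hU⟩ hUV) (hg V V' hV hV' hV'V)

theorem morP_baseChange_of_locallyOfFiniteType (hc : IsPullback g' f' f g)
    [LocallyOfFiniteType g] (hf : MorP PP f) : MorP PP f' := by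
  refine morP_baseChange hPP hc (fun V V' hV hV' e => ?_) hf
  exact (HasRingHomProperty.appLE (P := @LocallyOfFiniteType) g inferInstance
    ⟨V, hV⟩ ⟨V', hV'⟩ e).essFiniteType

/-- fppf descent -/
theorem morP_descent (hc : IsPullback g' f' f g) [Flat g] [LocallyOfFinitePresentation g]
    [Surjective g] (hf' : MorP PP f') : MorP PP f := by
  haveI := hasRingHomProperty hPP
  have hflat' : Flat f' := flat_of_morP hPP hf'
  have hflat : Flat f :=
    MorphismProperty.of_isPullback_of_descendsAlong (P := @Flat)
      (Q := @Surjective ⊓ @Flat ⊓ @LocallyOfFinitePresentation) hc.flip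
      ⟨⟨inferInstance, inferInstance⟩, inferInstance⟩ hflat'
  rw [HasRingHomProperty.iff_appLE (P := MorP PP)]
  intro V U e
  have hflatR : (f.appLE V.1 U.1 e).hom.Flat :=
    HasRingHomProperty.appLE (P := @Flat) f hflat V U e
  letI : Algebra Γ(Y, V.1) Γ(X, U.1) := (f.appLE V.1 U.1 e).hom.toAlgebra
  haveI : Module.Flat Γ(Y, V.1) Γ(X, U.1) := hflatR
  show HomP PP Γ(Y, V.1) Γ(X, U.1)
  refine homP_of_forall_exists hPP _ _ (fun p _ => ?_)
  -- the point of `V` corresponding to `p`
  obtain ⟨y, hy⟩ : ∃ y : V.1, V.2.primeIdealOf y = ⟨p, inferInstance⟩ :=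
    ⟨V.2.isoSpec.inv ⟨p, inferInstance⟩, by
      simp [IsAffineOpen.primeIdealOf, ← Scheme.Hom.comp_apply]⟩
  obtain ⟨y', hy'⟩ := Surjective.surj (f := g) y.1
  obtain ⟨V', hV', hy'V', hV'V⟩ := TopologicalSpace.Opens.isBasis_iff_nbhd.mp
    Y'.isBasis_affineOpens (show y' ∈ g ⁻¹ᵁ V.1 by
      show g y' ∈ V.1
      rw [hy']; exact y.2)
  letI : Algebra Γ(Y, V.1) Γ(Y', V') := (g.appLE V.1 V' hV'V).hom.toAlgebra
  have hfp : (g.appLE V.1 V' hV'V).hom.FinitePresentation :=
    HasRingHomProperty.appLE (P := @LocallyOfFinitePresentation) g inferInstance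
      V ⟨V', hV'⟩ hV'V
  haveI : Algebra.EssFiniteType Γ(Y, V.1) Γ(Y', V') :=
    (RingHom.FiniteType.of_finitePresentation hfp).essFiniteType
  refine ⟨Γ(Y', V'), inferInstance, inferInstance, inferInstance,
    (hV'.primeIdealOf ⟨y', hy'V'⟩).asIdeal, inferInstance, ?_, ?_⟩
  · have h1 := IsAffineOpen.comap_primeIdealOf_appLE (f := g) V.1 V.2 V' hV' hV'V hy'V'
    have h2 : (⟨g y', hV'V hy'V'⟩ : V.1) = y := Subtype.ext hy'
    rw [h2, hy] at h1
    exact congrArg PrimeSpectrum.asIdeal h1
  · -- the affine open `U ×_V V'` of `X'`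
    have hUY : IsAffineOpen (g' ⁻¹ᵁ U.1 ⊓ f' ⁻¹ᵁ V') := by
      haveI : IsAffine V.1 := V.2
      haveI : IsAffine V' := hV'
      haveI : IsAffine U.1 := U.2
      exact .of_isIso (Scheme.Hom.isPullback_resLE hc hV'V e rfl).isoPullback.hom
    have hpo := (isIso_pushoutSection_iff hc hV'V e rfl).mp
      (isIso_pushoutSection_of_isAffineOpen hc hV'V e rfl V.2 hV' U.2)
    have hq : QP PP (f'.appLE V' (g' ⁻¹ᵁ U.1 ⊓ f' ⁻¹ᵁ V') inf_le_right).hom :=
      HasRingHomProperty.appLE (P := MorP PP) f' hf' ⟨V', hV'⟩ ⟨_, hUY⟩ inf_le_right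
    -- transport along the pushout
    letI : Algebra Γ(Y', V') Γ(X', g' ⁻¹ᵁ U.1 ⊓ f' ⁻¹ᵁ V') :=
      (f'.appLE V' (g' ⁻¹ᵁ U.1 ⊓ f' ⁻¹ᵁ V') inf_le_right).hom.toAlgebra
    letI : Algebra Γ(X, U.1) Γ(X', g' ⁻¹ᵁ U.1 ⊓ f' ⁻¹ᵁ V') :=
      (g'.appLE U.1 (g' ⁻¹ᵁ U.1 ⊓ f' ⁻¹ᵁ V') inf_le_left).hom.toAlgebra
    letI : Algebra Γ(Y, V.1) Γ(X', g' ⁻¹ᵁ U.1 ⊓ f' ⁻¹ᵁ V') :=
      ((f'.appLE V' (g' ⁻¹ᵁ U.1 ⊓ f' ⁻¹ᵁ V') inf_le_right).hom.comp
        (g.appLE V.1 V' hV'V).hom).toAlgebra
    haveI : IsScalarTower Γ(Y, V.1) Γ(Y', V') Γ(X', g' ⁻¹ᵁ U.1 ⊓ f' ⁻¹ᵁ V') :=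
      IsScalarTower.of_algebraMap_eq (fun _ => rfl)
    haveI : IsScalarTower Γ(Y, V.1) Γ(X, U.1) Γ(X', g' ⁻¹ᵁ U.1 ⊓ f' ⁻¹ᵁ V') :=
      IsScalarTower.of_algebraMap_eq (fun x => by
        have := congrArg (fun φ => φ.hom x) hpo.w
        exact this.symm)
    have hpo' : Algebra.IsPushout Γ(Y, V.1) Γ(Y', V') Γ(X, U.1)
        Γ(X', g' ⁻¹ᵁ U.1 ⊓ f' ⁻¹ᵁ V') := by
      rw [← CommRingCat.isPushout_iff_isPushout]
      exact hpo.flip
    exact homP_of_algEquiv hPP
      (Algebra.IsPushout.equiv Γ(Y, V.1) Γ(Y', V') Γ(X, U.1) _).symm hq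

end scheme


end
end Groth.Agent.Lib.Helper23.FibProp
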