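import Mathlib
import Groth.Agent.Lib.Helper23.FibProp1

/-!
Fibres of PP-morphisms (continuation of FibProp1). essFiniteType_of_surjectiveOnStalks_of_isField, homP_field_iff (over a field HomP PP k A ↔ PP k A), homP_iff_of_bijective, isField_Γ_residueField, essFiniteType_appLE_fromSpecResidueField (Γ(Y,V) → Γ(Spec κ(y),⊤) is ess. of finite type), under_bot_eq, morP_baseChange' (pointwise hypothesis on the base change map), morP_fiber (fibres of a PP-morphism are PP over the residue field), morP_of_fibres (flat + PP fibres ⇒ PP-morphism).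
-/

set_option autoImplicit false
set_option linter.style.haveILetI false
set_option linter.unusedSectionVars false
universe u
open TensorProduct
open TensorProduct CategoryTheory CategoryTheory.Limits AlgebraicGeometry

namespace Groth.Agent.Lib.Helper23.FibProp

section


open Groth.Agent.Lib.Helper23.FibProp

/-- a ring map to a field which is surjective on stalks is essentially of finite type -/
theorem essFiniteType_of_surjectiveOnStalks_of_isField {R K : Type u} [CommRing R] [CommRing K]
    (hK : IsField K) (φ : R →+* K) (h : φ.SurjectiveOnStalks) : φ.EssFiniteType := by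
  haveI := hK.isDomain
  letI := φ.toAlgebra
  show Algebra.EssFiniteType R K
  rw [Algebra.essFiniteType_iff]
  refine ⟨∅, fun s => ?_⟩
  have h1 := (RingHom.surjective_localRingHom_iff (f := φ) (⊥ : Ideal K)).mp
    (h ⊥ Ideal.isPrime_bot) s
  obtain ⟨x, r, c, hc, hr, e⟩ := h1
  have hc0 : c ≠ 0 := fun h0 => hc (by rw [h0]; exact Ideal.zero_mem _)
  have hr0 : φ r ≠ 0 := fun h0 => hr (by rw [h0]; exact Ideal.zero_mem _)
  refine ⟨φ r, Subalgebra.algebraMap_mem _ r, ?_, ?_⟩
  · obtain ⟨b, hb⟩ := hK.mul_inv_cancel hr0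
    exact IsUnit.of_mul_eq_one _ hb
  · have e2 : φ r * s = φ x := by
      have : c * (φ r * s) = c * φ x := by rw [← mul_assoc]; exact e
      exact mul_left_cancel₀ hc0 this
    rw [mul_comm, e2]
    exact Subalgebra.algebraMap_mem _ x

variable {PP : ∀ (k : Type u) [Field k] (F : Type u) [CommRing F] [Algebra k F], Prop}
  (hPP : FibreProp PP)
include hPP

/-- over a field, `HomP` is `PP` -/
theorem homP_field_iff (k A : Type u) [Field k] [CommRing A] [Algebra k A] :
    HomP PP k A ↔ PP k A := by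
  constructor
  · intro h
    exact (hPP.baseChange_iff (k := k) (K := (⊥ : Ideal k).ResidueField)).mpr (h.2 ⊥)
  · intro h
    refine ⟨inferInstance, fun p hp => ?_⟩
    have hp0 : p = ⊥ := by
      by_contra hne
      exact hp.ne_top ((Ideal.eq_bot_or_top p).resolve_left hne)
    subst hp0
    exact (hPP.baseChange_iff (k := k) (K := (⊥ : Ideal k).ResidueField)).mp h

/-- transport of `HomP` along an isomorphism of the base with a field -/
theorem homP_iff_of_bijective (k K A : Type u) [Field k] [CommRing K] [CommRing A] [Algebra k K]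
    [Algebra K A] [Algebra k A] [IsScalarTower k K A]
    (hb : Function.Bijective (algebraMap k K)) : HomP PP K A ↔ PP k A := by
  haveI : IsLocalization (Submonoid.powers (1 : k)) k :=
    IsLocalization.of_le_isUnit (S := .powers (1 : k)) (by simp)
  haveI : IsLocalization (Submonoid.powers (1 : k)) K :=
    IsLocalization.isLocalization_of_algEquiv (.powers (1 : k))
      (AlgEquiv.ofBijective (Algebra.ofId k K) hb)
  rw [← homP_field_iff hPP k A]
  constructor
  · intro h
    exact homP_localization_source hPP k K A (Submonoid.powers (1 : k)) h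
  · intro h
    haveI : IsLocalization (Algebra.algebraMapSubmonoid A (Submonoid.powers (1 : k))) A := by
      refine IsLocalization.self ?_
      rintro _ ⟨s, ⟨n, rfl⟩, rfl⟩
      simp
    exact homP_localization hPP k A h (Submonoid.powers (1 : k)) K A


end

section


open Groth.Agent.Lib.Helper23.FibProp

section pt

variable {Y : Scheme.{u}} (y : Y)

theorem isField_Γ_residueField : IsField Γ(Spec (Y.residueField y), ⊤) :=
  MulEquiv.isField (Field.toIsField (Y.residueField y))
    (Scheme.ΓSpecIso (Y.residueField y)).commRingCatIsoToRingEquiv.toMulEquiv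

theorem isAffineOpen_top_residueField :
    IsAffineOpen (⊤ : (Spec (Y.residueField y)).Opens) := isAffineOpen_top _

theorem top_le_preimage {V : Y.Opens} (hy : y ∈ V) :
    (⊤ : (Spec (Y.residueField y)).Opens) ≤ (Y.fromSpecResidueField y) ⁻¹ᵁ V := by
  intro s _
  show (Y.fromSpecResidueField y) s ∈ V
  rw [Scheme.fromSpecResidueField_apply]
  exact hy

theorem essFiniteType_appLE_fromSpecResidueField {V : Y.Opens} (hV : IsAffineOpen V)
    (hy : y ∈ V) :
    ((Y.fromSpecResidueField y).appLE V ⊤ (top_le_preimage y hy)).hom.EssFiniteType := by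
  apply essFiniteType_of_surjectiveOnStalks_of_isField (isField_Γ_residueField y)
  exact HasRingHomProperty.appLE (P := @SurjectiveOnStalks) (Y.fromSpecResidueField y)
    inferInstance ⟨V, hV⟩ ⟨⊤, isAffineOpen_top_residueField y⟩ (top_le_preimage y hy)

theorem under_bot_eq {V : Y.Opens} (hV : IsAffineOpen V) (hy : y ∈ V) :
    Ideal.comap ((Y.fromSpecResidueField y).appLE V ⊤ (top_le_preimage y hy)).hom ⊥ =
      (hV.primeIdealOf ⟨y, hy⟩).asIdeal := by
  let pt : Spec (Y.residueField y) := IsLocalRing.closedPoint (Y.residueField y)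
  have h1 := IsAffineOpen.comap_primeIdealOf_appLE (f := Y.fromSpecResidueField y) (x := pt)
    V hV ⊤ (isAffineOpen_top_residueField y) (top_le_preimage y hy) trivial
  have h2 : ((isAffineOpen_top_residueField y).primeIdealOf ⟨pt, trivial⟩).asIdeal = ⊥ := by
    have hK := isField_Γ_residueField y
    haveI := hK.isDomain
    have hne := ((isAffineOpen_top_residueField y).primeIdealOf ⟨pt, trivial⟩).2.ne_top
    by_contra hne0
    apply hne
    rw [Ideal.eq_top_iff_one]
    obtain ⟨a, ha, ha0⟩ := Submodule.exists_mem_ne_zero_of_ne_bot hne0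
    obtain ⟨b, hb⟩ := hK.mul_inv_cancel ha0
    rw [← hb]
    exact Ideal.mul_mem_right _ _ ha
  have h3 : (⟨(Y.fromSpecResidueField y) pt, top_le_preimage y hy trivial⟩ : V) = ⟨y, hy⟩ :=
    Subtype.ext (Scheme.fromSpecResidueField_apply y pt)
  rw [h3] at h1
  rw [← h2]
  exact congrArg PrimeSpectrum.asIdeal h1

end pt

variable {PP : ∀ (k : Type u) [Field k] (F : Type u) [CommRing F] [Algebra k F], Prop}
  (hPP : FibreProp PP)
include hPP

variable {X Y X' Y' : Scheme.{u}} {f : X ⟶ Y} {f' : X' ⟶ Y'} {g' : X' ⟶ X} {g : Y' ⟶ Y}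

/-- base change, with a pointwise hypothesis on the base change morphism -/
theorem morP_baseChange' (hc : IsPullback g' f' f g)
    (hg : ∀ (y' : Y') (V : Y.Opens) (_ : IsAffineOpen V) (_ : g y' ∈ V),
      ∃ (V' : Y'.Opens) (_ : IsAffineOpen V') (e : V' ≤ g ⁻¹ᵁ V), y' ∈ V' ∧
        (g.appLE V V' e).hom.EssFiniteType)
    (hf : MorP PP f) : MorP PP f' := by
  haveI := hasRingHomProperty hPP
  rw [HasRingHomProperty.iff_exists_appLE (P := MorP PP)
    (qp_stableUnderCompositionWithLocalizationAwaySource hPP)]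
  intro x'
  obtain ⟨V, hV, hyV, -⟩ := TopologicalSpace.Opens.isBasis_iff_nbhd.mp Y.isBasis_affineOpens
    (TopologicalSpace.Opens.mem_top (g (f' x')))
  obtain ⟨V', hV', hV'V, hy'V', hess⟩ := hg (f' x') V hV hyV
  have hx : g' x' ∈ f ⁻¹ᵁ V := by
    show f (g' x') ∈ V
    rw [← Scheme.Hom.comp_apply, hc.w, Scheme.Hom.comp_apply]
    exact hyV
  obtain ⟨U, hU, hxU, hUV⟩ := TopologicalSpace.Opens.isBasis_iff_nbhd.mp
    X.isBasis_affineOpens hx
  have hUY : IsAffineOpen (g' ⁻¹ᵁ U ⊓ f' ⁻¹ᵁ V') := by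
    haveI : IsAffine V := hV
    haveI : IsAffine V' := hV'
    haveI : IsAffine U := hU
    exact .of_isIso (Scheme.Hom.isPullback_resLE hc hV'V hUV rfl).isoPullback.hom
  refine ⟨⟨V', hV'⟩, ⟨g' ⁻¹ᵁ U ⊓ f' ⁻¹ᵁ V', hUY⟩, ⟨hxU, hy'V'⟩, inf_le_right, ?_⟩
  have hpo := (isIso_pushoutSection_iff hc hV'V hUV rfl).mp
    (isIso_pushoutSection_of_isAffineOpen hc hV'V hUV rfl hV hV' hU)
  exact qp_of_isPushout hPP hpo
    (HasRingHomProperty.appLE (P := MorP PP) f hf ⟨V, hV⟩ ⟨U, hU⟩ hUV) hess

/-- the fibres of a `PP`-morphism are `PP`-morphisms over the residue fields -/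
theorem morP_fiber (hf : MorP PP f) (y : Y) : MorP PP (f.fiberToSpecResidueField y) := by
  refine morP_baseChange' hPP (f := f) (g := Y.fromSpecResidueField y)
    (g' := f.fiberι y) (IsPullback.of_hasPullback f (Y.fromSpecResidueField y)) ?_ hf
  intro y' V hV hy'
  have hy : y ∈ V := by rwa [Scheme.fromSpecResidueField_apply] at hy'
  exact ⟨⊤, isAffineOpen_top_residueField y, top_le_preimage y hy, trivial,
    essFiniteType_appLE_fromSpecResidueField y hV hy⟩

/-- a flat morphism all of whose fibres are `PP` is a `PP`-morphism -/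
theorem morP_of_fibres (hflat : Flat f)
    (h : ∀ (y : Y) (W : (f.fiber y).Opens) (_ : IsAffineOpen W)
      (e : W ≤ (f.fiberToSpecResidueField y) ⁻¹ᵁ ⊤),
        QP PP ((f.fiberToSpecResidueField y).appLE ⊤ W e).hom) : MorP PP f := by
  haveI := hasRingHomProperty hPP
  rw [HasRingHomProperty.iff_appLE (P := MorP PP)]
  intro V U e
  have hflatR : (f.appLE V.1 U.1 e).hom.Flat :=
    HasRingHomProperty.appLE (P := @Flat) f hflat V U e
  letI : Algebra Γ(Y, V.1) Γ(X, U.1) := (f.appLE V.1 U.1 e).hom.toAlgebra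
  haveI : Module.Flat Γ(Y, V.1) Γ(X, U.1) := hflatR
  show HomP PP Γ(Y, V.1) Γ(X, U.1)
  refine homP_of_forall_exists hPP _ _ (fun p _ => ?_)
  obtain ⟨y, hy⟩ : ∃ y : V.1, V.2.primeIdealOf y = ⟨p, inferInstance⟩ :=
    ⟨V.2.isoSpec.inv ⟨p, inferInstance⟩, by
      simp [IsAffineOpen.primeIdealOf, ← Scheme.Hom.comp_apply]⟩
  obtain ⟨y, hyV⟩ := y
  have hc : IsPullback (f.fiberι y) (f.fiberToSpecResidueField y) f
      (Y.fromSpecResidueField y) := IsPullback.of_hasPullback f (Y.fromSpecResidueField y)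
  have hV'V := top_le_preimage y hyV
  have hV' := isAffineOpen_top_residueField y
  letI : Algebra Γ(Y, V.1) Γ(Spec (Y.residueField y), ⊤) :=
    ((Y.fromSpecResidueField y).appLE V.1 ⊤ hV'V).hom.toAlgebra
  haveI : Algebra.EssFiniteType Γ(Y, V.1) Γ(Spec (Y.residueField y), ⊤) :=
    essFiniteType_appLE_fromSpecResidueField y V.2 hyV
  haveI hKd : IsDomain Γ(Spec (Y.residueField y), ⊤) := (isField_Γ_residueField y).isDomain
  refine ⟨Γ(Spec (Y.residueField y), ⊤), inferInstance, inferInstance, inferInstance,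
    ⊥, Ideal.isPrime_bot, ?_, ?_⟩
  · have h1 := under_bot_eq y V.2 hyV
    rw [hy] at h1
    exact h1
  · have hUY : IsAffineOpen ((f.fiberι y) ⁻¹ᵁ U.1 ⊓ (f.fiberToSpecResidueField y) ⁻¹ᵁ ⊤) := by
      haveI : IsAffine V.1 := V.2
      haveI : IsAffine (⊤ : (Spec (Y.residueField y)).Opens) := hV'
      haveI : IsAffine U.1 := U.2
      exact .of_isIso (Scheme.Hom.isPullback_resLE hc hV'V e rfl).isoPullback.hom
    have hpo := (isIso_pushoutSection_iff hc hV'V e rfl).mp
      (isIso_pushoutSection_of_isAffineOpen hc hV'V e rfl V.2 hV' U.2)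
    have hq := h y _ hUY inf_le_right
    set W := (f.fiberι y) ⁻¹ᵁ U.1 ⊓ (f.fiberToSpecResidueField y) ⁻¹ᵁ ⊤ with hW
    letI : Algebra Γ(Spec (Y.residueField y), ⊤) Γ(f.fiber y, W) :=
      ((f.fiberToSpecResidueField y).appLE ⊤ W inf_le_right).hom.toAlgebra
    letI : Algebra Γ(X, U.1) Γ(f.fiber y, W) :=
      ((f.fiberι y).appLE U.1 W inf_le_left).hom.toAlgebra
    letI : Algebra Γ(Y, V.1) Γ(f.fiber y, W) :=
      (((f.fiberToSpecResidueField y).appLE ⊤ W inf_le_right).hom.comp
        ((Y.fromSpecResidueField y).appLE V.1 ⊤ hV'V).hom).toAlgebra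
    haveI : IsScalarTower Γ(Y, V.1) Γ(Spec (Y.residueField y), ⊤) Γ(f.fiber y, W) :=
      IsScalarTower.of_algebraMap_eq (fun _ => rfl)
    haveI : IsScalarTower Γ(Y, V.1) Γ(X, U.1) Γ(f.fiber y, W) :=
      IsScalarTower.of_algebraMap_eq (fun x => by
        have := congrArg (fun φ => φ.hom x) hpo.w
        exact this.symm)
    have hpo' : Algebra.IsPushout Γ(Y, V.1) Γ(Spec (Y.residueField y), ⊤) Γ(X, U.1)
        Γ(f.fiber y, W) := by
      rw [← CommRingCat.isPushout_iff_isPushout]
      exact hpo.flip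
    exact homP_of_algEquiv hPP
      (Algebra.IsPushout.equiv Γ(Y, V.1) Γ(Spec (Y.residueField y), ⊤) Γ(X, U.1) _).symm hq


end
end Groth.Agent.Lib.Helper23.FibProp
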