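import Mathlib
import Groth.Agent.Lib.Helper23.FibProp1
import Groth.Agent.Lib.Helper23.FibProp3

/-!
Weak version of the FibProp framework (FibreProp0 PP: invariance under algebra isomorphisms, localization at one element, finite Zariski covers and base field change along ISOMORPHISMS only). Enough for: qp_propertyIsLocal, hasRingHomProperty (MorP PP), morP_iff_appLE, morP_iff_exists_appLE, flat_of_morP, homP_baseChange / qp_of_isPushout along maps surjective on stalks, residueField_bijective, morP_fiber (fibres over residue fields), morP_of_fibres (flat + PP fibres implies MorP).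
-/

set_option autoImplicit false
set_option linter.style.haveILetI false
set_option linter.unusedSectionVars false
universe u
open TensorProduct
open TensorProduct CategoryTheory CategoryTheory.Limits AlgebraicGeometry

namespace Groth.Agent.Lib.Helper23.FibProp0

open Groth.Agent.Lib.Helper23.FibProp
open Groth.Agent.Lib.Helper23.RegularHom2

/-- weak version of `FibreProp`: localization only at one element, and base field change only along
isomorphisms. Enough for locality and the fibre criterion. -/
structure FibreProp0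
    (PP : ∀ (k : Type u) [Field k] (F : Type u) [CommRing F] [Algebra k F], Prop) : Prop where
  of_algEquiv : ∀ {k : Type u} [Field k] {F F' : Type u} [CommRing F] [CommRing F'] [Algebra k F]
    [Algebra k F'] (_ : F ≃ₐ[k] F'), PP k F → PP k F'
  of_away : ∀ {k : Type u} [Field k] {F : Type u} [CommRing F] [Algebra k F] (g : F),
    PP k F → PP k (Localization.Away g)
  of_span : ∀ {k : Type u} [Field k] {F : Type u} [CommRing F] [Algebra k F] (s : Finset F),
    Ideal.span (s : Set F) = ⊤ → (∀ r ∈ s, PP k (Localization.Away r)) → PP k F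
  baseChange_iff : ∀ {k K : Type u} [Field k] [Field K] [Algebra k K]
    (_ : Function.Bijective (algebraMap k K))
    {F : Type u} [CommRing F] [Algebra k F], PP k F ↔ PP K (K ⊗[k] F)

theorem FibreProp.toFibreProp0
    {PP : ∀ (k : Type u) [Field k] (F : Type u) [CommRing F] [Algebra k F], Prop}
    (h : FibreProp PP) : FibreProp0 PP where
  of_algEquiv := h.of_algEquiv
  of_away := fun g hF => h.of_isLocalization (Submonoid.powers g) hF
  of_span := h.of_span
  baseChange_iff := fun {k K} _ _ _ hb {F} _ _ => by
    haveI : Algebra.EssFiniteType k K :=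
      Algebra.EssFiniteType.of_surjective (Algebra.ofId k K) hb.2
    exact h.baseChange_iff

section

variable {PP : ∀ (k : Type u) [Field k] (F : Type u) [CommRing F] [Algebra k F], Prop}
  (hPP : FibreProp0 PP)
include hPP

theorem of_subsingleton {k : Type u} [Field k] {F : Type u} [CommRing F] [Algebra k F]
    [Subsingleton F] : PP k F := by
  refine hPP.of_span ∅ ?_ (fun r hr => absurd hr (Finset.notMem_empty r))
  exact Subsingleton.elim _ _

theorem homP_of_algEquiv {R S S' : Type u} [CommRing R] [CommRing S] [CommRing S']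
    [Algebra R S] [Algebra R S'] (e : S ≃ₐ[R] S') (h : HomP PP R S) : HomP PP R S' := by
  haveI := h.1
  refine ⟨Module.Flat.of_linearEquiv e.symm.toLinearEquiv, fun p _ => ?_⟩
  exact hPP.of_algEquiv (Algebra.TensorProduct.congr AlgEquiv.refl e) (h.2 p)

section LocTarget

variable {R S T : Type u} [CommRing R] [CommRing S] [CommRing T] [Algebra R S] [Algebra S T]
  [Algebra R T] [IsScalarTower R S T]

/-- the fibre of a localization is a localization of the fibre -/
theorem fibre_away (g : S) [IsLocalization.Away g T] (p : Ideal R) [p.IsPrime]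
    (h : PP p.ResidueField (p.Fiber S)) : PP p.ResidueField (p.Fiber T) := by
  let ι : S →+* p.Fiber S :=
    (Algebra.TensorProduct.includeRight (R := R) (A := p.ResidueField) (B := S)).toRingHom
  haveI : IsLocalization ((Submonoid.powers g).map
      (Algebra.TensorProduct.includeRight (R := R) (A := p.ResidueField)))
      (Localization.Away (ι g)) := by
    have : (Submonoid.powers g).map
        (Algebra.TensorProduct.includeRight (R := R) (A := p.ResidueField)) =
        Submonoid.powers (ι g) := Submonoid.map_powers _ g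
    rw [this]
    infer_instance
  let e := IsLocalization.tensorProductEquivOfMapIncludeRight R p.ResidueField
    (Submonoid.powers g) T (Localization.Away (ι g))
  exact hPP.of_algEquiv e.symm (hPP.of_away (ι g) h)

theorem homP_away_target (g : S) [IsLocalization.Away g T] (h : HomP PP R S) : HomP PP R T := by
  haveI := h.1
  haveI : Module.Flat S T := IsLocalization.flat T (Submonoid.powers g)
  exact ⟨Module.Flat.trans R S T, fun p _ => fibre_away hPP g p (h.2 p)⟩

end LocTarget

section SpanTarget

variable {R S : Type u} [CommRing R] [CommRing S] [Algebra R S]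

theorem fibre_of_span (p : Ideal R) [p.IsPrime] (s : Finset S)
    (hs : Ideal.span (s : Set S) = ⊤)
    (h : ∀ r ∈ s, PP p.ResidueField (p.Fiber (Localization.Away r))) :
    PP p.ResidueField (p.Fiber S) := by
  classical
  let ι : S →+* p.Fiber S :=
    (Algebra.TensorProduct.includeRight (R := R) (A := p.ResidueField) (B := S)).toRingHom
  refine hPP.of_span (s.image ι) ?_ ?_
  · have := congrArg (Ideal.map ι) hs
    rw [Ideal.map_span, Ideal.map_top] at this
    rw [Finset.coe_image]
    exact this
  · intro r' hr'
    obtain ⟨r, hr, rfl⟩ := Finset.mem_image.mp hr'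
    haveI : IsLocalization ((Submonoid.powers r).map
        (Algebra.TensorProduct.includeRight (R := R) (A := p.ResidueField)))
        (Localization.Away (ι r)) := by
      have : (Submonoid.powers r).map
          (Algebra.TensorProduct.includeRight (R := R) (A := p.ResidueField)) =
          Submonoid.powers (ι r) := Submonoid.map_powers _ r
      rw [this]
      infer_instance
    let e := IsLocalization.tensorProductEquivOfMapIncludeRight R p.ResidueField
      (Submonoid.powers r) (Localization.Away r) (Localization.Away (ι r))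
    exact hPP.of_algEquiv e (h r hr)

theorem homP_of_span_target (s : Finset S) (hs : Ideal.span (s : Set S) = ⊤)
    (h : ∀ r ∈ s, HomP PP R (Localization.Away r)) : HomP PP R S := by
  refine ⟨?_, fun p _ => fibre_of_span hPP p s hs (fun r hr => (h r hr).2 p)⟩
  refine Module.flat_of_isLocalized_span S S (s : Set S) hs _
    (fun r => Algebra.linearMap S (Localization.Away r.1)) ?_
  intro r
  exact (h r.1 r.2).1

end SpanTarget

end

/-- for a ring map which is surjective on stalks, the residue field extensions are trivial -/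
theorem residueField_bijective {A A' : Type u} [CommRing A] [CommRing A'] [Algebra A A']
    (h : (algebraMap A A').SurjectiveOnStalks)
    (p : Ideal A) [p.IsPrime] (P : Ideal A') [P.IsPrime] [P.LiesOver p]
    [Algebra (Localization.AtPrime p) (Localization.AtPrime P)]
    [Localization.AtPrime.IsLiesOverAlgebra p P] :
    Function.Bijective (algebraMap p.ResidueField P.ResidueField) := by
  refine ⟨RingHom.injective _, fun y => ?_⟩
  obtain ⟨z, rfl⟩ := IsLocalRing.residue_surjective y
  have key : ∀ (q : Ideal A) (_ : q.IsPrime) (e : q = P.comap (algebraMap A A')),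
      Function.Surjective (Localization.localRingHom q P (algebraMap A A') e) := by
    intro q hq e
    subst e
    exact h P inferInstance
  obtain ⟨w, hw⟩ := key p inferInstance (P.over_def p) z
  refine ⟨IsLocalRing.residue _ w, ?_⟩
  rw [IsLocalRing.ResidueField.algebraMap_residue,
    Localization.AtPrime.IsLiesOverAlgebra.algebraMap_eq, hw]

section

variable {PP : ∀ (k : Type u) [Field k] (F : Type u) [CommRing F] [Algebra k F], Prop}
  (hPP : FibreProp0 PP)
include hPP

section FibreBC

variable (A A' B : Type u) [CommRing A] [CommRing A'] [CommRing B] [Algebra A A'] [Algebra A B]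
  (p : Ideal A) [p.IsPrime] (P : Ideal A') [P.IsPrime] [P.LiesOver p]
  [Algebra (Localization.AtPrime p) (Localization.AtPrime P)]
  [Localization.AtPrime.IsLiesOverAlgebra p P]

theorem fibre_baseChange_iff (hb : Function.Bijective (algebraMap p.ResidueField P.ResidueField)) :
    PP p.ResidueField (p.Fiber B) ↔ PP P.ResidueField (P.Fiber (A' ⊗[A] B)) := by
  rw [hPP.baseChange_iff (k := p.ResidueField) (K := P.ResidueField) hb]
  exact ⟨hPP.of_algEquiv (fibreEquiv A A' B p P).symm, hPP.of_algEquiv (fibreEquiv A A' B p P)⟩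

end FibreBC

section BC

variable (A A' B : Type u) [CommRing A] [CommRing A'] [CommRing B] [Algebra A A'] [Algebra A B]

theorem homP_baseChange (hs : (algebraMap A A').SurjectiveOnStalks) (h : HomP PP A B) :
    HomP PP A' (A' ⊗[A] B) := by
  haveI := h.1
  refine ⟨inferInstance, fun P _ => ?_⟩
  haveI : P.LiesOver (P.under A) := ⟨rfl⟩
  letI := Localization.AtPrime.algebraOfLiesOver (P.under A) P
  exact (fibre_baseChange_iff hPP A A' B (P.under A) P
    (residueField_bijective hs _ _)).mp (h.2 (P.under A))

/-- pointwise descent -/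
theorem homP_of_forall_exists [Module.Flat A B]
    (h : ∀ (p : Ideal A) [p.IsPrime], ∃ (A' : Type u) (_ : CommRing A') (_ : Algebra A A')
      (_ : (algebraMap A A').SurjectiveOnStalks) (P : Ideal A') (_ : P.IsPrime), P.under A = p ∧
      HomP PP A' (A' ⊗[A] B)) : HomP PP A B := by
  refine ⟨inferInstance, fun p _ => ?_⟩
  obtain ⟨A', _, _, hs, P, _, hP, h'⟩ := h p
  subst hP
  haveI : P.LiesOver (P.under A) := ⟨rfl⟩
  letI := Localization.AtPrime.algebraOfLiesOver (P.under A) P
  exact (fibre_baseChange_iff hPP A A' B (P.under A) P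
    (residueField_bijective hs _ _)).mpr (h'.2 P)

end BC

section Loc

theorem homP_localization (A B : Type u) [CommRing A] [CommRing B]
    [Algebra A B] (h : HomP PP A B) (S : Submonoid A)
    (A' B' : Type u) [CommRing A'] [CommRing B'] [Algebra A A'] [Algebra B B'] [Algebra A' B']
    [Algebra A B']
    [IsScalarTower A A' B'] [IsScalarTower A B B'] [IsLocalization S A']
    [IsLocalization (Algebra.algebraMapSubmonoid B S) B'] :
    HomP PP A' B' := by
  have h1 := homP_baseChange hPP A A' B (RingHom.surjectiveOnStalks_of_isLocalization S A') h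
  haveI : Algebra.IsPushout A B A' B' := Algebra.isPushout_of_isLocalization S A' B B'
  haveI : Algebra.IsPushout A A' B B' := Algebra.IsPushout.symm inferInstance
  exact homP_of_algEquiv hPP (Algebra.IsPushout.equiv A A' B B') h1

end Loc

section Source

variable (A A' T : Type u) [CommRing A] [CommRing A'] [CommRing T] [Algebra A A'] [Algebra A' T]
  [Algebra A T] [IsScalarTower A A' T]

/-- composition with a localization of the source -/
theorem homP_localization_source (S : Submonoid A) [IsLocalization S A'] (h : HomP PP A' T) :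
    HomP PP A T := by
  haveI := h.1
  haveI : Module.Flat A A' := IsLocalization.flat A' S
  haveI : Module.Flat A T := Module.Flat.trans A A' T
  have hs : (algebraMap A A').SurjectiveOnStalks := RingHom.surjectiveOnStalks_of_isLocalization S A'
  -- `T` is its own localization at the image of `S`
  haveI : IsLocalization (Algebra.algebraMapSubmonoid T S) T := by
    refine IsLocalization.self ?_
    rintro _ ⟨s, hs, rfl⟩
    rw [IsScalarTower.algebraMap_apply A A' T]
    exact (IsLocalization.map_units A' ⟨s, hs⟩).map _
  haveI : Algebra.IsPushout A T A' T := Algebra.isPushout_of_isLocalization S A' T T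
  haveI : Algebra.IsPushout A A' T T := Algebra.IsPushout.symm inferInstance
  have h1 : HomP PP A' (A' ⊗[A] T) :=
    homP_of_algEquiv hPP (Algebra.IsPushout.equiv A A' T T).symm h
  refine ⟨inferInstance, fun p _ => ?_⟩
  by_cases hd : Disjoint (S : Set A) (p : Set A)
  · haveI hPprime : (p.map (algebraMap A A')).IsPrime :=
      IsLocalization.isPrime_of_isPrime_disjoint S A' p inferInstance hd
    have hcomap : (p.map (algebraMap A A')).under A = p :=
      IsLocalization.under_map_of_isPrime_disjoint S A' inferInstance hd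
    haveI : (p.map (algebraMap A A')).LiesOver p := ⟨hcomap.symm⟩
    letI := Localization.AtPrime.algebraOfLiesOver p (p.map (algebraMap A A'))
    exact (fibre_baseChange_iff hPP A A' T p (p.map (algebraMap A A'))
      (residueField_bijective hs _ _)).mpr (h1.2 _)
  · -- the fibre is the zero ring
    rw [Set.not_disjoint_iff] at hd
    obtain ⟨s, hsS, hsp⟩ := hd
    haveI : Subsingleton (p.Fiber T) := by
      have hu : IsUnit (algebraMap A T s) := by
        rw [IsScalarTower.algebraMap_apply A A' T]
        exact (IsLocalization.map_units A' ⟨s, hsS⟩).map _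
      have h0 : (algebraMap A p.ResidueField s) = 0 := by
        rw [Ideal.algebraMap_residueField_eq_zero]
        exact hsp
      have hz : (1 : p.ResidueField) ⊗ₜ[A] (algebraMap A T s) = 0 := by
        rw [Algebra.algebraMap_eq_smul_one, ← TensorProduct.smul_tmul,
          ← Algebra.algebraMap_eq_smul_one, h0, TensorProduct.zero_tmul]
      have hu' : IsUnit ((1 : p.ResidueField) ⊗ₜ[A] (algebraMap A T s)) :=
        hu.map (Algebra.TensorProduct.includeRight (R := A) (A := p.ResidueField) (B := T))
      rw [hz] at hu'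
      exact subsingleton_of_zero_eq_one ((isUnit_zero_iff.mp hu'))
    exact of_subsingleton hPP

end Source

end


open Groth.Agent.Lib.Helper23.FibProp
open Groth.Agent.Lib.Helper23.RegularHom2

section

variable {PP : ∀ (k : Type u) [Field k] (F : Type u) [CommRing F] [Algebra k F], Prop}
  (hPP : FibreProp0 PP)
include hPP

theorem qp_localizationAwayPreserves : RingHom.LocalizationAwayPreserves (QP PP) := by
  intro R S _ _ f r R' S' _ _ _ _ _ _ h
  letI := f.toAlgebra
  letI : Algebra R' S' := (IsLocalization.Away.map R' S' f r).toAlgebra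
  letI : Algebra R S' := ((algebraMap S S').comp f).toAlgebra
  haveI : IsScalarTower R S S' := IsScalarTower.of_algebraMap_eq (fun _ => rfl)
  haveI : IsScalarTower R R' S' := IsScalarTower.of_algebraMap_eq (fun x => by
    show (algebraMap S S') (f x) = (IsLocalization.Away.map R' S' f r) (algebraMap R R' x)
    rw [IsLocalization.Away.map, IsLocalization.map_eq])
  haveI : IsLocalization (Algebra.algebraMapSubmonoid S (Submonoid.powers r)) S' := by
    have : Algebra.algebraMapSubmonoid S (Submonoid.powers r) = Submonoid.powers (f r) :=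
      Submonoid.map_powers _ r
    rw [this]
    infer_instance
  exact homP_localization hPP R S h (Submonoid.powers r) R' S'

theorem qp_stableUnderCompositionWithLocalizationAwayTarget :
    RingHom.StableUnderCompositionWithLocalizationAwayTarget (QP PP) := by
  intro R S T _ _ _ _ s _ f h
  letI := f.toAlgebra
  letI : Algebra R T := ((algebraMap S T).comp f).toAlgebra
  haveI : IsScalarTower R S T := IsScalarTower.of_algebraMap_eq (fun _ => rfl)
  exact homP_away_target hPP s h

theorem qp_stableUnderCompositionWithLocalizationAwaySource :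
    RingHom.StableUnderCompositionWithLocalizationAwaySource (QP PP) := by
  intro R S T _ _ _ _ r _ f h
  letI := f.toAlgebra
  letI : Algebra R T := (f.comp (algebraMap R S)).toAlgebra
  haveI : IsScalarTower R S T := IsScalarTower.of_algebraMap_eq (fun _ => rfl)
  exact homP_localization_source hPP R S T (Submonoid.powers r) h

theorem qp_ofLocalizationSpanTarget : RingHom.OfLocalizationSpanTarget (QP PP) := by
  rw [RingHom.ofLocalizationSpanTarget_iff_finite]
  intro R S _ _ f s hs h
  letI := f.toAlgebra
  refine homP_of_span_target hPP s hs (fun r hr => ?_)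
  have h1 : @HomP PP R (Localization.Away r) _ _
      ((algebraMap S (Localization.Away r)).comp f).toAlgebra := h ⟨r, hr⟩
  have heq : (((algebraMap S (Localization.Away r)).comp f).toAlgebra :
      Algebra R (Localization.Away r)) = (inferInstance : Algebra R (Localization.Away r)) := by
    refine Algebra.algebra_ext _ _ (fun x => ?_)
    rw [IsScalarTower.algebraMap_apply R S (Localization.Away r)]
    rfl
  rw [heq] at h1
  exact h1

theorem qp_propertyIsLocal : RingHom.PropertyIsLocal (QP PP) where
  localizationAwayPreserves := qp_localizationAwayPreserves hPP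
  ofLocalizationSpanTarget := qp_ofLocalizationSpanTarget hPP
  ofLocalizationSpan := (qp_ofLocalizationSpanTarget hPP).ofLocalizationSpan
    (qp_stableUnderCompositionWithLocalizationAwaySource hPP)
  StableUnderCompositionWithLocalizationAwayTarget :=
    qp_stableUnderCompositionWithLocalizationAwayTarget hPP

/-- `QP` is stable under cobase change along maps which are surjective on stalks -/
theorem qp_of_isPushout {R S R' S' : CommRingCat.{u}} {f : R ⟶ S} {g : R ⟶ R'} {g' : S ⟶ S'}
    {f' : R' ⟶ S'} (h : IsPushout f g g' f') (hf : QP PP f.hom) (hg : g.hom.SurjectiveOnStalks) :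
    QP PP f'.hom := by
  letI : Algebra R S := f.hom.toAlgebra
  letI : Algebra R R' := g.hom.toAlgebra
  letI : Algebra R' S' := f'.hom.toAlgebra
  letI : Algebra S S' := g'.hom.toAlgebra
  letI : Algebra R S' := (f'.hom.comp g.hom).toAlgebra
  haveI : IsScalarTower R R' S' := IsScalarTower.of_algebraMap_eq (fun _ => rfl)
  haveI : IsScalarTower R S S' := IsScalarTower.of_algebraMap_eq (fun x => by
    have := congrArg (fun φ => φ.hom x) h.w
    exact this.symm)
  have hpo : Algebra.IsPushout R R' S S' := by
    rw [← CommRingCat.isPushout_iff_isPushout]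
    exact h.flip
  have h1 : HomP PP R' (R' ⊗[R] S) := homP_baseChange hPP R R' S hg hf
  exact homP_of_algEquiv hPP (Algebra.IsPushout.equiv R R' S S') h1

theorem hasRingHomProperty : HasRingHomProperty (MorP PP) (QP PP) :=
  ⟨qp_propertyIsLocal hPP, rfl⟩

variable {X Y X' Y' : Scheme.{u}} {f : X ⟶ Y} {f' : X' ⟶ Y'} {g' : X' ⟶ X} {g : Y' ⟶ Y}

theorem morP_iff_appLE :
    MorP PP f ↔ ∀ (U : X.Opens) (V : Y.Opens) (_ : IsAffineOpen U) (_ : IsAffineOpen V)
      (hUV : U ≤ f ⁻¹ᵁ V), QP PP (f.appLE V U hUV).hom := by
  haveI := hasRingHomProperty hPP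
  rw [HasRingHomProperty.iff_appLE (P := MorP PP)]
  exact ⟨fun h U V hU hV e => h ⟨V, hV⟩ ⟨U, hU⟩ e, fun h V U e => h U.1 V.1 U.2 V.2 e⟩

theorem morP_iff_exists_appLE :
    MorP PP f ↔ ∀ x : X, ∃ (U : Y.affineOpens) (V : X.affineOpens) (_ : x ∈ V.1)
      (e : V.1 ≤ f ⁻¹ᵁ U.1), QP PP (f.appLE U.1 V.1 e).hom := by
  haveI := hasRingHomProperty hPP
  exact HasRingHomProperty.iff_exists_appLE (P := MorP PP)
    (qp_stableUnderCompositionWithLocalizationAwaySource hPP)

theorem flat_of_morP (hf : MorP PP f) : Flat f := by
  haveI := hasRingHomProperty hPP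
  rw [HasRingHomProperty.iff_appLE (P := @Flat)]
  intro V U e
  exact (HasRingHomProperty.appLE (P := MorP PP) f hf V U e).1

/-- base change, with a pointwise hypothesis on the base change morphism -/
theorem morP_baseChange' (hc : IsPullback g' f' f g)
    (hg : ∀ (y' : Y') (V : Y.Opens) (_ : IsAffineOpen V) (_ : g y' ∈ V),
      ∃ (V' : Y'.Opens) (_ : IsAffineOpen V') (e : V' ≤ g ⁻¹ᵁ V), y' ∈ V' ∧
        (g.appLE V V' e).hom.SurjectiveOnStalks)
    (hf : MorP PP f) : MorP PP f' := by
  haveI := hasRingHomProperty hPP
  rw [HasRingHomProperty.iff_exists_appLE (P := MorP PP)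
    (qp_stableUnderCompositionWithLocalizationAwaySource hPP)]
  intro x'
  obtain ⟨V, hV, hyV, -⟩ := TopologicalSpace.Opens.isBasis_iff_nbhd.mp Y.isBasis_affineOpens
    (TopologicalSpace.Opens.mem_top (g (f' x')))
  obtain ⟨V', hV', hV'V, hy'V', hess⟩ := hg (f' x') V hV hyV
  have hx : g' x' ∈ f ⁻¹ᵁ V := by
    show f (g' x') ∈ V
    rw [← Scheme.Hom.comp_apply, hc.w, Scheme.Hom.comp_apply]
    exact hyV
  obtain ⟨U, hU, hxU, hUV⟩ := TopologicalSpace.Opens.isBasis_iff_nbhd.mp
    X.isBasis_affineOpens hx
  have hUY : IsAffineOpen (g' ⁻¹ᵁ U ⊓ f' ⁻¹ᵁ V') := by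
    haveI : IsAffine V := hV
    haveI : IsAffine V' := hV'
    haveI : IsAffine U := hU
    exact .of_isIso (Scheme.Hom.isPullback_resLE hc hV'V hUV rfl).isoPullback.hom
  refine ⟨⟨V', hV'⟩, ⟨g' ⁻¹ᵁ U ⊓ f' ⁻¹ᵁ V', hUY⟩, ⟨hxU, hy'V'⟩, inf_le_right, ?_⟩
  have hpo := (isIso_pushoutSection_iff hc hV'V hUV rfl).mp
    (isIso_pushoutSection_of_isAffineOpen hc hV'V hUV rfl hV hV' hU)
  exact qp_of_isPushout hPP hpo
    (HasRingHomProperty.appLE (P := MorP PP) f hf ⟨V, hV⟩ ⟨U, hU⟩ hUV) hess

omit hPP in
theorem surjectiveOnStalks_appLE_fromSpecResidueField (y : Y) {V : Y.Opens} (hV : IsAffineOpen V)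
    (hy : y ∈ V) :
    ((Y.fromSpecResidueField y).appLE V ⊤ (top_le_preimage y hy)).hom.SurjectiveOnStalks :=
  HasRingHomProperty.appLE (P := @SurjectiveOnStalks) (Y.fromSpecResidueField y)
    inferInstance ⟨V, hV⟩ ⟨⊤, isAffineOpen_top_residueField y⟩ (top_le_preimage y hy)

/-- the fibres of a `PP`-morphism are `PP`-morphisms over the residue fields -/
theorem morP_fiber (hf : MorP PP f) (y : Y) : MorP PP (f.fiberToSpecResidueField y) := by
  refine morP_baseChange' hPP (f := f) (g := Y.fromSpecResidueField y)
    (g' := f.fiberι y) (IsPullback.of_hasPullback f (Y.fromSpecResidueField y)) ?_ hf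
  intro y' V hV hy'
  have hy : y ∈ V := by rwa [Scheme.fromSpecResidueField_apply] at hy'
  exact ⟨⊤, isAffineOpen_top_residueField y, top_le_preimage y hy, trivial,
    surjectiveOnStalks_appLE_fromSpecResidueField y hV hy⟩

/-- a flat morphism all of whose fibres are `PP` is a `PP`-morphism -/
theorem morP_of_fibres (hflat : Flat f)
    (h : ∀ (y : Y) (W : (f.fiber y).Opens) (_ : IsAffineOpen W)
      (e : W ≤ (f.fiberToSpecResidueField y) ⁻¹ᵁ ⊤),
        QP PP ((f.fiberToSpecResidueField y).appLE ⊤ W e).hom) : MorP PP f := by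
  haveI := hasRingHomProperty hPP
  rw [HasRingHomProperty.iff_appLE (P := MorP PP)]
  intro V U e
  have hflatR : (f.appLE V.1 U.1 e).hom.Flat :=
    HasRingHomProperty.appLE (P := @Flat) f hflat V U e
  letI : Algebra Γ(Y, V.1) Γ(X, U.1) := (f.appLE V.1 U.1 e).hom.toAlgebra
  haveI : Module.Flat Γ(Y, V.1) Γ(X, U.1) := hflatR
  show HomP PP Γ(Y, V.1) Γ(X, U.1)
  refine homP_of_forall_exists hPP _ _ (fun p _ => ?_)
  obtain ⟨y, hy⟩ : ∃ y : V.1, V.2.primeIdealOf y = ⟨p, inferInstance⟩ :=
    ⟨V.2.isoSpec.inv ⟨p, inferInstance⟩, by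
      simp [IsAffineOpen.primeIdealOf, ← Scheme.Hom.comp_apply]⟩
  obtain ⟨y, hyV⟩ := y
  have hc : IsPullback (f.fiberι y) (f.fiberToSpecResidueField y) f
      (Y.fromSpecResidueField y) := IsPullback.of_hasPullback f (Y.fromSpecResidueField y)
  have hV'V := top_le_preimage y hyV
  have hV' := isAffineOpen_top_residueField y
  letI : Algebra Γ(Y, V.1) Γ(Spec (Y.residueField y), ⊤) :=
    ((Y.fromSpecResidueField y).appLE V.1 ⊤ hV'V).hom.toAlgebra
  have hsos : (algebraMap Γ(Y, V.1) Γ(Spec (Y.residueField y), ⊤)).SurjectiveOnStalks :=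
    surjectiveOnStalks_appLE_fromSpecResidueField y V.2 hyV
  haveI hKd : IsDomain Γ(Spec (Y.residueField y), ⊤) := (isField_Γ_residueField y).isDomain
  refine ⟨Γ(Spec (Y.residueField y), ⊤), inferInstance, inferInstance, hsos,
    ⊥, Ideal.isPrime_bot, ?_, ?_⟩
  · have h1 := under_bot_eq y V.2 hyV
    rw [hy] at h1
    exact h1
  · have hUY : IsAffineOpen ((f.fiberι y) ⁻¹ᵁ U.1 ⊓ (f.fiberToSpecResidueField y) ⁻¹ᵁ ⊤) := by
      haveI : IsAffine V.1 := V.2
      haveI : IsAffine (⊤ : (Spec (Y.residueField y)).Opens) := hV'
      haveI : IsAffine U.1 := U.2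
      exact .of_isIso (Scheme.Hom.isPullback_resLE hc hV'V e rfl).isoPullback.hom
    have hpo := (isIso_pushoutSection_iff hc hV'V e rfl).mp
      (isIso_pushoutSection_of_isAffineOpen hc hV'V e rfl V.2 hV' U.2)
    have hq := h y _ hUY inf_le_right
    set W := (f.fiberι y) ⁻¹ᵁ U.1 ⊓ (f.fiberToSpecResidueField y) ⁻¹ᵁ ⊤ with hW
    letI : Algebra Γ(Spec (Y.residueField y), ⊤) Γ(f.fiber y, W) :=
      ((f.fiberToSpecResidueField y).appLE ⊤ W inf_le_right).hom.toAlgebra
    letI : Algebra Γ(X, U.1) Γ(f.fiber y, W) :=
      ((f.fiberι y).appLE U.1 W inf_le_left).hom.toAlgebra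
    letI : Algebra Γ(Y, V.1) Γ(f.fiber y, W) :=
      (((f.fiberToSpecResidueField y).appLE ⊤ W inf_le_right).hom.comp
        ((Y.fromSpecResidueField y).appLE V.1 ⊤ hV'V).hom).toAlgebra
    haveI : IsScalarTower Γ(Y, V.1) Γ(Spec (Y.residueField y), ⊤) Γ(f.fiber y, W) :=
      IsScalarTower.of_algebraMap_eq (fun _ => rfl)
    haveI : IsScalarTower Γ(Y, V.1) Γ(X, U.1) Γ(f.fiber y, W) :=
      IsScalarTower.of_algebraMap_eq (fun x => by
        have := congrArg (fun φ => φ.hom x) hpo.w
        exact this.symm)
    have hpo' : Algebra.IsPushout Γ(Y, V.1) Γ(Spec (Y.residueField y), ⊤) Γ(X, U.1)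
        Γ(f.fiber y, W) := by
      rw [← CommRingCat.isPushout_iff_isPushout]
      exact hpo.flip
    exact homP_of_algEquiv hPP
      (Algebra.IsPushout.equiv Γ(Y, V.1) Γ(Spec (Y.residueField y), ⊤) Γ(X, U.1) _).symm hq

end

end Groth.Agent.Lib.Helper23.FibProp0
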