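import Mathlib
import Groth.Agent.Lib.Helper23.SyntF2
import Groth.Agent.Lib.Helper23.FibProp4

/-!
LCI over a field as a FibreProp0 (PLci, fibreProp0_lci): isLCIOver_of_algEquiv, isLCIOver_of_span, isGlobalCI_iff_of_bijective / isLCIOver_iff_of_bijective (change of base field along an isomorphism), isLCIOver_baseChange_iff. Syntomic: isSyntomic_iff (IsSyntomic = HomP PLci + finite presentation), isSyntomicMor_iff (IsSyntomicMor f iff MorP PLci f and LocallyOfFinitePresentation f), isSyntomicMor_iff_forall (all affine pairs), isSyntomicMor_of_fibres, isSyntomicMor_fiber, flat_of_isSyntomicMor.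
-/

set_option autoImplicit false
set_option linter.style.haveILetI false
set_option linter.unusedSectionVars false
universe u
open TensorProduct
open TensorProduct CategoryTheory CategoryTheory.Limits AlgebraicGeometry

namespace Groth.Agent.Lib.Helper23.FibProp0

open Groth.Agent.Lib.Helper23.FibProp
open Groth.Agent.Lib.Helper23.SyntF

section Basic

variable {k : Type u} [Field k] {S T : Type u} [CommRing S] [CommRing T] [Algebra k S]
  [Algebra k T]

theorem isLCIOver_of_algEquiv (e : S ≃ₐ[k] T) (h : Synt.IsLCIOver k S) : Synt.IsLCIOver k T := by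
  haveI := h.1
  haveI : Algebra.FiniteType k T := Algebra.FiniteType.equiv inferInstance e
  refine ⟨inferInstance, fun p => ?_⟩
  obtain ⟨g, hg, hCI⟩ := h.2 ⟨p.asIdeal.comap e.toRingHom, inferInstance⟩
  refine ⟨e g, hg, ?_⟩
  let e' : Localization.Away g ≃ₐ[k] Localization.Away (e g) :=
    IsLocalization.algEquivOfAlgEquiv (M := Submonoid.powers g) (Localization.Away g)
      (T := Submonoid.powers (e g)) (Localization.Away (e g)) e (Submonoid.map_powers _ g)
  exact isGlobalCI_of_algEquiv e' hCI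

theorem isLCIOver_of_span (s : Finset S) (hs : Ideal.span (s : Set S) = ⊤)
    (h : ∀ r ∈ s, Synt.IsLCIOver k (Localization.Away r)) : Synt.IsLCIOver k S := by
  haveI : Algebra.FiniteType k S :=
    Algebra.FiniteType.of_span_eq_top_target (s : Set S) hs (fun r hr => (h r hr).1)
  rw [(t9145 (k := k) (S := S)).1]
  intro p
  obtain ⟨g, hgs, hgp⟩ : ∃ g ∈ s, g ∉ p.asIdeal := by
    by_contra hcon
    push_neg at hcon
    have : Ideal.span (s : Set S) ≤ p.asIdeal := Ideal.span_le.mpr (fun g hg => hcon g hg)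
    rw [hs] at this
    exact p.isPrime.ne_top (top_le_iff.mp this)
  exact isCIOver_atPrime_of_away_isLCIOver p.asIdeal g hgp (h g hgs)

end Basic

section Restrict

variable {k K : Type u} [Field k] [Field K] [Algebra k K]
  (hb : Function.Bijective (algebraMap k K))
  {T : Type u} [CommRing T] [Algebra k T] [Algebra K T] [IsScalarTower k K T]
include hb

theorem aeval_map_eq {n : ℕ} (φ : MvPolynomial (Fin n) k →ₐ[k] T) (x : MvPolynomial (Fin n) k) :
    (MvPolynomial.aeval (R := K) (fun i => φ (MvPolynomial.X i)))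
      (MvPolynomial.map (algebraMap k K) x) = φ x := by
  rw [MvPolynomial.aeval_map_algebraMap]
  conv_rhs => rw [MvPolynomial.aeval_unique φ]
  rfl

theorem pres_up {n c : ℕ} (p : Pres k (S := T) n c) : Nonempty (Pres K (S := T) n c) := by
  refine ⟨⟨MvPolynomial.aeval (fun i => p.φ (MvPolynomial.X i)),
    fun i => MvPolynomial.map (algebraMap k K) (p.r i), ?_, ?_⟩⟩
  · intro t
    obtain ⟨x, rfl⟩ := p.surj t
    exact ⟨MvPolynomial.map (algebraMap k K) x, aeval_map_eq hb p.φ x⟩
  · apply le_antisymm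
    · intro y hy
      obtain ⟨x, rfl⟩ := MvPolynomial.map_surjective (algebraMap k K) hb.2 y
      have hx : x ∈ RingHom.ker p.φ.toRingHom := by
        rw [RingHom.mem_ker]
        rw [RingHom.mem_ker] at hy
        show p.φ x = 0
        rw [← aeval_map_eq hb p.φ x]
        exact hy
      rw [p.ker] at hx
      have := Ideal.mem_map_of_mem (MvPolynomial.map (algebraMap k K)) hx
      rw [Ideal.map_span, ← Set.range_comp] at this
      exact this
    · rw [Ideal.span_le]
      rintro _ ⟨i, rfl⟩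
      show _ ∈ RingHom.ker _
      rw [RingHom.mem_ker]
      have h1 : p.r i ∈ RingHom.ker p.φ.toRingHom := by
        rw [p.ker]; exact Ideal.subset_span ⟨i, rfl⟩
      rw [RingHom.mem_ker] at h1
      have := aeval_map_eq hb p.φ (p.r i)
      rw [← h1]
      exact this

theorem aeval_map_eq' {n : ℕ} (φ : MvPolynomial (Fin n) K →ₐ[K] T) (x : MvPolynomial (Fin n) k) :
    (MvPolynomial.aeval (R := k) (fun i => φ (MvPolynomial.X i))) x =
      φ (MvPolynomial.map (algebraMap k K) x) := by
  conv_rhs => rw [MvPolynomial.aeval_unique φ]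
  rw [MvPolynomial.aeval_map_algebraMap]
  rfl

theorem pres_down {n c : ℕ} (p : Pres K (S := T) n c) : Nonempty (Pres k (S := T) n c) := by
  have hsurj := MvPolynomial.map_surjective (σ := Fin n) (algebraMap k K) hb.2
  have hinj := MvPolynomial.map_injective (σ := Fin n) (algebraMap k K) hb.1
  choose r hr using fun i => hsurj (p.r i)
  refine ⟨⟨MvPolynomial.aeval (fun i => p.φ (MvPolynomial.X i)), r, ?_, ?_⟩⟩
  · intro t
    obtain ⟨y, rfl⟩ := p.surj t
    obtain ⟨x, rfl⟩ := hsurj y
    exact ⟨x, aeval_map_eq' hb p.φ x⟩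
  · have hrange : Set.range p.r = (MvPolynomial.map (algebraMap k K)) '' Set.range r := by
      rw [← Set.range_comp]
      congr 1
      funext i
      exact (hr i).symm
    ext x
    rw [RingHom.mem_ker]
    show (MvPolynomial.aeval (R := k) (fun i => p.φ (MvPolynomial.X i))) x = 0 ↔ _
    rw [aeval_map_eq' hb p.φ x]
    have h1 : p.φ (MvPolynomial.map (algebraMap k K) x) = 0 ↔
        MvPolynomial.map (algebraMap k K) x ∈ RingHom.ker p.φ.toRingHom := by
      rw [RingHom.mem_ker]; rfl
    rw [h1, p.ker, hrange, ← Ideal.map_span]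
    constructor
    · intro hx
      have := Ideal.mem_comap.mpr hx
      rwa [Ideal.comap_map_of_bijective _ ⟨hinj, hsurj⟩] at this
    · intro hx
      exact Ideal.mem_map_of_mem _ hx

theorem isGlobalCI_iff_of_bijective : Synt.IsGlobalCI k T ↔ Synt.IsGlobalCI K T := by
  rw [isGlobalCI_iff, isGlobalCI_iff]
  constructor
  · rintro (h | ⟨n, c, hcn, ⟨p⟩, hd⟩)
    · exact Or.inl h
    · exact Or.inr ⟨n, c, hcn, pres_up hb p, hd⟩
  · rintro (h | ⟨n, c, hcn, ⟨p⟩, hd⟩)
    · exact Or.inl h
    · exact Or.inr ⟨n, c, hcn, pres_down hb p, hd⟩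

theorem isLCIOver_iff_of_bijective : Synt.IsLCIOver k T ↔ Synt.IsLCIOver K T := by
  have hft : Algebra.FiniteType k T ↔ Algebra.FiniteType K T := by
    constructor
    · intro h
      exact Algebra.FiniteType.of_restrictScalars_finiteType k K T
    · intro h
      haveI : Algebra.FiniteType k K :=
        Algebra.FiniteType.of_surjective (Algebra.ofId k K) hb.2
      exact Algebra.FiniteType.trans (R := k) (S := K) (A := T) inferInstance inferInstance
  unfold Synt.IsLCIOver
  rw [hft]
  refine and_congr Iff.rfl (forall_congr' fun p => exists_congr fun g => and_congr Iff.rfl ?_)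
  exact isGlobalCI_iff_of_bijective hb

end Restrict

section BaseChange

variable {k K : Type u} [Field k] [Field K] [Algebra k K]
  (hb : Function.Bijective (algebraMap k K))
  {F : Type u} [CommRing F] [Algebra k F]
include hb

theorem isLCIOver_baseChange_iff : Synt.IsLCIOver k F ↔ Synt.IsLCIOver K (K ⊗[k] F) := by
  rw [← isLCIOver_iff_of_bijective (k := k) (K := K) hb (T := K ⊗[k] F)]
  let e0 : k ≃ₐ[k] K := AlgEquiv.ofBijective (Algebra.ofId k K) hb
  let e : F ≃ₐ[k] K ⊗[k] F :=
    (Algebra.TensorProduct.lid k F).symm.trans (Algebra.TensorProduct.congr e0 AlgEquiv.refl)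
  exact ⟨isLCIOver_of_algEquiv e, isLCIOver_of_algEquiv e.symm⟩

end BaseChange

/-- the fibre property "local complete intersection over the base field" -/
def PLci (k : Type u) [Field k] (F : Type u) [CommRing F] [Algebra k F] : Prop :=
  Synt.IsLCIOver k F

theorem fibreProp0_lci : FibreProp0 PLci where
  of_algEquiv := fun e h => isLCIOver_of_algEquiv e h
  of_away := fun g h => isLCIOver_away h g
  of_span := fun s hs h => isLCIOver_of_span s hs h
  baseChange_iff := fun hb => isLCIOver_baseChange_iff hb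

theorem isSyntomic_iff (R S : Type u) [CommRing R] [CommRing S] [Algebra R S] :
    Synt.IsSyntomic R S ↔ HomP PLci R S ∧ Algebra.FinitePresentation R S := by
  constructor
  · rintro ⟨h1, h2, h3⟩
    exact ⟨⟨h1, fun p hp => h3 ⟨p, hp⟩⟩, h2⟩
  · rintro ⟨⟨h1, h3⟩, h2⟩
    exact ⟨h1, h2, fun p => h3 p.asIdeal⟩


open Groth.Agent.Lib.Helper23.FibProp
open Groth.Agent.Lib.Helper23.SyntF

variable {X S : Scheme.{u}} (f : X ⟶ S)

theorem isSyntomic_appLE_iff (U : X.Opens) (V : S.Opens) (e : U ≤ f ⁻¹ᵁ V) :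
    (letI := (f.appLE V U e).hom.toAlgebra
     Synt.IsSyntomic Γ(S, V) Γ(X, U)) ↔
      QP PLci (f.appLE V U e).hom ∧ (f.appLE V U e).hom.FinitePresentation := by
  letI := (f.appLE V U e).hom.toAlgebra
  exact isSyntomic_iff Γ(S, V) Γ(X, U)

theorem isSyntomicMor_iff :
    Synt.IsSyntomicMor f ↔ MorP PLci f ∧ LocallyOfFinitePresentation f := by
  constructor
  · intro h
    constructor
    · rw [morP_iff_exists_appLE fibreProp0_lci]
      intro x
      obtain ⟨U, V, e, hx, hs⟩ := h x
      exact ⟨V, U, hx, e, ((isSyntomic_appLE_iff f U.1 V.1 e).mp hs).1⟩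
    · rw [HasRingHomProperty.iff_exists_appLE (P := @LocallyOfFinitePresentation)
        (RingHom.finitePresentation_stableUnderComposition.stableUnderCompositionWithLocalizationAway
          RingHom.finitePresentation_holdsForLocalizationAway).left]
      intro x
      obtain ⟨U, V, e, hx, hs⟩ := h x
      exact ⟨V, U, hx, e, ((isSyntomic_appLE_iff f U.1 V.1 e).mp hs).2⟩
  · rintro ⟨h1, h2⟩ x
    obtain ⟨V, hV, hyV, -⟩ := TopologicalSpace.Opens.isBasis_iff_nbhd.mp S.isBasis_affineOpens
      (TopologicalSpace.Opens.mem_top (f x))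
    obtain ⟨U, hU, hxU, hUV⟩ := TopologicalSpace.Opens.isBasis_iff_nbhd.mp
      X.isBasis_affineOpens (show x ∈ f ⁻¹ᵁ V from hyV)
    refine ⟨⟨U, hU⟩, ⟨V, hV⟩, hUV, hxU, ?_⟩
    rw [isSyntomic_appLE_iff]
    exact ⟨(morP_iff_appLE fibreProp0_lci).mp h1 U V hU hV hUV,
      HasRingHomProperty.appLE (P := @LocallyOfFinitePresentation) f h2 ⟨V, hV⟩ ⟨U, hU⟩ hUV⟩

theorem isSyntomicMor_iff_forall :
    Synt.IsSyntomicMor f ↔
      ∀ (U : X.affineOpens) (V : S.affineOpens) (e : U.1 ≤ f ⁻¹ᵁ V.1),
        letI := (f.appLE V.1 U.1 e).hom.toAlgebra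
        Synt.IsSyntomic Γ(S, V.1) Γ(X, U.1) := by
  constructor
  · intro h U V e
    rw [isSyntomicMor_iff] at h
    rw [isSyntomic_appLE_iff]
    exact ⟨(morP_iff_appLE fibreProp0_lci).mp h.1 U.1 V.1 U.2 V.2 e,
      HasRingHomProperty.appLE (P := @LocallyOfFinitePresentation) f h.2 V U e⟩
  · intro h x
    obtain ⟨V, hV, hyV, -⟩ := TopologicalSpace.Opens.isBasis_iff_nbhd.mp S.isBasis_affineOpens
      (TopologicalSpace.Opens.mem_top (f x))
    obtain ⟨U, hU, hxU, hUV⟩ := TopologicalSpace.Opens.isBasis_iff_nbhd.mp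
      X.isBasis_affineOpens (show x ∈ f ⁻¹ᵁ V from hyV)
    exact ⟨⟨U, hU⟩, ⟨V, hV⟩, hUV, hxU, h ⟨U, hU⟩ ⟨V, hV⟩ hUV⟩

theorem isSyntomicMor_of_fibres [Flat f] [LocallyOfFinitePresentation f]
    (hfib : ∀ s : S, Synt.IsSyntomicMor (f.fiberToSpecResidueField s)) :
    Synt.IsSyntomicMor f := by
  rw [isSyntomicMor_iff]
  refine ⟨morP_of_fibres fibreProp0_lci inferInstance (fun y W hW e => ?_), inferInstance⟩
  have h1 := ((isSyntomicMor_iff _).mp (hfib y)).1
  exact (morP_iff_appLE fibreProp0_lci).mp h1 W ⊤ hW (isAffineOpen_top_residueField y) e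

theorem isSyntomicMor_fiber (h : Synt.IsSyntomicMor f) (s : S) :
    Synt.IsSyntomicMor (f.fiberToSpecResidueField s) := by
  rw [isSyntomicMor_iff] at h ⊢
  haveI := h.2
  exact ⟨morP_fiber fibreProp0_lci h.1 s,
    inferInstanceAs (LocallyOfFinitePresentation (pullback.snd f (S.fromSpecResidueField s)))⟩

theorem flat_of_isSyntomicMor (h : Synt.IsSyntomicMor f) : Flat f :=
  flat_of_morP fibreProp0_lci ((isSyntomicMor_iff f).mp h).1

end Groth.Agent.Lib.Helper23.FibProp0
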