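import Mathlib
import Groth.Agent.Lib.Helper23.KeyLemma
import Groth.Agent.Lib.Helper23.FieldSmooth
import Groth.Agent.Lib.Helper1.ArtFunObsProrep
import Groth.Agent.Lib.Helper1.ArtFunObsDimMain
import Groth.Agent.Lib.Helper21.RegularQuotient
import Groth.Agent.Lib.Helper23.GeomRegular2
import Groth.Agent.Lib.Helper21.AdicNoetherian

/-!
Cohen structure theorem in equal characteristic: coefficient fields, surjections from power series rings, complete regular local rings containing a field are power series rings; adic formal smoothness passes to completion (helper23).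
-/

set_option autoImplicit false
universe u
open IsLocalRing

namespace Groth.Agent.Lib.Helper23.CohenEq


open Groth.Agent.Lib.Helper23

section Section

/-- coefficient field relative to a base field over which the residue field is formally smooth. -/
theorem exists_section_algHom (F A : Type*) [Field F] [CommRing A] [IsLocalRing A] [Algebra F A]
    [IsAdicComplete (maximalIdeal A) A] [Algebra.FormallySmooth F (ResidueField A)] :
    ∃ u : ResidueField A →ₐ[F] A, ∀ x, residue A (u x) = x := by
  obtain ⟨g, hg⟩ := Algebra.FormallySmooth.exists_mkₐ_comp_eq_of_isAdicComplete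
    (R := F) (A := ResidueField A) (S := A) (I := maximalIdeal A)
    (AlgHom.id F (ResidueField A))
  exact ⟨g, fun x => AlgHom.congr_fun hg x⟩

/-- a complete local ring containing a field has a coefficient field. -/
theorem exists_section_of_field (A : Type u) [CommRing A] [IsLocalRing A]
    [IsAdicComplete (maximalIdeal A) A] (F₀ : Type*) [Field F₀] (φ : F₀ →+* A) :
    ∃ u : ResidueField A →+* A, ∀ x, residue A (u x) = x := by
  obtain ⟨p, hp⟩ := CharP.exists F₀
  rcases CharP.char_is_prime_or_zero F₀ p with hprime | hzero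
  · haveI : Fact p.Prime := ⟨hprime⟩
    haveI : CharP A p := charP_of_injective_ringHom φ.injective p
    letI : Algebra (ULift.{u} (ZMod p)) A := KeyLemma.primeAlgebra p A
    haveI : CharP (ULift.{u} (ZMod p)) p :=
      (algebraMap (ULift.{u} (ZMod p)) A).charP (algebraMap (ULift.{u} (ZMod p)) A).injective p
    haveI : PerfectRing (ULift.{u} (ZMod p)) p := PerfectRing.ofFiniteOfIsReduced p _
    haveI : Algebra.FormallySmooth (ULift.{u} (ZMod p)) (ResidueField A) :=
      FieldSmooth.formallySmooth_of_charP p _ _
    obtain ⟨u, hu⟩ := exists_section_algHom (ULift.{u} (ZMod p)) A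
    exact ⟨u, hu⟩
  · subst hzero
    haveI : CharZero F₀ := CharP.charP_to_charZero F₀
    letI : Algebra ℚ A := (φ.comp (algebraMap ℚ F₀)).toAlgebra
    haveI : Algebra.FormallySmooth ℚ (ResidueField A) :=
      FieldSmooth.formallySmooth_of_charZero ℚ _
    obtain ⟨u, hu⟩ := exists_section_algHom ℚ A
    exact ⟨u, hu⟩

end Section



open Groth.Agent.Lib.Helper23

section PS

variable (A : Type u) [CommRing A] [IsLocalRing A] [IsNoetherianRing A]
  [hc : IsAdicComplete (maximalIdeal A) A]

/-- a complete Noetherian local ring with a coefficient field is a quotient of a power series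
ring by an ideal contained in the square of the maximal ideal. -/
theorem exists_surjective_powerSeries (u : ResidueField A →+* A)
    (hu : ∀ x, residue A (u x) = x) :
    ∃ (n : ℕ) (v : MvPowerSeries (Fin n) (ResidueField A) →+* A), Function.Surjective v ∧
      RingHom.ker v ≤ maximalIdeal (MvPowerSeries (Fin n) (ResidueField A)) ^ 2 ∧
      ∀ x, v (MvPowerSeries.C x) = u x := by
  letI : Algebra (ResidueField A) A := u.toAlgebra
  let res : A →ₐ[ResidueField A] ResidueField A :=
    { residue A with commutes' := fun x => hu x }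
  let S : ArtFun.CRing (ResidueField A) (ResidueField A) :=
    { carrier := A
      res := res
      res_surjective := residue_surjective
      isAdicComplete := hc }
  obtain ⟨n, v, hv, hker⟩ := Groth.Agent.Lib.Helper1.ArtFunLib.exists_ps_presentation_field S
  refine ⟨n, (v : MvPowerSeries (Fin n) (ResidueField A) →+* A), hv, hker, fun x => ?_⟩
  have := v.commutes x
  exact this

/-- Cohen structure theorem for complete regular local rings with a coefficient field. -/
theorem exists_ringEquiv_powerSeries_of_regular [IsRegularLocalRing A]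
    (u : ResidueField A →+* A) (hu : ∀ x, residue A (u x) = x) :
    ∃ (n : ℕ) (e : MvPowerSeries (Fin n) (ResidueField A) ≃+* A),
      ∀ x, e (MvPowerSeries.C x) = u x := by
  obtain ⟨n, v, hv, hker, hC⟩ := exists_surjective_powerSeries A u hu
  haveI : IsRegularLocalRing (MvPowerSeries (Fin n) (ResidueField A) ⧸ RingHom.ker v) :=
    IsRegularLocalRing.of_ringEquiv (RingHom.quotientKerEquivOfSurjective hv).symm
  have hbot := Groth.Agent.Lib.Helper21.eq_bot_of_le_sq_of_isRegularLocalRing_quotient
    (MvPowerSeries (Fin n) (ResidueField A)) (RingHom.ker v) hker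
  have hinj : Function.Injective v := (RingHom.injective_iff_ker_eq_bot v).mpr hbot
  exact ⟨n, RingEquiv.ofBijective v ⟨hinj, hv⟩, hC⟩

end PS



open Groth.Agent.Lib.Helper23

section Ker

variable {R : Type u} [CommRing R] (I : Ideal R)

theorem mem_map_pow_of_evalₐ_eq_zero (fg : I.FG) (m : ℕ) (x : AdicCompletion I R)
    (hx : AdicCompletion.evalₐ I m x = 0) :
    x ∈ (I ^ m).map (algebraMap R (AdicCompletion I R)) := by
  have h1 : AdicCompletion.eval I R m x = 0 := by
    have h : (I ^ m • ⊤ : Ideal R) = I ^ m := by ext x; simp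
    have := AdicCompletion.factor_evalₐ_eq_eval (I := I) x (le_of_eq h.symm)
    rw [← this, hx, map_zero]
  have h2 : x ∈ (I ^ m • ⊤ : Submodule R (AdicCompletion I R)) := by
    rw [AdicCompletion.pow_smul_top_eq_ker_eval fg]
    exact h1
  rw [Ideal.smul_top_eq_map] at h2
  exact h2

end Ker

section Compl

variable {k A : Type u} [Field k] [CommRing A] [IsLocalRing A] [IsNoetherianRing A] [Algebra k A]

/-- adic formal smoothness passes to the completion. -/
theorem adic_adicCompletion (h : CAlgX.IsAdicFormallySmooth k A (maximalIdeal A)) :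
    CAlgX.IsAdicFormallySmooth k (AdicCompletion (maximalIdeal A) A)
      (maximalIdeal (AdicCompletion (maximalIdeal A) A)) := by
  intro C _ _ N hN ψ ⟨n, hn⟩
  have hmax := AdicCompletion.maximalIdeal_eq_map (R := A)
  let ι : A →ₐ[k] AdicCompletion (maximalIdeal A) A :=
    IsScalarTower.toAlgHom k A (AdicCompletion (maximalIdeal A) A)
  have hιpow : ∀ m : ℕ, ∀ a ∈ maximalIdeal A ^ m,
      ι a ∈ maximalIdeal (AdicCompletion (maximalIdeal A) A) ^ m := by
    intro m a ha
    rw [hmax, ← Ideal.map_pow]
    exact Ideal.mem_map_of_mem _ ha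
  obtain ⟨χ₀, hχ₀⟩ := h C N hN (ψ.comp ι) ⟨n, fun a ha => hn _ (hιpow n a ha)⟩
  have hχ₀' : ∀ a, Ideal.Quotient.mk N (χ₀ a) = ψ (ι a) := fun a => AlgHom.congr_fun hχ₀ a
  have hN1 : ∀ a ∈ maximalIdeal A ^ n, χ₀ a ∈ N := by
    intro a ha
    rw [← Ideal.Quotient.eq_zero_iff_mem, hχ₀']
    exact hn _ (hιpow n a ha)
  have hkill : ∀ a ∈ maximalIdeal A ^ (n + n), χ₀ a = 0 := by
    intro a ha
    rw [pow_add] at ha
    refine Submodule.mul_induction_on ha ?_ ?_
    · intro b hb c hc
      rw [map_mul]
      have : χ₀ b * χ₀ c ∈ N ^ 2 := by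
        rw [pow_two]; exact Ideal.mul_mem_mul (hN1 b hb) (hN1 c hc)
      rw [hN] at this
      exact this
    · intro b c hb hc
      rw [map_add, hb, hc, add_zero]
  let χbar : A ⧸ maximalIdeal A ^ (n + n) →ₐ[k] C :=
    Ideal.Quotient.liftₐ (maximalIdeal A ^ (n + n)) χ₀ hkill
  let χ : AdicCompletion (maximalIdeal A) A →ₐ[k] C :=
    χbar.comp ((AdicCompletion.evalₐ (maximalIdeal A) (n + n)).restrictScalars k)
  refine ⟨χ, ?_⟩
  ext x
  show Ideal.Quotient.mk N (χbar (AdicCompletion.evalₐ (maximalIdeal A) (n + n) x)) = ψ x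
  obtain ⟨a, ha⟩ := Ideal.Quotient.mk_surjective
    (AdicCompletion.evalₐ (maximalIdeal A) (n + n) x)
  have h1 : AdicCompletion.evalₐ (maximalIdeal A) (n + n) (x - ι a) = 0 := by
    rw [map_sub, ← ha]
    have : AdicCompletion.evalₐ (maximalIdeal A) (n + n) (ι a) =
        Ideal.Quotient.mk _ a := AdicCompletion.evalₐ_of _ _ a
    rw [this, sub_self]
  have h2 := mem_map_pow_of_evalₐ_eq_zero (maximalIdeal A)
    (maximalIdeal A).fg_of_isNoetherianRing (n + n) _ h1
  have h3 : x - ι a ∈ maximalIdeal (AdicCompletion (maximalIdeal A) A) ^ n := by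
    rw [hmax, ← Ideal.map_pow]
    exact Ideal.map_mono (Ideal.pow_le_pow_right (Nat.le_add_right n n)) h2
  have h4 : ψ x = ψ (ι a) := by
    have := hn _ h3
    rw [map_sub, sub_eq_zero] at this
    exact this
  rw [← ha, h4, ← hχ₀']
  rfl

end Compl



open Groth.Agent.Lib.Helper23

section PSMap

/-- a ring isomorphism of coefficient rings induces one of power series rings. -/
noncomputable def mvPowerSeriesMapEquiv (σ : Type*) {R S : Type*} [CommRing R] [CommRing S]
    (e : R ≃+* S) : MvPowerSeries σ R ≃+* MvPowerSeries σ S :=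
  RingEquiv.ofRingHom (MvPowerSeries.map (e : R →+* S)) (MvPowerSeries.map (e.symm : S →+* R))
    (by
      rw [← MvPowerSeries.map_comp]
      have : (e : R →+* S).comp (e.symm : S →+* R) = RingHom.id S := by ext; simp
      rw [this, MvPowerSeries.map_id])
    (by
      rw [← MvPowerSeries.map_comp]
      have : (e.symm : S →+* R).comp (e : R →+* S) = RingHom.id R := by ext; simp
      rw [this, MvPowerSeries.map_id])

theorem mvPowerSeriesMapEquiv_C (σ : Type*) {R S : Type*} [CommRing R] [CommRing S]
    (e : R ≃+* S) (r : R) :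
    mvPowerSeriesMapEquiv σ e (MvPowerSeries.C r) = MvPowerSeries.C (e r) := by
  show MvPowerSeries.map (e : R →+* S) (MvPowerSeries.C r) = _
  rw [MvPowerSeries.map_C]
  rfl

end PSMap

section Main

variable {k A : Type u} [Field k] [CommRing A] [IsLocalRing A] [IsNoetherianRing A] [Algebra k A]

instance isNoetherianRing_adicCompletion :
    IsNoetherianRing (AdicCompletion (maximalIdeal A) A) :=
  Groth.Agent.Lib.Helper21.isNoetherianRing_adicCompletion_of_fg (maximalIdeal A)
    (maximalIdeal A).fg_of_isNoetherianRing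

include k in
/-- the completion of a regular local ring containing a field is a power series ring over the
residue field. -/
theorem exists_ringEquiv_completion_of_regular
    (hreg : IsRegularLocalRing (AdicCompletion (maximalIdeal A) A)) :
    ∃ n : ℕ, Nonempty (AdicCompletion (maximalIdeal A) A ≃+*
      MvPowerSeries (Fin n) (ResidueField A)) := by
  obtain ⟨u, hu⟩ := exists_section_of_field (AdicCompletion (maximalIdeal A) A) k
    (algebraMap k (AdicCompletion (maximalIdeal A) A))
  obtain ⟨n, e, -⟩ := exists_ringEquiv_powerSeries_of_regular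
    (AdicCompletion (maximalIdeal A) A) u hu
  let eK : ResidueField A ≃+* ResidueField (AdicCompletion (maximalIdeal A) A) :=
    RingEquiv.ofBijective _ (AdicCompletion.residueField_map_bijective A)
  exact ⟨n, ⟨e.symm.trans (mvPowerSeriesMapEquiv (Fin n) eK.symm)⟩⟩

theorem t4512main (h : CAlgX.IsAdicFormallySmooth k A (maximalIdeal A)) :
    CAlg.IsGeometricallyRegular k A ∧
      ∃ n : ℕ, Nonempty (AdicCompletion (maximalIdeal A) A ≃+*
        MvPowerSeries (Fin n) (ResidueField A)) := by
  refine ⟨GeomRegular.geomRegular_iff_adic.mpr h, ?_⟩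
  exact exists_ringEquiv_completion_of_regular (k := k)
    (GeomRegular2.isRegularLocalRing_of_adic (adic_adicCompletion h))

end Main



open Groth.Agent.Lib.Helper23

section Eq

variable (A : Type u) [CommRing A] [IsLocalRing A] [IsNoetherianRing A]
    [IsAdicComplete (maximalIdeal A) A] (p : ℕ) [CharP (ResidueField A) p]

/-- a local ring with `p = 0` (p the residue characteristic) contains a field. -/
theorem exists_field_of_natCast_eq_zero (hp : (p : A) = 0) :
    (∃ φ : ZMod p →+* A, p.Prime) ∨ (∃ φ : ℚ →+* A, True) := by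
  rcases CharP.char_is_prime_or_zero (ResidueField A) p with hprime | hzero
  · left
    haveI : Fact p.Prime := ⟨hprime⟩
    haveI : CharP A p := by
      obtain ⟨q, hq⟩ := CharP.exists A
      have hdvd : q ∣ p := (CharP.cast_eq_zero_iff A q p).mp hp
      rcases (Nat.dvd_prime hprime).mp hdvd with h1 | h1
      · subst h1
        have h0 : ((1 : ℕ) : A) = 0 := CharP.cast_eq_zero A 1
        rw [Nat.cast_one] at h0
        exact absurd h0 one_ne_zero
      · subst h1; exact hq
    exact ⟨ZMod.castHom (dvd_refl p) A, hprime⟩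
  · right
    subst hzero
    haveI : CharZero (ResidueField A) := CharP.charP_to_charZero _
    have hunit : ∀ y : nonZeroDivisors ℤ, IsUnit ((Int.castRingHom A) y) := by
      intro y
      by_contra h
      have h1 : (Int.castRingHom A) y ∈ maximalIdeal A := (mem_maximalIdeal _).mpr h
      have h2 : residue A ((Int.castRingHom A) y) = 0 := (residue_eq_zero_iff _).mpr h1
      have h3 : ((y : ℤ) : ResidueField A) = 0 := by
        rw [← h2]; simp
      exact nonZeroDivisors.coe_ne_zero y (by exact_mod_cast h3)
    exact ⟨IsLocalization.lift (M := nonZeroDivisors ℤ) (S := ℚ) hunit, trivial⟩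

theorem exists_surjective_of_natCast_eq_zero (hp : (p : A) = 0) :
    ∃ (K : Type u) (_ : Field K) (n : ℕ) (f : MvPowerSeries (Fin n) K →+* A),
      Function.Surjective f ∧ RingHom.ker f ≤ maximalIdeal (MvPowerSeries (Fin n) K) ^ 2 := by
  have hsec : ∃ u : ResidueField A →+* A, ∀ x, residue A (u x) = x := by
    rcases exists_field_of_natCast_eq_zero A p hp with ⟨φ, hprime⟩ | ⟨φ, -⟩
    · haveI : Fact p.Prime := ⟨hprime⟩
      exact exists_section_of_field A (ZMod p) φ
    · exact exists_section_of_field A ℚ φ
  obtain ⟨u, hu⟩ := hsec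
  obtain ⟨n, v, hv, hker, -⟩ := exists_surjective_powerSeries A u hu
  exact ⟨ResidueField A, inferInstance, n, v, hv, hker⟩

theorem t4511main :
    [∃ (K : Type u) (_ : Field K), Nonempty (K →+* A),
     (p : A) = 0,
     ∃ (K : Type u) (_ : Field K) (n : ℕ) (f : MvPowerSeries (Fin n) K →+* A), Function.Surjective f].TFAE ∧
    ((p : A) = 0 → ∃ (K : Type u) (_ : Field K) (n : ℕ) (f : MvPowerSeries (Fin n) K →+* A),
      Function.Surjective f ∧ RingHom.ker f ≤ maximalIdeal (MvPowerSeries (Fin n) K) ^ 2) := by
  refine ⟨?_, exists_surjective_of_natCast_eq_zero A p⟩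
  tfae_have 1 → 2 := fun ⟨K, _, ⟨φ⟩⟩ => by
    have hinj : Function.Injective ((residue A).comp φ) := RingHom.injective _
    have h1 : ((p : ℕ) : K) = 0 := by
      apply hinj
      rw [map_natCast, map_zero]
      exact CharP.cast_eq_zero _ p
    rw [← map_natCast φ, h1, map_zero]
  tfae_have 2 → 3 := fun hp => by
    obtain ⟨K, hK, n, f, hf, -⟩ := exists_surjective_of_natCast_eq_zero A p hp
    exact ⟨K, hK, n, f, hf⟩
  tfae_have 3 → 1 := fun ⟨K, hK, n, f, _⟩ => ⟨K, hK, ⟨f.comp MvPowerSeries.C⟩⟩
  tfae_finish

end Eq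

end Groth.Agent.Lib.Helper23.CohenEq
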