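import Groth.Agent.Lib.Helper23.FieldSep

/-!
Universe-polymorphic complements to FieldSep: geometrically reduced field extension ⇒ derivations extend / Ω-injectivity (k, L in different universes); functoriality lemmas for KaehlerDifferential.map / mapBaseChange.
-/

set_option autoImplicit false
universe u v w
open EGA41 TensorProduct KaehlerDifferential

namespace Groth.Agent.Lib.Helper23.FieldSep


open Groth.Agent.Lib.Helper23.FieldSep Groth.Agent.Lib.Helper23.PBasisField
  Groth.Agent.Lib.Helper23.FieldSmooth

/-- MacLane's condition only depends on the image of `k` in `K`. -/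
theorem macLane_fieldRange {p : ℕ} {k : Type v} {L : Type w} [Field k] [Field L] [Algebra k L]
    (H : MacLane p k L) : MacLane p (algebraMap k L).fieldRange L := by
  intro s hs
  have he : ∀ (r : k) (m : L), (algebraMap k L).rangeRestrictFieldEquiv r • m = r • m := by
    intro r m
    rw [Algebra.smul_def, Algebra.smul_def]
    rfl
  unfold LinearIndepOn at hs ⊢
  rw [← linearIndependent_iff_of_ringEquiv (algebraMap k L).rangeRestrictFieldEquiv he] at hs ⊢
  exact H s hs

/-- universe-polymorphic extension of derivations for geometrically reduced field extensions. -/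
theorem exists_extension_of_isGeometricallyReduced (R : Type u) (k : Type v) (L : Type w)
    [CommRing R] [Field k] [Field L] [Algebra R k] [Algebra k L] [Algebra R L] [IsScalarTower R k L]
    [Algebra.IsGeometricallyReduced k L] (D : Derivation R k L) :
    ∃ D' : Derivation R L L, ∀ a : k, D' (algebraMap k L a) = D a := by
  obtain ⟨p, hp⟩ := CharP.exists k
  rcases CharP.char_is_prime_or_zero k p with h | h
  · haveI : ExpChar k p := ExpChar.prime h
    have H := macLane_of_isGeometricallyReduced p h k L
    have H' := macLane_fieldRange H
    let e := (algebraMap k L).rangeRestrictFieldEquiv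
    haveI : CharP (algebraMap k L).fieldRange p :=
      (e : k →+* (algebraMap k L).fieldRange).charP_iff e.injective p |>.mp hp
    haveI : ExpChar (algebraMap k L).fieldRange p := ExpChar.prime h
    haveI := isGeometricallyReduced_of_macLane p h (algebraMap k L).fieldRange L H'
    have he : ∀ (r : k) (m : L), e r • m = r • m := by
      intro r m
      rw [Algebra.smul_def, Algebra.smul_def]
      rfl
    -- transport D to the image
    let D₁ : Derivation ℤ (algebraMap k L).fieldRange L :=
      Derivation.mk' ((D : k →+ L).comp (e.symm : (algebraMap k L).fieldRange →+ k)).toIntLinearMap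
        (fun x y => by
          show D (e.symm (x * y)) = x • D (e.symm y) + y • D (e.symm x)
          rw [map_mul, Derivation.leibniz, ← he, ← he (e.symm y), e.apply_symm_apply,
            e.apply_symm_apply])
    obtain ⟨D₂, hD₂⟩ := (isGeometricallyReduced_iff_exists_extension
      (algebraMap k L).fieldRange L).mp inferInstance D₁
    have hk : ∀ a : k, D₂ (algebraMap k L a) = D a := by
      intro a
      have := hD₂ (e a)
      have h1 : D₁ (e a) = D (e.symm (e a)) := rfl
      rw [h1, e.symm_apply_apply] at this
      exact this
    refine ⟨Derivation.mk' ({ D₂.toLinearMap.toAddMonoidHom with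
      map_smul' := fun c l => by
        show D₂ (c • l) = c • D₂ l
        rw [Algebra.smul_def, Derivation.leibniz, IsScalarTower.algebraMap_apply R k L, hk,
          Derivation.map_algebraMap, smul_zero, add_zero, ← IsScalarTower.algebraMap_apply,
          algebraMap_smul] } : L →ₗ[R] L) (fun a b => D₂.leibniz a b), hk⟩
  · subst h
    haveI : CharZero k := CharP.charP_to_charZero k
    haveI := formallySmooth_of_charZero k L
    exact exists_extension_of_injective R k L (injective_mapBaseChange_of_formallySmooth R k L) D

/-- universe-polymorphic: geometrically reduced ⇒ `L ⊗ Ω_{k/R} → Ω_{L/R}` injective. -/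
theorem injective_mapBaseChange_of_isGeometricallyReduced' (R : Type u) (k : Type v) (L : Type w)
    [CommRing R] [Field k] [Field L] [Algebra R k] [Algebra k L] [Algebra R L] [IsScalarTower R k L]
    [Algebra.IsGeometricallyReduced k L] : Function.Injective (mapBaseChange R k L) :=
  injective_of_exists_extension R k L (exists_extension_of_isGeometricallyReduced R k L)



open Groth.Agent.Lib.Helper23.FieldSep Groth.Agent.Lib.Helper23.PBasisField
  Groth.Agent.Lib.Helper23.FieldSmooth Groth.Agent.Lib.Helper23.PBasisDer

theorem map_map (R : Type u) (A : Type v) (B C : Type w) [CommRing R] [CommRing A] [CommRing B]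
    [CommRing C] [Algebra R A] [Algebra R B] [Algebra R C] [Algebra A B] [Algebra A C] [Algebra B C]
    [IsScalarTower R A B] [IsScalarTower R A C] [IsScalarTower R B C] [IsScalarTower A B C]
    (ω : Ω[A⁄R]) :
    KaehlerDifferential.map R R B C (KaehlerDifferential.map R R A B ω)
      = KaehlerDifferential.map R R A C ω := by
  have hω : ω ∈ Submodule.span A (Set.range (KaehlerDifferential.D R A)) := by
    rw [KaehlerDifferential.span_range_derivation]; trivial
  induction hω using Submodule.span_induction with
  | mem ω hω =>
    obtain ⟨a, rfl⟩ := hω
    rw [KaehlerDifferential.map_D, KaehlerDifferential.map_D, KaehlerDifferential.map_D,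
      ← IsScalarTower.algebraMap_apply]
  | zero => simp
  | add ω₁ ω₂ _ _ h₁ h₂ => rw [map_add, map_add, map_add, h₁, h₂]
  | smul r ω _ h =>
    have h1 : KaehlerDifferential.map R R A B (r • ω) = algebraMap A B r • KaehlerDifferential.map R R A B ω := by
      rw [LinearMap.map_smul, algebraMap_smul]
    have h2 : KaehlerDifferential.map R R A C (r • ω) = algebraMap A C r • KaehlerDifferential.map R R A C ω := by
      rw [LinearMap.map_smul, algebraMap_smul]
    rw [h1, h2, LinearMap.map_smul, h, algebraMap_smul, algebraMap_smul]



open Groth.Agent.Lib.Helper23.FieldSep Groth.Agent.Lib.Helper23.PBasisField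
  Groth.Agent.Lib.Helper23.FieldSmooth Groth.Agent.Lib.Helper23.PBasisDer

/-- compatibility of the two-step base change of differentials with the one-step one. -/
theorem mapBaseChange_lTensor (R : Type u) (A : Type v) (B C : Type w) [CommRing R] [CommRing A]
    [CommRing B] [CommRing C] [Algebra R A] [Algebra R B] [Algebra R C] [Algebra A B] [Algebra A C]
    [Algebra B C] [IsScalarTower R A B] [IsScalarTower R A C] [IsScalarTower R B C]
    [IsScalarTower A B C] (w : C ⊗[B] (B ⊗[A] Ω[A⁄R])) :
    mapBaseChange R B C ((mapBaseChange R A B).lTensor C w)
      = mapBaseChange R A C (TensorProduct.AlgebraTensorModule.cancelBaseChange A B C C _ w) := by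
  induction w using TensorProduct.induction_on with
  | zero => simp
  | add a b ha hb => rw [map_add, map_add, ha, hb, map_add, map_add]
  | tmul l y =>
    induction y using TensorProduct.induction_on with
    | zero => simp
    | add a b ha hb => rw [TensorProduct.tmul_add, map_add, map_add, ha, hb, map_add, map_add]
    | tmul c ω =>
      rw [LinearMap.lTensor_tmul, mapBaseChange_tmul, mapBaseChange_tmul,
        TensorProduct.AlgebraTensorModule.cancelBaseChange_tmul, mapBaseChange_tmul,
        LinearMap.map_smul, map_map, ← algebraMap_smul C c (KaehlerDifferential.map R R A C ω),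
        smul_smul, Algebra.smul_def c l, mul_comm]

end Groth.Agent.Lib.Helper23.FieldSep
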