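import Mathlib
import Groth.Agent.Lib.Helper23.CohenEq
import Groth.Agent.Lib.Helper23.FieldSep2
import Groth.Agent.Lib.Helper1.ArtFunPS

/-!
Existence of formally smooth Noetherian local k-algebras with prescribed residue field K iff the imperfection module of K/k is finite (EGA 0_IV 22.2.6): twisted structure map k -> K[[T]] built from derivations; lifting ring homs from fields along complete quotients; adic completeness for powers of ideals (helper23).
-/

set_option autoImplicit false
universe u
open IsLocalRing TensorProduct KaehlerDifferential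

namespace Groth.Agent.Lib.Helper23.FSmoothExist


open Groth.Agent.Lib.Helper23

/-- adic completeness for a power of the ideal. -/
theorem isAdicComplete_pow {R : Type*} [CommRing R] (I : Ideal R) [IsAdicComplete I R] (k : ℕ)
    (hk : 0 < k) : IsAdicComplete (I ^ k) R := by
  have hle : ∀ n, (I ^ k) ^ n ≤ I ^ n := fun n => by
    rw [← pow_mul]
    exact Ideal.pow_le_pow_right (Nat.le_mul_of_pos_left n hk)
  have hH : IsHausdorff (I ^ k) R := by
    constructor
    intro x hx
    apply IsHausdorff.haus' (I := I) x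
    intro n
    have := hx n
    rw [SModEq.zero, smul_eq_mul, Ideal.mul_top] at this ⊢
    exact hle n this
  have hP : IsPrecomplete (I ^ k) R := by
    constructor
    intro f hf
    have hf' : ∀ {m n}, m ≤ n → f m ≡ f n [SMOD (I ^ m • ⊤ : Submodule R R)] := by
      intro m n hmn
      have := hf hmn
      rw [SModEq.sub_mem, smul_eq_mul, Ideal.mul_top] at this ⊢
      exact hle m this
    obtain ⟨L, hL⟩ := IsPrecomplete.prec' (I := I) f hf'
    refine ⟨L, fun n => ?_⟩
    have h1 := hf (show n ≤ k * n from Nat.le_mul_of_pos_left n hk)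
    have h2 := hL (k * n)
    rw [SModEq.sub_mem, smul_eq_mul, Ideal.mul_top] at h1 h2 ⊢
    rw [← pow_mul]
    rw [← pow_mul] at h1
    have : f n - L = (f n - f (k * n)) + (f (k * n) - L) := by ring
    rw [this]
    exact Ideal.add_mem _ h1 h2
  exact { toIsHausdorff := hH, toIsPrecomplete := hP }



open Groth.Agent.Lib.Helper23

theorem ulift_zmod_ringHom_ext (p : ℕ) {R : Type*} [Semiring R] (f g : ULift.{u} (ZMod p) →+* R) :
    f = g := by
  have h := Subsingleton.elim (f.comp (ULift.ringEquiv : ULift.{u} (ZMod p) ≃+* ZMod p).symm.toRingHom)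
    (g.comp (ULift.ringEquiv : ULift.{u} (ZMod p) ≃+* ZMod p).symm.toRingHom)
  ext x
  have := congrArg (fun h : ZMod p →+* R => h (ULift.ringEquiv x)) h
  simpa using this

/-- lifting a ring hom from a field along a complete quotient, when the target contains a copy of the field. -/
theorem exists_lift_of_field (k B : Type u) [Field k] [CommRing B] [Nontrivial B] (I : Ideal B)
    [IsAdicComplete I B] (φ₀ : k →+* B) (ψ : k →+* B ⧸ I) :
    ∃ φ : k →+* B, ∀ x, Ideal.Quotient.mk I (φ x) = ψ x := by
  obtain ⟨p, hp⟩ := CharP.exists k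
  rcases CharP.char_is_prime_or_zero k p with hprime | hzero
  · haveI : Fact p.Prime := ⟨hprime⟩
    haveI : CharP B p := charP_of_injective_ringHom φ₀.injective p
    letI : Algebra (ULift.{u} (ZMod p)) B := KeyLemma.primeAlgebra p B
    letI : Algebra (ULift.{u} (ZMod p)) k := KeyLemma.primeAlgebra p k
    haveI : CharP (ULift.{u} (ZMod p)) p :=
      (algebraMap (ULift.{u} (ZMod p)) k).charP (algebraMap (ULift.{u} (ZMod p)) k).injective p
    haveI : PerfectRing (ULift.{u} (ZMod p)) p := PerfectRing.ofFiniteOfIsReduced p _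
    haveI : Algebra.FormallySmooth (ULift.{u} (ZMod p)) k :=
      FieldSmooth.formallySmooth_of_charP p _ _
    let ψ' : k →ₐ[ULift.{u} (ZMod p)] B ⧸ I :=
      { ψ with
        commutes' := fun c => by
          have := ulift_zmod_ringHom_ext p (ψ.comp (algebraMap (ULift.{u} (ZMod p)) k))
            (algebraMap (ULift.{u} (ZMod p)) (B ⧸ I))
          exact congrArg (fun h : ULift.{u} (ZMod p) →+* B ⧸ I => h c) this }
    obtain ⟨g, hg⟩ := Algebra.FormallySmooth.exists_mkₐ_comp_eq_of_isAdicComplete
      (R := ULift.{u} (ZMod p)) (A := k) (S := B) (I := I) ψ'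
    exact ⟨g.toRingHom, fun x => AlgHom.congr_fun hg x⟩
  · subst hzero
    haveI : CharZero k := CharP.charP_to_charZero k
    letI : Algebra ℚ B := (φ₀.comp (algebraMap ℚ k)).toAlgebra
    haveI : Algebra.FormallySmooth ℚ k := FieldSmooth.formallySmooth_of_charZero ℚ _
    let ψ' : k →ₐ[ℚ] B ⧸ I := ψ.toRatAlgHom
    obtain ⟨g, hg⟩ := Algebra.FormallySmooth.exists_mkₐ_comp_eq_of_isAdicComplete
      (R := ℚ) (A := k) (S := B) (I := I) ψ'
    exact ⟨g.toRingHom, fun x => AlgHom.congr_fun hg x⟩



open Groth.Agent.Lib.Helper23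

theorem finite_ker_mapBaseChange {A K : Type*} [CommRing A] [IsNoetherianRing A] [Field K] [Algebra A K]
    (hsurj : Function.Surjective (algebraMap A K)) :
    Module.Finite K (LinearMap.ker (mapBaseChange ℤ A K)) := by
  haveI : Module.Finite A (RingHom.ker (algebraMap A K)).Cotangent :=
    Module.Finite.of_surjective (RingHom.ker (algebraMap A K)).toCotangent
      (Ideal.toCotangent_surjective _)
  rw [Module.Finite.iff_fg]
  apply Submodule.FG.of_restrictScalars A
  rw [← KaehlerDifferential.range_kerCotangentToTensor ℤ A K hsurj, LinearMap.range_eq_map]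
  exact Submodule.FG.map _ Module.Finite.fg_top

theorem lTensor_injective_of_equiv {A M M' N P : Type*} [CommRing A] [AddCommGroup M] [AddCommGroup M']
    [AddCommGroup N] [AddCommGroup P] [Module A M] [Module A M'] [Module A N] [Module A P]
    (e : M ≃ₗ[A] M') (f : N →ₗ[A] P) (h : Function.Injective (f.lTensor M)) :
    Function.Injective (f.lTensor M') := by
  have h1 : (f.lTensor M') ∘ₗ (e.toLinearMap.rTensor N) = (e.toLinearMap.rTensor P) ∘ₗ (f.lTensor M) := by
    rw [LinearMap.lTensor_comp_rTensor, LinearMap.rTensor_comp_lTensor]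
  have h2 : Function.Injective ((f.lTensor M') ∘ₗ (e.toLinearMap.rTensor N)) := by
    rw [h1, LinearMap.coe_comp]
    exact (LinearEquiv.rTensor P e).injective.comp h
  rw [LinearMap.coe_comp] at h2
  intro x y hxy
  obtain ⟨x', rfl⟩ := (LinearEquiv.rTensor N e).surjective x
  obtain ⟨y', rfl⟩ := (LinearEquiv.rTensor N e).surjective y
  congr 1
  exact h2 hxy

section PartA

variable {k K A : Type u} [Field k] [Field K] [Algebra k K] [CommRing A] [Algebra k A]
  [Algebra A K] [IsScalarTower k A K]

/-- the injection of the imperfection module into the kernel of `K ⊗ Ω_A → Ω_K`. -/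
theorem finite_imperfection_of_injective [IsNoetherianRing A]
    (hsurj : Function.Surjective (algebraMap A K))
    (hinj : Function.Injective ((mapBaseChange ℤ k A).lTensor K)) :
    Module.Finite K (EGA41.imperfection ℤ k K) := by
  haveI := finite_ker_mapBaseChange (A := A) (K := K) hsurj
  haveI : IsNoetherian K (LinearMap.ker (mapBaseChange ℤ A K)) :=
    @isNoetherian_of_isNoetherianRing_of_finite K (LinearMap.ker (mapBaseChange ℤ A K)) _ _ _ _ _
  let c := TensorProduct.AlgebraTensorModule.cancelBaseChange k A K K Ω[k⁄ℤ]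
  let g : K ⊗[k] Ω[k⁄ℤ] →ₗ[K] K ⊗[A] Ω[A⁄ℤ] :=
    ((mapBaseChange ℤ k A).baseChange K) ∘ₗ c.symm.toLinearMap
  have hg : ∀ z, g z = (mapBaseChange ℤ k A).lTensor K (c.symm z) := fun z => rfl
  have hmem : ∀ z : EGA41.imperfection ℤ k K, g z.1 ∈ LinearMap.ker (mapBaseChange ℤ A K) := by
    intro z
    rw [LinearMap.mem_ker, hg, FieldSep.mapBaseChange_lTensor ℤ k A K]
    have : c (c.symm z.1) = z.1 := c.apply_symm_apply _
    rw [this]
    exact z.2
  let f : EGA41.imperfection ℤ k K →ₗ[K] LinearMap.ker (mapBaseChange ℤ A K) :=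
    LinearMap.codRestrict _ (g ∘ₗ (EGA41.imperfection ℤ k K).subtype) hmem
  refine Module.Finite.of_injective f ?_
  intro x y hxy
  have h1 : g x.1 = g y.1 := congrArg Subtype.val hxy
  rw [hg, hg] at h1
  exact Subtype.ext (c.symm.injective (hinj h1))

end PartA

theorem finite_imperfection_of_adic {k K A : Type u} [Field k] [Field K] [Algebra k K] [CommRing A]
    [IsLocalRing A] [IsNoetherianRing A] [Algebra k A]
    (h : CAlgX.IsAdicFormallySmooth k A (maximalIdeal A)) (e : ResidueField A ≃ₐ[k] K) :
    Module.Finite K (EGA41.imperfection ℤ k K) := by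
  rw [Groth.Agent.S4571.result] at h
  letI : Algebra A K := ((e : ResidueField A →+* K).comp (algebraMap A (ResidueField A))).toAlgebra
  have hmap : ∀ a : A, algebraMap A K a = e (algebraMap A (ResidueField A) a) := fun a => rfl
  haveI : IsScalarTower k A K := IsScalarTower.of_algebraMap_eq fun x => by
    rw [hmap, ← IsScalarTower.algebraMap_apply, e.commutes]
  have hsurj : Function.Surjective (algebraMap A K) := by
    intro y
    obtain ⟨a, ha⟩ := IsLocalRing.residue_surjective (e.symm y)
    refine ⟨a, ?_⟩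
    rw [hmap]
    show e (residue A a) = y
    rw [ha, e.apply_symm_apply]
  let eA : ResidueField A ≃ₗ[A] K :=
    { e.toLinearEquiv with
      map_smul' := fun a x => by
        show e (a • x) = a • e x
        rw [Algebra.smul_def, Algebra.smul_def, map_mul, hmap] }
  exact finite_imperfection_of_injective hsurj (lTensor_injective_of_equiv eA _ h.2)



open Groth.Agent.Lib.Helper23

/-- `K`-linear forms on `K ⊗ Ω_{k/ℤ}` are determined by their values on `1 ⊗ dx`. -/
theorem linearMap_ext_of_D {k K M : Type*} [CommRing k] [CommRing K] [Algebra k K] [AddCommGroup M]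
    [Module K M]
    (l₁ l₂ : K ⊗[k] Ω[k⁄ℤ] →ₗ[K] M)
    (h : ∀ x : k, l₁ ((1 : K) ⊗ₜ[k] KaehlerDifferential.D ℤ k x) = l₂ ((1 : K) ⊗ₜ[k] KaehlerDifferential.D ℤ k x)) :
    l₁ = l₂ := by
  have hone : ∀ ω : Ω[k⁄ℤ], l₁ ((1 : K) ⊗ₜ[k] ω) = l₂ ((1 : K) ⊗ₜ[k] ω) := by
    intro ω
    have hω : ω ∈ Submodule.span k (Set.range (KaehlerDifferential.D ℤ k)) := by
      rw [KaehlerDifferential.span_range_derivation]; trivial
    induction hω using Submodule.span_induction with
    | mem ω hω =>
      obtain ⟨x, rfl⟩ := hω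
      exact h x
    | zero => rw [TensorProduct.tmul_zero, map_zero, map_zero]
    | add ω₁ ω₂ _ _ h₁ h₂ => rw [TensorProduct.tmul_add, map_add, map_add, h₁, h₂]
    | smul r ω _ h' =>
      have hr : (1 : K) ⊗ₜ[k] (r • ω) = (algebraMap k K r) • ((1 : K) ⊗ₜ[k] ω) := by
        rw [TensorProduct.tmul_smul, algebraMap_smul]
      rw [hr, LinearMap.map_smul, LinearMap.map_smul, h']
  apply LinearMap.ext
  intro z
  induction z using TensorProduct.induction_on with
  | zero => rw [map_zero, map_zero]
  | add a b ha hb => rw [map_add, map_add, ha, hb]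
  | tmul c ω =>
    have hc : c ⊗ₜ[k] ω = c • ((1 : K) ⊗ₜ[k] ω) := by
      rw [TensorProduct.smul_tmul', smul_eq_mul, mul_one]
    rw [hc, LinearMap.map_smul, LinearMap.map_smul, hone]

section Crit

variable {k K A : Type u} [Field k] [Field K] [Algebra k K] [CommRing A] [Algebra k A]
  [Algebra A K] [IsScalarTower k A K]

theorem lift_map_eq (δ : Derivation ℤ A K) (ω : Ω[k⁄ℤ]) :
    δ.liftKaehlerDifferential (KaehlerDifferential.map ℤ ℤ k A ω)
      = (δ.compAlgebraMap k).liftKaehlerDifferential ω := by
  have hω : ω ∈ Submodule.span k (Set.range (KaehlerDifferential.D ℤ k)) := by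
    rw [KaehlerDifferential.span_range_derivation]; trivial
  induction hω using Submodule.span_induction with
  | mem ω hω =>
    obtain ⟨x, rfl⟩ := hω
    rw [KaehlerDifferential.map_D, Derivation.liftKaehlerDifferential_comp_D,
      Derivation.liftKaehlerDifferential_comp_D]
    rfl
  | zero => simp
  | add ω₁ ω₂ _ _ h₁ h₂ => rw [map_add, map_add, map_add, h₁, h₂]
  | smul r ω _ h =>
    have h1 : KaehlerDifferential.map ℤ ℤ k A (r • ω) = algebraMap k A r • KaehlerDifferential.map ℤ ℤ k A ω := by
      rw [LinearMap.map_smul, algebraMap_smul]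
    rw [h1, LinearMap.map_smul, LinearMap.map_smul, h, algebraMap_smul]

theorem injective_lTensor_of_derivations {n : ℕ} (δ : Fin n → Derivation ℤ A K)
    (hδ : ∀ z ∈ EGA41.imperfection ℤ k K,
       (∀ i, LinearMap.liftBaseChange K ((δ i).compAlgebraMap k).liftKaehlerDifferential z = 0) → z = 0) :
    Function.Injective ((mapBaseChange ℤ k A).lTensor K) := by
  rw [injective_iff_map_eq_zero]
  intro w hw
  let c := TensorProduct.AlgebraTensorModule.cancelBaseChange k A K K Ω[k⁄ℤ]
  have hz : c w ∈ EGA41.imperfection ℤ k K := by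
    show mapBaseChange ℤ k K (c w) = 0
    rw [← FieldSep.mapBaseChange_lTensor ℤ k A K, hw, map_zero]
  have key : ∀ (i : Fin n) (w : K ⊗[A] (A ⊗[k] Ω[k⁄ℤ])),
      LinearMap.liftBaseChange K ((δ i).compAlgebraMap k).liftKaehlerDifferential (c w)
        = LinearMap.liftBaseChange K (δ i).liftKaehlerDifferential ((mapBaseChange ℤ k A).lTensor K w) := by
    intro i w
    induction w using TensorProduct.induction_on with
    | zero => simp
    | add a b ha hb => rw [map_add, map_add, ha, hb, map_add, map_add]
    | tmul l y =>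
      induction y using TensorProduct.induction_on with
      | zero => simp
      | add a b ha hb => rw [TensorProduct.tmul_add, map_add, map_add, ha, hb, map_add, map_add]
      | tmul a ω =>
        rw [LinearMap.lTensor_tmul, mapBaseChange_tmul, LinearMap.liftBaseChange_tmul,
          LinearMap.map_smul, lift_map_eq]
        show LinearMap.liftBaseChange K _
          (TensorProduct.AlgebraTensorModule.cancelBaseChange k A K K Ω[k⁄ℤ] (l ⊗ₜ[A] (a ⊗ₜ[k] ω))) = _
        rw [TensorProduct.AlgebraTensorModule.cancelBaseChange_tmul, LinearMap.liftBaseChange_tmul,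
          smul_assoc]
        rw [smul_comm]
  have hz2 : c w = 0 := hδ _ hz fun i => by rw [key, hw, map_zero]
  exact c.injective (by rw [hz2, map_zero])

end Crit



open Groth.Agent.Lib.Helper23

section Crit2

variable {k K A : Type u} [Field k] [Field K] [Algebra k K] [CommRing A] [IsLocalRing A] [Algebra k A]
  [Algebra A K] [IsScalarTower k A K]

/-- the residue field of `A` is `K` when `A → K` is surjective. -/
theorem exists_residueField_equiv (hsurj : Function.Surjective (algebraMap A K)) :
    ∃ e : ResidueField A ≃ₐ[k] K, ∀ a : A, e (residue A a) = algebraMap A K a := by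
  haveI : IsLocalHom (algebraMap A K) := IsLocalHom.of_surjective _ hsurj
  let f : ResidueField A →+* K := ResidueField.lift (algebraMap A K)
  have hf : ∀ a, f (residue A a) = algebraMap A K a := fun a => ResidueField.lift_residue_apply _ a
  have hbij : Function.Bijective f := by
    refine ⟨f.injective, fun y => ?_⟩
    obtain ⟨a, rfl⟩ := hsurj y
    exact ⟨residue A a, hf a⟩
  let f' : ResidueField A →ₐ[k] K :=
    { f with
      commutes' := fun x => by
        show f (algebraMap k (ResidueField A) x) = algebraMap k K x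
        rw [IsScalarTower.algebraMap_apply k A (ResidueField A), IsScalarTower.algebraMap_apply k A K]
        exact hf _ }
  exact ⟨AlgEquiv.ofBijective f' hbij, hf⟩

theorem adic_of_derivations [IsNoetherianRing A] (hreg : IsRegularLocalRing A)
    (hsurj : Function.Surjective (algebraMap A K)) {n : ℕ} (δ : Fin n → Derivation ℤ A K)
    (hδ : ∀ z ∈ EGA41.imperfection ℤ k K,
       (∀ i, LinearMap.liftBaseChange K ((δ i).compAlgebraMap k).liftKaehlerDifferential z = 0) → z = 0) :
    CAlgX.IsAdicFormallySmooth k A (maximalIdeal A) := by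
  rw [Groth.Agent.S4571.result]
  refine ⟨SymGrRegular.symGrBijective_of_isRegularLocalRing A, ?_⟩
  obtain ⟨e, he⟩ := exists_residueField_equiv (k := k) hsurj
  let eA : ResidueField A ≃ₗ[A] K :=
    { e.toLinearEquiv with
      map_smul' := fun a x => by
        show e (a • x) = a • e x
        rw [Algebra.smul_def, Algebra.smul_def, map_mul]
        congr 1
        exact he a }
  exact lTensor_injective_of_equiv eA.symm _ (injective_lTensor_of_derivations δ hδ)

end Crit2



open Groth.Agent.Lib.Helper23 Groth.Agent.Lib.Helper1.ArtFunLib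

section PSfacts

variable {K : Type u} [Field K] {n : ℕ}

open MvPowerSeries

/-- the linear part `v ↦ Σ v_i X_i`. -/
noncomputable def linPart (K : Type u) [Field K] (n : ℕ) : (Fin n → K) →ₗ[K] MvPowerSeries (Fin n) K where
  toFun v := ∑ i, v i • (X i : MvPowerSeries (Fin n) K)
  map_add' v w := by simp [add_smul, Finset.sum_add_distrib]
  map_smul' c v := by simp [Finset.smul_sum, smul_smul]

theorem linPart_apply (v : Fin n → K) :
    linPart K n v = ∑ i, v i • (X i : MvPowerSeries (Fin n) K) := rfl

theorem linPart_mem (v : Fin n → K) : linPart K n v ∈ maximalIdeal (MvPowerSeries (Fin n) K) := by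
  rw [linPart_apply]
  refine Ideal.sum_mem _ fun i _ => ?_
  rw [MvPowerSeries.smul_eq_C_mul]
  exact Ideal.mul_mem_left _ _ (PS.X_mem_maximalIdeal i)

theorem constantCoeff_linPart (v : Fin n → K) : constantCoeff (linPart K n v) = 0 := by
  rw [linPart_apply, map_sum]
  refine Finset.sum_eq_zero fun i _ => ?_
  rw [MvPowerSeries.smul_eq_C_mul, map_mul, constantCoeff_X, mul_zero]

theorem coeff_single_linPart (v : Fin n → K) (j : Fin n) :
    coeff (Finsupp.single j 1) (linPart K n v) = v j := by
  classical
  rw [linPart_apply, map_sum, Finset.sum_eq_single j]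
  · rw [MvPowerSeries.smul_eq_C_mul, coeff_C_mul, coeff_X, if_pos rfl, mul_one]
  · intro i _ hij
    rw [MvPowerSeries.smul_eq_C_mul, coeff_C_mul, coeff_X, if_neg, mul_zero]
    intro h
    exact hij ((Finsupp.single_left_inj one_ne_zero).mp h).symm
  · intro h; exact absurd (Finset.mem_univ j) h

theorem coeff_eq_zero_of_mem_sq {f : MvPowerSeries (Fin n) K}
    (hf : f ∈ maximalIdeal (MvPowerSeries (Fin n) K) ^ 2) :
    constantCoeff f = 0 ∧ ∀ i, coeff (Finsupp.single i 1) f = 0 := by
  have h1 := PS.maximalIdeal_pow_le_filt 2 hf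
  rw [PS.mem_filt] at h1
  have hbot : maximalIdeal K = ⊥ := IsLocalRing.maximalIdeal_eq_bot
  constructor
  · have := h1 0
    rw [hbot, map_zero, Nat.sub_zero, ← Ideal.zero_eq_bot, zero_pow two_ne_zero, Ideal.zero_eq_bot,
      Ideal.mem_bot] at this
    exact this
  · intro i
    have := h1 (Finsupp.single i 1)
    rw [hbot, Finsupp.degree_single, pow_one, Ideal.mem_bot] at this
    exact this

end PSfacts



open Groth.Agent.Lib.Helper23 Groth.Agent.Lib.Helper1.ArtFunLib

section Construct

variable {k K : Type u} [Field k] [Field K] [Algebra k K] {n : ℕ}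
  (ℓ : K ⊗[k] Ω[k⁄ℤ] →ₗ[K] (Fin n → K))

open MvPowerSeries

/-- the vector of derivations attached to `ℓ`. -/
noncomputable def dvec (x : k) : Fin n → K := ℓ ((1 : K) ⊗ₜ[k] KaehlerDifferential.D ℤ k x)

theorem dvec_add (x y : k) : dvec ℓ (x + y) = dvec ℓ x + dvec ℓ y := by
  unfold dvec
  rw [map_add, TensorProduct.tmul_add, map_add]

theorem dvec_one : dvec ℓ (1 : k) = 0 := by
  unfold dvec
  rw [Derivation.map_one_eq_zero, TensorProduct.tmul_zero, map_zero]

theorem dvec_zero : dvec ℓ (0 : k) = 0 := by
  unfold dvec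
  rw [map_zero, TensorProduct.tmul_zero, map_zero]

theorem dvec_mul (x y : k) :
    dvec ℓ (x * y) = algebraMap k K x • dvec ℓ y + algebraMap k K y • dvec ℓ x := by
  unfold dvec
  rw [Derivation.leibniz, TensorProduct.tmul_add, TensorProduct.tmul_smul, TensorProduct.tmul_smul,
    map_add, ← algebraMap_smul K x, ← algebraMap_smul K y, LinearMap.map_smul, LinearMap.map_smul]

/-- the first-order ring hom `k → K[[T]]/𝔪²`. -/
noncomputable def psi :
    k →+* MvPowerSeries (Fin n) K ⧸ (maximalIdeal (MvPowerSeries (Fin n) K)) ^ 2 where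
  toFun x := Ideal.Quotient.mk _ (C (algebraMap k K x) + linPart K n (dvec ℓ x))
  map_one' := by
    rw [dvec_one, map_zero, add_zero, map_one, map_one, map_one]
  map_zero' := by
    rw [dvec_zero, map_zero, map_zero, map_zero, add_zero, map_zero]
  map_add' x y := by
    rw [← map_add]
    congr 1
    rw [dvec_add, map_add, map_add, map_add]
    ring
  map_mul' x y := by
    rw [← map_mul, eq_comm, Ideal.Quotient.eq]
    have h : (C (algebraMap k K x) + linPart K n (dvec ℓ x)) *
        (C (algebraMap k K y) + linPart K n (dvec ℓ y)) -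
        (C (algebraMap k K (x * y)) + linPart K n (dvec ℓ (x * y)))
        = linPart K n (dvec ℓ x) * linPart K n (dvec ℓ y) := by
      rw [dvec_mul, map_add, LinearMap.map_smul, LinearMap.map_smul, MvPowerSeries.smul_eq_C_mul,
        MvPowerSeries.smul_eq_C_mul, map_mul, map_mul]
      ring
    rw [h, pow_two]
    exact Ideal.mul_mem_mul (linPart_mem _) (linPart_mem _)

theorem psi_apply (x : k) :
    psi ℓ x = Ideal.Quotient.mk _ (C (algebraMap k K x) + linPart K n (dvec ℓ x)) := rfl

instance isAdicComplete_mvPowerSeries_field :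
    IsAdicComplete (maximalIdeal (MvPowerSeries (Fin n) K)) (MvPowerSeries (Fin n) K) := by
  rw [maximalIdeal_mvPowerSeries_eq_span]
  infer_instance

/-- existence of the twisted structure map. -/
theorem exists_twist :
    ∃ φ : k →+* MvPowerSeries (Fin n) K,
      (∀ x, constantCoeff (φ x) = algebraMap k K x) ∧
      ∀ x i, coeff (Finsupp.single i 1) (φ x) = dvec ℓ x i := by
  classical
  haveI := isAdicComplete_pow (maximalIdeal (MvPowerSeries (Fin n) K)) 2 (by norm_num)
  obtain ⟨φ, hφ⟩ := exists_lift_of_field k (MvPowerSeries (Fin n) K)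
    (maximalIdeal (MvPowerSeries (Fin n) K) ^ 2)
    ((C : K →+* MvPowerSeries (Fin n) K).comp (algebraMap k K)) (psi ℓ)
  have hmem : ∀ x, φ x - (C (algebraMap k K x) + linPart K n (dvec ℓ x)) ∈
      maximalIdeal (MvPowerSeries (Fin n) K) ^ 2 := fun x => by
    rw [← Ideal.Quotient.eq, hφ, psi_apply]
  refine ⟨φ, fun x => ?_, fun x i => ?_⟩
  · have h := (coeff_eq_zero_of_mem_sq (hmem x)).1
    rw [map_sub, map_add, constantCoeff_C, constantCoeff_linPart, add_zero, sub_eq_zero] at h
    exact h
  · have h := (coeff_eq_zero_of_mem_sq (hmem x)).2 i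
    rw [map_sub, map_add, coeff_single_linPart, coeff_C, if_neg, zero_add, sub_eq_zero] at h
    · exact h
    · intro h0
      have := congrArg (fun f : Fin n →₀ ℕ => f i) h0
      simp at this

end Construct



open Groth.Agent.Lib.Helper23 Groth.Agent.Lib.Helper1.ArtFunLib

section Aux

variable {k K A : Type u} [Field k] [Field K] [Algebra k K] [CommRing A] [IsLocalRing A]
  [IsNoetherianRing A]

/-- abstract form of the construction: a regular local ring `A` with a twisted structure map `φ`. -/
theorem exists_model_aux (hreg : IsRegularLocalRing A) (φ : k →+* A) (π : A →+* K)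
    (hπ : Function.Surjective π) (hπφ : ∀ x, π (φ x) = algebraMap k K x) {n : ℕ}
    (ℓ : K ⊗[k] Ω[k⁄ℤ] →ₗ[K] (Fin n → K))
    (hℓ : ∀ z ∈ EGA41.imperfection ℤ k K, ℓ z = 0 → z = 0)
    (c : Fin n → A → K) (hc_add : ∀ i a b, c i (a + b) = c i a + c i b)
    (hc_one : ∀ i, c i 1 = 0)
    (hc_mul : ∀ i a b, c i (a * b) = π a * c i b + π b * c i a)
    (hcφ : ∀ x i, c i (φ x) = ℓ ((1 : K) ⊗ₜ[k] KaehlerDifferential.D ℤ k x) i) :
    letI := φ.toAlgebra
    CAlgX.IsAdicFormallySmooth k A (maximalIdeal A) ∧ Nonempty (ResidueField A ≃ₐ[k] K) := by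
  letI algA : Algebra k A := φ.toAlgebra
  letI algK : Algebra A K := π.toAlgebra
  have hAK : ∀ f : A, algebraMap A K f = π f := fun f => rfl
  have hkA : ∀ x : k, algebraMap k A x = φ x := fun x => rfl
  haveI : IsScalarTower k A K :=
    IsScalarTower.of_algebraMap_eq fun x => by rw [hAK, hkA, hπφ]
  have hsurj : Function.Surjective (algebraMap A K) := hπ
  let δ : Fin n → Derivation ℤ A K := fun i =>
    { toLinearMap := (AddMonoidHom.mk' (c i) (hc_add i)).toIntLinearMap
      map_one_eq_zero' := hc_one i
      leibniz' := fun a b => by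
        show c i (a * b) = a • c i b + b • c i a
        rw [hc_mul, Algebra.smul_def, Algebra.smul_def, hAK, hAK] }
  have hδ_apply : ∀ i f, δ i f = c i f := fun i f => rfl
  have hδ : ∀ z ∈ EGA41.imperfection ℤ k K,
      (∀ i, LinearMap.liftBaseChange K ((δ i).compAlgebraMap k).liftKaehlerDifferential z = 0) → z = 0 := by
    intro z hz h
    have heq : ∀ i, LinearMap.liftBaseChange K ((δ i).compAlgebraMap k).liftKaehlerDifferential
        = ((LinearMap.proj i : (Fin n → K) →ₗ[K] K) ∘ₗ ℓ) := fun i => linearMap_ext_of_D _ _ fun x => by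
      rw [LinearMap.liftBaseChange_tmul, one_smul, Derivation.liftKaehlerDifferential_comp_D]
      show δ i (algebraMap k A x) = ℓ _ i
      rw [hδ_apply, hkA]
      exact hcφ x i
    have h0 : ℓ z = 0 := funext fun i => by
      have := h i
      rw [heq] at this
      exact this
    exact hℓ z hz h0
  refine ⟨adic_of_derivations hreg hsurj δ hδ, ?_⟩
  obtain ⟨e, -⟩ := exists_residueField_equiv (k := k) hsurj
  exact ⟨e⟩

end Aux

section Main

variable {k K : Type u} [Field k] [Field K] [Algebra k K]

open MvPowerSeries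

theorem coeff_single_eq_constantCoeff_pderiv {n : ℕ} (i : Fin n) (f : MvPowerSeries (Fin n) K) :
    coeff (Finsupp.single i 1) f = constantCoeff (pderiv K i f) := by
  rw [← coeff_zero_eq_constantCoeff_apply, coeff_pderiv, zero_add]
  simp

theorem exists_model (hfin : Module.Finite K (EGA41.imperfection ℤ k K)) (n : ℕ)
    (hn : Module.finrank K (EGA41.imperfection ℤ k K) ≤ n) :
    ∃ (A : Type u) (_ : CommRing A) (_ : IsLocalRing A) (_ : IsNoetherianRing A) (_ : Algebra k A),
        IsAdicComplete (maximalIdeal A) A ∧ CAlgX.IsAdicFormallySmooth k A (maximalIdeal A) ∧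
        Nonempty (ResidueField A ≃ₐ[k] K) ∧ ringKrullDim A = n := by
  classical
  obtain ⟨j, hj⟩ : ∃ j : EGA41.imperfection ℤ k K →ₗ[K] (Fin n → K), Function.Injective j := by
    haveI : Module.Free K (EGA41.imperfection ℤ k K) :=
      @Module.Free.of_divisionRing K (EGA41.imperfection ℤ k K) _ _ _
    rw [← finrank_le_iff_exists_linearMap, Module.finrank_fin_fun]
    exact hn
  obtain ⟨ℓ, hℓ⟩ := LinearMap.exists_extend j
  obtain ⟨φ, hφ0, hφ1⟩ := exists_twist ℓ
  have hℓ' : ∀ z ∈ EGA41.imperfection ℤ k K, ℓ z = 0 → z = 0 := by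
    intro z hz h0
    have h1 : j ⟨z, hz⟩ = 0 := by
      rw [← hℓ]
      exact h0
    have h2 := hj (h1.trans (map_zero j).symm)
    exact congrArg Subtype.val h2
  have haux := exists_model_aux (k := k) (K := K) (A := MvPowerSeries (Fin n) K) inferInstance φ
    (constantCoeff (σ := Fin n) (R := K)) (fun a => ⟨C a, constantCoeff_C a⟩) hφ0 ℓ hℓ'
    (fun i f => coeff (Finsupp.single i 1) f) (fun i a b => map_add _ a b)
    (fun i => by
      rw [coeff_single_eq_constantCoeff_pderiv, Derivation.map_one_eq_zero, map_zero])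
    (fun i a b => by
      rw [coeff_single_eq_constantCoeff_pderiv, coeff_single_eq_constantCoeff_pderiv,
        coeff_single_eq_constantCoeff_pderiv, Derivation.leibniz, smul_eq_mul, smul_eq_mul,
        map_add, map_mul, map_mul])
    (fun x i => hφ1 x i)
  exact ⟨MvPowerSeries (Fin n) K, inferInstance, inferInstance, inferInstance, φ.toAlgebra,
    inferInstance, haux.1, haux.2, ringKrullDim_mvPowerSeries K n⟩

end Main



theorem t2472main {k K : Type u} [Field k] [Field K] [Algebra k K] :
    ((∃ (A : Type u) (_ : CommRing A) (_ : IsLocalRing A) (_ : IsNoetherianRing A) (_ : Algebra k A),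
        CAlgX.IsAdicFormallySmooth k A (maximalIdeal A) ∧ Nonempty (ResidueField A ≃ₐ[k] K)) ↔
      Module.Finite K (EGA41.imperfection ℤ k K)) ∧
    (Module.Finite K (EGA41.imperfection ℤ k K) → ∀ n : ℕ, Module.finrank K (EGA41.imperfection ℤ k K) ≤ n →
      ∃ (A : Type u) (_ : CommRing A) (_ : IsLocalRing A) (_ : IsNoetherianRing A) (_ : Algebra k A),
        IsAdicComplete (maximalIdeal A) A ∧ CAlgX.IsAdicFormallySmooth k A (maximalIdeal A) ∧
        Nonempty (ResidueField A ≃ₐ[k] K) ∧ ringKrullDim A = n) := by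
  refine ⟨⟨?_, fun hfin => ?_⟩, fun hfin n hn => exists_model hfin n hn⟩
  · rintro ⟨A, _, _, _, _, h, ⟨e⟩⟩
    exact finite_imperfection_of_adic h e
  · obtain ⟨A, i1, i2, i3, i4, -, h, he, -⟩ := exists_model hfin _ le_rfl
    exact ⟨A, i1, i2, i3, i4, h, he⟩

end Groth.Agent.Lib.Helper23.FSmoothExist
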