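import Mathlib

/-!
Index (dim coker - dim ker) of linear maps between vector spaces: additivity under composition, base change.
-/

set_option autoImplicit false
universe u v w


namespace Groth.Agent.Lib.Helper23.LinIndex


open Module

section Index

variable {L : Type u} [Field L] {V : Type v} {W : Type w} [AddCommGroup V] [Module L V]
  [AddCommGroup W] [Module L W]

/-- a linear map with finite-dimensional kernel and cokernel, of index `dim coker - dim ker = n`. -/
structure HasIndex (f : V →ₗ[L] W) (n : ℤ) : Prop where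
  finite_ker : Module.Finite L (LinearMap.ker f)
  finite_coker : Module.Finite L (W ⧸ LinearMap.range f)
  eq : (Module.finrank L (W ⧸ LinearMap.range f) : ℤ) - Module.finrank L (LinearMap.ker f) = n

theorem HasIndex.of_exact {N : Type*} {C : Type*} [AddCommGroup N] [Module L N] [AddCommGroup C]
    [Module L C] [Module.Finite L N] [Module.Finite L C] {f : V →ₗ[L] W}
    (ι : N →ₗ[L] V) (π : W →ₗ[L] C) (hι : Function.Injective ι) (h1 : Function.Exact ι f)
    (h2 : Function.Exact f π) (hπ : Function.Surjective π) :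
    HasIndex f ((Module.finrank L C : ℤ) - Module.finrank L N) := by
  have e1 : N ≃ₗ[L] LinearMap.ker f :=
    (LinearEquiv.ofInjective ι hι).trans (LinearEquiv.ofEq _ _ (LinearMap.exact_iff.mp h1).symm)
  have e2 : (W ⧸ LinearMap.range f) ≃ₗ[L] C := h2.linearEquivOfSurjective hπ
  exact ⟨Module.Finite.equiv e1, Module.Finite.equiv e2.symm, by
    rw [LinearEquiv.finrank_eq e2, ← LinearEquiv.finrank_eq e1]⟩

theorem HasIndex.of_bijective {f : V →ₗ[L] W} (hf : Function.Bijective f) : HasIndex f 0 := by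
  have h := HasIndex.of_exact (L := L) (N := PUnit.{1}) (C := PUnit.{1}) (f := f) 0 0
    (fun a b _ => Subsingleton.elim a b)
    (fun x => by
      simp only [LinearMap.zero_apply, Set.mem_range, exists_const]
      constructor
      · intro h; exact (hf.1 (h.trans (map_zero f).symm)).symm
      · intro h; rw [← h, map_zero])
    (fun y => by
      simp only [LinearMap.zero_apply, true_iff]
      exact hf.2 y)
    (fun c => ⟨0, Subsingleton.elim _ _⟩)
  simpa using h

end Index



open Module Cardinal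

section Comp

variable {L : Type u} [Field L] {V W X : Type v} [AddCommGroup V] [Module L V]
  [AddCommGroup W] [Module L W] [AddCommGroup X] [Module L X]

theorem rank_ker_comp (f : V →ₗ[L] W) (g : W →ₗ[L] X) :
    Module.rank L (LinearMap.ker (g ∘ₗ f)) =
      Module.rank L (LinearMap.ker f) + Module.rank L ↥(LinearMap.ker g ⊓ LinearMap.range f) := by
  set Nh := LinearMap.ker (g ∘ₗ f) with hNh
  let φ : Nh →ₗ[L] W := f ∘ₗ Nh.subtype
  have hle : LinearMap.ker f ≤ Nh := by
    intro x hx
    rw [LinearMap.mem_ker] at hx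
    rw [hNh, LinearMap.mem_ker, LinearMap.comp_apply, hx, map_zero]
  have h1 : LinearMap.range φ = LinearMap.ker g ⊓ LinearMap.range f := by
    ext y
    constructor
    · rintro ⟨⟨x, hx⟩, rfl⟩
      exact ⟨hx, ⟨x, rfl⟩⟩
    · rintro ⟨hy, ⟨x, rfl⟩⟩
      exact ⟨⟨x, by rw [hNh, LinearMap.mem_ker, LinearMap.comp_apply]; exact hy⟩, rfl⟩
  have h2 : LinearMap.ker φ = Submodule.comap Nh.subtype (LinearMap.ker f) := by
    ext x
    simp [φ]
  have h3 := LinearMap.rank_range_add_rank_ker φ
  rw [h1, h2, (Submodule.comapSubtypeEquivOfLe hle).rank_eq] at h3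
  rw [← h3, add_comm]

theorem rank_ker_eq (f : V →ₗ[L] W) (g : W →ₗ[L] X) :
    Module.rank L (LinearMap.ker g) =
      Module.rank L ↥(LinearMap.ker g ⊓ LinearMap.range f) +
        Module.rank L ↥(LinearMap.range ((LinearMap.range f).mkQ ∘ₗ (LinearMap.ker g).subtype)) := by
  set ψ := (LinearMap.range f).mkQ ∘ₗ (LinearMap.ker g).subtype with hψ
  have h1 : LinearMap.ker ψ = Submodule.comap (LinearMap.ker g).subtype (LinearMap.range f) := by
    ext x
    simp [ψ]
  have h2 := LinearMap.rank_range_add_rank_ker ψ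
  have e : ↥(LinearMap.ker ψ) ≃ₗ[L] ↥(LinearMap.ker g ⊓ LinearMap.range f) := by
    rw [h1]
    exact (Submodule.equivSubtypeMap _ _).trans
      (LinearEquiv.ofEq _ _ (Submodule.map_comap_subtype _ _))
  rw [e.rank_eq] at h2
  rw [← h2, add_comm]

/-- the map induced by `g` on cokernels. -/
noncomputable def cokerMap (f : V →ₗ[L] W) (g : W →ₗ[L] X) :
    (W ⧸ LinearMap.range f) →ₗ[L] (X ⧸ LinearMap.range (g ∘ₗ f)) :=
  Submodule.mapQ _ _ g (by
    rintro _ ⟨x, rfl⟩
    exact ⟨x, rfl⟩)

theorem ker_cokerMap (f : V →ₗ[L] W) (g : W →ₗ[L] X) :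
    LinearMap.ker (cokerMap f g) =
      LinearMap.range ((LinearMap.range f).mkQ ∘ₗ (LinearMap.ker g).subtype) := by
  ext y
  obtain ⟨w, rfl⟩ := Submodule.mkQ_surjective _ y
  rw [LinearMap.mem_ker]
  constructor
  · intro h
    have h1 : g w ∈ LinearMap.range (g ∘ₗ f) := by
      have : cokerMap f g ((LinearMap.range f).mkQ w) = (LinearMap.range (g ∘ₗ f)).mkQ (g w) := rfl
      rw [this, Submodule.mkQ_apply, Submodule.Quotient.mk_eq_zero] at h
      exact h
    obtain ⟨v, hv⟩ := h1
    refine ⟨⟨w - f v, ?_⟩, ?_⟩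
    · rw [LinearMap.mem_ker, map_sub, ← hv, LinearMap.comp_apply, sub_self]
    · simp only [LinearMap.comp_apply, Submodule.subtype_apply, Submodule.mkQ_apply]
      rw [Submodule.Quotient.mk_sub, sub_eq_self, Submodule.Quotient.mk_eq_zero]
      exact ⟨v, rfl⟩
  · rintro ⟨⟨z, hz⟩, hzw⟩
    rw [← hzw]
    show (LinearMap.range (g ∘ₗ f)).mkQ (g z) = 0
    rw [LinearMap.mem_ker] at hz
    rw [hz, map_zero]

theorem range_cokerMap (f : V →ₗ[L] W) (g : W →ₗ[L] X) :
    LinearMap.range (cokerMap f g) =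
      LinearMap.ker (Submodule.mapQ (LinearMap.range (g ∘ₗ f)) (LinearMap.range g) LinearMap.id
        (by rintro _ ⟨x, rfl⟩; exact ⟨f x, rfl⟩)) := by
  ext y
  obtain ⟨x, rfl⟩ := Submodule.mkQ_surjective _ y
  rw [LinearMap.mem_ker]
  constructor
  · rintro ⟨z, hz⟩
    obtain ⟨w, rfl⟩ := Submodule.mkQ_surjective _ z
    rw [← hz]
    show (LinearMap.range g).mkQ (g w) = 0
    rw [Submodule.mkQ_apply, Submodule.Quotient.mk_eq_zero]
    exact ⟨w, rfl⟩
  · intro h
    have h1 : x ∈ LinearMap.range g := by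
      have : Submodule.mapQ (LinearMap.range (g ∘ₗ f)) (LinearMap.range g) LinearMap.id
        (by rintro _ ⟨x, rfl⟩; exact ⟨f x, rfl⟩) ((LinearMap.range (g ∘ₗ f)).mkQ x)
        = (LinearMap.range g).mkQ x := rfl
      rw [this, Submodule.mkQ_apply, Submodule.Quotient.mk_eq_zero] at h
      exact h
    obtain ⟨w, rfl⟩ := h1
    exact ⟨(LinearMap.range f).mkQ w, rfl⟩

theorem rank_coker_eq (f : V →ₗ[L] W) (g : W →ₗ[L] X) :
    Module.rank L (W ⧸ LinearMap.range f) =
      Module.rank L ↥(LinearMap.range ((LinearMap.range f).mkQ ∘ₗ (LinearMap.ker g).subtype)) +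
        Module.rank L ↥(LinearMap.range (cokerMap f g)) := by
  have h := LinearMap.rank_range_add_rank_ker (cokerMap f g)
  rw [ker_cokerMap] at h
  rw [← h, add_comm]

theorem rank_coker_comp (f : V →ₗ[L] W) (g : W →ₗ[L] X) :
    Module.rank L (X ⧸ LinearMap.range (g ∘ₗ f)) =
      Module.rank L ↥(LinearMap.range (cokerMap f g)) + Module.rank L (X ⧸ LinearMap.range g) := by
  set π := Submodule.mapQ (LinearMap.range (g ∘ₗ f)) (LinearMap.range g) LinearMap.id
        (by rintro _ ⟨x, rfl⟩; exact ⟨f x, rfl⟩) with hπ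
  have hsurj : Function.Surjective π := by
    intro y
    obtain ⟨x, rfl⟩ := Submodule.mkQ_surjective _ y
    exact ⟨(LinearMap.range (g ∘ₗ f)).mkQ x, rfl⟩
  have h := LinearMap.rank_range_add_rank_ker π
  rw [LinearMap.range_eq_top.mpr hsurj, rank_top, ← range_cokerMap] at h
  rw [← h, add_comm]

end Comp



open Module Cardinal

section Comp2

variable {L : Type u} [Field L] {V W X : Type v} [AddCommGroup V] [Module L V]
  [AddCommGroup W] [Module L W] [AddCommGroup X] [Module L X]

theorem hasIndex_iff_rank {f : V →ₗ[L] W} {n : ℤ} :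
    HasIndex f n ↔ ∃ a c : ℕ, Module.rank L (LinearMap.ker f) = a ∧
      Module.rank L (W ⧸ LinearMap.range f) = c ∧ (c : ℤ) - a = n := by
  constructor
  · rintro ⟨h1, h2, h3⟩
    refine ⟨Module.finrank L (LinearMap.ker f), Module.finrank L (W ⧸ LinearMap.range f), ?_, ?_, h3⟩
    · exact (Module.finrank_eq_rank L _).symm
    · exact (Module.finrank_eq_rank L _).symm
  · rintro ⟨a, c, ha, hc, h⟩
    have h1 : Module.Finite L (LinearMap.ker f) := by
      rw [← Module.rank_lt_aleph0_iff, ha]; exact Cardinal.nat_lt_aleph0 a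
    have h2 : Module.Finite L (W ⧸ LinearMap.range f) := by
      rw [← Module.rank_lt_aleph0_iff, hc]; exact Cardinal.nat_lt_aleph0 c
    refine ⟨h1, h2, ?_⟩
    rw [Module.finrank_eq_of_rank_eq ha, Module.finrank_eq_of_rank_eq hc]
    exact h

theorem HasIndex.comp {f : V →ₗ[L] W} {g : W →ₗ[L] X} {m n : ℤ} (hf : HasIndex f m)
    (hg : HasIndex g n) : HasIndex (g ∘ₗ f) (m + n) := by
  rw [hasIndex_iff_rank] at hf hg ⊢
  obtain ⟨a, c, ha, hc, hm⟩ := hf
  obtain ⟨b, d, hb, hd, hn⟩ := hg
  have e1 := rank_ker_comp f g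
  have e2 := rank_ker_eq f g
  have e3 := rank_coker_eq f g
  have e4 := rank_coker_comp f g
  rw [ha] at e1
  rw [hb] at e2
  rw [hc] at e3
  rw [hd] at e4
  have hA : Module.rank L ↥(LinearMap.ker g ⊓ LinearMap.range f) < ℵ₀ := by
    have : Module.rank L ↥(LinearMap.ker g ⊓ LinearMap.range f) ≤ (b : Cardinal) := by
      rw [e2]; exact le_self_add
    exact lt_of_le_of_lt this (Cardinal.nat_lt_aleph0 b)
  have hB : Module.rank L ↥(LinearMap.range ((LinearMap.range f).mkQ ∘ₗ (LinearMap.ker g).subtype)) < ℵ₀ := by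
    have : Module.rank L ↥(LinearMap.range ((LinearMap.range f).mkQ ∘ₗ (LinearMap.ker g).subtype))
        ≤ (b : Cardinal) := by
      rw [e2]; exact le_add_self
    exact lt_of_le_of_lt this (Cardinal.nat_lt_aleph0 b)
  have hD : Module.rank L ↥(LinearMap.range (cokerMap f g)) < ℵ₀ := by
    have : Module.rank L ↥(LinearMap.range (cokerMap f g)) ≤ (c : Cardinal) := by
      rw [e3]; exact le_add_self
    exact lt_of_le_of_lt this (Cardinal.nat_lt_aleph0 c)
  obtain ⟨A, hA'⟩ := Cardinal.lt_aleph0.mp hA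
  obtain ⟨B, hB'⟩ := Cardinal.lt_aleph0.mp hB
  obtain ⟨D, hD'⟩ := Cardinal.lt_aleph0.mp hD
  rw [hA'] at e1 e2
  rw [hB'] at e2 e3
  rw [hD'] at e3 e4
  have e2' : b = A + B := by exact_mod_cast e2
  have e3' : c = B + D := by exact_mod_cast e3
  refine ⟨a + A, D + d, by rw [e1]; push_cast; rfl, by rw [e4]; push_cast; rfl, ?_⟩
  push_cast
  have e2'' : (b : ℤ) = A + B := by exact_mod_cast e2'
  have e3'' : (c : ℤ) = B + D := by exact_mod_cast e3'
  linarith

theorem HasIndex.congr_right {f : V →ₗ[L] W} {n : ℤ} (e : W ≃ₗ[L] X) (hf : HasIndex f n) :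
    HasIndex (e.toLinearMap ∘ₗ f) n := by
  have := hf.comp (HasIndex.of_bijective (f := e.toLinearMap) e.bijective)
  rwa [add_zero] at this

theorem HasIndex.congr_left {f : W →ₗ[L] X} {n : ℤ} (e : V ≃ₗ[L] W) (hf : HasIndex f n) :
    HasIndex (f ∘ₗ e.toLinearMap) n := by
  have := (HasIndex.of_bijective (f := e.toLinearMap) e.bijective).comp hf
  rwa [zero_add] at this

end Comp2



open Module Cardinal TensorProduct

section BaseChange

variable {E : Type u} [Field E] (L : Type u) [Field L] [Algebra E L]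
  {V W : Type u} [AddCommGroup V] [Module E V] [AddCommGroup W] [Module E W]

theorem HasIndex.baseChange {f : V →ₗ[E] W} {n : ℤ} (hf : HasIndex f n) :
    HasIndex (f.baseChange L) n := by
  obtain ⟨h1, h2, h3⟩ := hf
  have hι : Function.Injective ((LinearMap.ker f).subtype.baseChange L) := by
    rw [LinearMap.baseChange_eq_ltensor]
    exact Module.Flat.lTensor_preserves_injective_linearMap _ (Submodule.subtype_injective _)
  have hex1 : Function.Exact ((LinearMap.ker f).subtype.baseChange L) (f.baseChange L) := by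
    rw [LinearMap.baseChange_eq_ltensor, LinearMap.baseChange_eq_ltensor]
    exact Module.Flat.lTensor_exact L (LinearMap.exact_subtype_ker_map f)
  have hex2 : Function.Exact (f.baseChange L) ((LinearMap.range f).mkQ.baseChange L) := by
    rw [LinearMap.baseChange_eq_ltensor, LinearMap.baseChange_eq_ltensor]
    exact Module.Flat.lTensor_exact L (LinearMap.exact_map_mkQ_range f)
  have hπ : Function.Surjective ((LinearMap.range f).mkQ.baseChange L) := by
    rw [LinearMap.baseChange_eq_ltensor]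
    exact LinearMap.lTensor_surjective _ (Submodule.mkQ_surjective _)
  have := HasIndex.of_exact (L := L) ((LinearMap.ker f).subtype.baseChange L)
    ((LinearMap.range f).mkQ.baseChange L) hι hex1 hex2 hπ
  rw [Module.finrank_baseChange, Module.finrank_baseChange, h3] at this
  exact this

end BaseChange

end Groth.Agent.Lib.Helper23.LinIndex
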