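import Mathlib
import Groth.Agent.Lib.Helper23.LinIndex
import Groth.Agent.Lib.Helper23.FieldSep2
import Groth.Agent.Lib.Helper23.FieldSep
import Groth.Agent.Lib.Helper23.FieldSmooth
import Groth.Agent.Lib.Helper23.FSmoothExist
import Groth.Agent.Lib.Helper23.KeyLemma3
import Groth.Prelude.Def_EGA41

/-!
Cartier's equality: for a finitely generated field extension L/K, dim Ω_{L/K} - dim Υ_{L/K} = trdeg_K L (EGA 0_IV 21.7.1).
-/

set_option autoImplicit false
universe u v w


namespace Groth.Agent.Lib.Helper23.Cartier

open Groth.Agent.Lib.Helper23.LinIndex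


open Module Cardinal TensorProduct KaehlerDifferential

open Groth.Agent.Lib.Helper23

section Tower

variable (Λ : Type w) (K E L : Type u) [CommRing Λ] [Field K] [Field E] [Field L] [Algebra Λ K] [Algebra Λ E]
  [Algebra Λ L] [Algebra K E] [Algebra K L] [Algebra E L] [IsScalarTower Λ K E] [IsScalarTower Λ K L]
  [IsScalarTower Λ E L] [IsScalarTower K E L]

theorem hasIndex_tower {m n : ℤ} (h1 : HasIndex (mapBaseChange Λ K E) m)
    (h2 : HasIndex (mapBaseChange Λ E L) n) : HasIndex (mapBaseChange Λ K L) (m + n) := by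
  let c := TensorProduct.AlgebraTensorModule.cancelBaseChange K E L L Ω[K⁄Λ]
  have h3 := (h1.baseChange L).comp h2
  have h4 := h3.congr_left c.symm
  have heq : (mapBaseChange Λ E L ∘ₗ (mapBaseChange Λ K E).baseChange L) ∘ₗ c.symm.toLinearMap
      = mapBaseChange Λ K L := by
    apply LinearMap.ext
    intro z
    obtain ⟨w, rfl⟩ := c.surjective z
    rw [LinearMap.comp_apply, LinearEquiv.coe_coe, c.symm_apply_apply, LinearMap.comp_apply]
    have := FieldSep.mapBaseChange_lTensor Λ K E L w
    rw [← this]
    rfl
  rw [heq] at h4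
  exact h4

end Tower



open Module Cardinal TensorProduct KaehlerDifferential Polynomial

open Groth.Agent.Lib.Helper23

section Simple

variable (Λ : Type w) (E E' : Type u) [CommRing Λ] [Field E] [Field E'] [Algebra Λ E] [Algebra Λ E']
  [Algebra E E'] [IsScalarTower Λ E E'] [Algebra E[X] E'] [IsScalarTower E E[X] E']
  [IsScalarTower Λ E[X] E']

/-- step 1: `E' ⊗ (P ⊗ Ω_E) → E' ⊗ Ω_P` has index one (`P = E[X]`). -/
theorem hasIndex_poly : HasIndex ((mapBaseChange Λ E E[X]).baseChange E') 1 := by
  -- retraction of `mapBaseChange Λ E P`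
  have hinj : Function.Injective (mapBaseChange Λ E E[X]) :=
    FieldSep.injective_mapBaseChange_of_formallySmooth Λ E E[X]
  have hex : Function.Exact (mapBaseChange Λ E E[X]) (KaehlerDifferential.map Λ E E[X] E[X]) :=
    exact_mapBaseChange_map Λ E E[X]
  have hsurj : Function.Surjective (KaehlerDifferential.map Λ E E[X] E[X]) :=
    KaehlerDifferential.map_surjective Λ E E[X]
  haveI : Module.Free E[X] Ω[E[X]⁄E] := Module.Free.of_equiv (polynomialEquiv E).symm
  obtain ⟨l, hl⟩ := ((hex.split_tfae'.out 0 1 rfl rfl).mp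
    ⟨hinj, Module.projective_lifting_property _ LinearMap.id hsurj⟩).2
  have hinj' : Function.Injective ((mapBaseChange Λ E E[X]).baseChange E') := by
    apply Function.LeftInverse.injective (g := l.baseChange E')
    intro z
    rw [← LinearMap.comp_apply, ← LinearMap.baseChange_comp, hl, LinearMap.baseChange_id,
      LinearMap.id_apply]
  have hex' : Function.Exact ((mapBaseChange Λ E E[X]).baseChange E')
      ((KaehlerDifferential.map Λ E E[X] E[X]).baseChange E') := by
    rw [LinearMap.baseChange_eq_ltensor, LinearMap.baseChange_eq_ltensor]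
    exact lTensor_exact E' hex hsurj
  have hsurj' : Function.Surjective ((KaehlerDifferential.map Λ E E[X] E[X]).baseChange E') := by
    rw [LinearMap.baseChange_eq_ltensor]
    exact LinearMap.lTensor_surjective _ hsurj
  let e : E' ⊗[E[X]] Ω[E[X]⁄E] ≃ₗ[E'] E' :=
    (LinearEquiv.baseChange E[X] E' _ _ (polynomialEquiv E)).trans
      (TensorProduct.AlgebraTensorModule.rid E[X] E' E')
  haveI : Module.Finite E' (E' ⊗[E[X]] Ω[E[X]⁄E]) := Module.Finite.equiv e.symm
  have h := HasIndex.of_exact (L := E') (N := PUnit.{u+1}) (C := E' ⊗[E[X]] Ω[E[X]⁄E])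
    (f := (mapBaseChange Λ E E[X]).baseChange E') 0
    ((KaehlerDifferential.map Λ E E[X] E[X]).baseChange E')
    (fun a b _ => Subsingleton.elim a b)
    (fun x => by
      simp only [LinearMap.zero_apply, Set.mem_range, exists_const]
      constructor
      · intro h; exact (hinj' (h.trans (map_zero _).symm)).symm
      · intro h; rw [← h, map_zero])
    hex' hsurj'
  rw [e.finrank_eq, Module.finrank_self, Module.finrank_zero_of_subsingleton] at h
  simpa using h

end Simple



open Module Cardinal TensorProduct KaehlerDifferential Polynomial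

open Groth.Agent.Lib.Helper23

section Surj

variable (Λ : Type w) (P E' : Type u) [CommRing Λ] [CommRing P] [IsDomain P] [IsPrincipalIdealRing P] [Field E']
  [Algebra Λ P] [Algebra Λ E'] [Algebra P E'] [IsScalarTower Λ P E']
  [Algebra.FormallySmooth Λ P] [Algebra.FormallySmooth Λ E']

/-- step 2a: for a quotient `E' = P/(g)` of a PID, `E' ⊗ Ω_P → Ω_{E'}` has index `-1`. -/
theorem hasIndex_quotient (hsurj : Function.Surjective (algebraMap P E'))
    (hker : RingHom.ker (algebraMap P E') ≠ ⊥) :
    HasIndex (mapBaseChange Λ P E') (-1) := by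
  set I := RingHom.ker (algebraMap P E') with hI
  set g := Submodule.IsPrincipal.generator I with hg
  have hIg : I = Ideal.span {g} := (Ideal.span_singleton_generator I).symm
  have hgI : g ∈ I := Submodule.IsPrincipal.generator_mem I
  have hg0 : g ≠ 0 := by
    intro h0
    apply hker
    rw [hIg, h0, Ideal.span_singleton_eq_bot]
  have hgE : algebraMap P E' g = 0 := hgI
  set v : E' ⊗[P] Ω[P⁄Λ] := (1 : E') ⊗ₜ[P] D Λ P g with hv
  have hex := exact_kerCotangentToTensor_mapBaseChange Λ P E' hsurj
  obtain ⟨l, hl⟩ := (Algebra.FormallySmooth.iff_split_injection (R := Λ) hsurj).mp inferInstance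
  have hinj : Function.Injective (kerCotangentToTensor Λ P E') := by
    apply Function.LeftInverse.injective (g := l)
    intro z
    exact congrArg (fun f => f z) hl
  have hvk : kerCotangentToTensor Λ P E' (I.toCotangent ⟨g, hgI⟩) = v := rfl
  -- v ≠ 0
  have hv0 : v ≠ 0 := by
    intro h0
    rw [← hvk] at h0
    have h1 : I.toCotangent ⟨g, hgI⟩ = 0 := hinj (h0.trans (map_zero _).symm)
    rw [Ideal.toCotangent_eq_zero] at h1
    have h2 : g ∈ Ideal.span {g * g} := by
      have : I ^ 2 = Ideal.span {g * g} := by
        rw [hIg, pow_two, Ideal.span_singleton_mul_span_singleton]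
      rw [← this]; exact h1
    obtain ⟨r, hr⟩ := Ideal.mem_span_singleton'.mp h2
    have h3 : g * (r * g - 1) = 0 := by
      have : g * (r * g - 1) = r * (g * g) - g := by ring
      rw [this, hr, sub_self]
    rcases mul_eq_zero.mp h3 with h4 | h4
    · exact hg0 h4
    · have h5 : r * g = 1 := sub_eq_zero.mp h4
      have h6 : (1 : E') = 0 := by
        rw [← map_one (algebraMap P E'), ← h5, map_mul, hgE, mul_zero]
      exact one_ne_zero h6
  -- the kernel
  have hA : LinearMap.ker (mapBaseChange Λ P E') = Submodule.span E' {v} := by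
    apply le_antisymm
    · intro z hz
      obtain ⟨c, rfl⟩ := (hex z).mp hz
      obtain ⟨⟨i, hi⟩, rfl⟩ := Ideal.toCotangent_surjective I c
      have hi' := hi
      rw [hIg, Ideal.mem_span_singleton'] at hi'
      obtain ⟨r, rfl⟩ := hi'
      have : kerCotangentToTensor Λ P E' (I.toCotangent ⟨r * g, hi⟩) = algebraMap P E' r • v := by
        show (1 : E') ⊗ₜ[P] D Λ P (r * g) = _
        rw [Derivation.leibniz, TensorProduct.tmul_add, TensorProduct.tmul_smul,
          TensorProduct.tmul_smul, hv, algebraMap_smul]
        have : g • ((1 : E') ⊗ₜ[P] D Λ P r) = 0 := by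
          rw [TensorProduct.smul_tmul', Algebra.smul_def, hgE, zero_mul, TensorProduct.zero_tmul]
        rw [this, add_zero]
      rw [this]
      exact Submodule.smul_mem _ _ (Submodule.mem_span_singleton_self v)
    · rw [Submodule.span_singleton_le_iff_mem]
      exact (hex v).mpr ⟨_, hvk⟩
  have hrange : LinearMap.range (mapBaseChange Λ P E') = ⊤ :=
    LinearMap.range_eq_top.mpr (mapBaseChange_surjective Λ P E' hsurj)
  refine ⟨?_, ?_, ?_⟩
  · rw [hA]; infer_instance
  · rw [hrange]; infer_instance
  · rw [hA, hrange, finrank_span_singleton hv0, Module.finrank_zero_of_subsingleton]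
    norm_num

end Surj



open Module Cardinal TensorProduct KaehlerDifferential Polynomial

open Groth.Agent.Lib.Helper23

section Factor

variable (Λ : Type w) (A B C : Type u) [CommRing Λ] [CommRing A] [CommRing B] [Field C] [Algebra Λ A] [Algebra Λ B]
  [Algebra Λ C] [Algebra A B] [Algebra A C] [Algebra B C] [IsScalarTower Λ A B] [IsScalarTower Λ A C]
  [IsScalarTower Λ B C] [IsScalarTower A B C]

theorem hasIndex_of_factor {m n : ℤ} (h1 : HasIndex ((mapBaseChange Λ A B).baseChange C) m)
    (h2 : HasIndex (mapBaseChange Λ B C) n) : HasIndex (mapBaseChange Λ A C) (m + n) := by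
  let c := TensorProduct.AlgebraTensorModule.cancelBaseChange A B C C Ω[A⁄Λ]
  have h3 := h1.comp h2
  have h4 := h3.congr_left c.symm
  have heq : (mapBaseChange Λ B C ∘ₗ (mapBaseChange Λ A B).baseChange C) ∘ₗ c.symm.toLinearMap
      = mapBaseChange Λ A C := by
    apply LinearMap.ext
    intro z
    obtain ⟨w, rfl⟩ := c.surjective z
    rw [LinearMap.comp_apply, LinearEquiv.coe_coe, c.symm_apply_apply, LinearMap.comp_apply]
    have := FieldSep.mapBaseChange_lTensor Λ A B C w
    rw [← this]
    rfl
  rw [heq] at h4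
  exact h4

theorem hasIndex_of_formallyEtale [Algebra.FormallyEtale B C] : HasIndex (mapBaseChange Λ B C) 0 :=
  HasIndex.of_bijective (tensorKaehlerEquivOfFormallyEtale Λ B C).bijective

end Factor



open Module Cardinal TensorProduct KaehlerDifferential Polynomial

open Groth.Agent.Lib.Helper23

section Good

/-- Cartier's equality relative to a base `Λ` over which everything is formally smooth. -/
def Good (Λ : Type w) (K L : Type u) [CommRing Λ] [Field K] [Field L] [Algebra Λ K] [Algebra Λ L]
    [Algebra K L] [IsScalarTower Λ K L] : Prop :=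
  ∃ n : ℕ, Algebra.trdeg K L = n ∧ HasIndex (mapBaseChange Λ K L) n

variable (Λ : Type w) (E E' : Type u) [CommRing Λ] [Field E] [Field E'] [Algebra Λ E] [Algebra Λ E']
  [Algebra E E'] [IsScalarTower Λ E E'] [Algebra.FormallySmooth Λ E] [Algebra.FormallySmooth Λ E']

theorem good_simple (x : E') (hx : IntermediateField.adjoin E {x} = ⊤) : Good Λ E E' := by
  letI : Algebra E[X] E' := (Polynomial.aeval x : E[X] →ₐ[E] E').toRingHom.toAlgebra
  have halgmap : ∀ p : E[X], algebraMap E[X] E' p = Polynomial.aeval x p := fun p => rfl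
  haveI : IsScalarTower E E[X] E' := IsScalarTower.of_algebraMap_eq (fun r => by
    rw [halgmap, Polynomial.algebraMap_apply, Polynomial.aeval_C]
    rfl)
  haveI : IsScalarTower Λ E[X] E' := IsScalarTower.of_algebraMap_eq (fun r => by
    rw [IsScalarTower.algebraMap_apply Λ E E[X], ← IsScalarTower.algebraMap_apply E E[X] E',
      ← IsScalarTower.algebraMap_apply Λ E E'])
  haveI : Algebra.FormallySmooth Λ E[X] := Algebra.FormallySmooth.comp Λ E E[X]
  have h1 := hasIndex_poly Λ E E'
  by_cases halg : IsAlgebraic E x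
  · have hint : IsIntegral E x := halg.isIntegral
    have hsurj : Function.Surjective (algebraMap E[X] E') := by
      intro y
      have hy : y ∈ (IntermediateField.adjoin E {x}).toSubalgebra := by
        rw [hx]; trivial
      rw [IntermediateField.adjoin_simple_toSubalgebra_of_isAlgebraic halg,
        Algebra.adjoin_singleton_eq_range_aeval] at hy
      obtain ⟨p, hp⟩ := hy
      exact ⟨p, hp⟩
    have hker : RingHom.ker (algebraMap E[X] E') ≠ ⊥ := by
      intro h0
      have hm : minpoly E x ∈ RingHom.ker (algebraMap E[X] E') := by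
        rw [RingHom.mem_ker, halgmap, minpoly.aeval]
      rw [h0, Ideal.mem_bot] at hm
      exact minpoly.ne_zero hint hm
    have h2 := hasIndex_quotient Λ E[X] E' hsurj hker
    have h3 := hasIndex_of_factor Λ E E[X] E' h1 h2
    refine ⟨0, ?_, by simpa using h3⟩
    haveI : Algebra.IsAlgebraic E E' := by
      have h4 : Algebra.IsAlgebraic E (IntermediateField.adjoin E {x}) :=
        IntermediateField.isAlgebraic_adjoin_simple hint
      rw [hx] at h4
      exact (IntermediateField.topEquiv (F := E) (E := E')).isAlgebraic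
    rw [trdeg_eq_zero]
    simp
  · have hinj : Function.Injective (algebraMap E[X] E') := by
      rw [injective_iff_map_eq_zero]
      intro p hp
      by_contra hp0
      exact halg ⟨p, hp0, hp⟩
    haveI : FaithfulSMul E[X] E' := (faithfulSMul_iff_algebraMap_injective _ _).mpr hinj
    haveI : IsFractionRing E[X] E' := by
      apply IsFractionRing.of_field
      intro y
      have hy : y ∈ IntermediateField.adjoin E {x} := by rw [hx]; trivial
      rw [IntermediateField.mem_adjoin_simple_iff] at hy
      obtain ⟨r, s, hrs⟩ := hy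
      exact ⟨r, s, hrs⟩
    haveI : Algebra.FormallyEtale E[X] E' :=
      Algebra.FormallyEtale.of_isLocalization (nonZeroDivisors E[X])
    have h2 := hasIndex_of_formallyEtale Λ E[X] E'
    have h3 := hasIndex_of_factor Λ E E[X] E' h1 h2
    refine ⟨1, ?_, by simpa using h3⟩
    haveI : Algebra.IsAlgebraic E[X] E' := IsLocalization.isAlgebraic _ (nonZeroDivisors E[X])
    have h5 := trdeg_add_eq E E[X] (A := E')
    rw [Polynomial.trdeg_of_isDomain, trdeg_eq_zero, add_zero] at h5
    rw [← h5]
    simp

end Good



open Module Cardinal TensorProduct KaehlerDifferential Polynomial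

open Groth.Agent.Lib.Helper23

section GoodTower

theorem Good.tower (Λ : Type w) (K E L : Type u) [CommRing Λ] [Field K] [Field E] [Field L] [Algebra Λ K]
    [Algebra Λ E] [Algebra Λ L] [Algebra K E] [Algebra K L] [Algebra E L] [IsScalarTower Λ K E]
    [IsScalarTower Λ K L] [IsScalarTower Λ E L] [IsScalarTower K E L]
    (h1 : Good Λ K E) (h2 : Good Λ E L) : Good Λ K L := by
  obtain ⟨m, hm, h1⟩ := h1
  obtain ⟨n, hn, h2⟩ := h2
  refine ⟨m + n, ?_, by exact_mod_cast hasIndex_tower Λ K E L h1 h2⟩
  have h5 := trdeg_add_eq K E (A := L)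
  rw [← h5, hm, hn]
  simp

theorem good_of_finset (Λ : Type w) [CommRing Λ] (L : Type u) [Field L] [Algebra Λ L]
    (hΛ : ∀ (K : Type u) [Field K] [Algebra Λ K] [Algebra K L] [IsScalarTower Λ K L],
      Algebra.FormallySmooth Λ K) :
    ∀ (n : ℕ) (K : Type u) [Field K] [Algebra Λ K] [Algebra K L] [IsScalarTower Λ K L]
      (s : Finset L), s.card = n → IntermediateField.adjoin K (s : Set L) = ⊤ → Good Λ K L := by
  intro n
  induction n with
  | zero =>
    intro K _ _ _ _ s hs hadj
    haveI : Algebra.FormallySmooth Λ K := hΛ K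
    haveI : Algebra.FormallySmooth Λ L := hΛ L
    apply good_simple Λ K L 0
    rw [Finset.card_eq_zero] at hs
    rw [← hadj, hs]
    simp
  | succ n ih =>
    intro K _ _ _ _ s hs hadj
    classical
    obtain ⟨x, t, hxt, hst, ht⟩ := Finset.card_eq_succ.mp hs
    subst hst
    let E : IntermediateField K L := IntermediateField.adjoin K {x}
    haveI : Algebra.FormallySmooth Λ K := hΛ K
    haveI : IsScalarTower Λ E L := IsScalarTower.of_algebraMap_eq (fun r => rfl)
    haveI : Algebra.FormallySmooth Λ E := hΛ E
    have h1 : Good Λ K E := by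
      apply good_simple Λ K E (IntermediateField.AdjoinSimple.gen K x)
      apply IntermediateField.lift_injective
      rw [IntermediateField.lift_adjoin_simple, IntermediateField.lift_top]
      rfl
    have h2 : Good Λ E L := by
      apply ih E t ht
      rw [← IntermediateField.restrictScalars_eq_top_iff (K := K)]
      rw [IntermediateField.adjoin_adjoin_left]
      rw [← hadj]
      congr 1
      simp
    exact Good.tower Λ K E L h1 h2

theorem good_of_essFiniteType (Λ : Type w) (K L : Type u) [CommRing Λ] [Field K] [Field L]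
    [Algebra Λ K] [Algebra Λ L] [Algebra K L] [IsScalarTower Λ K L] [Algebra.EssFiniteType K L]
    (hΛ : ∀ (K : Type u) [Field K] [Algebra Λ K] [Algebra K L] [IsScalarTower Λ K L],
      Algebra.FormallySmooth Λ K) :
    Good Λ K L := by
  obtain ⟨s, hs⟩ := IntermediateField.fg_top (F := K) (E := L)
  exact good_of_finset Λ L hΛ s.card K s rfl hs

end GoodTower



open Module Cardinal TensorProduct KaehlerDifferential Polynomial

open Groth.Agent.Lib.Helper23

section Transfer

theorem hasIndex_int_iff (Λ K L : Type u) [CommRing Λ] [Field K] [Field L] [Algebra Λ K]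
    [Algebra K L] [Algebra Λ L] [IsScalarTower Λ K L] (h : Subsingleton (Ω[Λ⁄ℤ])) {n : ℤ} :
    HasIndex (mapBaseChange Λ K L) n ↔ HasIndex (mapBaseChange ℤ K L) n := by
  have h1 : Function.Bijective ((KaehlerDifferential.map ℤ Λ K K).baseChange L) := by
    have : Function.Bijective ((KaehlerDifferential.map ℤ Λ K K).lTensor L) :=
      Groth.Agent.S4571.lTensor_bijective L _ (Groth.Agent.S4571.map_bijective Λ K h)
    rw [← LinearMap.baseChange_eq_ltensor] at this
    exact this
  have h2 : Function.Bijective (KaehlerDifferential.map ℤ Λ L L) :=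
    Groth.Agent.S4571.map_bijective Λ L h
  have hsq := Groth.Agent.S4571.square Λ K L
  let e1 : L ⊗[K] Ω[K⁄ℤ] ≃ₗ[L] L ⊗[K] Ω[K⁄Λ] := LinearEquiv.ofBijective _ h1
  let e2 : Ω[L⁄ℤ] ≃ₗ[L] Ω[L⁄Λ] := LinearEquiv.ofBijective _ h2
  have hsq' : mapBaseChange Λ K L ∘ₗ e1.toLinearMap = e2.toLinearMap ∘ₗ mapBaseChange ℤ K L := hsq
  constructor
  · intro hn
    have h3 := (hn.congr_left e1).congr_right e2.symm
    have heq : e2.symm.toLinearMap ∘ₗ (mapBaseChange Λ K L ∘ₗ e1.toLinearMap) = mapBaseChange ℤ K L := by
      rw [hsq']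
      ext z
      simp
    rwa [heq] at h3
  · intro hn
    have h3 := (hn.congr_left e1.symm).congr_right e2
    have heq : e2.toLinearMap ∘ₗ (mapBaseChange ℤ K L ∘ₗ e1.symm.toLinearMap) = mapBaseChange Λ K L := by
      rw [← LinearMap.comp_assoc, ← hsq']
      ext z
      simp
    rwa [heq] at h3

end Transfer

section Cartier

theorem formallySmooth_int_of_charZero (K : Type u) [Field K] [CharZero K] :
    Algebra.FormallySmooth ℤ K := by
  haveI : Algebra.FormallySmooth ℤ ℚ := Algebra.FormallySmooth.of_isLocalization (nonZeroDivisors ℤ)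
  haveI : Algebra.FormallySmooth ℚ K := FieldSmooth.formallySmooth_of_charZero ℚ K
  exact Algebra.FormallySmooth.comp ℤ ℚ K

/-- Cartier's equality. -/
theorem cartier (K L : Type u) [Field K] [Field L] [Algebra K L] [Algebra.EssFiniteType K L] :
    ∃ n : ℕ, Algebra.trdeg K L = n ∧ HasIndex (mapBaseChange ℤ K L) n := by
  obtain ⟨p, hp⟩ := CharP.exists K
  rcases CharP.char_is_prime_or_zero K p with hprime | hzero
  · haveI : Fact p.Prime := ⟨hprime⟩
    haveI : CharP L p := charP_of_injective_algebraMap (algebraMap K L).injective p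
    letI : Algebra (ULift.{u} (ZMod p)) K := KeyLemma.primeAlgebra p K
    letI : Algebra (ULift.{u} (ZMod p)) L := KeyLemma.primeAlgebra p L
    haveI : IsScalarTower (ULift.{u} (ZMod p)) K L := IsScalarTower.of_algebraMap_eq (fun c => by
      have := FSmoothExist.ulift_zmod_ringHom_ext p (algebraMap (ULift.{u} (ZMod p)) L)
        ((algebraMap K L).comp (algebraMap (ULift.{u} (ZMod p)) K))
      exact congrArg (fun h : ULift.{u} (ZMod p) →+* L => h c) this)
    haveI : CharP (ULift.{u} (ZMod p)) p :=
      (algebraMap (ULift.{u} (ZMod p)) K).charP (algebraMap (ULift.{u} (ZMod p)) K).injective p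
    haveI : PerfectRing (ULift.{u} (ZMod p)) p := PerfectRing.ofFiniteOfIsReduced p _
    have hΛ : ∀ (K' : Type u) [Field K'] [Algebra (ULift.{u} (ZMod p)) K'] [Algebra K' L]
        [IsScalarTower (ULift.{u} (ZMod p)) K' L],
        Algebra.FormallySmooth (ULift.{u} (ZMod p)) K' := fun K' _ _ _ _ =>
      FieldSmooth.formallySmooth_of_charP p _ _
    obtain ⟨n, hn, hidx⟩ := good_of_essFiniteType (ULift.{u} (ZMod p)) K L hΛ
    exact ⟨n, hn, (hasIndex_int_iff _ K L (KeyLemma3.subsingleton_kaehler_primeField p)).mp hidx⟩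
  · subst hzero
    haveI : CharZero K := CharP.charP_to_charZero K
    haveI : CharZero L := charZero_of_injective_algebraMap (algebraMap K L).injective
    refine good_of_essFiniteType ℤ K L ?_
    · intro K' _ inst _ _
      haveI : CharZero K' := by
        refine ⟨fun a b hab => ?_⟩
        have := congrArg (algebraMap K' L) hab
        rw [map_natCast, map_natCast] at this
        exact_mod_cast this
      obtain rfl : inst = Ring.toIntAlgebra K' := Subsingleton.elim _ _
      exact formallySmooth_int_of_charZero K'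

end Cartier



open Module Cardinal TensorProduct KaehlerDifferential Polynomial

open Groth.Agent.Lib.Helper23

section Main

/-- index of `mapBaseChange` in terms of Kähler differentials and the imperfection module. -/
theorem hasIndex_kaehler {Λ : Type w} {K L : Type u} [CommRing Λ] [Field K] [Field L] [Algebra Λ K]
    [Algebra Λ L] [Algebra K L] [IsScalarTower Λ K L] {n : ℤ}
    (h : HasIndex (mapBaseChange Λ K L) n) :
    Module.Finite L (Ω[L⁄K]) ∧ Module.Finite L (EGA41.imperfection Λ K L) ∧
      (Module.finrank L (Ω[L⁄K]) : ℤ) - Module.finrank L (EGA41.imperfection Λ K L) = n := by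
  let e : (Ω[L⁄Λ] ⧸ LinearMap.range (mapBaseChange Λ K L)) ≃ₗ[L] Ω[L⁄K] :=
    (exact_mapBaseChange_map Λ K L).linearEquivOfSurjective (map_surjective Λ K L)
  haveI := h.finite_coker
  refine ⟨Module.Finite.equiv e, h.finite_ker, ?_⟩
  rw [← e.finrank_eq]
  exact h.eq

theorem t2469main {K L : Type u} [Field K] [Field L] [Algebra K L] [Algebra.EssFiniteType K L] :
    Module.Finite L (Ω[L⁄K]) ∧ Module.Finite L (EGA41.imperfection ℤ K L) ∧
      (Module.finrank L (Ω[L⁄K]) : ℤ) - Module.finrank L (EGA41.imperfection ℤ K L) = Cardinal.toNat (Algebra.trdeg K L) := by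
  obtain ⟨n, hn, hidx⟩ := cartier K L
  obtain ⟨h1, h2, h3⟩ := hasIndex_kaehler hidx
  refine ⟨h1, h2, ?_⟩
  rw [h3, hn]
  simp

end Main



open Module Cardinal TensorProduct KaehlerDifferential Polynomial

open Groth.Agent.Lib.Helper23

section Surj

open TensorProduct in
/-- Let Λ → A → B → C be ring homomorphisms. The homomorphism Ω_{B/Λ} ⊗_B C → Ω_{B/A} ⊗_B C maps the
imperfection module Υ_{C/B/Λ} (the kernel of Ω_{B/Λ} ⊗_B C → Ω_{C/Λ}) onto the imperfection module
Υ_{C/B/A} (the kernel of Ω_{B/A} ⊗_B C → Ω_{C/A}): every element of Υ_{C/B/A} is the image of some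
element of Υ_{C/B/Λ}. -/
theorem imperfection_surj (Λ : Type w) (A B C : Type u) [CommRing Λ] [CommRing A] [CommRing B] [CommRing C]
    [Algebra Λ A] [Algebra Λ B] [Algebra Λ C] [Algebra A B] [Algebra A C] [Algebra B C]
    [IsScalarTower Λ A B] [IsScalarTower Λ A C] [IsScalarTower Λ B C] [IsScalarTower A B C] :
    ∀ ω ∈ EGA41.imperfection A B C, ∃ η ∈ EGA41.imperfection Λ B C,
      (KaehlerDifferential.map Λ A B B).baseChange C η = ω := by
  -- functoriality F
  have hF : ∀ ω' : Ω[A⁄Λ], KaehlerDifferential.map Λ Λ B C (KaehlerDifferential.map Λ Λ A B ω') =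
      KaehlerDifferential.map Λ Λ A C ω' := by
    intro ω'
    have hmem : ω' ∈ Submodule.span A (Set.range (KaehlerDifferential.D Λ A)) := by
      rw [KaehlerDifferential.span_range_derivation]; trivial
    induction hmem using Submodule.span_induction with
    | mem x hx =>
      obtain ⟨a, rfl⟩ := hx
      rw [KaehlerDifferential.map_D, KaehlerDifferential.map_D, KaehlerDifferential.map_D,
        ← IsScalarTower.algebraMap_apply]
    | zero => simp
    | add x y _ _ hx hy => rw [map_add, map_add, map_add, hx, hy]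
    | smul a x _ hx =>
      rw [map_smul, LinearMap.map_smul_of_tower, hx, map_smul]
  have hG : ∀ x : Ω[B⁄Λ], KaehlerDifferential.map Λ A C C (KaehlerDifferential.map Λ Λ B C x) =
      KaehlerDifferential.map A A B C (KaehlerDifferential.map Λ A B B x) := by
    intro x
    have hmem : x ∈ Submodule.span B (Set.range (KaehlerDifferential.D Λ B)) := by
      rw [KaehlerDifferential.span_range_derivation]; trivial
    induction hmem using Submodule.span_induction with
    | mem x hx =>
      obtain ⟨b, rfl⟩ := hx
      simp only [KaehlerDifferential.map_D, Algebra.algebraMap_self, RingHom.id_apply]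
    | zero => simp
    | add x y _ _ hx hy => simp only [map_add, hx, hy]
    | smul b x _ hx =>
      rw [map_smul, LinearMap.map_smul_of_tower, hx, map_smul, map_smul]
  -- the auxiliary claim
  have hclaim : ∀ z : C ⊗[A] Ω[A⁄Λ], ∃ η1 : C ⊗[B] Ω[B⁄Λ],
      KaehlerDifferential.mapBaseChange Λ B C η1 = KaehlerDifferential.mapBaseChange Λ A C z ∧
      (KaehlerDifferential.map Λ A B B).baseChange C η1 = 0 := by
    intro z
    induction z using TensorProduct.induction_on with
    | zero => exact ⟨0, by simp, by simp⟩
    | tmul c ω' =>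
      refine ⟨c ⊗ₜ (KaehlerDifferential.map Λ Λ A B ω'), ?_, ?_⟩
      · rw [KaehlerDifferential.mapBaseChange_tmul, KaehlerDifferential.mapBaseChange_tmul, hF]
      · rw [LinearMap.baseChange_tmul]
        have h0 := (KaehlerDifferential.exact_mapBaseChange_map Λ A B).apply_apply_eq_zero
          ((1 : B) ⊗ₜ[A] ω')
        rw [KaehlerDifferential.mapBaseChange_tmul, one_smul] at h0
        rw [h0, tmul_zero]
    | add x y hx hy =>
      obtain ⟨η1, h1, h1'⟩ := hx
      obtain ⟨η2, h2, h2'⟩ := hy
      exact ⟨η1 + η2, by rw [map_add, map_add, h1, h2], by rw [map_add, h1', h2', add_zero]⟩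
  -- compatibility square
  have hsq : ∀ η0 : C ⊗[B] Ω[B⁄Λ],
      KaehlerDifferential.map Λ A C C (KaehlerDifferential.mapBaseChange Λ B C η0) =
      KaehlerDifferential.mapBaseChange A B C ((KaehlerDifferential.map Λ A B B).baseChange C η0) := by
    intro η0
    induction η0 using TensorProduct.induction_on with
    | zero => simp
    | tmul c x =>
      rw [KaehlerDifferential.mapBaseChange_tmul, LinearMap.baseChange_tmul,
        KaehlerDifferential.mapBaseChange_tmul, map_smul, hG]
    | add x y hx hy => simp only [map_add, hx, hy]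
  have hsurj : Function.Surjective ((KaehlerDifferential.map Λ A B B).baseChange C) := by
    rw [LinearMap.baseChange_eq_ltensor]
    exact LinearMap.lTensor_surjective _ (KaehlerDifferential.map_surjective Λ A B)
  intro ω hω
  obtain ⟨η0, rfl⟩ := hsurj ω
  have hω' : KaehlerDifferential.mapBaseChange A B C
      ((KaehlerDifferential.map Λ A B B).baseChange C η0) = 0 := hω
  rw [← hsq] at hω'
  obtain ⟨z, hz⟩ := ((KaehlerDifferential.exact_mapBaseChange_map Λ A C) _).mp hω'
  obtain ⟨η1, h1, h1'⟩ := hclaim z
  refine ⟨η0 - η1, ?_, ?_⟩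
  · show KaehlerDifferential.mapBaseChange Λ B C (η0 - η1) = 0
    rw [map_sub, h1, hz, sub_self]
  · rw [map_sub, h1', sub_zero]


end Surj


theorem t4525main {k K L : Type u} [Field k] [Field K] [Field L]
    [Algebra k K] [Algebra K L] [Algebra k L] [IsScalarTower k K L] [Algebra.EssFiniteType K L] :
    Module.Finite L (Ω[L⁄K]) ∧ Module.Finite L (EGA41.imperfection k K L) ∧
      (Cardinal.toNat (Algebra.trdeg K L) : ℤ) ≤
        (Module.finrank L (Ω[L⁄K]) : ℤ) - Module.finrank L (EGA41.imperfection k K L) := by
  obtain ⟨h1, h2, h3⟩ := t2469main (K := K) (L := L)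
  have hsurj := imperfection_surj ℤ k K L
  have hle : EGA41.imperfection k K L ≤
      Submodule.map ((KaehlerDifferential.map ℤ k K K).baseChange L) (EGA41.imperfection ℤ K L) := by
    intro ω hω
    obtain ⟨η, hη, rfl⟩ := hsurj ω hω
    exact ⟨η, hη, rfl⟩
  haveI : Module.Finite L (Submodule.map ((KaehlerDifferential.map ℤ k K K).baseChange L)
      (EGA41.imperfection ℤ K L)) := Module.Finite.map _ _
  have hfin : Module.Finite L (EGA41.imperfection k K L) :=
    Submodule.finiteDimensional_of_le hle
  have hrank : Module.finrank L (EGA41.imperfection k K L) ≤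
      Module.finrank L (EGA41.imperfection ℤ K L) :=
    (Submodule.finrank_mono hle).trans (Submodule.finrank_map_le _ _)
  refine ⟨h1, hfin, ?_⟩
  rw [← h3]
  have : (Module.finrank L (EGA41.imperfection k K L) : ℤ) ≤
      Module.finrank L (EGA41.imperfection ℤ K L) := by exact_mod_cast hrank
  linarith

end Groth.Agent.Lib.Helper23.Cartier
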