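import Mathlib
import Groth.Agent.Lib.Helper23.AdicSmooth
import Groth.Agent.Lib.Helper23.FieldSep

/-!
EGA 0_IV 19.7.1 (elementary case): flat algebra with formally smooth (discrete) fibre is formally smooth. eq_zero_of_mem_map (flatness => aE ∩ ker = 0), exists_section (A-algebra section of a small extension E -> B), lift_step, formallySmooth_fibre, formallySmoothAdic_of_flat (flat local, m_A B = m_B, separable residue ext => IsFormallySmoothAdic), t2454main.
-/

set_option autoImplicit false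


namespace Groth.Agent.Lib.Helper23.CohenSmooth


universe u

section Section

variable {A : Type*} [CommRing A] (𝔞 : Ideal A) {B : Type*} [CommRing B] [Algebra A B]
  {E : Type*} [CommRing E] [Algebra A E] (pr : E →ₐ[A] B)

/-- Flatness of `B` forces `𝔞 E ∩ ker pr = 0` when `𝔞` kills `ker pr`. -/
theorem eq_zero_of_mem_map [Module.Flat A B] (hpr : Function.Surjective pr)
    (h𝔞 : ∀ a ∈ 𝔞, ∀ x, pr x = 0 → a • x = 0) {e : E} (he : e ∈ 𝔞.map (algebraMap A E))
    (hpe : pr e = 0) : e = 0 := by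
  classical
  have h1 : e ∈ (𝔞 • Submodule.span A (Set.range (id : E → E)) : Submodule A E) := by
    rw [Set.range_id, Submodule.span_univ, Ideal.smul_top_eq_map]
    exact he
  rw [Submodule.mem_ideal_smul_span_iff_exists_sum] at h1
  obtain ⟨a, ha, rfl⟩ := h1
  have hsum : ∑ i : a.support, a i.1 • pr i.1 = 0 := by
    rw [Finsupp.sum, map_sum] at hpe
    rw [← Finset.sum_coe_sort] at hpe
    simpa using hpe
  obtain ⟨k, α, y, hy1, hy2⟩ := Module.Flat.isTrivialRelation_of_sum_smul_eq_zero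
    (R := A) (M := B) (f := fun i : a.support => a i.1) (x := fun i : a.support => pr i.1) hsum
  replace hy1 : ∀ i : a.support, pr i.1 = ∑ j, α i j • y j := hy1
  replace hy2 : ∀ j, ∑ i : a.support, a i.1 * α i j = 0 := hy2
  choose e' he' using fun j => hpr (y j)
  have hn : ∀ i : a.support, pr (i.1 - ∑ j, α i j • e' j) = 0 := by
    intro i
    rw [map_sub, map_sum, hy1 i, sub_eq_zero]
    refine Finset.sum_congr rfl fun j _ => ?_
    rw [map_smul, he']
  rw [Finsupp.sum, ← Finset.sum_coe_sort]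
  have : ∀ i : a.support, a i.1 • id i.1 =
      ∑ j, (a i.1 * α i j) • e' j + a i.1 • (i.1 - ∑ j, α i j • e' j) := by
    intro i
    rw [smul_sub, Finset.smul_sum, id]
    simp only [mul_smul]
    abel
  rw [Finset.sum_congr rfl fun i _ => this i, Finset.sum_add_distrib, Finset.sum_comm]
  have h2 : ∀ j, ∑ i : a.support, (a i.1 * α i j) • e' j = 0 := by
    intro j
    rw [← Finset.sum_smul, hy2 j, zero_smul]
  have h3 : ∀ i : a.support, a i.1 • (i.1 - ∑ j, α i j • e' j) = 0 := fun i =>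
    h𝔞 _ (ha _) _ (hn i)
  rw [Finset.sum_congr rfl fun j _ => h2 j, Finset.sum_congr rfl fun i _ => h3 i]
  simp

end Section




section Section

variable {A : Type*} [CommRing A] (𝔞 : Ideal A) {B : Type*} [CommRing B] [Algebra A B]
  {E : Type*} [CommRing E] [Algebra A E] (pr : E →ₐ[A] B)

/-- Key step (EGA 0_IV 19.7.1, elementary form): if `B` is flat over `A` and `B / 𝔞 B` is formally
smooth over `A / 𝔞`, then every surjection of `A`-algebras `E → B` whose kernel is square-zero and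
killed by `𝔞` has an `A`-algebra section. -/
theorem exists_section [Module.Flat A B]
    (hfs : Algebra.FormallySmooth (A ⧸ 𝔞) (B ⧸ 𝔞.map (algebraMap A B)))
    (hpr : Function.Surjective pr)
    (hK2 : ∀ x y, pr x = 0 → pr y = 0 → x * y = 0)
    (h𝔞 : ∀ a ∈ 𝔞, ∀ x, pr x = 0 → a • x = 0) :
    ∃ s : B →ₐ[A] E, ∀ b, pr (s b) = b := by
  classical
  have hIE : (𝔞.map (algebraMap A E)).map (pr : E →+* B) = 𝔞.map (algebraMap A B) := by
    rw [Ideal.map_map]
    congr 1
    exact pr.comp_algebraMap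
  have hmem : ∀ x : E, pr x ∈ 𝔞.map (algebraMap A B) →
      ∃ x₀ ∈ 𝔞.map (algebraMap A E), pr x₀ = pr x := by
    intro x hx
    rw [← hIE] at hx
    exact (Ideal.mem_map_iff_of_surjective (pr : E →+* B) hpr).mp hx
  let g₀ : E ⧸ 𝔞.map (algebraMap A E) →+* B ⧸ 𝔞.map (algebraMap A B) :=
    Ideal.quotientMap (𝔞.map (algebraMap A B)) pr.toRingHom
      (Ideal.le_comap_of_map_le hIE.le)
  have hg₀ : ∀ x : E, g₀ (Ideal.Quotient.mk _ x) = Ideal.Quotient.mk _ (pr x) := fun x => rfl
  let g : (E ⧸ 𝔞.map (algebraMap A E)) →ₐ[A ⧸ 𝔞] (B ⧸ 𝔞.map (algebraMap A B)) :=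
    { g₀ with
      commutes' := fun r => by
        obtain ⟨a, rfl⟩ := Ideal.Quotient.mk_surjective r
        change g₀ (Ideal.Quotient.mk _ (algebraMap A E a)) = Ideal.Quotient.mk _ (algebraMap A B a)
        rw [hg₀, AlgHom.commutes] }
  have hgmk : ∀ x : E, g (Ideal.Quotient.mk _ x) = Ideal.Quotient.mk _ (pr x) := fun x => rfl
  have hg : Function.Surjective g := by
    intro y
    obtain ⟨b, rfl⟩ := Ideal.Quotient.mk_surjective y
    obtain ⟨x, rfl⟩ := hpr b
    exact ⟨Ideal.Quotient.mk _ x, rfl⟩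
  have hkerrep : ∀ z : E ⧸ 𝔞.map (algebraMap A E), g z = 0 →
      ∃ n : E, pr n = 0 ∧ Ideal.Quotient.mk _ n = z := by
    intro z hz
    obtain ⟨x, rfl⟩ := Ideal.Quotient.mk_surjective z
    rw [hgmk, Ideal.Quotient.eq_zero_iff_mem] at hz
    obtain ⟨x₀, hx₀, hx₀x⟩ := hmem x hz
    refine ⟨x - x₀, by rw [map_sub, hx₀x, sub_self], ?_⟩
    rw [map_sub, (Ideal.Quotient.eq_zero_iff_mem).mpr hx₀, sub_zero]
  have hnil : IsNilpotent (RingHom.ker (g : (E ⧸ 𝔞.map (algebraMap A E)) →+*
      (B ⧸ 𝔞.map (algebraMap A B)))) := by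
    refine ⟨2, ?_⟩
    rw [Ideal.zero_eq_bot, eq_bot_iff, pow_two, Ideal.mul_le]
    intro z hz w hw
    obtain ⟨n, hn, rfl⟩ := hkerrep z hz
    obtain ⟨n', hn', rfl⟩ := hkerrep w hw
    rw [Ideal.mem_bot, ← map_mul, hK2 n n' hn hn', map_zero]
  let σ := Algebra.FormallySmooth.liftOfSurjective
    (AlgHom.id (A ⧸ 𝔞) (B ⧸ 𝔞.map (algebraMap A B))) g hg hnil
  have hσ : ∀ κ, g (σ κ) = κ := fun κ =>
    Algebra.FormallySmooth.liftOfSurjective_apply _ g hg hnil κ
  let E' : Subalgebra A E :=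
    (σ.range.restrictScalars A).comap (Ideal.Quotient.mkₐ A (𝔞.map (algebraMap A E)))
  have hE' : ∀ e : E, e ∈ E' ↔ ∃ κ, σ κ = Ideal.Quotient.mk _ e := fun e => Iff.rfl
  let pr' : E' →ₐ[A] B := pr.comp E'.val
  have hbij : Function.Bijective pr' := by
    constructor
    · rw [injective_iff_map_eq_zero]
      intro e he
      obtain ⟨κ, hκ⟩ := (hE' e.1).mp e.2
      have h1 : κ = 0 := by
        rw [← hσ κ, hκ, hgmk]
        have : pr e.1 = 0 := he
        rw [this, map_zero]
      rw [h1, map_zero] at hκ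
      have h2 : e.1 ∈ 𝔞.map (algebraMap A E) := Ideal.Quotient.eq_zero_iff_mem.mp hκ.symm
      exact Subtype.ext (eq_zero_of_mem_map 𝔞 pr hpr h𝔞 h2 he)
    · intro b
      obtain ⟨z, hz⟩ := Ideal.Quotient.mk_surjective (σ (Ideal.Quotient.mk _ b))
      have h1 : Ideal.Quotient.mk (𝔞.map (algebraMap A B)) (pr z) = Ideal.Quotient.mk _ b := by
        rw [← hgmk, hz, hσ]
      rw [Ideal.Quotient.eq] at h1
      have h2 : pr (z - (hpr b).choose) ∈ 𝔞.map (algebraMap A B) := by
        rw [map_sub, (hpr b).choose_spec]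
        exact h1
      obtain ⟨x₀, hx₀, hx₀x⟩ := hmem _ h2
      refine ⟨⟨z - x₀, (hE' _).mpr ⟨Ideal.Quotient.mk _ b, ?_⟩⟩, ?_⟩
      · rw [map_sub, (Ideal.Quotient.eq_zero_iff_mem).mpr hx₀, sub_zero, hz]
      · change pr (z - x₀) = b
        rw [map_sub, hx₀x, map_sub, (hpr b).choose_spec]
        ring
  refine ⟨E'.val.comp (AlgEquiv.ofBijective pr' hbij).symm.toAlgHom, fun b => ?_⟩
  change pr' ((AlgEquiv.ofBijective pr' hbij).symm b) = b
  exact (AlgEquiv.ofBijective pr' hbij).apply_symm_apply b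

end Section




section Lift

/-- Lifting along a small square-zero surjection for flat algebras with formally smooth fibre. -/
theorem lift_step {A : Type*} [CommRing A] (𝔞 : Ideal A) {B : Type*} [CommRing B] [Algebra A B]
    [Module.Flat A B]
    (hfs : Algebra.FormallySmooth (A ⧸ 𝔞) (B ⧸ 𝔞.map (algebraMap A B)))
    {C' C'' : Type*} [CommRing C'] [CommRing C''] [Algebra A C'] [Algebra A C'']
    (π : C' →ₐ[A] C'') (hπ : Function.Surjective π)
    (hK2 : ∀ x y, π x = 0 → π y = 0 → x * y = 0)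
    (h𝔞 : ∀ a ∈ 𝔞, ∀ x, π x = 0 → a • x = 0)
    (u : B →ₐ[A] C'') : ∃ v : B →ₐ[A] C', ∀ b, π (v b) = u b := by
  let E : Subalgebra A (B × C') :=
    AlgHom.equalizer (u.comp (AlgHom.fst A B C')) (π.comp (AlgHom.snd A B C'))
  have hE : ∀ e : E, u e.1.1 = π e.1.2 := fun e => e.2
  let pr : E →ₐ[A] B := (AlgHom.fst A B C').comp E.val
  have hprdef : ∀ e : E, pr e = e.1.1 := fun e => rfl
  have hpr : Function.Surjective pr := fun b => by
    obtain ⟨c, hc⟩ := hπ (u b)
    exact ⟨⟨(b, c), hc.symm⟩, rfl⟩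
  have hker : ∀ e : E, pr e = 0 → e.1.1 = 0 ∧ π e.1.2 = 0 := by
    intro e he
    have h1 : e.1.1 = 0 := he
    refine ⟨h1, ?_⟩
    rw [← hE e, h1, map_zero]
  have hK2' : ∀ x y : E, pr x = 0 → pr y = 0 → x * y = 0 := by
    intro x y hx hy
    obtain ⟨hx1, hx2⟩ := hker x hx
    obtain ⟨hy1, hy2⟩ := hker y hy
    apply Subtype.ext
    apply Prod.ext
    · change x.1.1 * y.1.1 = 0
      rw [hx1, zero_mul]
    · change x.1.2 * y.1.2 = 0
      exact hK2 _ _ hx2 hy2
  have h𝔞' : ∀ a ∈ 𝔞, ∀ x : E, pr x = 0 → a • x = 0 := by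
    intro a ha x hx
    obtain ⟨hx1, hx2⟩ := hker x hx
    apply Subtype.ext
    apply Prod.ext
    · change a • x.1.1 = 0
      rw [hx1, smul_zero]
    · change a • x.1.2 = 0
      exact h𝔞 a ha _ hx2
  obtain ⟨s, hs⟩ := exists_section 𝔞 pr hfs hpr hK2' h𝔞'
  refine ⟨(AlgHom.snd A B C').comp (E.val.comp s), fun b => ?_⟩
  change π (s b).1.2 = u b
  rw [← hE (s b), ← hprdef, hs]

end Lift




open IsLocalRing

section Main

/-- Transport of formal smoothness of the residue field extension to the fibre `B / 𝔪_A B`. -/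
theorem formallySmooth_fibre {A B : Type u} [CommRing A] [IsLocalRing A] [CommRing B]
    [IsLocalRing B] [Algebra A B] [IsLocalHom (algebraMap A B)]
    (hmax : (maximalIdeal A).map (algebraMap A B) = maximalIdeal B)
    [Algebra.IsGeometricallyReduced (ResidueField A) (ResidueField B)] :
    Algebra.FormallySmooth (A ⧸ maximalIdeal A) (B ⧸ (maximalIdeal A).map (algebraMap A B)) := by
  have h1 : Algebra.FormallySmooth (ResidueField A) (ResidueField B) :=
    (Groth.Agent.Lib.Helper23.FieldSep.formallySmooth_iff_isGeometricallyReduced _ _).mpr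
      inferInstance
  letI : Algebra (ResidueField A) (B ⧸ (maximalIdeal A).map (algebraMap A B)) :=
    (Ideal.Quotient.algebraQuotientMapQuotient :
      Algebra (A ⧸ maximalIdeal A) (B ⧸ (maximalIdeal A).map (algebraMap A B)))
  let e : ResidueField B ≃ₐ[ResidueField A] (B ⧸ (maximalIdeal A).map (algebraMap A B)) :=
    AlgEquiv.ofRingEquiv (f := Ideal.quotEquivOfEq hmax.symm) (fun c => by
      obtain ⟨a, rfl⟩ := residue_surjective c
      rfl)
  have h2 := Algebra.FormallySmooth.of_equiv e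
  exact h2

/-- **EGA 0_IV 19.7.1** in the case of a separable residue field extension with `𝔪_A B = 𝔪_B`:
a flat local algebra is formally smooth for the adic topologies. -/
theorem formallySmoothAdic_of_flat {A B : Type u} [CommRing A] [IsLocalRing A] [CommRing B]
    [IsLocalRing B] [Algebra A B] [IsLocalHom (algebraMap A B)] [Module.Flat A B]
    (hmax : (maximalIdeal A).map (algebraMap A B) = maximalIdeal B)
    [Algebra.IsGeometricallyReduced (ResidueField A) (ResidueField B)] :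
    EGA41.IsFormallySmoothAdic A (maximalIdeal A) B (maximalIdeal B) := by
  apply Groth.Agent.Lib.Helper23.AdicSmooth.of_smallStep
  intro C' C'' _ _ _ _ π hπ hK2 h𝔞 hdisc u hu
  have hfs := formallySmooth_fibre hmax
  obtain ⟨v, hv⟩ := lift_step (maximalIdeal A) hfs π hπ hK2 h𝔞 u
  refine ⟨v, hv, ?_⟩
  obtain ⟨k, hk⟩ := hdisc
  refine ⟨k, fun x hx => ?_⟩
  rw [← hmax, ← Ideal.map_pow] at hx
  have h1 : v x ∈ (((maximalIdeal A) ^ k).map (algebraMap A B)).map (v : B →+* C') :=
    Ideal.mem_map_of_mem _ hx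
  rw [Ideal.map_map] at h1
  have h2 : (v : B →+* C').comp (algebraMap A B) = algebraMap A C' := v.comp_algebraMap
  rw [h2, hk] at h1
  exact h1

theorem t2454main {A B : Type u} [CommRing A] [IsLocalRing A] [CommRing B] [IsLocalRing B]
    [Algebra A B] [IsLocalHom (algebraMap A B)] (h : EGA41.IsCohenAlgebra A B) :
    EGA41.IsFormallySmoothAdic A (maximalIdeal A) B (maximalIdeal B) := by
  obtain ⟨_, _, _, hflat, hmax, hgr⟩ := h
  exact formallySmoothAdic_of_flat hmax

end Main

end Groth.Agent.Lib.Helper23.CohenSmooth
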