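import Mathlib

/-!
Gonflement (EGA 0_III 10.3.1): flat local extensions with prescribed residue field. Crux: triangular monic systems X_k^{d_k} - H_k in a polynomial ring over a well-ordered index set have reduced-monomial bases (rho, mem_J_iff, free_quotient, finite_quotient); li_reduced (tower monomials are linearly independent); exists_alg (algebraic case: free, integral, local), exists_trans (purely transcendental case), exists_gonflement.
-/

set_option autoImplicit false


namespace Groth.Agent.Lib.Helper23.Gonflement


open MvPolynomial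

section Crux

variable {I : Type*} [LinearOrder I] [WellFoundedLT I] {S : Type*} [CommRing S]

/-- The colexicographic strict order on exponent vectors. -/
def clt (μ ν : I →₀ ℕ) : Prop := ∃ i, (∀ j, i < j → μ j = ν j) ∧ μ i < ν i

theorem clt_wf : WellFounded (clt : (I →₀ ℕ) → (I →₀ ℕ) → Prop) := by
  have h := Finsupp.Lex.wellFounded' (α := I) (N := ℕ) (r := (· > ·)) (s := (· < ·))
    (fun n h => Nat.not_lt_zero n h) wellFounded_lt (by exact wellFounded_lt)
  exact h

variable (d : I → ℕ) (H : I → MvPolynomial I S)

/-- Triangularity: `H k` only involves variables `≤ k` and has degree `< d k` in `X k`. -/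
def Triangular : Prop :=
  ∀ k, ∀ m ∈ (H k).support, (∀ j, k < j → m j = 0) ∧ m k < d k

variable {d H}

theorem clt_add (hH : Triangular d H) (ν : I →₀ ℕ) (k : I) {m : I →₀ ℕ}
    (hm : m ∈ (H k).support) : clt (ν + m) (ν + Finsupp.single k (d k)) := by
  obtain ⟨h1, h2⟩ := hH k m hm
  refine ⟨k, fun j hj => ?_, ?_⟩
  · simp [h1 j hj, Finsupp.single_eq_of_ne (ne_of_gt hj)]
  · simpa using h2

variable (d H)

/-- The generators `X k ^ d k - H k`. -/
noncomputable def G (k : I) : MvPolynomial I S := X k ^ d k - H k

/-- The ideal generated by the `G k`. -/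
noncomputable def J : Ideal (MvPolynomial I S) := Ideal.span (Set.range (G d H))

/-- Reduced exponent vectors. -/
def Reduced (μ : I →₀ ℕ) : Prop := ∀ i, μ i < d i

/-- The span of reduced monomials. -/
noncomputable def N : Submodule S (MvPolynomial I S) :=
  Submodule.span S ((fun μ => monomial μ (1 : S)) '' {μ | Reduced d μ})

variable {d H}

open Classical in
/-- The normal form of a monomial, by well-founded recursion. -/
noncomputable def rho0 (hH : Triangular d H) : (I →₀ ℕ) → MvPolynomial I S :=
  clt_wf.fix (fun μ rec =>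
    if h : ∃ k, d k ≤ μ k then
      ∑ m ∈ (H h.choose).support.attach, coeff m.1 (H h.choose) •
        rec (μ - Finsupp.single h.choose (d h.choose) + m.1) (by
          have h1 := clt_add hH (μ - Finsupp.single h.choose (d h.choose)) h.choose m.2
          have h2 : μ - Finsupp.single h.choose (d h.choose) + Finsupp.single h.choose (d h.choose)
              = μ := by
            apply tsub_add_cancel_of_le
            rw [Finsupp.single_le_iff]
            exact h.choose_spec
          rwa [h2] at h1)
    else monomial μ 1)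

open Classical in
theorem rho0_eq (hH : Triangular d H) (μ : I →₀ ℕ) :
    rho0 hH μ = if h : ∃ k, d k ≤ μ k then
      ∑ m ∈ (H h.choose).support.attach, coeff m.1 (H h.choose) •
        rho0 hH (μ - Finsupp.single h.choose (d h.choose) + m.1)
    else monomial μ 1 := by
  unfold rho0
  rw [WellFounded.fix_eq]

/-- The normal form map. -/
noncomputable def rho (hH : Triangular d H) : MvPolynomial I S →ₗ[S] MvPolynomial I S :=
  (basisMonomials I S).constr S (rho0 hH)

theorem rho_monomial (hH : Triangular d H) (μ : I →₀ ℕ) (a : S) :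
    rho hH (monomial μ a) = a • rho0 hH μ := by
  have : monomial μ a = a • basisMonomials I S μ := by
    rw [coe_basisMonomials, smul_monomial, smul_eq_mul, mul_one]
  rw [this, map_smul, rho, Module.Basis.constr_basis]

theorem monomial_mul_eq_sum (ν : I →₀ ℕ) (p : MvPolynomial I S) :
    monomial ν 1 * p = ∑ m ∈ p.support, coeff m p • monomial (ν + m) (1 : S) := by
  conv_lhs => rw [← support_sum_monomial_coeff p, Finset.mul_sum]
  refine Finset.sum_congr rfl fun m _ => ?_
  rw [monomial_mul, one_mul, smul_monomial, smul_eq_mul, mul_one]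

theorem rho_monomial_mul (hH : Triangular d H) (ν : I →₀ ℕ) (p : MvPolynomial I S) :
    rho hH (monomial ν 1 * p) = ∑ m ∈ p.support, coeff m p • rho0 hH (ν + m) := by
  rw [monomial_mul_eq_sum, map_sum]
  refine Finset.sum_congr rfl fun m _ => ?_
  rw [map_smul, rho_monomial, one_smul]

/-- Unfolding `rho0` at a non-reduced monomial. -/
theorem rho0_unfold (hH : Triangular d H) (μ : I →₀ ℕ) (h : ∃ k, d k ≤ μ k) :
    ∃ k ν, μ = ν + Finsupp.single k (d k) ∧ rho0 hH μ = rho hH (monomial ν 1 * H k) := by
  refine ⟨h.choose, μ - Finsupp.single h.choose (d h.choose), ?_, ?_⟩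
  · symm
    apply tsub_add_cancel_of_le
    rw [Finsupp.single_le_iff]
    exact h.choose_spec
  · rw [rho0_eq, dif_pos h, rho_monomial_mul, ← Finset.sum_attach (H h.choose).support]

theorem rho0_reduced (hH : Triangular d H) (μ : I →₀ ℕ) (h : Reduced d μ) :
    rho0 hH μ = monomial μ 1 := by
  rw [rho0_eq, dif_neg]
  rintro ⟨k, hk⟩
  exact absurd (h k) (not_lt.mpr hk)

/-- Confluence. -/
theorem rho0_add_single (hH : Triangular d H) (μ : I →₀ ℕ) :
    ∀ ν k, μ = ν + Finsupp.single k (d k) → rho0 hH μ = rho hH (monomial ν 1 * H k) := by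
  have wf := clt_wf (I := I)
  induction μ using wf.induction with
  | _ μ ih =>
    intro ν k hμ
    have hbad : ∃ k, d k ≤ μ k := ⟨k, by rw [hμ]; simp⟩
    obtain ⟨k', ν', hμ', hrho⟩ := rho0_unfold hH μ hbad
    rw [hrho]
    by_cases hkk : k = k'
    · subst hkk
      have : ν = ν' := by
        have := hμ.symm.trans hμ'
        exact add_right_cancel this
      rw [this]
    · -- ν₂
      have h1 : d k' ≤ ν k' := by
        have := DFunLike.congr_fun (hμ.symm.trans hμ') k'
        simp only [Finsupp.add_apply, Finsupp.single_eq_same,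
          Finsupp.single_eq_of_ne (Ne.symm hkk)] at this
        omega
      set ν₂ : I →₀ ℕ := ν - Finsupp.single k' (d k') with hν₂
      have hν : ν = ν₂ + Finsupp.single k' (d k') := by
        symm
        apply tsub_add_cancel_of_le
        rw [Finsupp.single_le_iff]
        exact h1
      have hν' : ν' = ν₂ + Finsupp.single k (d k) := by
        have := hμ.symm.trans hμ'
        rw [hν] at this
        have h2 : ν₂ + Finsupp.single k (d k) + Finsupp.single k' (d k') =
            ν' + Finsupp.single k' (d k') := by
          rw [← this]; abel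
        exact (add_right_cancel h2).symm
      -- LHS
      have hL : rho hH (monomial ν' 1 * H k') = rho hH (monomial ν₂ 1 * H k' * H k) := by
        rw [rho_monomial_mul]
        have : ∀ m ∈ (H k').support, rho0 hH (ν' + m) = rho hH (monomial (ν₂ + m) 1 * H k) := by
          intro m hm
          apply ih (ν' + m)
          · rw [hμ']; exact clt_add hH ν' k' hm
          · rw [hν']; abel
        rw [Finset.sum_congr rfl fun m hm => by rw [this m hm]]
        rw [monomial_mul_eq_sum ν₂ (H k'), Finset.sum_mul, map_sum]
        refine Finset.sum_congr rfl fun m _ => ?_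
        rw [smul_mul_assoc, map_smul]
      have hR : rho hH (monomial ν 1 * H k) = rho hH (monomial ν₂ 1 * H k * H k') := by
        rw [rho_monomial_mul]
        have : ∀ m ∈ (H k).support, rho0 hH (ν + m) = rho hH (monomial (ν₂ + m) 1 * H k') := by
          intro m hm
          apply ih (ν + m)
          · rw [hμ]; exact clt_add hH ν k hm
          · rw [hν]; abel
        rw [Finset.sum_congr rfl fun m hm => by rw [this m hm]]
        rw [monomial_mul_eq_sum ν₂ (H k), Finset.sum_mul, map_sum]
        refine Finset.sum_congr rfl fun m _ => ?_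
        rw [smul_mul_assoc, map_smul]
      rw [hL, hR, mul_right_comm]

theorem rho_mul_G (hH : Triangular d H) (f : MvPolynomial I S) (k : I) :
    rho hH (f * G d H k) = 0 := by
  induction f using MvPolynomial.induction_on' with
  | monomial ν a =>
    have : monomial ν a * G d H k = a • (monomial (ν + Finsupp.single k (d k)) 1 -
        monomial ν 1 * H k) := by
      rw [G, mul_sub, smul_sub, X_pow_eq_monomial, monomial_mul, mul_one, smul_monomial,
        smul_eq_mul, mul_one, ← smul_mul_assoc, smul_monomial, smul_eq_mul, mul_one]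
    rw [this, map_smul, map_sub, rho_monomial, one_smul,
      rho0_add_single hH _ ν k rfl, sub_self, smul_zero]
  | add p q hp hq => rw [add_mul, map_add, hp, hq, add_zero]

theorem rho_eq_zero_of_mem_J (hH : Triangular d H) {f : MvPolynomial I S} (hf : f ∈ J d H) :
    rho hH f = 0 := by
  have key : ∀ x ∈ J d H, ∀ g : MvPolynomial I S, rho hH (g * x) = 0 := by
    intro x hx
    unfold J at hx
    induction hx using Submodule.span_induction with
    | mem x hx =>
      obtain ⟨k, rfl⟩ := hx
      intro g
      exact rho_mul_G hH g k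
    | zero => intro g; simp
    | add x y _ _ hx hy => intro g; rw [mul_add, map_add, hx, hy, add_zero]
    | smul a x _ hx =>
      intro g
      rw [smul_eq_mul, ← mul_assoc]
      exact hx _
  simpa using key f hf 1

theorem rho_eq_self_of_mem_N (hH : Triangular d H) {f : MvPolynomial I S} (hf : f ∈ N (S := S) d) :
    rho hH f = f := by
  unfold N at hf
  induction hf using Submodule.span_induction with
  | mem x hx =>
    obtain ⟨μ, hμ, rfl⟩ := hx
    rw [rho_monomial, one_smul, rho0_reduced hH μ hμ]
  | zero => simp
  | add x y _ _ hx hy => rw [map_add, hx, hy]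
  | smul a x _ hx => rw [map_smul, hx]

theorem rho0_mem_N (hH : Triangular d H) (μ : I →₀ ℕ) : rho0 hH μ ∈ N (S := S) d := by
  have wf := clt_wf (I := I)
  induction μ using wf.induction with
  | _ μ ih =>
    by_cases hbad : ∃ k, d k ≤ μ k
    · obtain ⟨k, ν, hμ, hrho⟩ := rho0_unfold hH μ hbad
      rw [hrho, rho_monomial_mul]
      refine Submodule.sum_mem _ fun m hm => Submodule.smul_mem _ _ ?_
      exact ih _ (by rw [hμ]; exact clt_add hH ν k hm)
    · have hred : Reduced d μ := fun i => not_le.mp fun hi => hbad ⟨i, hi⟩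
      rw [rho0_reduced hH μ hred]
      exact Submodule.subset_span ⟨μ, hred, rfl⟩

theorem rho_mem_N (hH : Triangular d H) (f : MvPolynomial I S) : rho hH f ∈ N (S := S) d := by
  induction f using MvPolynomial.induction_on' with
  | monomial ν a =>
    rw [rho_monomial]
    exact Submodule.smul_mem _ _ (rho0_mem_N hH ν)
  | add p q hp hq => rw [map_add]; exact Submodule.add_mem _ hp hq

theorem monomial_sub_rho0_mem_J (hH : Triangular d H) (μ : I →₀ ℕ) :
    monomial μ 1 - rho0 hH μ ∈ J d H := by
  have wf := clt_wf (I := I)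
  induction μ using wf.induction with
  | _ μ ih =>
    by_cases hbad : ∃ k, d k ≤ μ k
    · obtain ⟨k, ν, hμ, hrho⟩ := rho0_unfold hH μ hbad
      have h1 : (monomial μ 1 : MvPolynomial I S) - rho0 hH μ =
          monomial ν 1 * G d H k + (monomial ν 1 * H k - rho hH (monomial ν 1 * H k)) := by
        rw [hrho, G, mul_sub, hμ, X_pow_eq_monomial, monomial_mul, mul_one]
        ring
      rw [h1]
      refine Ideal.add_mem _ (Ideal.mul_mem_left _ _ (Ideal.subset_span ⟨k, rfl⟩)) ?_
      rw [rho_monomial_mul, monomial_mul_eq_sum, ← Finset.sum_sub_distrib]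
      refine Ideal.sum_mem _ fun m hm => ?_
      rw [← smul_sub]
      have := ih (ν + m) (by rw [hμ]; exact clt_add hH ν k hm)
      rw [← C_mul']
      exact Ideal.mul_mem_left _ _ this
    · have hred : Reduced d μ := fun i => not_le.mp fun hi => hbad ⟨i, hi⟩
      rw [rho0_reduced hH μ hred, sub_self]
      exact Ideal.zero_mem _

theorem sub_rho_mem_J (hH : Triangular d H) (f : MvPolynomial I S) : f - rho hH f ∈ J d H := by
  induction f using MvPolynomial.induction_on' with
  | monomial ν a =>
    rw [rho_monomial]
    have : (monomial ν a : MvPolynomial I S) - a • rho0 hH ν = C a * (monomial ν 1 - rho0 hH ν) := by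
      rw [mul_sub, C_mul_monomial, mul_one, C_mul']
    rw [this]
    exact Ideal.mul_mem_left _ _ (monomial_sub_rho0_mem_J hH ν)
  | add p q hp hq =>
    rw [map_add, add_sub_add_comm]
    exact Ideal.add_mem _ hp hq

theorem mem_J_iff (hH : Triangular d H) (f : MvPolynomial I S) : f ∈ J d H ↔ rho hH f = 0 := by
  refine ⟨rho_eq_zero_of_mem_J hH, fun h => ?_⟩
  have := sub_rho_mem_J hH f
  rwa [h, sub_zero] at this

end Crux



open MvPolynomial

section Free

variable {I : Type*} [LinearOrder I] [WellFoundedLT I] {S : Type*} [CommRing S]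
variable {d : I → ℕ} {H : I → MvPolynomial I S}

/-- The comparison map from the span of reduced monomials to the quotient. -/
noncomputable def psi (d : I → ℕ) (H : I → MvPolynomial I S) :
    N (S := S) d →ₗ[S] (MvPolynomial I S ⧸ J d H) :=
  (Ideal.Quotient.mkₐ S (J d H)).toLinearMap.comp (N (S := S) d).subtype

theorem psi_bijective (hH : Triangular d H) : Function.Bijective (psi d H) := by
  constructor
  · rw [← LinearMap.ker_eq_bot, LinearMap.ker_eq_bot']
    intro n hn
    have h1 : (n : MvPolynomial I S) ∈ J d H := by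
      have : Ideal.Quotient.mk (J d H) (n : MvPolynomial I S) = 0 := hn
      rwa [Ideal.Quotient.eq_zero_iff_mem] at this
    have h2 := rho_eq_zero_of_mem_J hH h1
    rw [rho_eq_self_of_mem_N hH n.2] at h2
    exact Subtype.ext h2
  · intro y
    obtain ⟨f, rfl⟩ := Ideal.Quotient.mk_surjective y
    refine ⟨⟨rho hH f, rho_mem_N hH f⟩, ?_⟩
    change Ideal.Quotient.mk (J d H) (rho hH f) = Ideal.Quotient.mk (J d H) f
    rw [eq_comm, Ideal.Quotient.eq]
    exact sub_rho_mem_J hH f

theorem free_N (d : I → ℕ) : Module.Free S (N (S := S) d) := by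
  have hli : LinearIndependent S (fun μ : {μ : I →₀ ℕ // Reduced d μ} =>
      (monomial μ.1 (1 : S) : MvPolynomial I S)) := by
    have := (basisMonomials I S).linearIndependent.comp
      (Subtype.val : {μ : I →₀ ℕ // Reduced d μ} → (I →₀ ℕ)) Subtype.val_injective
    simpa [Function.comp_def] using this
  have hN : N (S := S) d = Submodule.span S (Set.range (fun μ : {μ : I →₀ ℕ // Reduced d μ} =>
      (monomial μ.1 (1 : S) : MvPolynomial I S))) := by
    unfold N
    rw [Set.image_eq_range]
    rfl
  rw [hN]
  exact Module.Free.of_basis (Module.Basis.span hli)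

theorem free_quotient (hH : Triangular d H) : Module.Free S (MvPolynomial I S ⧸ J d H) := by
  have := free_N (S := S) d
  exact Module.Free.of_equiv (LinearEquiv.ofBijective (psi d H) (psi_bijective hH))

theorem finite_quotient [Finite I] (hH : Triangular d H) :
    Module.Finite S (MvPolynomial I S ⧸ J d H) := by
  have hfin : {μ : I →₀ ℕ | Reduced d μ}.Finite := by
    have : Finite {μ : I →₀ ℕ // Reduced d μ} := by
      refine Finite.of_injective
        (fun μ : {μ : I →₀ ℕ // Reduced d μ} => (fun i => (⟨μ.1 i, μ.2 i⟩ : Fin (d i))))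
        (fun μ ν h => ?_)
      apply Subtype.ext
      ext i
      have := congrArg (fun f => ((f i : Fin (d i)) : ℕ)) h
      simpa using this
    exact Set.finite_coe_iff.mp this
  have : Module.Finite S (N (S := S) d) := by
    unfold N
    exact Module.Finite.span_of_finite S (hfin.image _)
  exact Module.Finite.of_surjective (psi d H) (psi_bijective hH).2

end Free



open MvPolynomial

section Field

variable {I : Type*} [LinearOrder I] [WellFoundedLT I] {F K : Type*} [Field F] [Field K]
  [Algebra F K] (x : I → K)

/-- The field generated by the `x j`, `j < i`. -/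
noncomputable def Lf (i : I) : IntermediateField F K :=
  IntermediateField.adjoin F (x '' Set.Iio i)

/-- Degree of `x i` over the previous field. -/
noncomputable def dd (i : I) : ℕ := (minpoly (Lf (F := F) x i) (x i)).natDegree

/-- Monomials in the `x i`. -/
noncomputable def xpow (μ : I →₀ ℕ) : K := μ.prod fun i n => x i ^ n

/-- Reduced exponent vectors supported in `s`. -/
def Red (s : Set I) : Set (I →₀ ℕ) := {μ | Reduced (dd (F := F) x) μ ∧ ↑μ.support ⊆ s}

theorem xpow_mem (i : I) {μ : I →₀ ℕ} (hμ : ↑μ.support ⊆ Set.Iio i) :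
    xpow x μ ∈ Lf (F := F) x i := by
  unfold xpow
  apply SubmonoidClass.finsuppProd_mem
  intro c hc
  apply pow_mem
  apply IntermediateField.subset_adjoin
  exact ⟨c, hμ (Finsupp.mem_support_iff.mpr hc), rfl⟩

theorem li_step (i : I) (h : LinearIndepOn F (xpow x) (Red (F := F) x (Set.Iio i))) :
    LinearIndepOn F (xpow x) (Red (F := F) x (Set.Iic i)) := by
  set Li := Lf (F := F) x i with hLi
  let b : Red (F := F) x (Set.Iio i) → Li := fun μ => ⟨xpow x μ.1, xpow_mem x i μ.2.2⟩
  have hb : LinearIndependent F b := by
    refine LinearIndependent.of_comp (Li.val.toLinearMap) ?_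
    exact h
  have hc : LinearIndependent Li (fun t : Fin (dd (F := F) x i) => x i ^ (t : ℕ)) :=
    linearIndependent_pow (K := Li) (x i)
  have hbc := linearIndependent_smul hb hc
  let e : Red (F := F) x (Set.Iic i) → Red (F := F) x (Set.Iio i) × Fin (dd (F := F) x i) :=
    fun μ => (⟨μ.1.erase i, ⟨fun j => by
        by_cases hj : j = i
        · subst hj
          simpa using lt_of_le_of_lt (Nat.zero_le _) (μ.2.1 j)
        · rw [Finsupp.erase_ne hj]; exact μ.2.1 j, fun j hj => by
        have hj' : j ∈ (μ.1.erase i).support := hj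
        rw [Finsupp.support_erase, Finset.mem_erase] at hj'
        exact lt_of_le_of_ne (μ.2.2 hj'.2) hj'.1⟩⟩, ⟨μ.1 i, μ.2.1 i⟩)
  have he : Function.Injective e := by
    intro μ ν hμν
    have h1 : μ.1.erase i = ν.1.erase i := congrArg (fun p => (p.1.1 : I →₀ ℕ)) hμν
    have h2 : μ.1 i = ν.1 i := congrArg (fun p => (p.2 : ℕ)) hμν
    apply Subtype.ext
    ext j
    by_cases hj : j = i
    · rw [hj, h2]
    · have := DFunLike.congr_fun h1 j
      rwa [Finsupp.erase_ne hj, Finsupp.erase_ne hj] at this
  have hfin := hbc.comp e he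
  have heq : ((fun p : Red (F := F) x (Set.Iio i) × Fin (dd (F := F) x i) =>
      b p.1 • x i ^ (p.2 : ℕ)) ∘ e) = fun μ : Red (F := F) x (Set.Iic i) => xpow x μ.1 := by
    funext μ
    simp only [Function.comp_apply, e, b, IntermediateField.smul_def, smul_eq_mul]
    rw [mul_comm]
    exact Finsupp.mul_prod_erase' μ.1 i (fun i n => x i ^ n) (fun i => pow_zero _)
  rw [heq] at hfin
  exact hfin

theorem li_limit (s : Set I)
    (h : ∀ j ∈ s, LinearIndepOn F (xpow x) (Red (F := F) x (Set.Iic j))) :
    LinearIndepOn F (xpow x) (Red (F := F) x s) := by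
  classical
  apply linearIndepOn_of_finite
  intro T hT hfin
  set U : Finset I := hfin.toFinset.biUnion (fun μ => μ.support) with hU
  by_cases hne : U.Nonempty
  · set j := U.max' hne with hj
    have hjU : j ∈ U := Finset.max'_mem U hne
    have hjs : j ∈ s := by
      rw [hU, Finset.mem_biUnion] at hjU
      obtain ⟨μ, hμ, hjμ⟩ := hjU
      exact (hT (hfin.mem_toFinset.mp hμ)).2 hjμ
    refine (h j hjs).mono ?_
    intro μ hμ
    refine ⟨(hT hμ).1, fun k hk => ?_⟩
    apply Finset.le_max' U k
    rw [hU, Finset.mem_biUnion]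
    exact ⟨μ, hfin.mem_toFinset.mpr hμ, hk⟩
  · have hT0 : T ⊆ {0} := by
      intro μ hμ
      rw [Set.mem_singleton_iff]
      by_contra hμ0
      obtain ⟨k, hk⟩ := Finsupp.support_nonempty_iff.mpr hμ0
      apply hne
      refine ⟨k, ?_⟩
      rw [hU, Finset.mem_biUnion]
      exact ⟨μ, hfin.mem_toFinset.mpr hμ, hk⟩
    refine LinearIndepOn.mono ?_ hT0
    rw [linearIndepOn_singleton_iff]
    simp [xpow]

theorem li_Iic (i : I) : LinearIndepOn F (xpow x) (Red (F := F) x (Set.Iic i)) := by
  induction i using WellFoundedLT.induction with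
  | _ i ih =>
    exact li_step x i (li_limit x (Set.Iio i) fun j hj => ih j hj)

theorem li_reduced : LinearIndepOn F (xpow x) {μ | Reduced (dd (F := F) x) μ} := by
  have := li_limit (F := F) x Set.univ fun j _ => li_Iic x j
  refine this.mono ?_
  intro μ hμ
  exact ⟨hμ, Set.subset_univ _⟩

end Field



open MvPolynomial IsLocalRing

section Alg

universe u v w

variable {S : Type u} [CommRing S] [IsLocalRing S] {K : Type v} [Field K]
  [Algebra (ResidueField S) K] [Algebra.IsAlgebraic (ResidueField S) K]
variable {I : Type w} [LinearOrder I] [WellFoundedLT I] (x : I → K)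

/-- The coefficients (negated) of the minimal polynomial of `x i` over the previous field. -/
noncomputable def cf (i : I) (t : ℕ) : K :=
  -((minpoly (Lf (F := ResidueField S) x i) (x i)).coeff t : K)

theorem exists_pF (i : I) (t : ℕ) : ∃ p : MvPolynomial I (ResidueField S),
    p ∈ supported (ResidueField S) (Set.Iio i) ∧ aeval x p = cf (S := S) x i t := by
  have h1 : cf (S := S) x i t ∈ (Lf (F := ResidueField S) x i).toSubalgebra := by
    unfold cf
    exact neg_mem (SetLike.coe_mem _)
  unfold Lf at h1
  rw [IntermediateField.adjoin_toSubalgebra] at h1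
  have h2 : Algebra.adjoin (ResidueField S) (x '' Set.Iio i) =
      (supported (ResidueField S) (Set.Iio i)).map (aeval x) := by
    rw [supported_eq_adjoin_X, AlgHom.map_adjoin, Set.image_image]
    simp
  rw [h2] at h1
  obtain ⟨p, hp, hpe⟩ := h1
  exact ⟨p, hp, hpe⟩

/-- A polynomial over the residue field representing `cf x i t`. -/
noncomputable def pF (i : I) (t : ℕ) : MvPolynomial I (ResidueField S) :=
  (exists_pF (S := S) x i t).choose

theorem pF_mem (i : I) (t : ℕ) : pF (S := S) x i t ∈ supported (ResidueField S) (Set.Iio i) :=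
  (exists_pF (S := S) x i t).choose_spec.1

theorem aeval_pF (i : I) (t : ℕ) : aeval x (pF (S := S) x i t) = cf (S := S) x i t :=
  (exists_pF (S := S) x i t).choose_spec.2

/-- A set-theoretic section of the residue map. -/
noncomputable def sec : ResidueField S → S := Function.surjInv (residue_surjective (R := S))

theorem residue_sec (c : ResidueField S) : residue S (sec c) = c :=
  Function.surjInv_eq _ c

/-- The lower-order part of the `i`-th relation. -/
noncomputable def HH (i : I) : MvPolynomial I S :=
  ∑ t ∈ Finset.range (dd (F := ResidueField S) x i), ∑ m ∈ (pF (S := S) x i t).support,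
    monomial (m + Finsupp.single i t) (sec (coeff m (pF (S := S) x i t)))

theorem triangular_HH : Triangular (dd (F := ResidueField S) x) (HH (S := S) x) := by
  classical
  intro k m' hm'
  unfold HH at hm'
  have h1 := Finset.mem_of_subset (support_sum) hm'
  rw [Finset.mem_biUnion] at h1
  obtain ⟨t, ht, h2⟩ := h1
  have h3 := Finset.mem_of_subset (support_sum) h2
  rw [Finset.mem_biUnion] at h3
  obtain ⟨m, hm, h4⟩ := h3
  have h5 := Finset.mem_of_subset (support_monomial_subset) h4
  rw [Finset.mem_singleton] at h5
  subst h5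
  have hsupp : ∀ j ∈ m.support, j < k := by
    intro j hj
    have := (mem_supported.mp (pF_mem (S := S) x k t))
    apply this
    rw [Finset.mem_coe, mem_vars]
    exact ⟨m, hm, hj⟩
  have hzero : ∀ j, k ≤ j → m j = 0 := by
    intro j hj
    by_contra hne
    exact absurd (hsupp j (Finsupp.mem_support_iff.mpr hne)) (not_lt.mpr hj)
  refine ⟨fun j hj => ?_, ?_⟩
  · rw [Finsupp.add_apply, hzero j hj.le, Finsupp.single_eq_of_ne (ne_of_gt hj), add_zero]
  · rw [Finsupp.add_apply, hzero k le_rfl, Finsupp.single_eq_same, zero_add]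
    exact Finset.mem_range.mp ht

/-- Evaluation at the family `x`. -/
noncomputable def phi : MvPolynomial I S →+* K :=
  eval₂Hom ((algebraMap (ResidueField S) K).comp (residue S)) x

theorem phi_monomial (m : I →₀ ℕ) (a : S) :
    phi x (monomial m a) = algebraMap (ResidueField S) K (residue S a) * xpow x m := by
  unfold phi xpow
  rw [eval₂Hom_monomial]
  rfl

theorem phi_HH (i : I) : phi (S := S) x (HH (S := S) x i) = x i ^ dd (F := ResidueField S) x i := by
  classical
  unfold HH
  rw [map_sum]
  have h1 : ∀ t ∈ Finset.range (dd (F := ResidueField S) x i),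
      phi (S := S) x (∑ m ∈ (pF (S := S) x i t).support,
        monomial (m + Finsupp.single i t) (sec (coeff m (pF (S := S) x i t)))) =
      cf (S := S) x i t * x i ^ t := by
    intro t _
    rw [map_sum, ← aeval_pF (S := S) x i t]
    conv_rhs => rw [← support_sum_monomial_coeff (pF (S := S) x i t), map_sum, Finset.sum_mul]
    refine Finset.sum_congr rfl fun m _ => ?_
    rw [phi_monomial, residue_sec, aeval_monomial, mul_assoc]
    congr 1
    unfold xpow
    rw [Finsupp.prod_add_index' (fun _ => pow_zero _) (fun _ _ _ => pow_add _ _ _)]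
    congr 1
    exact Finsupp.prod_single_index (pow_zero _)
  rw [Finset.sum_congr rfl h1]
  -- minimal polynomial relation
  set L := Lf (F := ResidueField S) x i with hL
  have hint : IsIntegral L (x i) :=
    (Algebra.IsAlgebraic.isAlgebraic (R := ResidueField S) (x i)).isIntegral.tower_top
  have hmonic := minpoly.monic hint
  have h2 := minpoly.aeval L (x i)
  have h3 : (minpoly L (x i)).natDegree = dd (F := ResidueField S) x i := rfl
  rw [hmonic.as_sum, h3, map_add, map_sum] at h2
  simp only [map_pow, Polynomial.aeval_X, map_mul, Polynomial.aeval_C] at h2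
  have h4 : x i ^ dd (F := ResidueField S) x i =
      -∑ t ∈ Finset.range (dd (F := ResidueField S) x i),
        (algebraMap L K) ((minpoly L (x i)).coeff t) * x i ^ t := eq_neg_of_add_eq_zero_left h2
  rw [h4, ← Finset.sum_neg_distrib]
  refine Finset.sum_congr rfl fun t _ => ?_
  unfold cf
  rw [neg_mul]
  rfl

theorem J_le_ker_phi :
    J (dd (F := ResidueField S) x) (HH (S := S) x) ≤ RingHom.ker (phi (S := S) x) := by
  unfold J
  rw [Ideal.span_le]
  rintro _ ⟨i, rfl⟩
  rw [SetLike.mem_coe, RingHom.mem_ker, G, map_sub, phi_HH, map_pow]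
  unfold phi
  rw [eval₂Hom_X', sub_self]

theorem phi_surjective (hx : Algebra.adjoin (ResidueField S) (Set.range x) = ⊤) :
    Function.Surjective (phi (S := S) x) := by
  let T : Subalgebra (ResidueField S) K :=
    { (phi (S := S) x).range with
      algebraMap_mem' := fun c => by
        obtain ⟨a, rfl⟩ := residue_surjective c
        refine ⟨C a, ?_⟩
        unfold phi
        rw [eval₂Hom_C]
        rfl }
  have hT : Algebra.adjoin (ResidueField S) (Set.range x) ≤ T := by
    apply Algebra.adjoin_le
    rintro _ ⟨i, rfl⟩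
    refine ⟨X i, ?_⟩
    unfold phi
    rw [eval₂Hom_X']
  rw [hx] at hT
  intro y
  exact hT Algebra.mem_top

theorem ker_phi :
    RingHom.ker (phi (S := S) x) = J (dd (F := ResidueField S) x) (HH (S := S) x) ⊔
      (maximalIdeal S).map (C : S →+* MvPolynomial I S) := by
  classical
  apply le_antisymm
  · intro f hf
    have hH := triangular_HH (S := S) x
    have h1 := sub_rho_mem_J hH f
    have h2 : rho hH f ∈ (maximalIdeal S).map (C : S →+* MvPolynomial I S) := by
      set n := rho hH f with hn
      have hnN : n ∈ restrictSupport S {μ | Reduced (dd (F := ResidueField S) x) μ} := by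
        rw [restrictSupport_eq_span]
        exact rho_mem_N hH f
      rw [mem_restrictSupport_iff] at hnN
      have hker : phi (S := S) x n = 0 := by
        have : phi (S := S) x (f - n) = 0 := J_le_ker_phi x h1
        rw [map_sub, RingHom.mem_ker.mp hf, zero_sub, neg_eq_zero] at this
        exact this
      rw [mem_map_C_iff]
      intro μ
      by_cases hμ : μ ∈ n.support
      · have hli := li_reduced (F := ResidueField S) x
        rw [linearIndepOn_iff] at hli
        let l : (I →₀ ℕ) →₀ ResidueField S :=
          Finsupp.onFinset n.support (fun μ => residue S (coeff μ n)) (by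
            intro μ hμ
            rw [mem_support_iff]
            intro h0
            rw [h0, map_zero] at hμ
            exact hμ rfl)
        have hl : l ∈ Finsupp.supported (ResidueField S) (ResidueField S)
            {μ | Reduced (dd (F := ResidueField S) x) μ} := by
          rw [Finsupp.mem_supported]
          intro μ hμ
          apply hnN
          exact Finsupp.support_onFinset_subset hμ
        have hzero : Finsupp.linearCombination (ResidueField S) (xpow x) l = 0 := by
          rw [Finsupp.linearCombination_apply]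
          change (Finsupp.onFinset n.support (fun μ => residue S (coeff μ n)) _).sum _ = 0
          rw [Finsupp.onFinset_sum (g := fun i a => a • xpow x i) _ (fun _ => zero_smul _ _)]
          rw [← hker]
          conv_rhs => rw [← support_sum_monomial_coeff n, map_sum]
          refine Finset.sum_congr rfl fun μ _ => ?_
          rw [phi_monomial, Algebra.smul_def]
        have := hli l hl hzero
        have h3 : l μ = 0 := by rw [this]; rfl
        have h4 : residue S (coeff μ n) = 0 := h3
        rwa [residue_eq_zero_iff] at h4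
      · rw [notMem_support_iff.mp hμ]
        exact zero_mem _
    have : f = (f - rho hH f) + rho hH f := by ring
    rw [this]
    exact Ideal.add_mem _ (Ideal.mem_sup_left h1) (Ideal.mem_sup_right h2)
  · apply sup_le (J_le_ker_phi x)
    rw [Ideal.map_le_iff_le_comap]
    intro a ha
    rw [Ideal.mem_comap, RingHom.mem_ker]
    unfold phi
    rw [eval₂Hom_C, RingHom.comp_apply, (residue_eq_zero_iff a).mpr ha, map_zero]

end Alg



open MvPolynomial IsLocalRing

section Ring

universe u v w

variable {S : Type u} [CommRing S] [IsLocalRing S] {K : Type v} [Field K]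
  [Algebra (ResidueField S) K] [Algebra.IsAlgebraic (ResidueField S) K]
variable {I : Type w} [LinearOrder I] [WellFoundedLT I] (x : I → K)

/-- The gonflement ring. -/
abbrev BB : Type (max u w) :=
  MvPolynomial I S ⧸ J (dd (F := ResidueField S) x) (HH (S := S) x)

/-- The map from the gonflement to `K`. -/
noncomputable def Phi : BB (S := S) x →+* K :=
  Ideal.Quotient.lift _ (phi (S := S) x) (fun _ ha => J_le_ker_phi x ha)

theorem Phi_mk (f : MvPolynomial I S) : Phi (S := S) x (Ideal.Quotient.mk _ f) = phi x f := rfl

theorem Phi_algebraMap (a : S) : Phi (S := S) x (algebraMap S (BB (S := S) x) a) =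
    algebraMap (ResidueField S) K (residue S a) := by
  have : algebraMap S (BB (S := S) x) a = Ideal.Quotient.mk _ (C a) := rfl
  rw [this, Phi_mk]
  unfold phi
  rw [eval₂Hom_C]
  rfl

theorem Phi_surjective (hx : Algebra.adjoin (ResidueField S) (Set.range x) = ⊤) :
    Function.Surjective (Phi (S := S) x) := by
  intro y
  obtain ⟨f, rfl⟩ := phi_surjective (S := S) x hx y
  exact ⟨Ideal.Quotient.mk _ f, rfl⟩

theorem ker_Phi : RingHom.ker (Phi (S := S) x) =
    (maximalIdeal S).map (algebraMap S (BB (S := S) x)) := by
  unfold Phi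
  rw [Ideal.ker_quotient_lift, ker_phi, Ideal.map_sup, Ideal.map_quotient_self, bot_sup_eq,
    Ideal.map_map]
  rfl

theorem isIntegral_Xbar (i : I) :
    IsIntegral S (Ideal.Quotient.mk (J (dd (F := ResidueField S) x) (HH (S := S) x)) (X i)) := by
  classical
  induction i using WellFoundedLT.induction with
  | _ i ih =>
    set A₀ := integralClosure S (BB (S := S) x) with hA₀
    set mk := Ideal.Quotient.mk (J (dd (F := ResidueField S) x) (HH (S := S) x)) with hmk
    have hmon : ∀ (m : I →₀ ℕ) (c : S), (∀ j ∈ m.support, j < i) →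
        mk (monomial m c) ∈ A₀ := by
      intro m c hm
      rw [monomial_eq, map_mul, map_finsuppProd]
      apply A₀.mul_mem
      · exact A₀.algebraMap_mem c
      · apply SubmonoidClass.finsuppProd_mem
        intro j hj
        rw [map_pow]
        exact pow_mem (ih j (hm j (Finsupp.mem_support_iff.mpr hj))) _
    set dg := dd (F := ResidueField S) x i with hdg
    let q : Fin dg → A₀ := fun t => ⟨∑ m ∈ (pF (S := S) x i t).support,
      mk (monomial m (sec (coeff m (pF (S := S) x i t)))), by
        refine Subalgebra.sum_mem _ fun m hm => hmon m _ fun j hj => ?_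
        have := (mem_supported.mp (pF_mem (S := S) x i t))
        apply this
        rw [Finset.mem_coe, mem_vars]
        exact ⟨m, hm, hj⟩⟩
    have hrel : mk (X i) ^ dg = ∑ t : Fin dg, (q t : BB (S := S) x) * mk (X i) ^ (t : ℕ) := by
      have h0 : mk (G (dd (F := ResidueField S) x) (HH (S := S) x) i) = 0 := by
        rw [Ideal.Quotient.eq_zero_iff_mem]
        exact Ideal.subset_span ⟨i, rfl⟩
      rw [G, map_sub, sub_eq_zero, map_pow] at h0
      rw [h0]
      have hHH : HH (S := S) x i = ∑ t ∈ Finset.range dg, ∑ m ∈ (pF (S := S) x i t).support,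
        monomial (m + Finsupp.single i t) (sec (coeff m (pF (S := S) x i t))) := rfl
      rw [hHH, map_sum, Finset.sum_range]
      refine Finset.sum_congr rfl fun t _ => ?_
      rw [map_sum, Finset.sum_mul]
      refine Finset.sum_congr rfl fun m _ => ?_
      rw [monomial_add_single, map_mul, map_pow]
    let p : Polynomial A₀ := Polynomial.X ^ dg - ∑ t : Fin dg, Polynomial.C (q t) * Polynomial.X ^ (t : ℕ)
    have hp : p.Monic := Polynomial.monic_X_pow_sub (Polynomial.degree_sum_fin_lt q)
    have hint : IsIntegral A₀ (mk (X i)) := by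
      refine ⟨p, hp, ?_⟩
      simp only [p, Polynomial.eval₂_sub, Polynomial.eval₂_X_pow, Polynomial.eval₂_finset_sum,
        Polynomial.eval₂_mul, Polynomial.eval₂_C]
      rw [hrel, sub_eq_zero]
      rfl
    exact isIntegral_trans (A := A₀) _ hint

theorem isIntegral_BB : Algebra.IsIntegral S (BB (S := S) x) := by
  have h1 : Algebra.adjoin S (Set.range fun i : I =>
      Ideal.Quotient.mk (J (dd (F := ResidueField S) x) (HH (S := S) x)) (X i)) = ⊤ := by
    have h2 := MvPolynomial.adjoin_range_X (R := S) (σ := I)
    have h3 := congrArg (Subalgebra.map (Ideal.Quotient.mkₐ S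
      (J (dd (F := ResidueField S) x) (HH (S := S) x)))) h2
    rw [AlgHom.map_adjoin, Algebra.map_top, ← Set.range_comp] at h3
    rw [← (AlgHom.range_eq_top _).mpr (Ideal.Quotient.mkₐ_surjective S _), ← h3]
    rfl
  have h4 : Algebra.adjoin S (Set.range fun i : I =>
      Ideal.Quotient.mk (J (dd (F := ResidueField S) x) (HH (S := S) x)) (X i)) ≤
      integralClosure S (BB (S := S) x) := by
    apply Algebra.adjoin_le
    rintro _ ⟨i, rfl⟩
    exact isIntegral_Xbar x i
  rw [h1] at h4
  exact ⟨fun b => h4 Algebra.mem_top⟩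

end Ring



open MvPolynomial IsLocalRing

section Pack

universe u v w

/-- The algebraic gonflement: for a local ring `S` and an algebraic extension `K` of its residue
field generated by a well-ordered family `x`, there is a free integral local `S`-algebra `B` with
`𝔪_S B` maximal and `B / 𝔪_S B ≅ K`. -/
theorem exists_alg (S : Type u) [CommRing S] [IsLocalRing S] (K : Type v) [Field K]
    [Algebra (ResidueField S) K] [Algebra.IsAlgebraic (ResidueField S) K]
    {I : Type w} [LinearOrder I] [WellFoundedLT I] (x : I → K)
    (hx : Algebra.adjoin (ResidueField S) (Set.range x) = ⊤) :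
    ∃ (B : Type (max u w)) (_ : CommRing B) (_ : Algebra S B), Module.Free S B ∧
      Algebra.IsIntegral S B ∧ (Finite I → Module.Finite S B) ∧ IsLocalRing B ∧
      IsLocalHom (algebraMap S B) ∧
      ∃ e : (B ⧸ (maximalIdeal S).map (algebraMap S B)) ≃+* K,
        ∀ a : S, e (Ideal.Quotient.mk _ (algebraMap S B a)) =
          algebraMap (ResidueField S) K (residue S a) := by
  have hH := triangular_HH (S := S) x
  have hsurj := Phi_surjective (S := S) x hx
  have hker := ker_Phi (S := S) x
  have hint := isIntegral_BB (S := S) x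
  have hmax : ((maximalIdeal S).map (algebraMap S (BB (S := S) x))).IsMaximal := by
    rw [← hker]
    exact RingHom.ker_isMaximal_of_surjective _ hsurj
  have hloc : IsLocalRing (BB (S := S) x) := by
    refine IsLocalRing.of_unique_max_ideal ⟨_, hmax, fun M hM => ?_⟩
    have h1 : (M.comap (algebraMap S (BB (S := S) x))).IsMaximal :=
      Ideal.isMaximal_comap_of_isIntegral_of_isMaximal M
    have h2 := IsLocalRing.eq_maximalIdeal h1
    have h3 : (maximalIdeal S).map (algebraMap S (BB (S := S) x)) ≤ M := by
      rw [Ideal.map_le_iff_le_comap, h2]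
    exact (hmax.eq_of_le hM.ne_top h3).symm
  refine ⟨BB (S := S) x, inferInstance, inferInstance, free_quotient hH, hint,
    fun _ => finite_quotient hH, hloc, ⟨fun a ha => ?_⟩, ?_⟩
  · by_contra hna
    have h1 : a ∈ maximalIdeal S := (IsLocalRing.mem_maximalIdeal a).mpr hna
    have h2 : algebraMap S (BB (S := S) x) a ∈
        (maximalIdeal S).map (algebraMap S (BB (S := S) x)) := Ideal.mem_map_of_mem _ h1
    exact hmax.ne_top (Ideal.eq_top_of_isUnit_mem _ h2 ha)
  · refine ⟨(Ideal.quotEquivOfEq hker.symm).trans
      (RingHom.quotientKerEquivOfSurjective hsurj), fun a => ?_⟩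
    exact Phi_algebraMap x a

end Pack



open MvPolynomial IsLocalRing

section Trans

universe u

/-- The purely transcendental gonflement. -/
theorem exists_trans (S : Type u) [CommRing S] [IsLocalRing S] (K : Type u) [Field K]
    [Algebra (ResidueField S) K] :
    ∃ (S₁ : Type u) (_ : CommRing S₁) (_ : Algebra S S₁) (_ : IsLocalRing S₁),
      Module.Flat S S₁ ∧ (maximalIdeal S).map (algebraMap S S₁) = maximalIdeal S₁ ∧
      ∃ ψ₁ : S₁ →+* K, (∀ a, ψ₁ (algebraMap S S₁ a) = algebraMap (ResidueField S) K (residue S a)) ∧
        RingHom.ker ψ₁ = maximalIdeal S₁ ∧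
        ∀ y : K, ∃ q : Polynomial S₁, q.map ψ₁ ≠ 0 ∧ Polynomial.eval₂ ψ₁ y q = 0 := by
  classical
  obtain ⟨ι, t, ht⟩ := exists_isTranscendenceBasis' (ResidueField S) K
  let ψ : MvPolynomial ι S →+* K := eval₂Hom ((algebraMap (ResidueField S) K).comp (residue S)) t
  have hψ : ψ = (aeval t : MvPolynomial ι (ResidueField S) →ₐ[ResidueField S] K).toRingHom.comp
      (map (residue S)) := by
    apply MvPolynomial.ringHom_ext
    · intro a
      simp [ψ]
    · intro i
      simp [ψ]
  have hker : RingHom.ker ψ = (maximalIdeal S).map (C : S →+* MvPolynomial ι S) := by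
    rw [hψ, ← RingHom.comap_ker]
    have : RingHom.ker (aeval t : MvPolynomial ι (ResidueField S) →ₐ[ResidueField S] K).toRingHom
        = ⊥ := (RingHom.injective_iff_ker_eq_bot _).mp ht.1
    rw [this, ← RingHom.ker_eq_comap_bot, MvPolynomial.ker_map, IsLocalRing.ker_residue]
  obtain ⟨𝔭, h𝔭⟩ : ∃ 𝔭 : Ideal (MvPolynomial ι S),
    𝔭 = (maximalIdeal S).map (C : S →+* MvPolynomial ι S) := ⟨_, rfl⟩
  rw [← h𝔭] at hker
  have hprime : 𝔭.IsPrime := by
    rw [← hker]
    exact RingHom.ker_isPrime ψ
  let S₁ := Localization.AtPrime 𝔭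
  have hunit : ∀ y : 𝔭.primeCompl, IsUnit (ψ y) := by
    intro y
    rw [isUnit_iff_ne_zero]
    intro h0
    have : (y : MvPolynomial ι S) ∈ RingHom.ker ψ := RingHom.mem_ker.mpr h0
    rw [hker] at this
    exact y.2 this
  let ψ₁ : S₁ →+* K := IsLocalization.lift (M := 𝔭.primeCompl) (g := ψ) hunit
  have hψ₁ : ∀ f, ψ₁ (algebraMap (MvPolynomial ι S) S₁ f) = ψ f := fun f =>
    IsLocalization.lift_eq _ f
  have hmaxeq : 𝔭.map (algebraMap (MvPolynomial ι S) S₁) = maximalIdeal S₁ :=
    IsLocalization.AtPrime.map_eq_maximalIdeal 𝔭 S₁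
  have hflat : Module.Flat S S₁ := by
    have : Module.Flat (MvPolynomial ι S) S₁ := IsLocalization.flat S₁ 𝔭.primeCompl
    exact Module.Flat.trans S (MvPolynomial ι S) S₁
  have hmap : (maximalIdeal S).map (algebraMap S S₁) = maximalIdeal S₁ := by
    rw [← hmaxeq]
    have h1 : Ideal.map (algebraMap (MvPolynomial ι S) S₁) 𝔭 =
        Ideal.map (algebraMap (MvPolynomial ι S) S₁)
          ((maximalIdeal S).map (C : S →+* MvPolynomial ι S)) := congrArg _ h𝔭
    rw [h1, Ideal.map_map]
    rfl
  have hkerψ₁ : RingHom.ker ψ₁ = maximalIdeal S₁ := by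
    have hle : maximalIdeal S₁ ≤ RingHom.ker ψ₁ := by
      rw [← hmaxeq, Ideal.map_le_iff_le_comap]
      intro f hf
      rw [Ideal.mem_comap, RingHom.mem_ker, hψ₁]
      rw [← hker] at hf
      exact RingHom.mem_ker.mp hf
    exact ((maximalIdeal.isMaximal S₁).eq_of_le (RingHom.ker_ne_top ψ₁) hle).symm
  refine ⟨S₁, inferInstance, inferInstance, inferInstance, hflat, hmap, ψ₁, ?_, hkerψ₁, ?_⟩
  · intro a
    have : algebraMap S S₁ a = algebraMap (MvPolynomial ι S) S₁ (C a) := rfl
    rw [this, hψ₁]
    simp [ψ]
  · intro y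
    have halg := ht.isAlgebraic
    let A₁ := Algebra.adjoin (ResidueField S) (Set.range t)
    obtain ⟨p, hp0, hpy⟩ := halg.isAlgebraic y
    let p' : Polynomial K := p.map (algebraMap A₁ K)
    have hp'0 : p' ≠ 0 := by
      rw [Polynomial.map_ne_zero_iff (FaithfulSMul.algebraMap_injective A₁ K)]
      exact hp0
    have hrange : ∀ c : A₁, (c : K) ∈ Set.range ψ₁ := by
      intro c
      have h1 : A₁ = (aeval t : MvPolynomial ι (ResidueField S) →ₐ[ResidueField S] K).range :=
        Algebra.adjoin_range_eq_range_aeval (ResidueField S) t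
      have h2 : (c : K) ∈ (aeval t : MvPolynomial ι (ResidueField S) →ₐ[ResidueField S] K).range :=
        h1 ▸ c.2
      obtain ⟨g, hg⟩ := h2
      obtain ⟨g', rfl⟩ := MvPolynomial.map_surjective (residue S) residue_surjective g
      refine ⟨algebraMap _ S₁ g', ?_⟩
      rw [hψ₁, hψ]
      exact hg
    have hlift : p' ∈ Polynomial.lifts ψ₁ := by
      rw [Polynomial.lifts_iff_coeff_lifts]
      intro n
      rw [Polynomial.coeff_map]
      exact hrange _
    obtain ⟨q, hq⟩ := (Polynomial.mem_lifts _).mp hlift
    refine ⟨q, hq ▸ hp'0, ?_⟩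
    rw [← Polynomial.eval_map, hq, Polynomial.eval_map]
    exact hpy

end Trans



open MvPolynomial IsLocalRing

section Gonf

universe u

/-- **Gonflement** (EGA 0_III 10.3.1, Stacks 07 NE-type): for a local ring `S` and any extension `K`
of its residue field there is a flat local `S`-algebra `B` with `𝔪_S B` maximal and `B / 𝔪_S B ≅ K`
compatibly. -/
theorem exists_gonflement (S : Type u) [CommRing S] [IsLocalRing S] (K : Type u) [Field K]
    [Algebra (ResidueField S) K] :
    ∃ (B : Type u) (_ : CommRing B) (_ : Algebra S B), Module.Flat S B ∧ IsLocalRing B ∧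
      IsLocalHom (algebraMap S B) ∧
      ∃ e : (B ⧸ (maximalIdeal S).map (algebraMap S B)) ≃+* K,
        ∀ a : S, e (Ideal.Quotient.mk _ (algebraMap S B a)) =
          algebraMap (ResidueField S) K (residue S a) := by
  classical
  obtain ⟨S₁, _, _, _, hflat₁, hmap₁, ψ₁, hψ₁a, hkerψ₁, halg₁⟩ := exists_trans S K
  have hlocψ₁ : IsLocalHom ψ₁ := by
    refine ⟨fun a ha => ?_⟩
    by_contra hna
    have h1 : a ∈ maximalIdeal S₁ := (IsLocalRing.mem_maximalIdeal a).mpr hna
    rw [← hkerψ₁, RingHom.mem_ker] at h1
    rw [h1] at ha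
    exact not_isUnit_zero ha
  letI : Algebra (ResidueField S₁) K := (ResidueField.lift ψ₁).toAlgebra
  have hres : ∀ b : S₁, algebraMap (ResidueField S₁) K (residue S₁ b) = ψ₁ b := fun b =>
    ResidueField.lift_residue_apply ψ₁ b
  have hcomp : (algebraMap (ResidueField S₁) K).comp (residue S₁) = ψ₁ := RingHom.ext hres
  have halgK : Algebra.IsAlgebraic (ResidueField S₁) K := by
    refine ⟨fun y => ?_⟩
    obtain ⟨q, hq0, hqy⟩ := halg₁ y
    refine ⟨q.map (residue S₁), ?_, ?_⟩
    · intro h0
      apply hq0
      rw [← hcomp, ← Polynomial.map_map, h0, Polynomial.map_zero]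
    · rw [Polynomial.aeval_def, Polynomial.eval₂_map, hcomp]
      exact hqy
  obtain ⟨_, hwo⟩ := exists_wellOrder K
  obtain ⟨B, _, _, hfree, hint, -, hloc, hlh, e, he⟩ := exists_alg S₁ K (x := (id : K → K))
    (by rw [Set.range_id, Algebra.adjoin_univ])
  letI : Algebra S B := ((algebraMap S₁ B).comp (algebraMap S S₁)).toAlgebra
  haveI : IsScalarTower S S₁ B := IsScalarTower.of_algebraMap_eq (fun _ => rfl)
  have hflat : Module.Flat S B := Module.Flat.trans S S₁ B
  have hideal : (maximalIdeal S).map (algebraMap S B) =
      (maximalIdeal S₁).map (algebraMap S₁ B) := by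
    rw [← hmap₁, Ideal.map_map]
    rfl
  refine ⟨B, inferInstance, inferInstance, hflat, hloc, ⟨fun a ha => ?_⟩, ?_⟩
  · have h1 : IsUnit (algebraMap S S₁ a) := by
      have : IsUnit (algebraMap S₁ B (algebraMap S S₁ a)) := ha
      exact hlh.map_nonunit _ this
    by_contra hna
    have h2 : a ∈ maximalIdeal S := (IsLocalRing.mem_maximalIdeal a).mpr hna
    have h3 : algebraMap S S₁ a ∈ maximalIdeal S₁ := by
      rw [← hmap₁]
      exact Ideal.mem_map_of_mem _ h2
    exact (IsLocalRing.mem_maximalIdeal _).mp h3 h1
  · refine ⟨(Ideal.quotEquivOfEq hideal).trans e, fun a => ?_⟩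
    have h1 : (Ideal.quotEquivOfEq hideal) (Ideal.Quotient.mk _ (algebraMap S B a)) =
        Ideal.Quotient.mk _ (algebraMap S₁ B (algebraMap S S₁ a)) := rfl
    rw [RingEquiv.trans_apply, h1, he, hres, hψ₁a]

end Gonf

end Groth.Agent.Lib.Helper23.Gonflement
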