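import Mathlib
import Groth.Agent.Lib.Helper21.CompleteFlat2
import Groth.Agent.Lib.Helper23.Gonflement

/-!
Gonflement, main statements: t2088main (flat local extension with prescribed residue field), t2366main (finite case), flat_completion, t2363main (Noetherian case, by completion).
-/

set_option autoImplicit false


namespace Groth.Agent.Lib.Helper23.Gonflement2

open Groth.Agent.Lib.Helper23.Gonflement


open MvPolynomial IsLocalRing

section Gonf2

universe u

theorem map_eq_maximalIdeal_of_equiv {S : Type*} [CommRing S] [IsLocalRing S] {B : Type*}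
    [CommRing B] [Algebra S B] [IsLocalRing B] {K : Type*} [Field K]
    (e : (B ⧸ (maximalIdeal S).map (algebraMap S B)) ≃+* K) :
    (maximalIdeal S).map (algebraMap S B) = maximalIdeal B := by
  have hf : IsField (B ⧸ (maximalIdeal S).map (algebraMap S B)) :=
    e.toMulEquiv.isField (Field.toIsField K)
  exact IsLocalRing.eq_maximalIdeal (Ideal.Quotient.maximal_of_isField _ hf)

theorem t2088main {R K : Type u} [CommRing R] [IsLocalRing R] [Field K]
    [Algebra (IsLocalRing.ResidueField R) K] :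
    ∃ (R' : Type u) (_ : CommRing R') (_ : IsLocalRing R') (_ : Algebra R R')
      (_ : IsLocalHom (algebraMap R R')),
      Module.Flat R R' ∧ (IsLocalRing.maximalIdeal R).map (algebraMap R R') =
        IsLocalRing.maximalIdeal R' ∧
      Nonempty (IsLocalRing.ResidueField R' ≃ₐ[IsLocalRing.ResidueField R] K) := by
  obtain ⟨B, _, _, hflat, hloc, hlh, e, he⟩ := exists_gonflement R K
  have hmax := map_eq_maximalIdeal_of_equiv e
  refine ⟨B, inferInstance, hloc, inferInstance, hlh, hflat, hmax, ⟨?_⟩⟩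
  let f : ResidueField B ≃+* K := (Ideal.quotEquivOfEq hmax.symm).trans e
  refine AlgEquiv.ofRingEquiv (f := f) fun c => ?_
  obtain ⟨a, rfl⟩ := residue_surjective c
  exact he a

theorem t2366main {A : Type u} [CommRing A] [IsLocalRing A] (K : Type u) [Field K]
    [Algebra (IsLocalRing.ResidueField A) K] [Module.Finite (IsLocalRing.ResidueField A) K] :
    ∃ (B : Type u) (_ : CommRing B) (_ : Algebra A B), IsLocalRing B ∧
      IsLocalHom (algebraMap A B) ∧ Module.Flat A B ∧ Module.Finite A B ∧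
      ∃ e : (B ⧸ (IsLocalRing.maximalIdeal A).map (algebraMap A B)) ≃+* K,
        ∀ a : A, e (Ideal.Quotient.mk _ (algebraMap A B a)) =
          algebraMap (IsLocalRing.ResidueField A) K (IsLocalRing.residue A a) := by
  have : Algebra.IsAlgebraic (ResidueField A) K := Algebra.IsAlgebraic.of_finite _ _
  let b := Module.finBasis (ResidueField A) K
  have hx : Algebra.adjoin (ResidueField A) (Set.range b) = ⊤ := by
    rw [← Algebra.toSubmodule_eq_top, eq_top_iff, ← b.span_eq]
    exact Algebra.span_le_adjoin _ _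
  obtain ⟨B, _, _, hfree, hint, hfin, hloc, hlh, e, he⟩ := exists_alg A K (x := b) hx
  exact ⟨B, inferInstance, inferInstance, hloc, hlh, inferInstance, hfin inferInstance, e, he⟩

end Gonf2



open IsLocalRing Groth.Agent.Lib.Helper21

section Noeth

universe u

/-- The completion of a flat local algebra `B₀` over a Noetherian local ring `A` with
`𝔪_A B₀ = 𝔪_{B₀}` is flat over `A`. -/
theorem flat_completion {A : Type*} [CommRing A] [IsNoetherianRing A] [IsLocalRing A]
    {B₀ : Type*} [CommRing B₀] [Algebra A B₀] [IsLocalRing B₀] [Module.Flat A B₀]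
    (hmax₀ : (maximalIdeal A).map (algebraMap A B₀) = maximalIdeal B₀) :
    Module.Flat A (AdicCompletion (maximalIdeal B₀) B₀) := by
  have hfg : (maximalIdeal B₀).FG := by
    rw [← hmax₀]
    exact Ideal.FG.map (IsNoetherian.noetherian (maximalIdeal A)) _
  haveI : IsScalarTower A B₀ (AdicCompletion (maximalIdeal B₀) B₀) :=
    IsScalarTower.of_algebraMap_eq (fun _ => rfl)
  have hmapB : (maximalIdeal A).map (algebraMap A (AdicCompletion (maximalIdeal B₀) B₀)) =
      (maximalIdeal B₀).map (algebraMap B₀ (AdicCompletion (maximalIdeal B₀) B₀)) := by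
    have := congrArg (Ideal.map (algebraMap B₀ (AdicCompletion (maximalIdeal B₀) B₀))) hmax₀
    rw [← this, Ideal.map_map]
    rfl
  have hcomplete : IsAdicComplete (maximalIdeal A) (AdicCompletion (maximalIdeal B₀) B₀) := by
    have h1 : IsAdicComplete ((maximalIdeal B₀).map
        (algebraMap B₀ (AdicCompletion (maximalIdeal B₀) B₀)))
        (AdicCompletion (maximalIdeal B₀) B₀) :=
      AdicCompletion.isAdicComplete_self _ hfg
    rw [← hmapB] at h1
    exact (IsAdicComplete.map_algebraMap_iff (S := AdicCompletion (maximalIdeal B₀) B₀)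
      (maximalIdeal A) (AdicCompletion (maximalIdeal B₀) B₀)).mp h1
  have hpow : ∀ n : ℕ, (maximalIdeal B₀) ^ n = ((maximalIdeal A) ^ n).map (algebraMap A B₀) := by
    intro n
    rw [← hmax₀, Ideal.map_pow]
  have hquot : ∀ n, QuotFlat ((maximalIdeal A) ^ n) (AdicCompletion (maximalIdeal B₀) B₀) := by
    intro n
    let ψ : B₀ →ₗ[A] AdicCompletion (maximalIdeal B₀) B₀ :=
      (IsScalarTower.toAlgHom A B₀ (AdicCompletion (maximalIdeal B₀) B₀)).toLinearMap
    have h := QuotFlat.of_dense (R := A) (R' := A) (M := B₀)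
      (M' := AdicCompletion (maximalIdeal B₀) B₀) ((maximalIdeal A) ^ n) ψ
      ?_ ?_ ?_ (quotFlat_of_flat _)
    · rw [Algebra.algebraMap_self, Ideal.map_id] at h
      exact h
    · intro r'
      exact ⟨r', by simp⟩
    · intro b
      obtain ⟨b₀, hb₀⟩ := exists_of_sub_mem_pow_smul_top (maximalIdeal B₀) hfg n b
      refine ⟨b₀, ?_⟩
      rw [hpow, mem_map_smul_top_iff] at hb₀
      rw [Algebra.algebraMap_self, Ideal.map_id]
      exact hb₀
    · intro b₀ hb₀
      rw [Algebra.algebraMap_self, Ideal.map_id] at hb₀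
      have h1 : AdicCompletion.of (maximalIdeal B₀) B₀ b₀ ∈
          ((maximalIdeal B₀) ^ n • ⊤ : Submodule B₀ (AdicCompletion (maximalIdeal B₀) B₀)) := by
        rw [hpow, mem_map_smul_top_iff]
        exact hb₀
      have h2 := mem_of_of_mem_pow_smul_top (maximalIdeal B₀) hfg n b₀ h1
      rw [hpow, mem_map_smul_top_iff] at h2
      exact h2
  exact flat_of_isAdicComplete_of_quotFlat (maximalIdeal A) hquot

theorem t2363main {A : Type u} [CommRing A] [IsNoetherianRing A]
    [IsLocalRing A] (K : Type u) [Field K] [Algebra (IsLocalRing.ResidueField A) K] :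
    ∃ (B : Type u) (_ : CommRing B) (_ : Algebra A B), IsNoetherianRing B ∧ IsLocalRing B ∧
      IsLocalHom (algebraMap A B) ∧ Module.Flat A B ∧
      ∃ e : (B ⧸ (IsLocalRing.maximalIdeal A).map (algebraMap A B)) ≃+* K,
        ∀ a : A, e (Ideal.Quotient.mk _ (algebraMap A B a)) =
          algebraMap (IsLocalRing.ResidueField A) K (IsLocalRing.residue A a) := by
  obtain ⟨B₀, _, _, hflat₀, hloc₀, hlh₀, e₀, he₀⟩ := exists_gonflement A K
  have hmax₀ : (maximalIdeal A).map (algebraMap A B₀) = maximalIdeal B₀ :=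
    map_eq_maximalIdeal_of_equiv e₀
  have hfg : (maximalIdeal B₀).FG := by
    rw [← hmax₀]
    exact Ideal.FG.map (IsNoetherian.noetherian (maximalIdeal A)) _
  haveI : IsScalarTower A B₀ (AdicCompletion (maximalIdeal B₀) B₀) :=
    IsScalarTower.of_algebraMap_eq (fun _ => rfl)
  haveI hlocB : IsLocalRing (AdicCompletion (maximalIdeal B₀) B₀) :=
    AdicCompletion.isLocalRing_of_fg hfg
  have hmaxB : maximalIdeal (AdicCompletion (maximalIdeal B₀) B₀) =
      (maximalIdeal B₀).map (algebraMap B₀ (AdicCompletion (maximalIdeal B₀) B₀)) :=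
    AdicCompletion.maximalIdeal_eq_map_of_fg hfg
  have hmapB : (maximalIdeal A).map (algebraMap A (AdicCompletion (maximalIdeal B₀) B₀)) =
      maximalIdeal (AdicCompletion (maximalIdeal B₀) B₀) := by
    have := congrArg (Ideal.map (algebraMap B₀ (AdicCompletion (maximalIdeal B₀) B₀))) hmax₀
    rw [hmaxB, ← this, Ideal.map_map]
    rfl
  have hnoeth : IsNoetherianRing (AdicCompletion (maximalIdeal B₀) B₀) := by
    haveI : IsNoetherianRing (B₀ ⧸ maximalIdeal B₀) :=
      inferInstanceAs (IsNoetherianRing (ResidueField B₀))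
    exact isNoetherianRing_adicCompletion_of_fg (maximalIdeal B₀) hfg
  have hlhB₀ : IsLocalHom (algebraMap B₀ (AdicCompletion (maximalIdeal B₀) B₀)) :=
    AdicCompletion.algebraMap_isLocalHom_of_fg hfg
  have hlh : IsLocalHom (algebraMap A (AdicCompletion (maximalIdeal B₀) B₀)) := by
    refine ⟨fun a ha => ?_⟩
    have h1 : IsUnit (algebraMap B₀ (AdicCompletion (maximalIdeal B₀) B₀) (algebraMap A B₀ a)) := ha
    exact hlh₀.map_nonunit _ (hlhB₀.map_nonunit _ h1)
  have hflat : Module.Flat A (AdicCompletion (maximalIdeal B₀) B₀) := flat_completion hmax₀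
  refine ⟨AdicCompletion (maximalIdeal B₀) B₀, inferInstance, inferInstance, hnoeth, hlocB, hlh,
    hflat, ?_⟩
  have hbij := AdicCompletion.residueField_map_bijective_of_fg hfg
  obtain ⟨φ, hφ⟩ : ∃ φ : ResidueField B₀ ≃+* ResidueField (AdicCompletion (maximalIdeal B₀) B₀),
      ∀ y, φ y = ResidueField.map (algebraMap B₀ (AdicCompletion (maximalIdeal B₀) B₀)) y :=
    ⟨RingEquiv.ofBijective _ hbij, fun _ => rfl⟩
  obtain ⟨q₁, hq₁⟩ : ∃ q₁ : (AdicCompletion (maximalIdeal B₀) B₀ ⧸ (maximalIdeal A).map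
      (algebraMap A (AdicCompletion (maximalIdeal B₀) B₀))) ≃+*
      ResidueField (AdicCompletion (maximalIdeal B₀) B₀),
      ∀ b, q₁ (Ideal.Quotient.mk _ b) = residue _ b :=
    ⟨Ideal.quotEquivOfEq hmapB, fun _ => rfl⟩
  obtain ⟨q₂, hq₂⟩ : ∃ q₂ : ResidueField B₀ ≃+* (B₀ ⧸ (maximalIdeal A).map (algebraMap A B₀)),
      ∀ b, q₂ (residue _ b) = Ideal.Quotient.mk _ b :=
    ⟨Ideal.quotEquivOfEq hmax₀.symm, fun _ => rfl⟩
  refine ⟨(q₁.trans φ.symm).trans (q₂.trans e₀), fun a => ?_⟩
  have h1 : q₁ (Ideal.Quotient.mk _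
      (algebraMap A (AdicCompletion (maximalIdeal B₀) B₀) a)) =
      φ (residue B₀ (algebraMap A B₀ a)) := by
    rw [hφ, hq₁]
    rfl
  change e₀ (q₂ (φ.symm (q₁ _))) = _
  rw [h1, RingEquiv.symm_apply_apply, hq₂, he₀]

end Noeth

end Groth.Agent.Lib.Helper23.Gonflement2
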