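import Mathlib
import Groth.Agent.Lib.Helper23.Gonflement2
import Groth.Agent.Lib.Helper23.CohenSmooth
import Groth.Agent.S2462

/-!
Cohen algebras (EGA 0_IV 19.8.2): mem_smul_ker_of_flat (E ->> B flat => aE ∩ ker = a ker), bijective_of_residue (local A-hom of complete local A-algebras with m_A B = m_B, B' flat, iso on residue fields => bijective), exists_complete_gonflement (Noetherian complete flat local B with B/m_A B ≃ K), exists_cohenAlgebra, cohenAlgebra_unique, t2455main.
-/

set_option autoImplicit false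


namespace Groth.Agent.Lib.Helper23.CohenAlg


universe u

section FlatKer

variable {A : Type*} [CommRing A] (𝔞 : Ideal A) {B : Type*} [AddCommGroup B] [Module A B]
  {E : Type*} [AddCommGroup E] [Module A E] (pr : E →ₗ[A] B)

/-- If `E → B` is a surjection onto a flat module, then `𝔞 E ∩ ker = 𝔞 ker`. -/
theorem mem_smul_ker_of_flat [Module.Flat A B] (hpr : Function.Surjective pr)
    {e : E} (he : e ∈ (𝔞 • ⊤ : Submodule A E)) (hpe : pr e = 0) :
    e ∈ (𝔞 • LinearMap.ker pr : Submodule A E) := by
  classical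
  have h1 : e ∈ (𝔞 • Submodule.span A (Set.range (id : E → E)) : Submodule A E) := by
    rw [Set.range_id, Submodule.span_univ]
    exact he
  rw [Submodule.mem_ideal_smul_span_iff_exists_sum] at h1
  obtain ⟨a, ha, rfl⟩ := h1
  have hsum : ∑ i : a.support, a i.1 • pr i.1 = 0 := by
    rw [Finsupp.sum, map_sum] at hpe
    rw [← Finset.sum_coe_sort] at hpe
    simpa using hpe
  obtain ⟨k, α, y, hy1, hy2⟩ := Module.Flat.isTrivialRelation_of_sum_smul_eq_zero
    (R := A) (M := B) (f := fun i : a.support => a i.1) (x := fun i : a.support => pr i.1) hsum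
  replace hy1 : ∀ i : a.support, pr i.1 = ∑ j, α i j • y j := hy1
  replace hy2 : ∀ j, ∑ i : a.support, a i.1 * α i j = 0 := hy2
  choose e' he' using fun j => hpr (y j)
  have hn : ∀ i : a.support, pr (i.1 - ∑ j, α i j • e' j) = 0 := by
    intro i
    rw [map_sub, map_sum, hy1 i, sub_eq_zero]
    refine Finset.sum_congr rfl fun j _ => ?_
    rw [map_smul, he']
  rw [Finsupp.sum, ← Finset.sum_coe_sort]
  have : ∀ i : a.support, a i.1 • id i.1 =
      ∑ j, (a i.1 * α i j) • e' j + a i.1 • (i.1 - ∑ j, α i j • e' j) := by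
    intro i
    rw [smul_sub, Finset.smul_sum, id]
    simp only [mul_smul]
    abel
  rw [Finset.sum_congr rfl fun i _ => this i, Finset.sum_add_distrib, Finset.sum_comm]
  have h2 : ∀ j, ∑ i : a.support, (a i.1 * α i j) • e' j = 0 := by
    intro j
    rw [← Finset.sum_smul, hy2 j, zero_smul]
  rw [Finset.sum_congr rfl fun j _ => h2 j, Finset.sum_const_zero, zero_add]
  exact Submodule.sum_mem _ fun i _ => Submodule.smul_mem_smul (ha _) (hn i)

end FlatKer




open IsLocalRing

section Bij

/-- A local `A`-homomorphism between complete local `A`-algebras with `𝔪_A B = 𝔪_B`,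
`𝔪_A B' = 𝔪_{B'}`, `B'` flat, inducing an isomorphism of residue fields, is bijective. -/
theorem bijective_of_residue {A B B' : Type*} [CommRing A] [IsLocalRing A] [CommRing B]
    [IsLocalRing B] [IsNoetherianRing B] [Algebra A B] [CommRing B'] [IsLocalRing B'] [Algebra A B']
    [Module.Flat A B'] [IsPrecomplete (maximalIdeal B) B] [IsHausdorff (maximalIdeal B') B']
    (hmax : (maximalIdeal A).map (algebraMap A B) = maximalIdeal B)
    (hmax' : (maximalIdeal A).map (algebraMap A B') = maximalIdeal B')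
    (v : B →ₐ[A] B')
    (hsurj : Function.Surjective ((Ideal.Quotient.mk (maximalIdeal B')).comp (v : B →+* B')))
    (hker : ∀ x, v x ∈ maximalIdeal B' → x ∈ maximalIdeal B) : Function.Bijective v := by
  have hI : (maximalIdeal B).map (v : B →+* B') = maximalIdeal B' := by
    rw [← hmax, Ideal.map_map, ← hmax']
    congr 1
    exact v.comp_algebraMap
  have hsurjv : Function.Surjective v := by
    haveI : IsHausdorff ((maximalIdeal B).map (v : B →+* B')) B' := by
      rw [hI]; infer_instance
    apply surjective_of_mk_map_comp_surjective (I := maximalIdeal B) (v : B →+* B')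
    intro y
    obtain ⟨y', rfl⟩ := Ideal.Quotient.mk_surjective y
    obtain ⟨x, hx⟩ := hsurj (Ideal.Quotient.mk _ y')
    refine ⟨x, ?_⟩
    rw [RingHom.comp_apply, Ideal.Quotient.eq, hI]
    exact Ideal.Quotient.eq.mp hx
  refine ⟨?_, hsurjv⟩
  have hN : RingHom.ker (v : B →+* B') = ⊥ := by
    apply Submodule.eq_bot_of_le_smul_of_le_jacobson_bot (maximalIdeal B) _
      (IsNoetherian.noetherian _) _ (maximalIdeal_le_jacobson _)
    intro x hx
    have hx0 : v x = 0 := hx
    have hxm : x ∈ maximalIdeal B := hker x (by rw [hx0]; exact zero_mem _)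
    have h1 : x ∈ ((maximalIdeal A) • ⊤ : Submodule A B) := by
      rw [← hmax] at hxm
      have := (Ideal.smul_top_eq_map (R := A) (S := B) (maximalIdeal A))
      rw [← Submodule.restrictScalars_mem A, ← this] at hxm
      exact hxm
    have h2 := mem_smul_ker_of_flat (maximalIdeal A) v.toLinearMap hsurjv h1 hx0
    refine Submodule.smul_induction_on h2 ?_ ?_
    · intro a ha n hn
      rw [← algebraMap_smul B a n]
      refine Submodule.smul_mem_smul ?_ hn
      rw [← hmax]
      exact Ideal.mem_map_of_mem _ ha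
    · intro y z hy hz
      exact Submodule.add_mem _ hy hz
  exact (RingHom.injective_iff_ker_eq_bot (v : B →+* B')).mpr hN

end Bij




open IsLocalRing Groth.Agent.Lib.Helper21 Groth.Agent.Lib.Helper23.Gonflement
  Groth.Agent.Lib.Helper23.Gonflement2

section Exist

/-- Complete Noetherian gonflement. -/
theorem exists_complete_gonflement {A : Type u} [CommRing A] [IsNoetherianRing A]
    [IsLocalRing A] (K : Type u) [Field K] [Algebra (IsLocalRing.ResidueField A) K] :
    ∃ (B : Type u) (_ : CommRing B) (_ : Algebra A B) (_ : IsLocalRing B), IsNoetherianRing B ∧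
      IsAdicComplete (maximalIdeal B) B ∧
      IsLocalHom (algebraMap A B) ∧ Module.Flat A B ∧
      ∃ e : (B ⧸ (IsLocalRing.maximalIdeal A).map (algebraMap A B)) ≃+* K,
        ∀ a : A, e (Ideal.Quotient.mk _ (algebraMap A B a)) =
          algebraMap (IsLocalRing.ResidueField A) K (IsLocalRing.residue A a) := by
  obtain ⟨B₀, _, _, hflat₀, hloc₀, hlh₀, e₀, he₀⟩ := exists_gonflement A K
  have hmax₀ : (maximalIdeal A).map (algebraMap A B₀) = maximalIdeal B₀ :=
    map_eq_maximalIdeal_of_equiv e₀
  have hfg : (maximalIdeal B₀).FG := by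
    rw [← hmax₀]
    exact Ideal.FG.map (IsNoetherian.noetherian (maximalIdeal A)) _
  haveI : IsScalarTower A B₀ (AdicCompletion (maximalIdeal B₀) B₀) :=
    IsScalarTower.of_algebraMap_eq (fun _ => rfl)
  haveI hlocB : IsLocalRing (AdicCompletion (maximalIdeal B₀) B₀) :=
    AdicCompletion.isLocalRing_of_fg hfg
  have hmaxB : maximalIdeal (AdicCompletion (maximalIdeal B₀) B₀) =
      (maximalIdeal B₀).map (algebraMap B₀ (AdicCompletion (maximalIdeal B₀) B₀)) :=
    AdicCompletion.maximalIdeal_eq_map_of_fg hfg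
  have hmapB : (maximalIdeal A).map (algebraMap A (AdicCompletion (maximalIdeal B₀) B₀)) =
      maximalIdeal (AdicCompletion (maximalIdeal B₀) B₀) := by
    have := congrArg (Ideal.map (algebraMap B₀ (AdicCompletion (maximalIdeal B₀) B₀))) hmax₀
    rw [hmaxB, ← this, Ideal.map_map]
    rfl
  have hnoeth : IsNoetherianRing (AdicCompletion (maximalIdeal B₀) B₀) := by
    haveI : IsNoetherianRing (B₀ ⧸ maximalIdeal B₀) :=
      inferInstanceAs (IsNoetherianRing (ResidueField B₀))
    exact isNoetherianRing_adicCompletion_of_fg (maximalIdeal B₀) hfg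
  have hlhB₀ : IsLocalHom (algebraMap B₀ (AdicCompletion (maximalIdeal B₀) B₀)) :=
    AdicCompletion.algebraMap_isLocalHom_of_fg hfg
  have hlh : IsLocalHom (algebraMap A (AdicCompletion (maximalIdeal B₀) B₀)) := by
    refine ⟨fun a ha => ?_⟩
    have h1 : IsUnit (algebraMap B₀ (AdicCompletion (maximalIdeal B₀) B₀) (algebraMap A B₀ a)) := ha
    exact hlh₀.map_nonunit _ (hlhB₀.map_nonunit _ h1)
  have hflat : Module.Flat A (AdicCompletion (maximalIdeal B₀) B₀) := flat_completion hmax₀
  have hcomp : IsAdicComplete (maximalIdeal (AdicCompletion (maximalIdeal B₀) B₀))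
      (AdicCompletion (maximalIdeal B₀) B₀) := AdicCompletion.isAdicComplete_of_fg hfg
  refine ⟨AdicCompletion (maximalIdeal B₀) B₀, inferInstance, inferInstance, hlocB, hnoeth, hcomp,
    hlh, hflat, ?_⟩
  have hbij := AdicCompletion.residueField_map_bijective_of_fg hfg
  obtain ⟨φ, hφ⟩ : ∃ φ : ResidueField B₀ ≃+* ResidueField (AdicCompletion (maximalIdeal B₀) B₀),
      ∀ y, φ y = ResidueField.map (algebraMap B₀ (AdicCompletion (maximalIdeal B₀) B₀)) y :=
    ⟨RingEquiv.ofBijective _ hbij, fun _ => rfl⟩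
  obtain ⟨q₁, hq₁⟩ : ∃ q₁ : (AdicCompletion (maximalIdeal B₀) B₀ ⧸ (maximalIdeal A).map
      (algebraMap A (AdicCompletion (maximalIdeal B₀) B₀))) ≃+*
      ResidueField (AdicCompletion (maximalIdeal B₀) B₀),
      ∀ b, q₁ (Ideal.Quotient.mk _ b) = residue _ b :=
    ⟨Ideal.quotEquivOfEq hmapB, fun _ => rfl⟩
  obtain ⟨q₂, hq₂⟩ : ∃ q₂ : ResidueField B₀ ≃+* (B₀ ⧸ (maximalIdeal A).map (algebraMap A B₀)),
      ∀ b, q₂ (residue _ b) = Ideal.Quotient.mk _ b :=
    ⟨Ideal.quotEquivOfEq hmax₀.symm, fun _ => rfl⟩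
  refine ⟨(q₁.trans φ.symm).trans (q₂.trans e₀), fun a => ?_⟩
  have h1 : q₁ (Ideal.Quotient.mk _
      (algebraMap A (AdicCompletion (maximalIdeal B₀) B₀) a)) =
      φ (residue B₀ (algebraMap A B₀ a)) := by
    rw [hφ, hq₁]
    rfl
  change e₀ (q₂ (φ.symm (q₁ _))) = _
  rw [h1, RingEquiv.symm_apply_apply, hq₂, he₀]

/-- Existence of Cohen algebras with prescribed separable residue field. -/
theorem exists_cohenAlgebra {A : Type u} [CommRing A] [IsLocalRing A] [IsNoetherianRing A]
    (K : Type u) [Field K] [Algebra (ResidueField A) K]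
    [Algebra.IsGeometricallyReduced (ResidueField A) K] :
    ∃ (B : Type u) (_ : CommRing B) (_ : IsLocalRing B) (_ : Algebra A B)
      (_ : IsLocalHom (algebraMap A B)),
      EGA41.IsCohenAlgebra A B ∧ Nonempty (ResidueField B ≃ₐ[ResidueField A] K) := by
  obtain ⟨B, _, _, hloc, hnoeth, hcomp, hlh, hflat, e, he⟩ := exists_complete_gonflement (A := A) K
  have hmax := map_eq_maximalIdeal_of_equiv e
  let f : ResidueField B ≃+* K := (Ideal.quotEquivOfEq hmax.symm).trans e
  let fa : ResidueField B ≃ₐ[ResidueField A] K := AlgEquiv.ofRingEquiv (f := f) fun c => by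
    obtain ⟨a, rfl⟩ := residue_surjective c
    exact he a
  refine ⟨B, inferInstance, hloc, inferInstance, hlh, ⟨inferInstance, hnoeth, hcomp, hflat, hmax, ?_⟩,
    ⟨fa⟩⟩
  exact Algebra.IsGeometricallyReduced.of_injective fa.toAlgHom fa.injective

end Exist




open IsLocalRing Groth.Agent.Lib.Helper23.CohenSmooth

section Unique

theorem cohenAlgebra_unique {A : Type u} [CommRing A] [IsLocalRing A]
    (B B' : Type u) [CommRing B] [IsLocalRing B] [Algebra A B] [IsLocalHom (algebraMap A B)]
    [CommRing B'] [IsLocalRing B'] [Algebra A B'] [IsLocalHom (algebraMap A B')]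
    (hB : EGA41.IsCohenAlgebra A B) (hB' : EGA41.IsCohenAlgebra A B')
    (θ : ResidueField B ≃ₐ[ResidueField A] ResidueField B') : Nonempty (B ≃ₐ[A] B') := by
  obtain ⟨hA, hBn, hBc, hBf, hBm, hBg⟩ := hB
  obtain ⟨-, hBn', hBc', hBf', hBm', hBg'⟩ := hB'
  have hfs : EGA41.IsFormallySmoothAdic A (maximalIdeal A) B (maximalIdeal B) :=
    formallySmoothAdic_of_flat hBm
  let u : B →ₐ[A] B' ⧸ maximalIdeal B' :=
    { toRingHom := (θ : ResidueField B →+* ResidueField B').comp (residue B)
      commutes' := fun a => by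
        change θ (residue B (algebraMap A B a)) = _
        have h1 : residue B (algebraMap A B a) =
            algebraMap (ResidueField A) (ResidueField B) (residue A a) := rfl
        rw [h1, θ.commutes]
        rfl }
  have hu : ∀ b, u b = θ (residue B b) := fun b => rfl
  obtain ⟨v, -, hv⟩ := Groth.Agent.S2462.result (maximalIdeal A) (maximalIdeal B) hfs
    (C := B') hBm'.le (maximalIdeal B') (maximalIdeal.isMaximal B').ne_top u (by
      rw [Ideal.map_le_iff_le_comap]
      intro b hb
      rw [Ideal.mem_comap]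
      have : u.toRingHom b = 0 := by
        change u b = 0
        rw [hu, (residue_eq_zero_iff b).mpr hb, map_zero]
        rfl
      rw [this]
      exact zero_mem _)
  have hvu : ∀ b, Ideal.Quotient.mk (maximalIdeal B') (v b) = u b := fun b =>
    congrArg (fun g => g b) hv
  have hbij : Function.Bijective v := by
    apply bijective_of_residue hBm hBm' v
    · intro y
      obtain ⟨z, rfl⟩ := θ.surjective y
      obtain ⟨b, rfl⟩ := residue_surjective z
      exact ⟨b, hvu b⟩
    · intro x hx
      have h1 : u x = 0 := by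
        rw [← hvu]
        exact Ideal.Quotient.eq_zero_iff_mem.mpr hx
      rw [hu] at h1
      have h2 : residue B x = 0 := by
        have := θ.injective (h1.trans (map_zero θ).symm)
        exact this
      exact (residue_eq_zero_iff x).mp h2
  exact ⟨AlgEquiv.ofBijective v hbij⟩

end Unique




open IsLocalRing

theorem t2455main {A : Type u} [CommRing A] [IsLocalRing A] [IsNoetherianRing A]
    (K : Type u) [Field K] [Algebra (ResidueField A) K] [Algebra.IsGeometricallyReduced (ResidueField A) K] :
    (∃ (B : Type u) (_ : CommRing B) (_ : IsLocalRing B) (_ : Algebra A B) (_ : IsLocalHom (algebraMap A B)),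
      EGA41.IsCohenAlgebra A B ∧ Nonempty (ResidueField B ≃ₐ[ResidueField A] K)) ∧
    ∀ (B B' : Type u) [CommRing B] [IsLocalRing B] [Algebra A B] [IsLocalHom (algebraMap A B)]
      [CommRing B'] [IsLocalRing B'] [Algebra A B'] [IsLocalHom (algebraMap A B')],
      EGA41.IsCohenAlgebra A B → EGA41.IsCohenAlgebra A B' →
      Nonempty (ResidueField B ≃ₐ[ResidueField A] K) → Nonempty (ResidueField B' ≃ₐ[ResidueField A] K) →
      Nonempty (B ≃ₐ[A] B') := by
  refine ⟨exists_cohenAlgebra K, ?_⟩
  intro B B' _ _ _ _ _ _ _ _ hB hB' ⟨f⟩ ⟨f'⟩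
  exact cohenAlgebra_unique B B' hB hB' (f.trans f'.symm)

end Groth.Agent.Lib.Helper23.CohenAlg
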