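import Mathlib
import Groth.Agent.Lib.Helper23.FSmoothExist
import Groth.Agent.Lib.Helper23.Cartier
import Groth.Agent.Lib.Helper23.CohenAlg

/-!
Cohen rings (EGA 0_IV 19.8.5-19.8.6): exists_ring_section (square-zero surjections onto a field have ring sections), exists_section_of_sec / lift_step_of_sec (variants of CohenSmooth with a section hypothesis), ulift_int_ringHom_ext, formallySmoothAdic_ulift_int (Z-flat W with pW maximal is p-adically formally smooth over ULift Z), flat_int_of_charZero, prime_eq_of_mem, cohenRing_data, cohenRing_formallySmooth, bijective_of_residue' (non-local base), t2456main (lifting), charP_residueField_of_data, t2457main (uniqueness).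
-/

set_option autoImplicit false


namespace Groth.Agent.Lib.Helper23.CohenRing


universe u

open IsLocalRing Groth.Agent.Lib.Helper23

section RingSection

/-- Square-zero surjections onto a field of characteristic compatible with the source have ring
sections (formal smoothness of fields over the prime ring). -/
theorem exists_ring_section (k E : Type u) [Field k] [CommRing E] (g : E →+* k)
    (hg : Function.Surjective g) (hK2 : ∀ x y, g x = 0 → g y = 0 → x * y = 0)
    (hchar : ∀ p : ℕ, p.Prime → CharP k p → (p : E) = 0) :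
    ∃ σ : k →+* E, ∀ κ, g (σ κ) = κ := by
  have hnil : IsNilpotent (RingHom.ker g) := by
    refine ⟨2, ?_⟩
    rw [Ideal.zero_eq_bot, eq_bot_iff, pow_two, Ideal.mul_le]
    intro x hx y hy
    exact hK2 x y hx hy
  haveI : Nontrivial E := by
    refine ⟨⟨0, 1, fun h => ?_⟩⟩
    have := congrArg g h
    rw [map_zero, map_one] at this
    exact zero_ne_one this
  obtain ⟨p, hp⟩ := CharP.exists k
  rcases CharP.char_is_prime_or_zero k p with hprime | hzero
  · haveI : Fact p.Prime := ⟨hprime⟩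
    haveI : CharP E p := (CharP.charP_iff_prime_eq_zero hprime).mpr (hchar p hprime hp)
    letI : Algebra (ULift.{u} (ZMod p)) E := KeyLemma.primeAlgebra p E
    letI : Algebra (ULift.{u} (ZMod p)) k := KeyLemma.primeAlgebra p k
    haveI : CharP (ULift.{u} (ZMod p)) p :=
      (algebraMap (ULift.{u} (ZMod p)) k).charP (algebraMap (ULift.{u} (ZMod p)) k).injective p
    haveI : PerfectRing (ULift.{u} (ZMod p)) p := PerfectRing.ofFiniteOfIsReduced p _
    haveI : Algebra.FormallySmooth (ULift.{u} (ZMod p)) k :=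
      FieldSmooth.formallySmooth_of_charP p _ _
    let g' : E →ₐ[ULift.{u} (ZMod p)] k :=
      { g with
        commutes' := fun c => by
          have := FSmoothExist.ulift_zmod_ringHom_ext p (g.comp (algebraMap (ULift.{u} (ZMod p)) E))
            (algebraMap (ULift.{u} (ZMod p)) k)
          exact congrArg (fun h : ULift.{u} (ZMod p) →+* k => h c) this }
    have hg' : Function.Surjective g' := hg
    have hnil' : IsNilpotent (RingHom.ker (g' : E →+* k)) := hnil
    refine ⟨(Algebra.FormallySmooth.liftOfSurjective (AlgHom.id _ k) g' hg' hnil').toRingHom,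
      fun κ => ?_⟩
    exact Algebra.FormallySmooth.liftOfSurjective_apply (AlgHom.id _ k) g' hg' hnil' κ
  · subst hzero
    haveI : CharZero k := CharP.charP_to_charZero k
    haveI : Algebra.FormallySmooth ℤ k := Cartier.formallySmooth_int_of_charZero k
    let g' : E →ₐ[ℤ] k := g.toIntAlgHom
    have hg' : Function.Surjective g' := hg
    have hnil' : IsNilpotent (RingHom.ker (g' : E →+* k)) := hnil
    refine ⟨(Algebra.FormallySmooth.liftOfSurjective (AlgHom.id _ k) g' hg' hnil').toRingHom,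
      fun κ => ?_⟩
    exact Algebra.FormallySmooth.liftOfSurjective_apply (AlgHom.id _ k) g' hg' hnil' κ

end RingSection




open IsLocalRing Groth.Agent.Lib.Helper23 Groth.Agent.Lib.Helper23.CohenSmooth

section Section

variable {A : Type*} [CommRing A] (𝔞 : Ideal A) {B : Type*} [CommRing B] [Algebra A B]
  {E : Type*} [CommRing E] [Algebra A E] (pr : E →ₐ[A] B)

/-- Variant of `exists_section` where formal smoothness of the fibre is replaced by the existence of
sections of square-zero surjections onto it. -/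
theorem exists_section_of_sec [Module.Flat A B]
    (hpr : Function.Surjective pr)
    (hK2 : ∀ x y, pr x = 0 → pr y = 0 → x * y = 0)
    (h𝔞 : ∀ a ∈ 𝔞, ∀ x, pr x = 0 → a • x = 0)
    (hsec : ∀ g : (E ⧸ 𝔞.map (algebraMap A E)) →ₐ[A] (B ⧸ 𝔞.map (algebraMap A B)),
      Function.Surjective g → (∀ x y, g x = 0 → g y = 0 → x * y = 0) →
      ∃ σ : (B ⧸ 𝔞.map (algebraMap A B)) →ₐ[A] (E ⧸ 𝔞.map (algebraMap A E)), ∀ κ, g (σ κ) = κ) :
    ∃ s : B →ₐ[A] E, ∀ b, pr (s b) = b := by
  classical
  have hIE : (𝔞.map (algebraMap A E)).map (pr : E →+* B) = 𝔞.map (algebraMap A B) := by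
    rw [Ideal.map_map]
    congr 1
    exact pr.comp_algebraMap
  have hmem : ∀ x : E, pr x ∈ 𝔞.map (algebraMap A B) →
      ∃ x₀ ∈ 𝔞.map (algebraMap A E), pr x₀ = pr x := by
    intro x hx
    rw [← hIE] at hx
    exact (Ideal.mem_map_iff_of_surjective (pr : E →+* B) hpr).mp hx
  let g : (E ⧸ 𝔞.map (algebraMap A E)) →ₐ[A] (B ⧸ 𝔞.map (algebraMap A B)) :=
    Ideal.quotientMapₐ (𝔞.map (algebraMap A B)) pr (Ideal.le_comap_of_map_le hIE.le)
  have hgmk : ∀ x : E, g (Ideal.Quotient.mk _ x) = Ideal.Quotient.mk _ (pr x) := fun x => rfl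
  have hg : Function.Surjective g := by
    intro y
    obtain ⟨b, rfl⟩ := Ideal.Quotient.mk_surjective y
    obtain ⟨x, rfl⟩ := hpr b
    exact ⟨Ideal.Quotient.mk _ x, rfl⟩
  have hkerrep : ∀ z : E ⧸ 𝔞.map (algebraMap A E), g z = 0 →
      ∃ n : E, pr n = 0 ∧ Ideal.Quotient.mk _ n = z := by
    intro z hz
    obtain ⟨x, rfl⟩ := Ideal.Quotient.mk_surjective z
    rw [hgmk, Ideal.Quotient.eq_zero_iff_mem] at hz
    obtain ⟨x₀, hx₀, hx₀x⟩ := hmem x hz
    refine ⟨x - x₀, by rw [map_sub, hx₀x, sub_self], ?_⟩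
    rw [map_sub, (Ideal.Quotient.eq_zero_iff_mem).mpr hx₀, sub_zero]
  obtain ⟨σ, hσ⟩ := hsec g hg (by
    intro z w hz hw
    obtain ⟨n, hn, rfl⟩ := hkerrep z hz
    obtain ⟨n', hn', rfl⟩ := hkerrep w hw
    rw [← map_mul, hK2 n n' hn hn', map_zero])
  let E' : Subalgebra A E := σ.range.comap (Ideal.Quotient.mkₐ A (𝔞.map (algebraMap A E)))
  have hE' : ∀ e : E, e ∈ E' ↔ ∃ κ, σ κ = Ideal.Quotient.mk _ e := fun e => Iff.rfl
  let pr' : E' →ₐ[A] B := pr.comp E'.val
  have hbij : Function.Bijective pr' := by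
    constructor
    · rw [injective_iff_map_eq_zero]
      intro e he
      obtain ⟨κ, hκ⟩ := (hE' e.1).mp e.2
      have h1 : κ = 0 := by
        rw [← hσ κ, hκ, hgmk]
        have : pr e.1 = 0 := he
        rw [this, map_zero]
      rw [h1, map_zero] at hκ
      have h2 : e.1 ∈ 𝔞.map (algebraMap A E) := Ideal.Quotient.eq_zero_iff_mem.mp hκ.symm
      exact Subtype.ext (eq_zero_of_mem_map 𝔞 pr hpr h𝔞 h2 he)
    · intro b
      obtain ⟨z, hz⟩ := Ideal.Quotient.mk_surjective (σ (Ideal.Quotient.mk _ b))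
      have h1 : Ideal.Quotient.mk (𝔞.map (algebraMap A B)) (pr z) = Ideal.Quotient.mk _ b := by
        rw [← hgmk, hz, hσ]
      rw [Ideal.Quotient.eq] at h1
      have h2 : pr (z - (hpr b).choose) ∈ 𝔞.map (algebraMap A B) := by
        rw [map_sub, (hpr b).choose_spec]
        exact h1
      obtain ⟨x₀, hx₀, hx₀x⟩ := hmem _ h2
      refine ⟨⟨z - x₀, (hE' _).mpr ⟨Ideal.Quotient.mk _ b, ?_⟩⟩, ?_⟩
      · rw [map_sub, (Ideal.Quotient.eq_zero_iff_mem).mpr hx₀, sub_zero, hz]
      · change pr (z - x₀) = b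
        rw [map_sub, hx₀x, map_sub, (hpr b).choose_spec]
        ring
  refine ⟨E'.val.comp (AlgEquiv.ofBijective pr' hbij).symm.toAlgHom, fun b => ?_⟩
  change pr' ((AlgEquiv.ofBijective pr' hbij).symm b) = b
  exact (AlgEquiv.ofBijective pr' hbij).apply_symm_apply b

end Section

section Lift

/-- Variant of `lift_step` with a section hypothesis. -/
theorem lift_step_of_sec {A : Type*} [CommRing A] (𝔞 : Ideal A) {B : Type u} [CommRing B]
    [Algebra A B] [Module.Flat A B]
    (hsec : ∀ (E : Type u) [CommRing E] [Algebra A E]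
      (g : E →ₐ[A] (B ⧸ 𝔞.map (algebraMap A B))), (∀ a ∈ 𝔞, algebraMap A E a = 0) →
      Function.Surjective g → (∀ x y, g x = 0 → g y = 0 → x * y = 0) →
      ∃ σ : (B ⧸ 𝔞.map (algebraMap A B)) →ₐ[A] E, ∀ κ, g (σ κ) = κ)
    {C' C'' : Type u} [CommRing C'] [CommRing C''] [Algebra A C'] [Algebra A C'']
    (π : C' →ₐ[A] C'') (hπ : Function.Surjective π)
    (hK2 : ∀ x y, π x = 0 → π y = 0 → x * y = 0)
    (h𝔞 : ∀ a ∈ 𝔞, ∀ x, π x = 0 → a • x = 0)
    (u : B →ₐ[A] C'') : ∃ v : B →ₐ[A] C', ∀ b, π (v b) = u b := by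
  let E : Subalgebra A (B × C') :=
    AlgHom.equalizer (u.comp (AlgHom.fst A B C')) (π.comp (AlgHom.snd A B C'))
  have hE : ∀ e : E, u e.1.1 = π e.1.2 := fun e => e.2
  let pr : E →ₐ[A] B := (AlgHom.fst A B C').comp E.val
  have hprdef : ∀ e : E, pr e = e.1.1 := fun e => rfl
  have hpr : Function.Surjective pr := fun b => by
    obtain ⟨c, hc⟩ := hπ (u b)
    exact ⟨⟨(b, c), hc.symm⟩, rfl⟩
  have hker : ∀ e : E, pr e = 0 → e.1.1 = 0 ∧ π e.1.2 = 0 := by
    intro e he
    have h1 : e.1.1 = 0 := he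
    refine ⟨h1, ?_⟩
    rw [← hE e, h1, map_zero]
  have hK2' : ∀ x y : E, pr x = 0 → pr y = 0 → x * y = 0 := by
    intro x y hx hy
    obtain ⟨hx1, hx2⟩ := hker x hx
    obtain ⟨hy1, hy2⟩ := hker y hy
    apply Subtype.ext
    apply Prod.ext
    · change x.1.1 * y.1.1 = 0
      rw [hx1, zero_mul]
    · change x.1.2 * y.1.2 = 0
      exact hK2 _ _ hx2 hy2
  have h𝔞' : ∀ a ∈ 𝔞, ∀ x : E, pr x = 0 → a • x = 0 := by
    intro a ha x hx
    obtain ⟨hx1, hx2⟩ := hker x hx
    apply Subtype.ext
    apply Prod.ext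
    · change a • x.1.1 = 0
      rw [hx1, smul_zero]
    · change a • x.1.2 = 0
      exact h𝔞 a ha _ hx2
  obtain ⟨s, hs⟩ := exists_section_of_sec 𝔞 pr hpr hK2' h𝔞' (fun g hg hg2 =>
    hsec (E ⧸ 𝔞.map (algebraMap A E)) g (fun a ha => by
      change Ideal.Quotient.mk _ (algebraMap A E a) = 0
      exact Ideal.Quotient.eq_zero_iff_mem.mpr (Ideal.mem_map_of_mem _ ha)) hg hg2)
  refine ⟨(AlgHom.snd A B C').comp (E.val.comp s), fun b => ?_⟩
  change π (s b).1.2 = u b
  rw [← hE (s b), ← hprdef, hs]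

end Lift




open IsLocalRing Groth.Agent.Lib.Helper23

attribute [local instance] ULift.algebra'

theorem ulift_int_ringHom_ext {R : Type*} [NonAssocRing R] (f g : ULift.{u} ℤ →+* R) : f = g := by
  have h := RingHom.ext_int (f.comp (ULift.ringEquiv : ULift.{u} ℤ ≃+* ℤ).symm.toRingHom)
    (g.comp (ULift.ringEquiv : ULift.{u} ℤ ≃+* ℤ).symm.toRingHom)
  ext x
  have hx : x = (ULift.ringEquiv : ULift.{u} ℤ ≃+* ℤ).symm (ULift.ringEquiv x) :=
    (RingEquiv.symm_apply_apply _ x).symm
  rw [hx]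
  exact congrArg (fun h : ℤ →+* R => h (ULift.ringEquiv x)) h

/-- A `ℤ`-flat ring `W` with `pW` maximal is formally smooth over `ℤ` for the `p`-adic topologies
(stated over `ULift ℤ` to fit the universe of `W`). -/
theorem formallySmoothAdic_ulift_int (W : Type u) [CommRing W] [Module.Flat ℤ W] (p : ℕ)
    (hmax : (Ideal.span {(p : W)}).IsMaximal)
    (hp : ∀ q : ℕ, q.Prime → (q : W) ∈ Ideal.span {(p : W)} → q = p) :
    EGA41.IsFormallySmoothAdic (ULift.{u} ℤ) (Ideal.span {(p : ULift.{u} ℤ)}) W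
      (Ideal.span {(p : W)}) := by
  apply AdicSmooth.of_smallStep
  intro C' C'' _ _ _ _ π hπ hK2 h𝔞 hdisc u hu
  have hmap : (Ideal.span {(p : ULift.{u} ℤ)}).map (algebraMap (ULift.{u} ℤ) W) =
      Ideal.span {(p : W)} := by
    rw [Ideal.map_span, Set.image_singleton, map_natCast]
  haveI : Module.Flat (ULift.{u} ℤ) W := Module.Flat.ulift_left_iff.mpr inferInstance
  have hsec : ∀ (E : Type u) [CommRing E] [Algebra (ULift.{u} ℤ) E]
      (g : E →ₐ[ULift.{u} ℤ] (W ⧸ (Ideal.span {(p : ULift.{u} ℤ)}).map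
        (algebraMap (ULift.{u} ℤ) W))),
      (∀ a ∈ Ideal.span {(p : ULift.{u} ℤ)}, algebraMap (ULift.{u} ℤ) E a = 0) →
      Function.Surjective g → (∀ x y, g x = 0 → g y = 0 → x * y = 0) →
      ∃ σ : (W ⧸ (Ideal.span {(p : ULift.{u} ℤ)}).map (algebraMap (ULift.{u} ℤ) W))
        →ₐ[ULift.{u} ℤ] E, ∀ κ, g (σ κ) = κ := by
    intro E _ _ g h0 hg hg2
    haveI : ((Ideal.span {(p : ULift.{u} ℤ)}).map (algebraMap (ULift.{u} ℤ) W)).IsMaximal := by
      rw [hmap]; exact hmax
    letI : Field (W ⧸ (Ideal.span {(p : ULift.{u} ℤ)}).map (algebraMap (ULift.{u} ℤ) W)) :=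
      Ideal.Quotient.field _
    have hpE : (p : E) = 0 := by
      have := h0 (p : ULift.{u} ℤ) (Ideal.subset_span rfl)
      rwa [map_natCast] at this
    obtain ⟨σ, hσ⟩ := exists_ring_section
      (W ⧸ (Ideal.span {(p : ULift.{u} ℤ)}).map (algebraMap (ULift.{u} ℤ) W)) E
      (g : E →+* (W ⧸ (Ideal.span {(p : ULift.{u} ℤ)}).map (algebraMap (ULift.{u} ℤ) W)))
      hg (fun x y hx hy => hg2 x y hx hy) (by
      intro q hq hqc
      have h1 : ((q : W) : W ⧸ (Ideal.span {(p : ULift.{u} ℤ)}).map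
          (algebraMap (ULift.{u} ℤ) W)) = 0 := by
        rw [map_natCast]
        exact CharP.cast_eq_zero _ q
      rw [Ideal.Quotient.eq_zero_iff_mem, hmap] at h1
      rw [hp q hq h1]
      exact hpE)
    refine ⟨{ σ with commutes' := fun c => ?_ }, hσ⟩
    exact congrArg (fun h : ULift.{u} ℤ →+* E => h c)
      (ulift_int_ringHom_ext (σ.comp (algebraMap (ULift.{u} ℤ) _)) (algebraMap (ULift.{u} ℤ) E))
  obtain ⟨v, hv⟩ := lift_step_of_sec (Ideal.span {(p : ULift.{u} ℤ)}) (B := W) hsec π hπ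
    hK2 h𝔞 u
  refine ⟨v, hv, ?_⟩
  obtain ⟨k, hk⟩ := hdisc
  refine ⟨k, fun x hx => ?_⟩
  rw [← hmap, ← Ideal.map_pow] at hx
  have h1 : v x ∈ (((Ideal.span {(p : ULift.{u} ℤ)}) ^ k).map
      (algebraMap (ULift.{u} ℤ) W)).map (v : W →+* C') := Ideal.mem_map_of_mem _ hx
  rw [Ideal.map_map] at h1
  have h2 : (v : W →+* C').comp (algebraMap (ULift.{u} ℤ) W) = algebraMap (ULift.{u} ℤ) C' :=
    v.comp_algebraMap
  rw [h2, hk] at h1
  exact h1




open IsLocalRing Groth.Agent.Lib.Helper23


theorem flat_int_of_charZero (W : Type*) [CommRing W] [IsDomain W] [CharZero W] :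
    Module.Flat ℤ W := by
  rw [Module.Flat.flat_iff_torsion_eq_bot_of_isBezout, ← Submodule.isTorsionFree_iff_torsion_eq_bot]
  infer_instance

/-- A prime number lying in a proper ideal generated by a prime number equals it. -/
theorem prime_eq_of_mem {W : Type*} [CommRing W] {p q : ℕ} (hp : p.Prime) (hq : q.Prime)
    (hne : Ideal.span {(p : W)} ≠ ⊤) (h : (q : W) ∈ Ideal.span {(p : W)}) : q = p := by
  by_contra hqp
  have hcop : Nat.Coprime q p := (Nat.coprime_primes hq hp).mpr hqp
  have := Nat.isCoprime_iff_coprime.mpr hcop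
  obtain ⟨a, b, hab⟩ := this
  apply hne
  rw [Ideal.eq_top_iff_one]
  have h1 : ((a : W) * (q : W) + (b : W) * (p : W)) = 1 := by
    have := congrArg (Int.cast : ℤ → W) hab
    push_cast at this
    exact this
  rw [← h1]
  exact Ideal.add_mem _ (Ideal.mul_mem_left _ _ h) (Ideal.mul_mem_left _ _ (Ideal.subset_span rfl))

/-- The structure of a Cohen ring (in the sense of EGA) relative to `ℤ`. -/
theorem cohenRing_data {W : Type u} [CommRing W] [IsLocalRing W] (hW : EGA41.IsCohenRingEGA W) :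
    ∃ p : ℕ, maximalIdeal W = Ideal.span {(p : W)} ∧ IsDomain W ∧ CharZero W ∧
      IsAdicComplete (maximalIdeal W) W ∧ IsNoetherianRing W ∧
      (∀ q : ℕ, q.Prime → (q : W) ∈ Ideal.span {(p : W)} → q = p) := by
  rcases hW with ⟨hf, hc⟩ | ⟨hdom, hdvr, hcomp, p, hprime, hmaxeq⟩
  · have hbot : maximalIdeal W = ⊥ := IsLocalRing.isField_iff_maximalIdeal_eq.mp hf
    refine ⟨0, ?_, hf.isDomain, hc, ?_, ?_, ?_⟩
    · rw [hbot, Nat.cast_zero, eq_comm, Ideal.span_singleton_eq_bot]
    · rw [hbot]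
      exact IsAdicComplete.bot W
    · letI := hf.toField
      infer_instance
    · intro q hq hmem
      rw [Nat.cast_zero, Ideal.span_singleton_eq_bot.mpr rfl, Ideal.mem_bot, Nat.cast_eq_zero] at hmem
      exact absurd hmem hq.ne_zero
  · have hne : Ideal.span {(p : W)} ≠ ⊤ := by
      rw [← hmaxeq]
      exact (maximalIdeal.isMaximal W).ne_top
    have hcz : CharZero W := by
      obtain ⟨c, hc⟩ := CharP.exists W
      rcases CharP.char_is_prime_or_zero W c with hcp | hc0
      · exfalso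
        have h1 : (c : W) ∈ Ideal.span {(p : W)} := by
          rw [CharP.cast_eq_zero W c]
          exact zero_mem _
        have h2 := prime_eq_of_mem hprime hcp hne h1
        subst h2
        have h3 : maximalIdeal W = ⊥ := by
          rw [hmaxeq, CharP.cast_eq_zero W c, Ideal.span_singleton_eq_bot]
        exact IsDiscreteValuationRing.not_a_field W h3
      · subst hc0
        exact CharP.charP_to_charZero W
    exact ⟨p, hmaxeq, hdom, hcz, hcomp, inferInstance, fun q hq h => prime_eq_of_mem hprime hq hne h⟩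

theorem cohenRing_formallySmooth {W : Type u} [CommRing W] [IsLocalRing W]
    (hW : EGA41.IsCohenRingEGA W) :
    ∃ p : ℕ, maximalIdeal W = Ideal.span {(p : W)} ∧
      EGA41.IsFormallySmoothAdic (ULift.{u} ℤ) (Ideal.span {(p : ULift.{u} ℤ)}) W
        (Ideal.span {(p : W)}) := by
  obtain ⟨p, hmaxeq, hdom, hcz, -, -, hq⟩ := cohenRing_data hW
  haveI := flat_int_of_charZero W
  refine ⟨p, hmaxeq, formallySmoothAdic_ulift_int W p ?_ hq⟩
  rw [← hmaxeq]
  exact maximalIdeal.isMaximal W




open IsLocalRing Groth.Agent.Lib.Helper23 Groth.Agent.Lib.Helper23.CohenAlg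


/-- Version of `bijective_of_residue` over a not necessarily local base. -/
theorem bijective_of_residue' {A B B' : Type*} [CommRing A] (𝔞 : Ideal A) [CommRing B]
    [IsLocalRing B] [IsNoetherianRing B] [Algebra A B] [CommRing B'] [IsLocalRing B'] [Algebra A B']
    [Module.Flat A B'] [IsPrecomplete (maximalIdeal B) B] [IsHausdorff (maximalIdeal B') B']
    (hmax : 𝔞.map (algebraMap A B) = maximalIdeal B)
    (hmax' : 𝔞.map (algebraMap A B') = maximalIdeal B')
    (v : B →ₐ[A] B')
    (hsurj : Function.Surjective ((Ideal.Quotient.mk (maximalIdeal B')).comp (v : B →+* B')))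
    (hker : ∀ x, v x ∈ maximalIdeal B' → x ∈ maximalIdeal B) : Function.Bijective v := by
  have hI : (maximalIdeal B).map (v : B →+* B') = maximalIdeal B' := by
    rw [← hmax, Ideal.map_map, ← hmax']
    congr 1
    exact v.comp_algebraMap
  have hsurjv : Function.Surjective v := by
    haveI : IsHausdorff ((maximalIdeal B).map (v : B →+* B')) B' := by
      rw [hI]; infer_instance
    apply surjective_of_mk_map_comp_surjective (I := maximalIdeal B) (v : B →+* B')
    intro y
    obtain ⟨y', rfl⟩ := Ideal.Quotient.mk_surjective y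
    obtain ⟨x, hx⟩ := hsurj (Ideal.Quotient.mk _ y')
    refine ⟨x, ?_⟩
    rw [RingHom.comp_apply, Ideal.Quotient.eq, hI]
    exact Ideal.Quotient.eq.mp hx
  refine ⟨?_, hsurjv⟩
  have hN : RingHom.ker (v : B →+* B') = ⊥ := by
    apply Submodule.eq_bot_of_le_smul_of_le_jacobson_bot (maximalIdeal B) _
      (IsNoetherian.noetherian _) _ (maximalIdeal_le_jacobson _)
    intro x hx
    have hx0 : v x = 0 := hx
    have hxm : x ∈ maximalIdeal B := hker x (by rw [hx0]; exact zero_mem _)
    have h1 : x ∈ (𝔞 • ⊤ : Submodule A B) := by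
      rw [← hmax] at hxm
      have := (Ideal.smul_top_eq_map (R := A) (S := B) 𝔞)
      rw [← Submodule.restrictScalars_mem A, ← this] at hxm
      exact hxm
    have h2 := mem_smul_ker_of_flat 𝔞 v.toLinearMap hsurjv h1 hx0
    refine Submodule.smul_induction_on h2 ?_ ?_
    · intro a ha n hn
      rw [← algebraMap_smul B a n]
      refine Submodule.smul_mem_smul ?_ hn
      rw [← hmax]
      exact Ideal.mem_map_of_mem _ ha
    · intro y z hy hz
      exact Submodule.add_mem _ hy hz
  exact (RingHom.injective_iff_ker_eq_bot (v : B →+* B')).mpr hN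

/-- **Lifting property of Cohen rings** (EGA 0_IV 19.8.6 (i)). -/
theorem t2456main {W C : Type u} [CommRing W] [IsLocalRing W] (hW : EGA41.IsCohenRingEGA W)
    [CommRing C] [IsLocalRing C] [IsNoetherianRing C] [IsAdicComplete (maximalIdeal C) C]
    (J : Ideal C) (hJ : J ≠ ⊤) [IsLocalRing (C ⧸ J)] (u : W →+* C ⧸ J) [IsLocalHom u] :
    ∃ v : W →+* C, IsLocalHom v ∧ (Ideal.Quotient.mk J).comp v = u := by
  obtain ⟨p, hmaxeq, hfs⟩ := cohenRing_formallySmooth hW
  have hpW : (p : W) ∈ maximalIdeal W := by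
    rw [hmaxeq]; exact Ideal.subset_span rfl
  have hpCJ : ¬ IsUnit ((p : C ⧸ J)) := by
    intro h
    have h1 : IsUnit (u (p : W)) := by rwa [map_natCast]
    exact (IsLocalRing.mem_maximalIdeal _).mp hpW (IsLocalHom.map_nonunit _ h1)
  have hpC : (p : C) ∈ maximalIdeal C := by
    rw [IsLocalRing.mem_maximalIdeal]
    intro h
    apply hpCJ
    have := h.map (Ideal.Quotient.mk J)
    rwa [map_natCast] at this
  let u' : W →ₐ[ULift.{u} ℤ] C ⧸ J :=
    { u with
      commutes' := fun c => congrArg (fun h : ULift.{u} ℤ →+* C ⧸ J => h c)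
        (ulift_int_ringHom_ext (u.comp (algebraMap (ULift.{u} ℤ) W))
          (algebraMap (ULift.{u} ℤ) (C ⧸ J))) }
  have hu' : ∀ x, u' x = u x := fun x => rfl
  obtain ⟨v, -, hv⟩ := Groth.Agent.S2462.result (Ideal.span {(p : ULift.{u} ℤ)})
    (Ideal.span {(p : W)}) hfs (C := C) (by
      rw [Ideal.map_span, Set.image_singleton, map_natCast, Ideal.span_le,
        Set.singleton_subset_iff]
      exact hpC) J hJ u' (by
      rw [Ideal.map_span, Set.image_singleton, Ideal.span_le, Set.singleton_subset_iff]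
      have : u'.toRingHom (p : W) = Ideal.Quotient.mk J (p : C) := by
        change u (p : W) = _
        rw [map_natCast, map_natCast]
      rw [this]
      exact Ideal.mem_map_of_mem _ hpC)
  have hvu : ∀ x, Ideal.Quotient.mk J (v x) = u x := fun x => congrArg (fun g => g x) hv
  refine ⟨v.toRingHom, ⟨fun a ha => ?_⟩, RingHom.ext hvu⟩
  have h1 : IsUnit (u a) := by
    rw [← hvu]
    exact ha.map (Ideal.Quotient.mk J)
  exact IsLocalHom.map_nonunit _ h1




open IsLocalRing Groth.Agent.Lib.Helper23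


/-- The number `p` attached to a Cohen ring is the residue characteristic. -/
theorem charP_residueField_of_data {W : Type u} [CommRing W] [IsLocalRing W] {p : ℕ}
    (hmaxeq : maximalIdeal W = Ideal.span {(p : W)}) [CharZero W]
    (hq : ∀ q : ℕ, q.Prime → (q : W) ∈ Ideal.span {(p : W)} → q = p) :
    CharP (ResidueField W) p := by
  obtain ⟨c, hc⟩ := CharP.exists (ResidueField W)
  have h1 : (c : W) ∈ Ideal.span {(p : W)} := by
    rw [← hmaxeq, ← residue_eq_zero_iff, map_natCast]
    exact CharP.cast_eq_zero _ c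
  have hp0 : ((p : ℕ) : ResidueField W) = 0 := by
    rw [← map_natCast (residue W), residue_eq_zero_iff, hmaxeq]
    exact Ideal.subset_span rfl
  rcases CharP.char_is_prime_or_zero (ResidueField W) c with hcp | hc0
  · rw [← hq c hcp h1]
    exact hc
  · subst hc0
    haveI : CharZero (ResidueField W) := CharP.charP_to_charZero _
    have : p = 0 := by exact_mod_cast hp0
    rw [this]
    exact hc

/-- **Uniqueness of Cohen rings** (EGA 0_IV 19.8.6 (ii)). -/
theorem t2457main {W W' : Type u} [CommRing W] [IsLocalRing W] [CommRing W'] [IsLocalRing W']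
    (hW : EGA41.IsCohenRingEGA W) (hW' : EGA41.IsCohenRingEGA W')
    (u : ResidueField W ≃+* ResidueField W') :
    ∃ v : W ≃+* W', ∀ x : W, residue W' (v x) = u (residue W x) := by
  obtain ⟨p, hmaxeq, hdom, hcz, hcomp, hnoeth, hq⟩ := cohenRing_data hW
  obtain ⟨p', hmaxeq', hdom', hcz', hcomp', hnoeth', hq'⟩ := cohenRing_data hW'
  have hpp' : p = p' := by
    haveI h1 := charP_residueField_of_data hmaxeq hq
    haveI h2 := charP_residueField_of_data hmaxeq' hq'
    haveI h3 : CharP (ResidueField W') p := charP_of_injective_ringHom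
      (f := (u : ResidueField W →+* ResidueField W')) u.injective p
    exact CharP.eq (ResidueField W') h3 h2
  subst hpp'
  haveI : IsLocalRing (W' ⧸ maximalIdeal W') := inferInstanceAs (IsLocalRing (ResidueField W'))
  let u₀ : W →+* W' ⧸ maximalIdeal W' := (u : ResidueField W →+* ResidueField W').comp (residue W)
  have hu₀ : ∀ x, u₀ x = u (residue W x) := fun x => rfl
  haveI : IsLocalHom u₀ := by
    refine ⟨fun a ha => ?_⟩
    by_contra hna
    have h1 : residue W a = 0 := (residue_eq_zero_iff a).mpr ((IsLocalRing.mem_maximalIdeal a).mpr hna)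
    rw [hu₀, h1, map_zero] at ha
    exact not_isUnit_zero ha
  obtain ⟨v, hvloc, hv⟩ := t2456main hW (C := W') (maximalIdeal W')
    (maximalIdeal.isMaximal W').ne_top u₀
  have hvu : ∀ x, Ideal.Quotient.mk (maximalIdeal W') (v x) = u (residue W x) := fun x =>
    congrArg (fun g => g x) hv
  haveI := flat_int_of_charZero W'
  haveI : Module.Flat (ULift.{u} ℤ) W' := Module.Flat.ulift_left_iff.mpr inferInstance
  let v' : W →ₐ[ULift.{u} ℤ] W' :=
    { v with
      commutes' := fun c => congrArg (fun h : ULift.{u} ℤ →+* W' => h c)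
        (ulift_int_ringHom_ext (v.comp (algebraMap (ULift.{u} ℤ) W))
          (algebraMap (ULift.{u} ℤ) W')) }
  have hbij : Function.Bijective v' := by
    apply bijective_of_residue' (Ideal.span {(p : ULift.{u} ℤ)}) ?_ ?_ v'
    · intro y
      obtain ⟨z, rfl⟩ := u.surjective y
      obtain ⟨b, rfl⟩ := residue_surjective z
      exact ⟨b, hvu b⟩
    · intro x hx
      have h1 : u (residue W x) = 0 := by
        rw [← hvu]
        exact Ideal.Quotient.eq_zero_iff_mem.mpr hx
      have h2 : residue W x = 0 := u.injective (h1.trans (map_zero u).symm)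
      exact (residue_eq_zero_iff x).mp h2
    · rw [Ideal.map_span, Set.image_singleton, map_natCast, hmaxeq]
    · rw [Ideal.map_span, Set.image_singleton, map_natCast, hmaxeq']
  refine ⟨RingEquiv.ofBijective v hbij, fun x => ?_⟩
  exact hvu x

end Groth.Agent.Lib.Helper23.CohenRing
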