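import Mathlib
import Groth.Agent.Lib.Helper23.CohenRing

/-!
Existence of Cohen rings (EGA 0_IV 19.8.6) and Artinian quotients (19.8.7): exists_unit_mul_pow, isDomain_of_principal, isDiscreteValuationRing_of_principal, ker_ulift_int, exists_base, exists_cohenRing (Cohen ring with prescribed residue field), isAdicComplete_of_pow_eq_bot', isLocalRing_of_cohenRing, isLocalHom_of_surjective, t2459main.
-/

set_option autoImplicit false


namespace Groth.Agent.Lib.Helper23.CohenRingExist


universe u

open IsLocalRing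

section DVR

variable {W : Type*} [CommRing W] [IsLocalRing W] [IsNoetherianRing W] {π : W}

theorem exists_unit_mul_pow (hmax : maximalIdeal W = Ideal.span {π}) {x : W} (hx : x ≠ 0) :
    ∃ (n : ℕ) (w : W), IsUnit w ∧ x = w * π ^ n := by
  classical
  have hinf := Ideal.iInf_pow_eq_bot_of_isLocalRing (maximalIdeal W)
    (maximalIdeal.isMaximal W).ne_top
  have hex : ∃ i, x ∉ maximalIdeal W ^ i := by
    by_contra hall
    push_neg at hall
    apply hx
    have : x ∈ ⨅ i, maximalIdeal W ^ i := by
      rw [Ideal.mem_iInf]; exact hall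
    rwa [hinf] at this
  let i := Nat.find hex
  have hi : x ∉ maximalIdeal W ^ i := Nat.find_spec hex
  have hi0 : i ≠ 0 := by
    intro h0
    rw [h0, pow_zero, Ideal.one_eq_top] at hi
    exact hi trivial
  obtain ⟨n, hn⟩ := Nat.exists_eq_succ_of_ne_zero hi0
  have hxn : x ∈ maximalIdeal W ^ n := by
    by_contra hcon
    have := Nat.find_min' hex hcon
    omega
  rw [hmax, Ideal.span_singleton_pow, Ideal.mem_span_singleton'] at hxn
  obtain ⟨w, hw⟩ := hxn
  refine ⟨n, w, ?_, hw.symm⟩
  by_contra hwu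
  have hwm : w ∈ maximalIdeal W := (IsLocalRing.mem_maximalIdeal w).mpr hwu
  rw [hmax, Ideal.mem_span_singleton'] at hwm
  obtain ⟨w', hw'⟩ := hwm
  apply hi
  rw [hn, hmax, Ideal.span_singleton_pow, Ideal.mem_span_singleton']
  refine ⟨w', ?_⟩
  rw [← hw, ← hw', pow_succ]
  ring

theorem isDomain_of_principal (hmax : maximalIdeal W = Ideal.span {π}) (hreg : IsSMulRegular W π) :
    IsDomain W := by
  have hnzd : NoZeroDivisors W := by
    refine ⟨fun {x y} hxy => ?_⟩
    by_contra hcon
    push_neg at hcon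
    obtain ⟨a, u, hu, rfl⟩ := exists_unit_mul_pow hmax hcon.1
    obtain ⟨b, v, hv, rfl⟩ := exists_unit_mul_pow hmax hcon.2
    have h1 : π ^ (a + b) * 1 = 0 := by
      have h2 : (u * v) * (π ^ (a + b)) = 0 := by
        rw [← hxy, pow_add]; ring
      have := (hu.mul hv).mul_right_eq_zero.mp h2
      rw [mul_one]; exact this
    have h3 : (1 : W) = 0 := by
      have hr : IsSMulRegular W (π ^ (a + b)) := hreg.pow _
      apply hr
      change π ^ (a + b) * 1 = π ^ (a + b) * 0
      rw [h1, mul_zero]
    exact one_ne_zero h3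
  exact NoZeroDivisors.to_isDomain W

theorem isDiscreteValuationRing_of_principal [IsDomain W]
    (hmax : maximalIdeal W = Ideal.span {π}) (hπ : π ≠ 0) : IsDiscreteValuationRing W := by
  have hnf : ¬ IsField W := by
    rw [IsLocalRing.isField_iff_maximalIdeal_eq, hmax, Ideal.span_singleton_eq_bot]
    exact hπ
  have hprinc : (maximalIdeal W).IsPrincipal := ⟨⟨π, hmax⟩⟩
  exact ((IsDiscreteValuationRing.TFAE W hnf).out 0 4).mpr hprinc

end DVR




open IsLocalRing Groth.Agent.Lib.Helper23

attribute [local instance] ULift.algebra'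

section Exist

theorem ker_ulift_int (k : Type*) [Ring k] (p : ℕ) [CharP k p] :
    RingHom.ker (algebraMap (ULift.{u} ℤ) k) = Ideal.span {(p : ULift.{u} ℤ)} := by
  ext x
  rw [RingHom.mem_ker, Ideal.mem_span_singleton]
  have h1 : algebraMap (ULift.{u} ℤ) k x = ((x.down : ℤ) : k) := by
    rw [ULift.algebraMap_apply']
    rfl
  rw [h1, CharP.intCast_eq_zero_iff k p]
  constructor
  · rintro ⟨c, hc⟩
    refine ⟨ULift.up c, ?_⟩
    apply ULift.ext
    simpa using hc
  · rintro ⟨c, hc⟩
    refine ⟨c.down, ?_⟩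
    have := congrArg ULift.down hc
    simpa using this

/-- Localizing a Noetherian domain mapping to a field at the kernel. -/
theorem exists_base (Λ : Type u) [CommRing Λ] [IsDomain Λ] [hΛn : IsNoetherianRing Λ] (k : Type u)
    [Field k] [Algebra Λ k] :
    ∃ (R₀ : Type u) (_ : CommRing R₀) (_ : IsLocalRing R₀) (_ : IsNoetherianRing R₀)
      (_ : IsDomain R₀) (_ : Algebra Λ R₀) (ψ₀ : R₀ →+* k), IsLocalHom ψ₀ ∧
      (∀ f, ψ₀ (algebraMap Λ R₀ f) = algebraMap Λ k f) ∧
      (RingHom.ker (algebraMap Λ k)).map (algebraMap Λ R₀) = maximalIdeal R₀ ∧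
      Function.Injective (algebraMap Λ R₀) := by
  haveI hprime : (RingHom.ker (algebraMap Λ k)).IsPrime := RingHom.ker_isPrime _
  haveI : IsNoetherianRing (Localization.AtPrime (RingHom.ker (algebraMap Λ k))) :=
    IsLocalization.isNoetherianRing (RingHom.ker (algebraMap Λ k)).primeCompl _ hΛn
  have hunit : ∀ y : (RingHom.ker (algebraMap Λ k)).primeCompl, IsUnit (algebraMap Λ k y) := by
    intro y
    rw [isUnit_iff_ne_zero]
    intro h0
    exact y.2 (RingHom.mem_ker.mpr h0)
  let ψ₀ : Localization.AtPrime (RingHom.ker (algebraMap Λ k)) →+* k :=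
    IsLocalization.lift (M := (RingHom.ker (algebraMap Λ k)).primeCompl) (g := algebraMap Λ k) hunit
  have hψ₀ : ∀ f, ψ₀ (algebraMap Λ _ f) = algebraMap Λ k f := fun f => IsLocalization.lift_eq _ f
  have hmaxeq : (RingHom.ker (algebraMap Λ k)).map (algebraMap Λ
      (Localization.AtPrime (RingHom.ker (algebraMap Λ k)))) = maximalIdeal _ :=
    IsLocalization.AtPrime.map_eq_maximalIdeal _ _
  have hkerψ₀ : maximalIdeal (Localization.AtPrime (RingHom.ker (algebraMap Λ k))) ≤
      RingHom.ker ψ₀ := by
    rw [← hmaxeq, Ideal.map_le_iff_le_comap]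
    intro f hf
    rw [Ideal.mem_comap, RingHom.mem_ker, hψ₀]
    exact RingHom.mem_ker.mp hf
  have hlocψ₀ : IsLocalHom ψ₀ := by
    refine ⟨fun a ha => ?_⟩
    by_contra hna
    have h1 : a ∈ maximalIdeal _ := (IsLocalRing.mem_maximalIdeal a).mpr hna
    have h2 := RingHom.mem_ker.mp (hkerψ₀ h1)
    rw [h2] at ha
    exact not_isUnit_zero ha
  exact ⟨Localization.AtPrime (RingHom.ker (algebraMap Λ k)), inferInstance, inferInstance,
    inferInstance, IsLocalization.isDomain_of_local_atPrime hprime, inferInstance, ψ₀,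
    hlocψ₀, hψ₀, hmaxeq,
    IsLocalization.injective _
      (Ideal.primeCompl_le_nonZeroDivisors (RingHom.ker (algebraMap Λ k)))⟩

/-- **Existence of Cohen rings** with prescribed residue field. -/
theorem exists_cohenRing (k : Type u) [Field k] :
    ∃ (W : Type u) (_ : CommRing W) (_ : IsLocalRing W), EGA41.IsCohenRingEGA W ∧
      IsNoetherianRing W ∧ IsAdicComplete (maximalIdeal W) W ∧
      Nonempty (ResidueField W ≃+* k) := by
  classical
  haveI : IsDomain (ULift.{u} ℤ) := (ULift.ringEquiv : ULift.{u} ℤ ≃+* ℤ).toMulEquiv.isDomain ℤ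
  haveI hΛn : IsNoetherianRing (ULift.{u} ℤ) :=
    isNoetherianRing_of_ringEquiv ℤ (ULift.ringEquiv : ULift.{u} ℤ ≃+* ℤ).symm
  obtain ⟨R₀, _, _, _, _, _, ψ₀, hlocψ₀, hψ₀, hmaxeq, hinj⟩ := exists_base (ULift.{u} ℤ) k
  letI : Algebra (ResidueField R₀) k := (ResidueField.lift ψ₀).toAlgebra
  obtain ⟨W, _, _, hloc, hnoeth, hcomp, hlh, hflat, e, he⟩ :=
    CohenAlg.exists_complete_gonflement (A := R₀) k
  have hmaxW : (maximalIdeal R₀).map (algebraMap R₀ W) = maximalIdeal W :=
    Gonflement2.map_eq_maximalIdeal_of_equiv e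
  obtain ⟨p, hp⟩ := CharP.exists k
  have hmaxWp : maximalIdeal W = Ideal.span {(p : W)} := by
    rw [← hmaxW, ← hmaxeq, ker_ulift_int k p, Ideal.map_span, Set.image_singleton, map_natCast,
      Ideal.map_span, Set.image_singleton, map_natCast]
  let f : ResidueField W ≃+* k := (Ideal.quotEquivOfEq hmaxW.symm).trans e
  refine ⟨W, inferInstance, hloc, ?_, hnoeth, hcomp, ⟨f⟩⟩
  rcases CharP.char_is_prime_or_zero k p with hprime | hzero
  · right
    have hpΛ : (p : ULift.{u} ℤ) ≠ 0 := by
      intro h0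
      have := congrArg ULift.down h0
      simp at this
      exact hprime.ne_zero this
    have hpR₀ : (p : R₀) ≠ 0 := by
      intro h0
      apply hpΛ
      apply hinj
      rw [map_natCast, h0, map_zero]
    have hreg : IsSMulRegular W (p : W) := by
      have h1 : IsSMulRegular W (p : R₀) :=
        Module.Flat.isSMulRegular_of_isRegular (isRegular_of_ne_zero hpR₀)
      intro x y hxy
      apply h1
      change (p : R₀) • x = (p : R₀) • y
      rw [Algebra.smul_def, Algebra.smul_def, map_natCast]
      exact hxy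
    haveI hdom : IsDomain W := isDomain_of_principal hmaxWp hreg
    have hpW : (p : W) ≠ 0 := by
      intro h0
      have := hreg (show (p : W) • (1 : W) = (p : W) • (0 : W) by rw [h0]; simp)
      exact one_ne_zero this
    exact ⟨hdom, isDiscreteValuationRing_of_principal hmaxWp hpW, hcomp, p, hprime, hmaxWp⟩
  · left
    subst hzero
    have hbot : maximalIdeal W = ⊥ := by
      rw [hmaxWp, Nat.cast_zero, Ideal.span_singleton_eq_bot]
    refine ⟨IsLocalRing.isField_iff_maximalIdeal_eq.mpr hbot, ?_⟩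
    haveI : CharZero k := CharP.charP_to_charZero k
    apply charZero_of_inj_zero
    intro n hn
    have h1 : ((n : ResidueField W)) = 0 := by
      rw [← map_natCast (residue W), hn, map_zero]
    have h2 := congrArg f h1
    rw [map_natCast, map_zero] at h2
    exact_mod_cast h2

end Exist





section Main

theorem isAdicComplete_of_pow_eq_bot' {A : Type*} [CommRing A] (K : Ideal A) (N : ℕ)
    (hK : K ^ N = ⊥) : IsAdicComplete K A := by
  have hbot : (K ^ N • ⊤ : Submodule A A) = ⊥ := by rw [hK, Submodule.bot_smul]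
  refine { toIsHausdorff := ⟨fun x hx => ?_⟩, toIsPrecomplete := ⟨fun f hf => ⟨f N, fun n => ?_⟩⟩ }
  · have := hx N
    rw [SModEq.zero, hbot, Submodule.mem_bot] at this
    exact this
  · rcases le_total n N with h | h
    · exact hf h
    · have := hf h
      rw [SModEq.sub_mem, hbot, Submodule.mem_bot, sub_eq_zero] at this
      rw [this]

theorem isLocalRing_of_cohenRing {W : Type u} [CommRing W] (hW : EGA41.IsCohenRingEGA W) :
    IsLocalRing W := by
  rcases hW with ⟨hf, -⟩ | ⟨hdom, hdvr, -⟩
  · letI := hf.toField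
    infer_instance
  · infer_instance

theorem isLocalHom_of_surjective {W A : Type*} [CommRing W] [IsLocalRing W] [CommRing A]
    [Nontrivial A] (φ : W →+* A) (hφ : Function.Surjective φ) : IsLocalHom φ := by
  refine ⟨fun a ha => ?_⟩
  by_contra hna
  obtain ⟨b', hb'⟩ := ha.exists_right_inv
  obtain ⟨b, rfl⟩ := hφ b'
  have h1 : (1 - a * b) ∈ RingHom.ker φ := by
    rw [RingHom.mem_ker, map_sub, map_one, map_mul, hb', sub_self]
  have hker : RingHom.ker φ ≤ maximalIdeal W :=
    IsLocalRing.le_maximalIdeal (RingHom.ker_ne_top φ)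
  have h2 : a * b ∈ maximalIdeal W :=
    Ideal.mul_mem_right _ _ ((IsLocalRing.mem_maximalIdeal a).mpr hna)
  have h3 : (1 : W) ∈ maximalIdeal W := by
    have := Ideal.add_mem _ (hker h1) h2
    simpa using this
  exact (maximalIdeal.isMaximal W).ne_top ((Ideal.eq_top_iff_one _).mpr h3)

theorem t2459main {A : Type u} [CommRing A] [IsLocalRing A] [IsArtinianRing A]
    (p : ℕ) [hpA : CharP (ResidueField A) p] :
    (∃ (W : Type u) (_ : CommRing W) (I : Ideal W), EGA41.IsCohenRingEGA W ∧
      Nonempty (A ≃+* W ⧸ I)) ↔ maximalIdeal A = Ideal.span {(p : A)} := by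
  constructor
  · rintro ⟨W, _, I, hW, ⟨e⟩⟩
    haveI := isLocalRing_of_cohenRing hW
    obtain ⟨q, hmaxeq, hdom, hcz, hcomp, hnoeth, hq⟩ := CohenRing.cohenRing_data hW
    let φ : W →+* A := (e.symm : W ⧸ I →+* A).comp (Ideal.Quotient.mk I)
    have hφ : Function.Surjective φ :=
      e.symm.surjective.comp Ideal.Quotient.mk_surjective
    haveI hloc : IsLocalHom φ := isLocalHom_of_surjective φ hφ
    haveI h1 : CharP (ResidueField W) q := CohenRing.charP_residueField_of_data hmaxeq hq
    haveI h2 : CharP (ResidueField A) q := charP_of_injective_ringHom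
      (f := IsLocalRing.ResidueField.map φ) (IsLocalRing.ResidueField.map φ).injective q
    have hqp : q = p := CharP.eq (ResidueField A) h2 hpA
    subst hqp
    apply le_antisymm
    · intro a ha
      obtain ⟨w, rfl⟩ := hφ a
      have hw : w ∈ maximalIdeal W := by
        rw [IsLocalRing.mem_maximalIdeal] at ha ⊢
        intro hu
        exact ha (hu.map φ)
      rw [hmaxeq, Ideal.mem_span_singleton'] at hw
      obtain ⟨w', rfl⟩ := hw
      rw [map_mul, map_natCast]
      exact Ideal.mul_mem_left _ _ (Ideal.subset_span rfl)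
    · rw [Ideal.span_le, Set.singleton_subset_iff, SetLike.mem_coe,
        IsLocalRing.mem_maximalIdeal]
      intro hu
      have h3 : IsUnit (φ (q : W)) := by rwa [map_natCast]
      have h4 : IsUnit (q : W) := IsLocalHom.map_nonunit _ h3
      have h5 : (q : W) ∈ maximalIdeal W := by
        rw [hmaxeq]; exact Ideal.subset_span rfl
      exact (IsLocalRing.mem_maximalIdeal _).mp h5 h4
  · intro hmaxA
    obtain ⟨W, _, _, hW, hnoeth, hcomp, ⟨f⟩⟩ := exists_cohenRing (ResidueField A)
    obtain ⟨N, hN⟩ : ∃ N, maximalIdeal A ^ N = ⊥ := by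
      have := IsArtinianRing.isNilpotent_jacobson_bot (R := A)
      rw [IsLocalRing.jacobson_eq_maximalIdeal ⊥ bot_ne_top] at this
      obtain ⟨N, hN⟩ := this
      exact ⟨N, hN⟩
    haveI : IsAdicComplete (maximalIdeal A) A := isAdicComplete_of_pow_eq_bot' _ N hN
    haveI : IsLocalRing (A ⧸ maximalIdeal A) := inferInstanceAs (IsLocalRing (ResidueField A))
    let u₀ : W →+* A ⧸ maximalIdeal A :=
      (f : ResidueField W →+* ResidueField A).comp (residue W)
    have hu₀ : ∀ x, u₀ x = f (residue W x) := fun x => rfl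
    haveI : IsLocalHom u₀ := by
      refine ⟨fun a ha => ?_⟩
      by_contra hna
      have h1 : residue W a = 0 :=
        (residue_eq_zero_iff a).mpr ((IsLocalRing.mem_maximalIdeal a).mpr hna)
      rw [hu₀, h1, map_zero] at ha
      exact not_isUnit_zero ha
    obtain ⟨v, hvloc, hv⟩ := CohenRing.t2456main hW (C := A) (maximalIdeal A)
      (maximalIdeal.isMaximal A).ne_top u₀
    have hvu : ∀ x, Ideal.Quotient.mk (maximalIdeal A) (v x) = f (residue W x) := fun x =>
      congrArg (fun g => g x) hv
    -- surjectivity of v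
    have hstep : ∀ a : A, ∃ w : W, ∃ c : A, a = v w + (p : A) * c := by
      intro a
      obtain ⟨z, hz⟩ := f.surjective (Ideal.Quotient.mk (maximalIdeal A) a)
      obtain ⟨w, rfl⟩ := residue_surjective z
      have h1 : a - v w ∈ maximalIdeal A := by
        rw [← Ideal.Quotient.eq, hvu, hz]
      rw [hmaxA, Ideal.mem_span_singleton'] at h1
      obtain ⟨c, hc⟩ := h1
      refine ⟨w, c, ?_⟩
      rw [mul_comm, hc]; ring
    have hind : ∀ n : ℕ, ∀ a : A, ∃ w : W, ∃ c : A, a = v w + (p : A) ^ n * c := by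
      intro n
      induction n with
      | zero => intro a; exact ⟨0, a, by simp⟩
      | succ n ih =>
        intro a
        obtain ⟨w, c, hc⟩ := ih a
        obtain ⟨w', c', hc'⟩ := hstep c
        refine ⟨w + (p : W) ^ n * w', c', ?_⟩
        rw [hc, hc', map_add, map_mul, map_pow, map_natCast, pow_succ]
        ring
    have hpN : (p : A) ^ N = 0 := by
      have : (p : A) ^ N ∈ maximalIdeal A ^ N :=
        Ideal.pow_mem_pow (by rw [hmaxA]; exact Ideal.subset_span rfl) N
      rwa [hN, Ideal.mem_bot] at this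
    have hsurj : Function.Surjective v := by
      intro a
      obtain ⟨w, c, hc⟩ := hind N a
      exact ⟨w, by rw [hc, hpN, zero_mul, add_zero]⟩
    exact ⟨W, inferInstance, RingHom.ker v, hW,
      ⟨(RingHom.quotientKerEquivOfSurjective hsurj).symm⟩⟩

end Main

end Groth.Agent.Lib.Helper23.CohenRingExist
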