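import Mathlib
import Groth.Agent.Lib27.Sch.LocalCore
import Groth.Agent.Lib.Helper18.CMOpen
import Groth.Agent.Lib.Helper18.FTCM
import Groth.Agent.Lib.Helper18.FibBridge
import Groth.Agent.Lib.Helper18.CM4
import Groth.Agent.Lib.Helper18.PMor
import Groth.Agent.Lib.Helper16.Depth
import Groth.Agent.Lib27.Flat.SliceCore
import Groth.Agent.Lib.Helper18.FlI
import Groth.Agent.Lib.Helper21.FibDimR2
import Groth.Agent.Lib.Helper4.UnivInj

/-!
# Quasi-finite flat quasi-sections (helper23)

A faithfully flat finitely presented ring map `R → S` is dominated by a quasi-finite, faithfully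
flat, finitely presented `R`-algebra `S'` (with an `R`-algebra map `S → S'`).

Method: at a Cohen–Macaulay closed point `q` of a fibre pick a maximal regular sequence of the
local ring of the fibre; the quotient of `B_q` by lifts stays `A`-flat (`flat_quot_ofList`, via
helper27's `fibInj`) and is quasi-finite at `q`; spread out by openness of the flat locus and
Zariski's main theorem; glue finitely many by compactness.

Main results: `flat_quot_ofList`, `exists_prime_regSeq`, `quasiFiniteAt_of_isMax_isMin`,
`quasiFiniteAt_quot`, `exists_flat_quasiFinite_local`, `finitePresentation_prod`,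
`quasiFinite_prod`, `good_univ`, `exists_quasiFinite_faithfullyFlat`.
-/

set_option autoImplicit false
set_option linter.style.haveILetI false
set_option linter.unusedSectionVars false
universe u
open TensorProduct Function Pointwise
open TensorProduct Function

namespace Groth.Agent.Lib.Helper23.QFFlat


open Groth.Agent.Lib27.LocalCore

section RS

variable {A : Type u} [CommRing A] {B : Type u} [CommRing B] [Algebra A B] (q : Ideal B) [q.IsPrime]
  (Bq : Type u) [CommRing Bq] [Algebra B Bq] [Algebra A Bq] [IsScalarTower A B Bq]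
  [IsLocalization.AtPrime Bq q]

/-- `(N/S)/(h) ≃ (N/(h))/S` for `S = I N`. -/
noncomputable def quotQuotSwap {P : Type*} [CommRing P] (I : Ideal P) (h : P) (N : Type*)
    [AddCommGroup N] [Module P N] :
    QuotSMulTop h (N ⧸ I • (⊤ : Submodule P N)) ≃ₗ[P]
      (QuotSMulTop h N) ⧸ I • (⊤ : Submodule P (QuotSMulTop h N)) := by
  set S₁ : Submodule P N := I • ⊤ with hS₁
  set T₁ : Submodule P N := h • ⊤ with hT₁
  have h1 : (h • (⊤ : Submodule P (N ⧸ S₁))) = T₁.map S₁.mkQ := by
    rw [hT₁, Submodule.map_pointwise_smul, Submodule.map_top, Submodule.range_mkQ]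
  have h2 : (I • (⊤ : Submodule P (N ⧸ T₁))) = S₁.map T₁.mkQ := by
    rw [hS₁, Submodule.map_smul'', Submodule.map_top, Submodule.range_mkQ]
  have e5 : ((N ⧸ T₁) ⧸ S₁.map T₁.mkQ) ≃ₗ[P]
      (QuotSMulTop h N) ⧸ I • (⊤ : Submodule P (QuotSMulTop h N)) :=
    Submodule.quotEquivOfEq _ _ h2.symm
  have e1 : QuotSMulTop h (N ⧸ S₁) ≃ₗ[P] ((N ⧸ S₁) ⧸ T₁.map S₁.mkQ) :=
    Submodule.quotEquivOfEq _ _ h1
  exact e1.trans
    ((Submodule.quotientQuotientEquivQuotientSup S₁ T₁).trans
      ((Submodule.quotEquivOfEq _ _ (sup_comm S₁ T₁)).trans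
        ((Submodule.quotientQuotientEquivQuotientSup T₁ S₁).symm.trans e5)))

variable [Algebra.FinitePresentation A B]

/-- **Regular sequences on the fibre cut out flat quotients** (non-Noetherian, essentially
finitely presented local form). -/
theorem flat_quot_ofList (hs : List Bq) :
    ∀ (N : Type u) [AddCommGroup N] [Module Bq N] [Module A N] [IsScalarTower A Bq N]
      [Module.FinitePresentation Bq N] [Module.Flat A N],
      RingTheory.Sequence.IsWeaklyRegular
        (N ⧸ (fibIdeal (A := A) q Bq) • (⊤ : Submodule Bq N)) hs →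
      Module.Flat A (N ⧸ Ideal.ofList hs • (⊤ : Submodule Bq N)) := by
  induction hs with
  | nil =>
    intro N _ _ _ _ _ _ _
    have h0 : (Ideal.ofList ([] : List Bq) • (⊤ : Submodule Bq N)) = ⊥ := by
      rw [Ideal.ofList_nil, Submodule.bot_smul]
    exact Module.Flat.of_linearEquiv ((Submodule.quotEquivOfEqBot _ h0).restrictScalars A)
  | cons h t ih =>
    intro N _ _ _ _ _ _ hreg
    rw [RingTheory.Sequence.isWeaklyRegular_cons_iff] at hreg
    obtain ⟨hreg1, hrest⟩ := hreg
    set I' := fibIdeal (A := A) q Bq with hI'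
    obtain ⟨uu, huu⟩ : ∃ uu : N →ₗ[Bq] N, ∀ x, uu x = h • x :=
      ⟨LinearMap.lsmul Bq N h, fun x => rfl⟩
    have hrange : LinearMap.range uu = h • (⊤ : Submodule Bq N) := by
      ext y
      rw [LinearMap.mem_range, Submodule.mem_smul_pointwise_iff_exists]
      constructor
      · rintro ⟨x, rfl⟩; exact ⟨x, trivial, (huu x).symm⟩
      · rintro ⟨x, _, rfl⟩; exact ⟨x, huu x⟩
    have key := fibInj (A := A) q Bq uu (by
      intro x hx
      rw [huu] at hx
      have h1 : (Submodule.Quotient.mk (h • x) : N ⧸ I' • (⊤ : Submodule Bq N)) = 0 :=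
        (Submodule.Quotient.mk_eq_zero _).mpr hx
      rw [Submodule.Quotient.mk_smul] at h1
      have h2 : (Submodule.Quotient.mk x : N ⧸ I' • (⊤ : Submodule Bq N)) = 0 :=
        hreg1 (show h • _ = h • (0 : N ⧸ I' • (⊤ : Submodule Bq N)) by rw [h1, smul_zero])
      exact (Submodule.Quotient.mk_eq_zero _).mp h2)
    haveI hflat1 : Module.Flat A (QuotSMulTop h N) := by
      haveI := key.2
      exact Module.Flat.of_linearEquiv
        ((Submodule.quotEquivOfEq _ _ hrange).restrictScalars A).symm
    haveI : Module.FinitePresentation Bq (QuotSMulTop h N) := by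
      refine Module.finitePresentation_of_surjective (Submodule.mkQ _)
        (Submodule.mkQ_surjective _) ?_
      rw [Submodule.ker_mkQ, ← hrange, LinearMap.range_eq_map]
      exact (Module.Finite.fg_top).map _
    have hrest' : RingTheory.Sequence.IsWeaklyRegular
        ((QuotSMulTop h N) ⧸ I' • (⊤ : Submodule Bq (QuotSMulTop h N))) t :=
      ((quotQuotSwap I' h N).isWeaklyRegular_congr t).mp hrest
    have hih := ih (QuotSMulTop h N) hrest'
    exact Module.Flat.of_linearEquiv
      ((Submodule.quotOfListConsSMulTopEquivQuotSMulTopInner N h t).restrictScalars A)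

end RS



open Groth.Agent.Lib27.LocalCore Groth.Agent.Lib.Helper18 Groth.Agent.Lib.Helper18.FibBridge

/-- the local ring at a minimal prime of a Noetherian ring is Cohen–Macaulay. -/
theorem isCohenMacaulayLocalRing_of_height_zero {F : Type u} [CommRing F] [IsNoetherianRing F]
    (Q : Ideal F) [Q.IsPrime] (h0 : Q.height = 0) :
    LocCoh.IsCohenMacaulayLocalRing (Localization.AtPrime Q) := by
  haveI : IsNoetherianRing (Localization.AtPrime Q) :=
    IsLocalization.isNoetherianRing Q.primeCompl _ inferInstance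
  refine ⟨?_⟩
  have h1 : Module.supportDim (Localization.AtPrime Q) (Localization.AtPrime Q) = 0 := by
    rw [Module.supportDim_self_eq_ringKrullDim,
      IsLocalization.AtPrime.ringKrullDim_eq_height Q (Localization.AtPrime Q), h0]
    rfl
  have h2 := CM.depth_le_supportDim (R := Localization.AtPrime Q) (Localization.AtPrime Q)
  rw [h1] at h2 ⊢
  have h3 : LocCoh.depth (Localization.AtPrime Q) (Localization.AtPrime Q) ≤ 0 := by
    exact_mod_cast h2
  rw [le_antisymm h3 zero_le]
  rfl

/-- a nonzero finite type algebra over a field has a closed point with Cohen–Macaulay local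
ring. -/
theorem exists_isMaximal_cm {k F : Type u} [Field k] [CommRing F] [Algebra k F]
    [Algebra.FiniteType k F] [Nontrivial F] :
    ∃ Q : Ideal F, Q.IsMaximal ∧ ∃ _ : Q.IsPrime,
      LocCoh.IsCohenMacaulayLocalRing (Localization.AtPrime Q) := by
  haveI : IsNoetherianRing F := Algebra.FiniteType.isNoetherianRing k F
  haveI : IsJacobsonRing F := isJacobsonRing_of_finiteType (A := k)
  obtain ⟨n, f, hf⟩ := Algebra.FiniteType.iff_quotient_mvPolynomial''.mp
    (inferInstance : Algebra.FiniteType k F)
  haveI : LocCoh.IsCohenMacaulayRing (MvPolynomial (Fin n) k) :=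
    PMor.isCohenMacaulayRing_of_isRegularRing inferInstance
  have hopen := CMOpen.isOpen_cmLocus_of_surjective (A := F) (f : MvPolynomial (Fin n) k →+* F) hf
  obtain ⟨m, hm⟩ := Ideal.exists_maximal F
  obtain ⟨P₀, hP₀, _⟩ := Ideal.exists_minimalPrimes_le (bot_le : (⊥ : Ideal F) ≤ m)
  haveI : P₀.IsPrime := hP₀.1.1
  have hmem : (⟨P₀, inferInstance⟩ : PrimeSpectrum F) ∈ {q : PrimeSpectrum F |
      LocCoh.IsCohenMacaulayLocalRing (Localization.AtPrime q.asIdeal)} :=
    isCohenMacaulayLocalRing_of_height_zero P₀ (Ideal.height_eq_zero_iff.mpr hP₀)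
  obtain ⟨x, hxU, hxc⟩ := PrimeSpectrum.exists_isClosed_singleton_of_isJacobsonRing _ hopen
    ⟨_, hmem⟩
  exact ⟨x.asIdeal, (PrimeSpectrum.isClosed_singleton_iff_isMaximal x).mp hxc, x.2, hxU⟩

/-- arithmetic in `WithBot ℕ∞`: `a + d = d` forces `a = 0`. -/
theorem withBot_add_nat_eq_self {a : WithBot ℕ∞} {d : ℕ}
    (h : a + (d : WithBot ℕ∞) = (d : WithBot ℕ∞)) : a = 0 := by
  induction a with
  | bot => simp at h
  | coe a =>
    induction a with
    | top =>
      exfalso
      have h1 : ((⊤ : ℕ∞) : WithBot ℕ∞) + ((d : ℕ∞) : WithBot ℕ∞) = ((d : ℕ∞) : WithBot ℕ∞) := h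
      rw [← WithBot.coe_add, WithBot.coe_inj, top_add] at h1
      exact ENat.top_ne_coe d h1
    | coe n =>
      have h1 : (((n : ℕ∞) : WithBot ℕ∞)) + ((d : ℕ∞) : WithBot ℕ∞) = ((d : ℕ∞) : WithBot ℕ∞) := h
      rw [← WithBot.coe_add, WithBot.coe_inj] at h1
      have h2 : n + d = d := by exact_mod_cast h1
      have h3 : n = 0 := by omega
      subst h3
      rfl

/-- **A Cohen–Macaulay closed point of the fibre and a maximal regular sequence there.** -/
theorem exists_prime_regSeq {A B : Type u} [CommRing A] [CommRing B] [Algebra A B]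
    [Algebra.FiniteType A B] (p : Ideal A) [p.IsPrime] [Nontrivial (p.Fiber B)] :
    ∃ (Q : Ideal (p.Fiber B)) (_ : Q.IsMaximal) (_ : Q.IsPrime)
      (hs : List (Localization.AtPrime (ctr p Q))),
      (∀ h ∈ hs, h ∈ IsLocalRing.maximalIdeal (Localization.AtPrime (ctr p Q))) ∧
      RingTheory.Sequence.IsWeaklyRegular
        (Localization.AtPrime (ctr p Q) ⧸
          (fibIdeal (A := A) (ctr p Q) (Localization.AtPrime (ctr p Q))) •
            (⊤ : Submodule (Localization.AtPrime (ctr p Q)) (Localization.AtPrime (ctr p Q)))) hs ∧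
      ringKrullDim (Localization.AtPrime (ctr p Q) ⧸
        (fibIdeal (A := A) (ctr p Q) (Localization.AtPrime (ctr p Q)) ⊔ Ideal.ofList hs)) = 0 := by
  classical
  obtain ⟨Q, hQmax, hQp, hCM⟩ := exists_isMaximal_cm (k := p.ResidueField) (F := p.Fiber B)
  haveI := hQp
  refine ⟨Q, hQmax, hQp, ?_⟩
  obtain ⟨e⟩ := nonempty_ringEquiv p Q
  haveI hCM0 : LocCoh.IsCohenMacaulayLocalRing (EGA4.FibLocRing A B (ctr p Q)) :=
    FibQuot.isCohenMacaulayLocalRing_of_ringEquiv (R := Localization.AtPrime Q)
      (S := EGA4.FibLocRing A B (ctr p Q)) e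
  set q := ctr p Q with hq
  set L := Localization.AtPrime q with hL
  set I' : Ideal L := fibIdeal (A := A) q L with hI'
  haveI hCM' : LocCoh.IsCohenMacaulayLocalRing (L ⧸ I') := hCM0
  haveI : IsLocalRing (L ⧸ I') := inferInstance
  haveI : IsNoetherianRing (L ⧸ I') := inferInstance
  obtain ⟨d, hd⟩ := ENat.ne_top_iff_exists.mp (CM.depth_ne_top (R := L ⧸ I') (L ⧸ I'))
  have hreg0 : Groth.Agent.Lib.Helper16.Depth.HasRegSeq (IsLocalRing.maximalIdeal (L ⧸ I'))
      (L ⧸ I') d := by
    have h1 := (Groth.Agent.Lib.Helper16.Depth.le_idealDepth_iff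
      (IsLocalRing.maximalIdeal (L ⧸ I')) (L ⧸ I') d).mp (by
        change (d : ℕ∞) ≤ LocCoh.depth (L ⧸ I') (L ⧸ I')
        rw [← hd])
    rcases h1 with h1 | h1
    · exact absurd h1 (CM.maximalIdeal_smul_top_ne_top (L ⧸ I'))
    · exact h1
  obtain ⟨xs, hlen, hreg, hmem⟩ := hreg0
  have hCMmod : LocCoh.IsCohenMacaulayModule (L ⧸ I') (L ⧸ I') := hCM'.supportDim_eq_depth
  have hdim := (CM.isWeaklyRegular_iff_supportDim_and_isCohenMacaulayModule xs hmem (L ⧸ I')
    hCMmod).1.mp hreg
  have hsd : Module.supportDim (L ⧸ I') (L ⧸ I') = ((d : ℕ) : WithBot ℕ∞) := by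
    rw [hCM'.supportDim_eq_depth, ← hd]
    rfl
  rw [hsd, hlen] at hdim
  have hdim0 := withBot_add_nat_eq_self hdim
  have hsmul : (Ideal.ofList xs • (⊤ : Submodule (L ⧸ I') (L ⧸ I'))) = Ideal.ofList xs := by
    rw [smul_eq_mul, Ideal.mul_top]
  have hdim1 : ringKrullDim ((L ⧸ I') ⧸ Ideal.ofList xs) = 0 := by
    rw [← Module.supportDim_quotient_eq_ringKrullDim, ← hdim0]
    exact Module.supportDim_eq_of_equiv (Submodule.quotEquivOfEq _ _ hsmul.symm)
  -- lift the sequence
  obtain ⟨hs, rfl⟩ := (List.map_surjective_iff.mpr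
    (Ideal.Quotient.mk_surjective (I := I'))) xs
  refine ⟨hs, ?_, ?_, ?_⟩
  · intro h hh
    by_contra hnot
    have hu : IsUnit h := IsLocalRing.notMem_maximalIdeal.mp hnot
    have h1 := hmem _ (List.mem_map_of_mem hh)
    exact (IsLocalRing.mem_maximalIdeal _).mp h1 (hu.map (Ideal.Quotient.mk I'))
  · have h1 : RingTheory.Sequence.IsWeaklyRegular (L ⧸ I') hs :=
      (RingTheory.Sequence.isWeaklyRegular_map_algebraMap_iff (L ⧸ I') (L ⧸ I') hs).mp hreg
    have hsm : (I' • (⊤ : Submodule L L)) = I' := by rw [smul_eq_mul, Ideal.mul_top]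
    exact ((Submodule.quotEquivOfEq _ _ hsm).isWeaklyRegular_congr hs).mpr h1
  · rw [← ringKrullDim_eq_of_ringEquiv (DoubleQuot.quotQuotEquivQuotSup I' (Ideal.ofList hs)),
      Ideal.map_ofList]
    exact hdim1



open Groth.Agent.Lib27.LocalCore

/-- a finitely generated ideal of a localization is the extension of a finitely generated
ideal. -/
theorem exists_fg_map_eq_ofList {B : Type*} [CommRing B] (M : Submonoid B) (L : Type*)
    [CommRing L] [Algebra B L] [IsLocalization M L] (hs : List L) :
    ∃ J : Ideal B, J.FG ∧ J.map (algebraMap B L) = Ideal.ofList hs := by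
  induction hs with
  | nil => exact ⟨⊥, Submodule.fg_bot, by rw [Ideal.map_bot, Ideal.ofList_nil]⟩
  | cons h t ih =>
    obtain ⟨J, hJ, hJe⟩ := ih
    obtain ⟨⟨b, s⟩, hbs⟩ := IsLocalization.surj M h
    refine ⟨Ideal.span {b} ⊔ J, (Submodule.fg_span_singleton b).sup hJ, ?_⟩
    rw [Ideal.map_sup, hJe, Ideal.ofList_cons, Ideal.map_span, Set.image_singleton]
    congr 1
    rw [← hbs]
    exact Ideal.span_singleton_mul_right_unit (IsLocalization.map_units L s) h

section

variable {A B : Type u} [CommRing A] [CommRing B] [Algebra A B]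

/-- flatness of the localization of a quotient by an ideal. -/
theorem flat_localizedModule_quotient (T : Submonoid B) (L : Type u) [CommRing L]
    [Algebra B L] [Algebra A L] [IsScalarTower A B L] [IsLocalization T L] (J : Ideal B)
    (h : Module.Flat A (L ⧸ J.map (algebraMap B L))) :
    Module.Flat A (LocalizedModule T (B ⧸ J)) := by
  haveI : IsLocalizedModule T (Algebra.linearMap B L) := inferInstance
  have hN : (J : Submodule B B).localized' L T (Algebra.linearMap B L) =
      J.map (algebraMap B L) := Ideal.localized'_eq_map L T J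
  have e := (IsLocalizedModule.iso T
    ((J : Submodule B B).toLocalizedQuotient' L T (Algebra.linearMap B L)))
  have e2 := e.restrictScalars A
  have e3 : (L ⧸ (J : Submodule B B).localized' L T (Algebra.linearMap B L))
      ≃ₗ[A] (L ⧸ J.map (algebraMap B L)) :=
    (Submodule.quotEquivOfEq _ _ hN).restrictScalars A
  exact Module.Flat.of_linearEquiv (e2.trans e3)

end



open Groth.Agent.Lib27.LocalCore Groth.Agent.Lib.Helper18.FibBridge

/-- a prime which is both maximal and minimal in its fibre is a quasi-finite point. -/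
theorem quasiFiniteAt_of_isMax_isMin {A C : Type u} [CommRing A] [CommRing C] [Algebra A C]
    [Algebra.FiniteType A C] (p : Ideal A) [p.IsPrime] (P : Ideal C) [P.IsPrime] [P.LiesOver p]
    (hmax : ∀ P' : Ideal C, P'.IsPrime → P'.LiesOver p → P ≤ P' → P' = P)
    (hmin : ∀ P' : Ideal C, P'.IsPrime → P'.LiesOver p → P' ≤ P → P' = P) :
    Algebra.QuasiFiniteAt A P := by
  let e := PrimeSpectrum.primesOverOrderIsoFiber A C p
  let a : p.primesOver C := ⟨P, ⟨inferInstance, inferInstance⟩⟩
  have hamax : IsMax a := by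
    intro b hab
    have := hmax b.1 b.2.1 b.2.2 hab
    exact le_of_eq (Subtype.ext this)
  have hamin : IsMin a := by
    intro b hab
    have := hmin b.1 b.2.1 b.2.2 hab
    exact ge_of_eq (Subtype.ext this)
  have hxmax : IsMax (e a) := (OrderIso.isMax_apply e).mpr hamax
  have hxmin : IsMin (e a) := (OrderIso.isMin_apply e).mpr hamin
  haveI : IsNoetherianRing (p.Fiber C) := Algebra.FiniteType.isNoetherianRing p.ResidueField _
  haveI : IsJacobsonRing (p.Fiber C) := isJacobsonRing_of_finiteType (A := p.ResidueField)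
  have hopen : IsOpen {e a} := by
    have htfae := (PrimeSpectrum.isOpen_singleton_tfae_of_isNoetherian_of_isJacobsonRing (e a)).out
      2 0 rfl rfl
    refine htfae.mp ⟨?_, ?_⟩
    · rw [PrimeSpectrum.isClosed_singleton_iff_isMaximal, ← PrimeSpectrum.isMax_iff]
      exact hxmax
    · rw [PrimeSpectrum.stableUnderGeneralization_singleton, ← PrimeSpectrum.isMin_iff]
      exact hxmin
  haveI := Algebra.QuasiFiniteAt.of_isOpen_singleton (R := p.ResidueField) (e a) hopen
  have hQ : (e a).asIdeal.comap Algebra.TensorProduct.includeRight.toRingHom = P := by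
    have h1 := e.symm_apply_apply a
    have h2 := congrArg (fun z : p.primesOver C => (z : Ideal C)) h1
    rw [PrimeSpectrum.coe_primesOverOrderIsoFiber_symm_apply] at h2
    exact h2
  exact Algebra.QuasiFiniteAt.of_quasiFiniteAt_residueField p P (e a).asIdeal hQ


/-- the quotient of `B` by an ideal cutting the local ring of the fibre at a closed point down to
dimension zero is quasi-finite over `A` at that point. -/
theorem quasiFiniteAt_quot {A B : Type u} [CommRing A] [CommRing B] [Algebra A B]
    [Algebra.FiniteType A B] (p : Ideal A) [p.IsPrime] (Q : Ideal (p.Fiber B))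
    (hQmax : Q.IsMaximal) [Q.IsPrime] (q : Ideal B) [q.IsPrime] (hqQ : q = ctr p Q)
    (L : Type u) [CommRing L] [Algebra B L] [Algebra A L] [IsScalarTower A B L]
    [IsLocalization.AtPrime L q] (J : Ideal B) (hJq : J ≤ q)
    (hdim : ringKrullDim (L ⧸ (fibIdeal (A := A) q L ⊔ J.map (algebraMap B L))) = 0) :
    ∃ _ : (q.map (Ideal.Quotient.mk J)).IsPrime,
      (q.map (Ideal.Quotient.mk J)).LiesOver p ∧
      Algebra.QuasiFiniteAt A (q.map (Ideal.Quotient.mk J)) := by
  haveI : IsLocalRing L := IsLocalization.AtPrime.isLocalRing L q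
  have hker : RingHom.ker (Ideal.Quotient.mk J) ≤ q := by rw [Ideal.mk_ker]; exact hJq
  have hcm : (q.map (Ideal.Quotient.mk J)).comap (Ideal.Quotient.mk J) = q := by
    rw [Ideal.comap_map_of_surjective _ Ideal.Quotient.mk_surjective, ← RingHom.ker_eq_comap_bot]
    exact sup_eq_left.mpr hker
  haveI hprime : (q.map (Ideal.Quotient.mk J)).IsPrime :=
    Ideal.map_isPrime_of_surjective Ideal.Quotient.mk_surjective hker
  have hqp : q.comap (algebraMap A B) = p := by rw [hqQ]; exact ctr_comap p Q
  have halg : algebraMap A (B ⧸ J) = (Ideal.Quotient.mk J).comp (algebraMap A B) := rfl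
  haveI hlies : (q.map (Ideal.Quotient.mk J)).LiesOver p := by
    constructor
    rw [Ideal.under_def, halg, ← Ideal.comap_comap, hcm, hqp]
  refine ⟨hprime, hlies, ?_⟩
  have hr_over : ∀ P' : Ideal (B ⧸ J), P'.LiesOver p →
      (P'.comap (Ideal.Quotient.mk J)).comap (algebraMap A B) = p := by
    intro P' h
    rw [Ideal.comap_comap, ← halg]
    exact h.over.symm
  apply quasiFiniteAt_of_isMax_isMin p
  · -- closed in the fibre
    intro P' hP' hP'p hle
    haveI := hP'
    set r := P'.comap (Ideal.Quotient.mk J) with hr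
    have hqr : q ≤ r := by rw [← hcm]; exact Ideal.comap_mono hle
    have hrp : r.comap (algebraMap A B) = p := hr_over P' hP'p
    let e := PrimeSpectrum.primesOverOrderIsoFiber A B p
    let aq : p.primesOver B := ⟨q, ⟨inferInstance, ⟨hqp.symm⟩⟩⟩
    let ar : p.primesOver B := ⟨r, ⟨inferInstance, ⟨hrp.symm⟩⟩⟩
    have h1 : aq ≤ ar := hqr
    have h2 : e aq ≤ e ar := e.monotone h1
    have h3 : e aq = ⟨Q, inferInstance⟩ := by
      rw [← e.apply_symm_apply ⟨Q, inferInstance⟩]
      congr 1
      apply Subtype.ext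
      rw [PrimeSpectrum.coe_primesOverOrderIsoFiber_symm_apply]
      exact hqQ
    have h4 : (e ar).asIdeal = Q := by
      have : Q ≤ (e ar).asIdeal := by rw [h3] at h2; exact h2
      exact (hQmax.eq_of_le (e ar).2.ne_top this).symm
    have h5 : e ar = e aq := by rw [h3]; exact PrimeSpectrum.ext h4
    have h6 : r = q := congrArg (fun z : p.primesOver B => (z : Ideal B)) (e.injective h5)
    rw [← Ideal.map_comap_of_surjective _ Ideal.Quotient.mk_surjective P', ← hr, h6]
  · -- no generalisations in the fibre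
    intro P' hP' hP'p hle
    haveI := hP'
    set r := P'.comap (Ideal.Quotient.mk J) with hr
    have hrq : r ≤ q := by rw [← hcm]; exact Ideal.comap_mono hle
    have hrp : r.comap (algebraMap A B) = p := hr_over P' hP'p
    have hJr : J ≤ r := by
      rw [← Ideal.mk_ker (I := J), RingHom.ker_eq_comap_bot]
      exact Ideal.comap_mono bot_le
    have hdisj : Disjoint (q.primeCompl : Set B) (r : Set B) := by
      rw [Set.disjoint_left]
      intro x hx hxr
      exact hx (hrq hxr)
    have hr'prime : (r.map (algebraMap B L)).IsPrime :=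
      IsLocalization.isPrime_of_isPrime_disjoint q.primeCompl L r inferInstance hdisj
    have hr'comap : (r.map (algebraMap B L)).comap (algebraMap B L) = r :=
      IsLocalization.under_map_of_isPrime_disjoint q.primeCompl L inferInstance hdisj
    have hK : fibIdeal (A := A) q L ⊔ J.map (algebraMap B L) ≤ r.map (algebraMap B L) := by
      refine sup_le ?_ (Ideal.map_mono hJr)
      rw [Ideal.map_le_iff_le_comap, IsScalarTower.algebraMap_eq A B L, ← Ideal.comap_comap,
        hr'comap, hqp, hrp]
    have hKD : Ring.KrullDimLE 0 (L ⧸ (fibIdeal (A := A) q L ⊔ J.map (algebraMap B L))) :=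
      Ring.krullDimLE_iff.mpr (le_of_eq hdim)
    obtain ⟨m', hm', hm'le⟩ := Ideal.exists_minimalPrimes_le hK
    have hm'max := Ideal.krullDimLE_zero_quotient_iff_forall_minimalPrimes_isMaximal.mp hKD m' hm'
    have hm'eq : m' = IsLocalRing.maximalIdeal L := IsLocalRing.eq_maximalIdeal hm'max
    have hr'eq : r.map (algebraMap B L) = IsLocalRing.maximalIdeal L :=
      le_antisymm (IsLocalRing.le_maximalIdeal hr'prime.ne_top) (hm'eq ▸ hm'le)
    have h6 : r = q := by
      rw [← hr'comap, hr'eq]
      exact IsLocalization.AtPrime.comap_maximalIdeal L q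
    rw [← Ideal.map_comap_of_surjective _ Ideal.Quotient.mk_surjective P', ← hr, h6]



open Groth.Agent.Lib27.LocalCore Groth.Agent.Lib.Helper18 Groth.Agent.Lib.Helper18.FibBridge

/-- core of the local construction, with the prime, its local ring and the regular sequence as
parameters. -/
theorem exists_flat_quasiFinite_core {A B : Type u} [CommRing A] [CommRing B] [Algebra A B]
    [Algebra.FinitePresentation A B] [Module.Flat A B] (p : Ideal A) [p.IsPrime]
    (Q : Ideal (p.Fiber B)) (hQmax : Q.IsMaximal) [Q.IsPrime] (q : Ideal B) [q.IsPrime]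
    (hqQ : q = ctr p Q)
    (L : Type u) [CommRing L] [Algebra B L] [Algebra A L] [IsScalarTower A B L]
    [IsLocalization.AtPrime L q] [IsLocalRing L] (hs : List L)
    (hmem : ∀ h ∈ hs, h ∈ IsLocalRing.maximalIdeal L)
    (hreg : RingTheory.Sequence.IsWeaklyRegular
        (L ⧸ (fibIdeal (A := A) q L) • (⊤ : Submodule L L)) hs)
    (hdim : ringKrullDim (L ⧸ (fibIdeal (A := A) q L ⊔ Ideal.ofList hs)) = 0) :
    ∃ (C : Type u) (_ : CommRing C) (_ : Algebra A C) (_ : B →ₐ[A] C),
      Algebra.FinitePresentation A C ∧ Module.Flat A C ∧ Algebra.QuasiFinite A C ∧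
      ∃ P : Ideal C, P.IsPrime ∧ P.comap (algebraMap A C) = p := by
  classical
  haveI : Module.Flat B L := IsLocalization.flat L q.primeCompl
  haveI : Module.Flat A L := Module.Flat.trans A B L
  have hflat := flat_quot_ofList (A := A) q L hs L hreg
  obtain ⟨J, hJfg, hJe⟩ := exists_fg_map_eq_ofList q.primeCompl L hs
  have hJq : J ≤ q := by
    intro b hb
    have h1 : algebraMap B L b ∈ Ideal.ofList hs := hJe ▸ Ideal.mem_map_of_mem _ hb
    have h2 : Ideal.ofList hs ≤ IsLocalRing.maximalIdeal L := by
      rw [Ideal.ofList, Ideal.span_le]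
      intro x hx
      exact hmem x hx
    exact (IsLocalization.AtPrime.to_map_mem_maximal_iff L q b).mp (h2 h1)
  have hsm : (Ideal.ofList hs • (⊤ : Submodule L L)) = J.map (algebraMap B L) := by
    rw [smul_eq_mul, Ideal.mul_top, hJe]
  have hflat' : Module.Flat A (L ⧸ J.map (algebraMap B L)) :=
    Module.Flat.of_linearEquiv ((Submodule.quotEquivOfEq _ _ hsm).restrictScalars A).symm
  have hFB := flat_localizedModule_quotient (A := A) q.primeCompl L J hflat'
  haveI : Module.FinitePresentation B (B ⧸ J) := by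
    refine Module.finitePresentation_of_surjective (Submodule.mkQ _)
      (Submodule.mkQ_surjective _) ?_
    rw [Submodule.ker_mkQ]
    exact hJfg
  obtain ⟨g, hgq, hg⟩ := Groth.Agent.Lib27.Slice.exists_basicOpen_flat q (B ⧸ J) hFB
  rw [← hJe] at hdim
  obtain ⟨hqbprime, hqblies, hqf⟩ := quasiFiniteAt_quot p Q hQmax q hqQ L J hJq hdim
  haveI : Algebra.FinitePresentation A (B ⧸ J) := Algebra.FinitePresentation.quotient hJfg
  obtain ⟨r, hr, hrqf⟩ := Groth.Agent.Lib.Helper21.FibDim.exists_quasiFinite_away A (B ⧸ J)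
    (q.map (Ideal.Quotient.mk J))
  have hker : RingHom.ker (Ideal.Quotient.mk J) ≤ q := by rw [Ideal.mk_ker]; exact hJq
  have hcm : (q.map (Ideal.Quotient.mk J)).comap (Ideal.Quotient.mk J) = q := by
    rw [Ideal.comap_map_of_surjective _ Ideal.Quotient.mk_surjective, ← RingHom.ker_eq_comap_bot]
    exact sup_eq_left.mpr hker
  have hgq' : Ideal.Quotient.mk J g ∉ q.map (Ideal.Quotient.mk J) := by
    intro h
    apply hgq
    rw [← hcm]
    exact h
  set c : B ⧸ J := Ideal.Quotient.mk J g * r with hc
  have hcq : c ∉ q.map (Ideal.Quotient.mk J) := fun h =>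
    (hqbprime.mem_or_mem h).elim hgq' hr
  haveI : Algebra.FinitePresentation (B ⧸ J) (Localization.Away c) :=
    IsLocalization.Away.finitePresentation c
  refine ⟨Localization.Away c, inferInstance, inferInstance,
    (IsScalarTower.toAlgHom A (B ⧸ J) (Localization.Away c)).comp (Ideal.Quotient.mkₐ A J),
    Algebra.FinitePresentation.trans A (B ⧸ J) (Localization.Away c), ?_, ?_, ?_⟩
  · -- flat
    apply Groth.Agent.Lib27.Slice.flat_of_isLocalization (A := A) (B := B ⧸ J)
      (Submonoid.powers c) (Localization.Away c)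
    rw [Fl.flat_localizedModule_iff_forall_prime]
    intro Q' hQ' hdis
    haveI := hQ'
    have hcQ' : c ∉ Q' := fun h =>
      Set.disjoint_left.mp hdis h (Submonoid.mem_powers c)
    have hgQ' : g ∉ Q'.comap (Ideal.Quotient.mk J) := fun h =>
      hcQ' (Q'.mul_mem_right _ h)
    have h1 := hg (Q'.comap (Ideal.Quotient.mk J)) hgQ'
    exact (Fl.flat_localizedModule_tower_iff (A := A) (B := B) (C := B ⧸ J) (M := B ⧸ J)
      (Q'.comap (Ideal.Quotient.mk J))).mp h1 Q' le_rfl
  · -- quasi-finite
    have hunit : IsUnit (algebraMap (B ⧸ J) (Localization.Away c) r) := by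
      have h1 : IsUnit (algebraMap (B ⧸ J) (Localization.Away c) c) :=
        IsLocalization.Away.algebraMap_isUnit c
      rw [hc, map_mul] at h1
      exact isUnit_of_mul_isUnit_right h1
    let f : Localization.Away r →ₐ[B ⧸ J] Localization.Away c :=
      IsLocalization.Away.liftAlgHom r (f := Algebra.ofId _ _) hunit
    refine Algebra.QuasiFinite.of_forall_exists_mul_mem_range (f.restrictScalars A) fun x => ?_
    obtain ⟨a, s, rfl⟩ := IsLocalization.exists_mk'_eq (Submonoid.powers c) x
    have h1 : (f.restrictScalars A) (algebraMap (B ⧸ J) (Localization.Away r) (s : B ⧸ J)) =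
        algebraMap (B ⧸ J) (Localization.Away c) (s : B ⧸ J) := f.commutes _
    have h2 : (f.restrictScalars A) (algebraMap (B ⧸ J) (Localization.Away r) a) =
        algebraMap (B ⧸ J) (Localization.Away c) a := f.commutes _
    refine ⟨algebraMap _ _ (s : B ⧸ J), ?_, algebraMap _ _ a, ?_⟩
    · rw [h1]
      exact IsLocalization.map_units _ s
    · simp only [AlgHom.toRingHom_eq_coe, RingHom.coe_coe]
      rw [h1, h2]
      exact (IsLocalization.mk'_spec _ a s).symm
  · -- a prime over `p`
    have hdisj : Disjoint (Submonoid.powers c : Set (B ⧸ J))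
        (q.map (Ideal.Quotient.mk J) : Set (B ⧸ J)) := by
      rw [Set.disjoint_left]
      rintro _ ⟨n, rfl⟩ hx
      exact hcq (hqbprime.mem_of_pow_mem n hx)
    refine ⟨(q.map (Ideal.Quotient.mk J)).map (algebraMap (B ⧸ J) (Localization.Away c)),
      IsLocalization.isPrime_of_isPrime_disjoint (Submonoid.powers c) _ _ hqbprime hdisj, ?_⟩
    rw [IsScalarTower.algebraMap_eq A (B ⧸ J) (Localization.Away c), ← Ideal.comap_comap]
    have := IsLocalization.under_map_of_isPrime_disjoint (Submonoid.powers c)
      (Localization.Away c) hqbprime hdisj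
    rw [Ideal.under_def] at this
    rw [this]
    exact hqblies.over.symm


/-- **Local quasi-finite flat quasi-section**: a flat finitely presented algebra with nonempty
fibre over `p` maps to a flat, quasi-finite, finitely presented algebra whose image contains `p`. -/
theorem exists_flat_quasiFinite_local {A B : Type u} [CommRing A] [CommRing B] [Algebra A B]
    [Algebra.FinitePresentation A B] [Module.Flat A B] (p : Ideal A) [p.IsPrime]
    [Nontrivial (p.Fiber B)] :
    ∃ (C : Type u) (_ : CommRing C) (_ : Algebra A C) (_ : B →ₐ[A] C),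
      Algebra.FinitePresentation A C ∧ Module.Flat A C ∧ Algebra.QuasiFinite A C ∧
      ∃ P : Ideal C, P.IsPrime ∧ P.comap (algebraMap A C) = p := by
  obtain ⟨Q, hQmax, hQp, hs, hmem, hreg, hdim⟩ := exists_prime_regSeq (A := A) (B := B) p
  haveI := hQp
  exact exists_flat_quasiFinite_core p Q hQmax (ctr p Q) rfl (Localization.AtPrime (ctr p Q)) hs
    hmem hreg hdim



/-- a property of ring maps which is local on the target and respects isomorphisms holds for a map
into a product as soon as it holds for both components. -/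
theorem prop_of_fst_snd {P : ∀ {R S : Type u} [CommRing R] [CommRing S], (R →+* S) → Prop}
    (hloc : RingHom.OfLocalizationSpanTarget @P) (hiso : RingHom.RespectsIso @P)
    {U S T : Type u} [CommRing U] [CommRing S] [CommRing T] (φ : U →+* S × T)
    (h1 : P ((RingHom.fst S T).comp φ)) (h2 : P ((RingHom.snd S T).comp φ)) : P φ := by
  refine hloc φ ({(1, 0), (0, 1)} : Set (S × T)) ?_ ?_
  · rw [Ideal.eq_top_iff_one]
    have : (1 : S × T) = (1, 0) + (0, 1) := by ext <;> simp
    rw [this]
    exact Ideal.add_mem _ (Ideal.subset_span (by simp)) (Ideal.subset_span (by simp))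
  · rintro ⟨r, hr⟩
    rcases hr with rfl | hr
    · letI := (RingHom.fst S T).toAlgebra
      haveI : IsLocalization.Away ((1, 0) : S × T) S := IsLocalization.away_fst
      let e : Localization.Away ((1, 0) : S × T) ≃ₐ[S × T] S :=
        IsLocalization.algEquiv (Submonoid.powers ((1, 0) : S × T)) _ _
      have : (algebraMap (S × T) (Localization.Away ((1, 0) : S × T))) =
          (e.symm : S →+* Localization.Away ((1, 0) : S × T)).comp (RingHom.fst S T) := by
        ext x
        exact (e.symm.commutes x).symm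
      change P ((algebraMap (S × T) (Localization.Away ((1, 0) : S × T))).comp φ)
      rw [this, RingHom.comp_assoc]
      exact hiso.1 _ e.symm.toRingEquiv h1
    · have hr' : r = (0, 1) := hr
      subst hr'
      letI := (RingHom.snd S T).toAlgebra
      haveI : IsLocalization.Away ((0, 1) : S × T) T := IsLocalization.away_snd
      let e : Localization.Away ((0, 1) : S × T) ≃ₐ[S × T] T :=
        IsLocalization.algEquiv (Submonoid.powers ((0, 1) : S × T)) _ _
      have : (algebraMap (S × T) (Localization.Away ((0, 1) : S × T))) =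
          (e.symm : T →+* Localization.Away ((0, 1) : S × T)).comp (RingHom.snd S T) := by
        ext x
        exact (e.symm.commutes x).symm
      change P ((algebraMap (S × T) (Localization.Away ((0, 1) : S × T))).comp φ)
      rw [this, RingHom.comp_assoc]
      exact hiso.1 _ e.symm.toRingEquiv h2

theorem finitePresentation_prod (R C₁ C₂ : Type u) [CommRing R] [CommRing C₁] [CommRing C₂]
    [Algebra R C₁] [Algebra R C₂] [Algebra.FinitePresentation R C₁]
    [Algebra.FinitePresentation R C₂] : Algebra.FinitePresentation R (C₁ × C₂) := by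
  rw [← RingHom.finitePresentation_algebraMap]
  apply prop_of_fst_snd RingHom.finitePresentation_ofLocalizationSpanTarget
    RingHom.finitePresentation_respectsIso
  · exact RingHom.finitePresentation_algebraMap.mpr (inferInstance : Algebra.FinitePresentation R C₁)
  · exact RingHom.finitePresentation_algebraMap.mpr (inferInstance : Algebra.FinitePresentation R C₂)

theorem quasiFinite_prod (R C₁ C₂ : Type u) [CommRing R] [CommRing C₁] [CommRing C₂]
    [Algebra R C₁] [Algebra R C₂] [Algebra.QuasiFinite R C₁]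
    [Algebra.QuasiFinite R C₂] : Algebra.QuasiFinite R (C₁ × C₂) := by
  rw [← RingHom.quasiFinite_algebraMap]
  apply prop_of_fst_snd RingHom.QuasiFinite.ofLocalizationSpanTarget
    RingHom.QuasiFinite.respectsIso
  · exact RingHom.quasiFinite_algebraMap.mpr (inferInstance : Algebra.QuasiFinite R C₁)
  · exact RingHom.quasiFinite_algebraMap.mpr (inferInstance : Algebra.QuasiFinite R C₂)

/-- the predicate used in the compactness argument. -/
def Good (R S : Type u) [CommRing R] [CommRing S] [Algebra R S]
    (U : Set (PrimeSpectrum R)) : Prop :=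
  ∃ (C : Type u) (_ : CommRing C) (_ : Algebra R C) (_ : S →ₐ[R] C),
    Algebra.FinitePresentation R C ∧ Module.Flat R C ∧ Algebra.QuasiFinite R C ∧
      U ⊆ Set.range (PrimeSpectrum.comap (algebraMap R C))

theorem good_empty (R S : Type u) [CommRing R] [CommRing S] [Algebra R S]
    [Algebra.FinitePresentation R S] [Module.Flat R S] : Good R S ∅ := by
  haveI : Algebra.FinitePresentation S (Localization.Away (0 : S)) :=
    IsLocalization.Away.finitePresentation (0 : S)
  haveI : Module.Flat S (Localization.Away (0 : S)) :=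
    IsLocalization.flat _ (Submonoid.powers (0 : S))
  haveI : Subsingleton (Localization.Away (0 : S)) :=
    IsLocalization.subsingleton (M := Submonoid.powers (0 : S)) (Submonoid.mem_powers 0)
  refine ⟨Localization.Away (0 : S), inferInstance, inferInstance,
    IsScalarTower.toAlgHom R S _, Algebra.FinitePresentation.trans R S _,
    Module.Flat.trans R S _, ?_, Set.empty_subset _⟩
  haveI : Module.Finite R (Localization.Away (0 : S)) := Module.Finite.of_finite
  infer_instance

theorem good_union (R S : Type u) [CommRing R] [CommRing S] [Algebra R S]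
    {U V : Set (PrimeSpectrum R)} (hU : Good R S U) (hV : Good R S V) : Good R S (U ∪ V) := by
  obtain ⟨C₁, _, _, f₁, hfp₁, hfl₁, hqf₁, hr₁⟩ := hU
  obtain ⟨C₂, _, _, f₂, hfp₂, hfl₂, hqf₂, hr₂⟩ := hV
  refine ⟨C₁ × C₂, inferInstance, inferInstance, f₁.prod f₂, finitePresentation_prod R C₁ C₂,
    Groth.Agent.Lib.Helper4.flat_prod, quasiFinite_prod R C₁ C₂, ?_⟩
  rintro x (hx | hx)
  · obtain ⟨y, rfl⟩ := hr₁ hx
    refine ⟨PrimeSpectrum.comap (RingHom.fst C₁ C₂) y, ?_⟩
    rw [← PrimeSpectrum.comap_comp_apply]
    rfl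
  · obtain ⟨y, rfl⟩ := hr₂ hx
    refine ⟨PrimeSpectrum.comap (RingHom.snd C₁ C₂) y, ?_⟩
    rw [← PrimeSpectrum.comap_comp_apply]
    rfl


/-- **Quasi-finite flat quasi-sections exist globally over an affine base.** -/
theorem good_univ (R S : Type u) [CommRing R] [CommRing S] [Algebra R S]
    [Module.FaithfullyFlat R S] [Algebra.FinitePresentation R S] : Good R S Set.univ := by
  refine IsCompact.induction_on (isCompact_univ) (good_empty R S) (fun s t hst ht => ?_)
    (fun s t hs ht => good_union R S hs ht) ?_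
  · obtain ⟨C, i1, i2, f, h1, h2, h3, h4⟩ := ht
    exact ⟨C, i1, i2, f, h1, h2, h3, hst.trans h4⟩
  · intro x _
    haveI : Nontrivial (x.asIdeal.Fiber S) :=
      Module.FaithfullyFlat.rTensor_nontrivial R S x.asIdeal.ResidueField
    obtain ⟨C, i1, i2, f, hfp, hfl, hqf, P, hP, hPx⟩ :=
      exists_flat_quasiFinite_local (A := R) (B := S) x.asIdeal
    haveI := hfl
    haveI := hfp
    have hopen : IsOpen (Set.range (PrimeSpectrum.comap (algebraMap R C))) :=
      (PrimeSpectrum.isOpenMap_comap_of_hasGoingDown_of_finitePresentation).isOpen_range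
    refine ⟨Set.range (PrimeSpectrum.comap (algebraMap R C)),
      mem_nhdsWithin_of_mem_nhds (hopen.mem_nhds ⟨⟨P, hP⟩, PrimeSpectrum.ext hPx⟩),
      C, i1, i2, f, hfp, hfl, hqf, subset_rfl⟩

/-- the ring-theoretic statement. -/
theorem exists_quasiFinite_faithfullyFlat (R S : Type u) [CommRing R] [CommRing S] [Algebra R S]
    [Module.FaithfullyFlat R S] [Algebra.FinitePresentation R S] :
    ∃ (S' : Type u) (_ : CommRing S') (_ : Algebra R S'),
      Algebra.QuasiFinite R S' ∧ Algebra.FiniteType R S' ∧ Module.FaithfullyFlat R S' ∧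
        Algebra.FinitePresentation R S' ∧ Nonempty (S →ₐ[R] S') := by
  obtain ⟨C, i1, i2, f, hfp, hfl, hqf, hr⟩ := good_univ R S
  haveI := hfl
  haveI := hfp
  refine ⟨C, i1, i2, hqf, inferInstance, ?_, hfp, ⟨f⟩⟩
  apply Module.FaithfullyFlat.of_comap_surjective
  intro x
  exact hr (Set.mem_univ x)

end Groth.Agent.Lib.Helper23.QFFlat
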