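import Mathlib
import Groth.Agent.Lib.Helper23.SyntLci

/-!
FibreProp0 continued: homP_field_iff (over a field HomP PP k A iff PP k A), homP_iff_of_bijective; isSyntomic_iff_of_bijective (over a ring isomorphic to a field k: IsSyntomic K A iff IsLCIOver k A).
-/

set_option autoImplicit false
set_option linter.style.haveILetI false
set_option linter.unusedSectionVars false
universe u
open TensorProduct
open TensorProduct CategoryTheory CategoryTheory.Limits AlgebraicGeometry

namespace Groth.Agent.Lib.Helper23.FibProp0

open Groth.Agent.Lib.Helper23.FibProp

open Groth.Agent.Lib.Helper23.SyntF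

section

variable {PP : ∀ (k : Type u) [Field k] (F : Type u) [CommRing F] [Algebra k F], Prop}
  (hPP : FibreProp0 PP)
include hPP

/-- over a field, `HomP` is `PP` -/
theorem homP_field_iff (k A : Type u) [Field k] [CommRing A] [Algebra k A] :
    HomP PP k A ↔ PP k A := by
  have hb : Function.Bijective (algebraMap k (⊥ : Ideal k).ResidueField) :=
    (Ideal.algEquivResidueFieldOfField (⊥ : Ideal k)).bijective
  constructor
  · intro h
    exact (hPP.baseChange_iff hb).mpr (h.2 ⊥)
  · intro h
    refine ⟨inferInstance, fun p hp => ?_⟩
    have hp0 : p = ⊥ := by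
      by_contra hne
      exact hp.ne_top ((Ideal.eq_bot_or_top p).resolve_left hne)
    subst hp0
    exact (hPP.baseChange_iff hb).mp h

/-- transport of `HomP` along an isomorphism of the base with a field -/
theorem homP_iff_of_bijective (k K A : Type u) [Field k] [CommRing K] [CommRing A] [Algebra k K]
    [Algebra K A] [Algebra k A] [IsScalarTower k K A]
    (hb : Function.Bijective (algebraMap k K)) : HomP PP K A ↔ PP k A := by
  haveI : IsLocalization (Submonoid.powers (1 : k)) k :=
    IsLocalization.of_le_isUnit (S := .powers (1 : k)) (by simp)
  haveI : IsLocalization (Submonoid.powers (1 : k)) K :=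
    IsLocalization.isLocalization_of_algEquiv (.powers (1 : k))
      (AlgEquiv.ofBijective (Algebra.ofId k K) hb)
  rw [← homP_field_iff hPP k A]
  constructor
  · intro h
    exact homP_localization_source hPP k K A (Submonoid.powers (1 : k)) h
  · intro h
    haveI : IsLocalization (Algebra.algebraMapSubmonoid A (Submonoid.powers (1 : k))) A := by
      refine IsLocalization.self ?_
      rintro _ ⟨s, ⟨n, rfl⟩, rfl⟩
      simp
    exact homP_localization hPP k A h (Submonoid.powers (1 : k)) K A

end

/-- over (a ring isomorphic to) a field: syntomic iff lci -/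
theorem isSyntomic_iff_of_bijective (k K A : Type u) [Field k] [CommRing K] [CommRing A]
    [Algebra k K] [Algebra K A] [Algebra k A] [IsScalarTower k K A]
    (hb : Function.Bijective (algebraMap k K)) :
    Synt.IsSyntomic K A ↔ Synt.IsLCIOver k A := by
  rw [isSyntomic_iff, homP_iff_of_bijective fibreProp0_lci k K A hb]
  constructor
  · exact fun h => h.1
  · intro h
    refine ⟨h, ?_⟩
    haveI := h.1
    haveI : Algebra.FiniteType K A := Algebra.FiniteType.of_restrictScalars_finiteType k K A
    haveI : IsNoetherianRing K :=
      isNoetherianRing_of_ringEquiv k (RingEquiv.ofBijective (algebraMap k K) hb)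
    exact Algebra.FinitePresentation.of_finiteType.mp inferInstance

end Groth.Agent.Lib.Helper23.FibProp0
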