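import Mathlib
import Groth.Agent.Lib.Helper23.QFFlat
import Groth.Agent.Lib.Helper21.FibDimR2

/-!
# Slicing a Cohen–Macaulay point to a quasi-finite flat one: ring core (helper23)

`exists_slice_cm`: `B` f.p. over `A`, `q` prime of `B` with `B_q` flat over `A`, Cohen–Macaulay fibre
local ring, and `q` maximal in its fibre.  Then there are `g ∉ q` and `bs ⊂ q` whose images form a
regular sequence on `B_g`, with `B_g/(bs)` flat and quasi-finite over `A` and `q` the only prime of
it over `q ∩ A`.  Pieces: `exists_regSeq_of_cm`, `mul_mem_sup_ofList_take`, `exists_kill_mod`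
(spreading out regularity mod a f.g. ideal, via helper27's `exists_flat_nbhd`/`exists_kill`),
`isWeaklyRegular_away`, `flat_quotient_map_of_localizedModule`, `quasiFiniteAt_quot'`.
-/

set_option autoImplicit false
set_option linter.style.haveILetI false
set_option linter.unusedSectionVars false
universe u
open TensorProduct Function Pointwise

namespace Groth.Agent.Lib.Helper23.SliceCM


open Groth.Agent.Lib27.LocalCore Groth.Agent.Lib.Helper18 Groth.Agent.Lib.Helper23.QFFlat

/-- a maximal regular sequence of a Cohen–Macaulay local quotient `L ⧸ I'`, lifted to `L`. -/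
theorem exists_regSeq_of_cm {L : Type u} [CommRing L] [IsLocalRing L] (I' : Ideal L)
    (hCM' : LocCoh.IsCohenMacaulayLocalRing (L ⧸ I')) :
    ∃ hs : List L, (∀ h ∈ hs, h ∈ IsLocalRing.maximalIdeal L) ∧
      RingTheory.Sequence.IsWeaklyRegular (L ⧸ I' • (⊤ : Submodule L L)) hs ∧
      ringKrullDim (L ⧸ (I' ⊔ Ideal.ofList hs)) = 0 := by
  classical
  haveI : IsLocalRing (L ⧸ I') := inferInstance
  haveI : IsNoetherianRing (L ⧸ I') := inferInstance
  obtain ⟨d, hd⟩ := ENat.ne_top_iff_exists.mp (CM.depth_ne_top (R := L ⧸ I') (L ⧸ I'))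
  have hreg0 : Groth.Agent.Lib.Helper16.Depth.HasRegSeq (IsLocalRing.maximalIdeal (L ⧸ I'))
      (L ⧸ I') d := by
    have h1 := (Groth.Agent.Lib.Helper16.Depth.le_idealDepth_iff
      (IsLocalRing.maximalIdeal (L ⧸ I')) (L ⧸ I') d).mp (by
        change (d : ℕ∞) ≤ LocCoh.depth (L ⧸ I') (L ⧸ I')
        rw [← hd])
    rcases h1 with h1 | h1
    · exact absurd h1 (CM.maximalIdeal_smul_top_ne_top (L ⧸ I'))
    · exact h1
  obtain ⟨xs, hlen, hreg, hmem⟩ := hreg0
  have hCMmod : LocCoh.IsCohenMacaulayModule (L ⧸ I') (L ⧸ I') := hCM'.supportDim_eq_depth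
  have hdim := (CM.isWeaklyRegular_iff_supportDim_and_isCohenMacaulayModule xs hmem (L ⧸ I')
    hCMmod).1.mp hreg
  have hsd : Module.supportDim (L ⧸ I') (L ⧸ I') = ((d : ℕ) : WithBot ℕ∞) := by
    rw [hCM'.supportDim_eq_depth, ← hd]
    rfl
  rw [hsd, hlen] at hdim
  have hdim0 := withBot_add_nat_eq_self hdim
  have hsmul : (Ideal.ofList xs • (⊤ : Submodule (L ⧸ I') (L ⧸ I'))) = Ideal.ofList xs := by
    rw [smul_eq_mul, Ideal.mul_top]
  have hdim1 : ringKrullDim ((L ⧸ I') ⧸ Ideal.ofList xs) = 0 := by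
    rw [← Module.supportDim_quotient_eq_ringKrullDim, ← hdim0]
    exact Module.supportDim_eq_of_equiv (Submodule.quotEquivOfEq _ _ hsmul.symm)
  obtain ⟨hs, rfl⟩ := (List.map_surjective_iff.mpr
    (Ideal.Quotient.mk_surjective (I := I'))) xs
  refine ⟨hs, ?_, ?_, ?_⟩
  · intro h hh
    by_contra hnot
    have hu : IsUnit h := IsLocalRing.notMem_maximalIdeal.mp hnot
    have h1 := hmem _ (List.mem_map_of_mem hh)
    exact (IsLocalRing.mem_maximalIdeal _).mp h1 (hu.map (Ideal.Quotient.mk I'))
  · have h1 : RingTheory.Sequence.IsWeaklyRegular (L ⧸ I') hs :=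
      (RingTheory.Sequence.isWeaklyRegular_map_algebraMap_iff (L ⧸ I') (L ⧸ I') hs).mp hreg
    have hsm : (I' • (⊤ : Submodule L L)) = I' := by rw [smul_eq_mul, Ideal.mul_top]
    exact ((Submodule.quotEquivOfEq _ _ hsm).isWeaklyRegular_congr hs).mpr h1
  · rw [← ringKrullDim_eq_of_ringEquiv (DoubleQuot.quotQuotEquivQuotSup I' (Ideal.ofList hs)),
      Ideal.map_ofList]
    exact hdim1

/-- elementwise form of regularity of the `i`-th member of a weakly regular sequence on a
quotient ring `L ⧸ I'`. -/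
theorem mul_mem_sup_ofList_take {L : Type u} [CommRing L] (I' : Ideal L) (hs : List L)
    (hreg : RingTheory.Sequence.IsWeaklyRegular (L ⧸ I' • (⊤ : Submodule L L)) hs)
    (i : ℕ) (hi : i < hs.length) (x : L)
    (hx : hs[i] * x ∈ I' ⊔ Ideal.ofList (hs.take i)) :
    x ∈ I' ⊔ Ideal.ofList (hs.take i) := by
  have h1 := hreg.regular_mod_prev i hi
  -- the double quotient
  set N := L ⧸ I' • (⊤ : Submodule L L) with hN
  set T : Submodule L N := Ideal.ofList (hs.take i) • ⊤ with hT
  have hzero : ∀ y : L, (Submodule.Quotient.mk (Submodule.Quotient.mk y : N) : N ⧸ T) = 0 ↔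
      y ∈ I' ⊔ Ideal.ofList (hs.take i) := by
    intro y
    rw [Submodule.Quotient.mk_eq_zero, hT]
    have hmap : (Ideal.ofList (hs.take i) • (⊤ : Submodule L N)) =
        (Ideal.ofList (hs.take i) • (⊤ : Submodule L L)).map
          (Submodule.mkQ (I' • (⊤ : Submodule L L))) := by
      rw [Submodule.map_smul'', Submodule.map_top, Submodule.range_mkQ]
    rw [hmap, Submodule.mem_map]
    constructor
    · rintro ⟨z, hz, hzy⟩
      have h2 : z - y ∈ I' • (⊤ : Submodule L L) := by
        rw [← Submodule.Quotient.mk_eq_zero, Submodule.Quotient.mk_sub]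
        exact sub_eq_zero.mpr hzy
      rw [smul_eq_mul, Ideal.mul_top] at hz h2
      have : y = z - (z - y) := by ring
      rw [this, sup_comm]
      exact Submodule.sub_mem_sup hz h2
    · intro hy
      obtain ⟨a, ha, b, hb, rfl⟩ := Submodule.mem_sup.mp hy
      refine ⟨b, by rw [smul_eq_mul, Ideal.mul_top]; exact hb, ?_⟩
      symm
      change (Submodule.Quotient.mk (a + b) : N) = Submodule.Quotient.mk b
      rw [← sub_eq_zero, ← Submodule.Quotient.mk_sub,
        Submodule.Quotient.mk_eq_zero, smul_eq_mul, Ideal.mul_top]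
      simpa using ha
  rw [← hzero]
  apply h1
  change hs[i] • (Submodule.Quotient.mk (Submodule.Quotient.mk x : N) : N ⧸ T) = hs[i] • 0
  rw [smul_zero]
  have : hs[i] • (Submodule.Quotient.mk (Submodule.Quotient.mk x : N) : N ⧸ T) =
      Submodule.Quotient.mk (Submodule.Quotient.mk (hs[i] * x) : N) := rfl
  rw [this, hzero]
  exact hx



open Groth.Agent.Lib27.LocalCore Groth.Agent.Lib.Helper18 Groth.Agent.Lib.Helper23.QFFlat

section Q

variable {A B : Type u} [CommRing A] [CommRing B] [Algebra A B] [Algebra.FinitePresentation A B]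
  (q : Ideal B) [q.IsPrime]
  (L : Type u) [CommRing L] [Algebra B L] [Algebra A L] [IsScalarTower A B L]
  [IsLocalization.AtPrime L q]

/-- **Spreading out regularity modulo a finitely generated ideal.** -/
theorem exists_kill_mod (J : Ideal B) (hJ : J.FG) (hJq : J ≤ q) (b : B)
    (hflat : Module.Flat A (L ⧸ J.map (algebraMap B L)))
    (hreg : ∀ x : L, algebraMap B L b * x ∈ fibIdeal (A := A) q L ⊔ J.map (algebraMap B L) →
      x ∈ fibIdeal (A := A) q L ⊔ J.map (algebraMap B L)) :
    ∃ g : B, g ∉ q ∧ ∀ c : B, b * c ∈ J → ∃ m : ℕ, g ^ m * c ∈ J := by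
  classical
  haveI : Algebra.FinitePresentation A (B ⧸ J) := Algebra.FinitePresentation.quotient hJ
  have hker : RingHom.ker (Ideal.Quotient.mk J) ≤ q := by rw [Ideal.mk_ker]; exact hJq
  have hcm : (q.map (Ideal.Quotient.mk J)).comap (Ideal.Quotient.mk J) = q := by
    rw [Ideal.comap_map_of_surjective _ Ideal.Quotient.mk_surjective, ← RingHom.ker_eq_comap_bot]
    exact sup_eq_left.mpr hker
  haveI hq₁p : (q.map (Ideal.Quotient.mk J)).IsPrime :=
    Ideal.map_isPrime_of_surjective Ideal.Quotient.mk_surjective hker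
  have hsub : Algebra.algebraMapSubmonoid (B ⧸ J) q.primeCompl =
      (q.map (Ideal.Quotient.mk J)).primeCompl := by
    ext y
    constructor
    · rintro ⟨x, hx, rfl⟩
      intro hmem
      apply hx
      rw [← hcm]
      exact hmem
    · intro hy
      obtain ⟨x, rfl⟩ := Ideal.Quotient.mk_surjective y
      exact ⟨x, fun hxq => hy (Ideal.mem_map_of_mem _ hxq), rfl⟩
  haveI hloc : IsLocalization.AtPrime (L ⧸ J.map (algebraMap B L))
      (q.map (Ideal.Quotient.mk J)) := by
    have h0 : IsLocalization (Algebra.algebraMapSubmonoid (B ⧸ J) q.primeCompl)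
        (L ⧸ J.map (algebraMap B L)) := inferInstance
    rwa [hsub] at h0
  haveI : Module.Flat A (L ⧸ J.map (algebraMap B L)) := hflat
  haveI : IsScalarTower A (B ⧸ J) (L ⧸ J.map (algebraMap B L)) :=
    IsScalarTower.of_algebraMap_eq (fun a => by
      change Ideal.Quotient.mk _ (algebraMap A L a) =
        Ideal.Quotient.mk _ (algebraMap B L (algebraMap A B a))
      rw [← IsScalarTower.algebraMap_apply])
  -- translation of the fibre ideal
  have hp : (q.map (Ideal.Quotient.mk J)).comap (algebraMap A (B ⧸ J)) =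
      q.comap (algebraMap A B) := by
    have halg : algebraMap A (B ⧸ J) = (Ideal.Quotient.mk J).comp (algebraMap A B) := rfl
    rw [halg, ← Ideal.comap_comap, hcm]
  have hfib : ∀ x : L, (Ideal.Quotient.mk (J.map (algebraMap B L)) x ∈
      Ideal.map (algebraMap A (L ⧸ J.map (algebraMap B L)))
        ((q.map (Ideal.Quotient.mk J)).comap (algebraMap A (B ⧸ J)))) ↔
      x ∈ fibIdeal (A := A) q L ⊔ J.map (algebraMap B L) := by
    intro x
    have halg : algebraMap A (L ⧸ J.map (algebraMap B L)) =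
        (Ideal.Quotient.mk (J.map (algebraMap B L))).comp (algebraMap A L) := rfl
    rw [hp, halg, ← Ideal.map_map, Ideal.mem_quotient_iff_mem_sup]
  have hreg₁ : ∀ x : L ⧸ J.map (algebraMap B L),
      IsLocalization.mk' (L ⧸ J.map (algebraMap B L)) (Ideal.Quotient.mk J b)
        (1 : (q.map (Ideal.Quotient.mk J)).primeCompl) * x ∈
        Ideal.map (algebraMap A (L ⧸ J.map (algebraMap B L)))
          ((q.map (Ideal.Quotient.mk J)).comap (algebraMap A (B ⧸ J))) →
      x ∈ Ideal.map (algebraMap A (L ⧸ J.map (algebraMap B L)))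
          ((q.map (Ideal.Quotient.mk J)).comap (algebraMap A (B ⧸ J))) := by
    intro x hx
    obtain ⟨x, rfl⟩ := Ideal.Quotient.mk_surjective x
    rw [IsLocalization.mk'_one] at hx
    have h1 : algebraMap (B ⧸ J) (L ⧸ J.map (algebraMap B L)) (Ideal.Quotient.mk J b) =
        Ideal.Quotient.mk (J.map (algebraMap B L)) (algebraMap B L b) := rfl
    rw [h1, ← map_mul, hfib] at hx
    rw [hfib]
    exact hreg x hx
  obtain ⟨hregB, g₁, hg₁, hU₁, hU₂⟩ := Groth.Agent.Lib27.Slice.exists_flat_nbhd
    (q.map (Ideal.Quotient.mk J)) (L ⧸ J.map (algebraMap B L)) (Ideal.Quotient.mk J b) 1 hreg₁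
  obtain ⟨g₃, hg₃, hkill⟩ := Groth.Agent.Lib27.Slice.exists_kill
    (q.map (Ideal.Quotient.mk J)) (L ⧸ J.map (algebraMap B L)) (Ideal.Quotient.mk J b) g₁ hg₁
    hU₂ hregB
  obtain ⟨γ₁, rfl⟩ := Ideal.Quotient.mk_surjective g₁
  obtain ⟨γ₃, rfl⟩ := Ideal.Quotient.mk_surjective g₃
  have hγ₁ : γ₁ ∉ q := fun h => hg₁ (Ideal.mem_map_of_mem _ h)
  have hγ₃ : γ₃ ∉ q := fun h => hg₃ (Ideal.mem_map_of_mem _ h)
  refine ⟨γ₁ * γ₃, fun h => (Ideal.IsPrime.mem_or_mem inferInstance h).elim hγ₁ hγ₃, ?_⟩
  intro c hc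
  have h1 : Ideal.Quotient.mk J b * Ideal.Quotient.mk J c = 0 := by
    rw [← map_mul]
    exact Ideal.Quotient.eq_zero_iff_mem.mpr hc
  obtain ⟨m, hm⟩ := hkill _ h1
  refine ⟨m + 1, ?_⟩
  rw [← map_pow, ← map_mul, ← map_mul, Ideal.Quotient.eq_zero_iff_mem] at hm
  have : (γ₁ * γ₃) ^ (m + 1) * c = (γ₁ * γ₃ ^ m) * (γ₁ ^ m * (γ₃ * c)) := by ring
  rw [this]
  exact Ideal.mul_mem_left _ _ hm

end Q



open Groth.Agent.Lib27.LocalCore Groth.Agent.Lib.Helper18 Groth.Agent.Lib.Helper23.QFFlat

/-- lifting a list of elements of a localization to numerators: the ideals agree. -/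
theorem map_ofList_map_eq {B : Type*} [CommRing B] (M : Submonoid B) (L : Type*)
    [CommRing L] [Algebra B L] [IsLocalization M L] (β : L → B) (σ : L → M)
    (hβ : ∀ h : L, h * algebraMap B L (σ h) = algebraMap B L (β h)) (l : List L) :
    (Ideal.ofList (l.map β)).map (algebraMap B L) = Ideal.ofList l := by
  induction l with
  | nil => simp
  | cons h t ih =>
    rw [List.map_cons, Ideal.ofList_cons, Ideal.map_sup, ih, Ideal.ofList_cons, Ideal.map_span,
      Set.image_singleton]
    congr 1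
    rw [← hβ]
    exact Ideal.span_singleton_mul_right_unit (IsLocalization.map_units L (σ h)) h

theorem fg_ofList {B : Type*} [CommRing B] (l : List B) : (Ideal.ofList l).FG := by
  classical
  refine ⟨l.toFinset, ?_⟩
  rw [Ideal.ofList]
  congr 1
  ext x
  simp

/-- **Weak regularity on a principal localization from elementwise torsion statements.** -/
theorem isWeaklyRegular_away {B : Type*} [CommRing B] (g : B) (Bg : Type*) [CommRing Bg]
    [Algebra B Bg] [IsLocalization.Away g Bg] (rs : List B)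
    (H : ∀ (i : ℕ) (hi : i < rs.length) (c : B), rs[i] * c ∈ Ideal.ofList (rs.take i) →
      ∃ m : ℕ, g ^ m * c ∈ Ideal.ofList (rs.take i)) :
    RingTheory.Sequence.IsWeaklyRegular Bg (rs.map (algebraMap B Bg)) := by
  refine ⟨fun i hi => ?_⟩
  have hi' : i < rs.length := by simpa using hi
  have hI : (Ideal.ofList ((rs.map (algebraMap B Bg)).take i) • (⊤ : Submodule Bg Bg)) =
      (Ideal.ofList (rs.take i)).map (algebraMap B Bg) := by
    rw [smul_eq_mul, Ideal.mul_top, ← List.map_take, Ideal.map_ofList]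
  have hget : (rs.map (algebraMap B Bg))[i] = algebraMap B Bg rs[i] := by simp
  rw [hget]
  intro y₁ y₂ hy
  rw [← sub_eq_zero] at hy ⊢
  change algebraMap B Bg rs[i] • y₁ - algebraMap B Bg rs[i] • y₂ = 0 at hy
  rw [← smul_sub] at hy
  obtain ⟨y, hyy⟩ := Submodule.Quotient.mk_surjective _ (y₁ - y₂)
  rw [← hyy] at hy ⊢
  rw [← Submodule.Quotient.mk_smul, Submodule.Quotient.mk_eq_zero, hI, smul_eq_mul] at hy
  rw [Submodule.Quotient.mk_eq_zero, hI]
  obtain ⟨c, s, rfl⟩ := IsLocalization.exists_mk'_eq (Submonoid.powers g) y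
  -- clear denominators
  have h1 : algebraMap B Bg (rs[i] * c) ∈ (Ideal.ofList (rs.take i)).map (algebraMap B Bg) := by
    have : algebraMap B Bg (rs[i] * c) = algebraMap B Bg (s : B) *
        (algebraMap B Bg rs[i] * IsLocalization.mk' Bg c s) := by
      rw [map_mul, mul_left_comm, IsLocalization.mk'_spec' Bg c s]
    rw [this]
    exact Ideal.mul_mem_left _ _ hy
  rw [IsLocalization.mem_map_algebraMap_iff (Submonoid.powers g) Bg] at h1
  obtain ⟨⟨j, t⟩, hjt⟩ := h1
  rw [← map_mul, IsLocalization.eq_iff_exists (Submonoid.powers g) Bg] at hjt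
  obtain ⟨w, hw⟩ := hjt
  have h2 : rs[i] * ((w : B) * (t : B) * c) ∈ Ideal.ofList (rs.take i) := by
    have : rs[i] * ((w : B) * (t : B) * c) = (w : B) * (rs[i] * c * (t : B)) := by ring
    rw [this, hw]
    exact Ideal.mul_mem_left _ _ j.2
  obtain ⟨m, hm⟩ := H i hi' _ h2
  have hu : IsUnit (algebraMap B Bg (g ^ m * ((w : B) * (t : B)))) := by
    rw [map_mul, map_mul, map_pow]
    exact ((IsLocalization.Away.algebraMap_isUnit g).pow m).mul
      ((IsLocalization.map_units Bg w).mul (IsLocalization.map_units Bg t))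
  have h3 : algebraMap B Bg (g ^ m * ((w : B) * (t : B))) * IsLocalization.mk' Bg c s ∈
      (Ideal.ofList (rs.take i)).map (algebraMap B Bg) := by
    have : algebraMap B Bg (g ^ m * ((w : B) * (t : B))) * IsLocalization.mk' Bg c s =
        IsLocalization.mk' Bg (g ^ m * ((w : B) * (t : B) * c)) s := by
      rw [IsLocalization.mul_mk'_eq_mk'_of_mul]
      congr 1
      ring
    rw [this, IsLocalization.mk'_mem_map_algebraMap_iff]
    exact ⟨1, Submonoid.one_mem _, by rw [one_mul]; exact hm⟩
  exact (Ideal.unit_mul_mem_iff_mem _ hu).mp h3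

section

variable {A B : Type u} [CommRing A] [CommRing B] [Algebra A B]

/-- flatness of the quotient of a localization from flatness of the localized quotient. -/
theorem flat_quotient_map_of_localizedModule (T : Submonoid B) (L : Type u) [CommRing L]
    [Algebra B L] [Algebra A L] [IsScalarTower A B L] [IsLocalization T L] (J : Ideal B)
    (h : Module.Flat A (LocalizedModule T (B ⧸ J))) :
    Module.Flat A (L ⧸ J.map (algebraMap B L)) := by
  haveI : IsLocalizedModule T (Algebra.linearMap B L) := inferInstance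
  have hN : (J : Submodule B B).localized' L T (Algebra.linearMap B L) =
      J.map (algebraMap B L) := Ideal.localized'_eq_map L T J
  have e := (IsLocalizedModule.iso T
    ((J : Submodule B B).toLocalizedQuotient' L T (Algebra.linearMap B L)))
  have e2 := e.restrictScalars A
  have e3 : (L ⧸ (J : Submodule B B).localized' L T (Algebra.linearMap B L))
      ≃ₗ[A] (L ⧸ J.map (algebraMap B L)) :=
    (Submodule.quotEquivOfEq _ _ hN).restrictScalars A
  exact Module.Flat.of_linearEquiv (e2.trans e3).symm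

end



open Groth.Agent.Lib27.LocalCore Groth.Agent.Lib.Helper18 Groth.Agent.Lib.Helper23.QFFlat

/-- variant of `quasiFiniteAt_quot` with maximality in the fibre stated on primes of `B`. -/
theorem quasiFiniteAt_quot' {A B : Type u} [CommRing A] [CommRing B] [Algebra A B]
    [Algebra.FiniteType A B] (p : Ideal A) [p.IsPrime] (q : Ideal B) [q.IsPrime]
    (hqp : q.comap (algebraMap A B) = p)
    (hmax : ∀ q' : Ideal B, q'.IsPrime → q ≤ q' → q'.comap (algebraMap A B) = p → q' = q)
    (L : Type u) [CommRing L] [Algebra B L] [Algebra A L] [IsScalarTower A B L]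
    [IsLocalization.AtPrime L q] (J : Ideal B) (hJq : J ≤ q)
    (hdim : ringKrullDim (L ⧸ (fibIdeal (A := A) q L ⊔ J.map (algebraMap B L))) = 0) :
    ∃ _ : (q.map (Ideal.Quotient.mk J)).IsPrime,
      (q.map (Ideal.Quotient.mk J)).LiesOver p ∧
      Algebra.QuasiFiniteAt A (q.map (Ideal.Quotient.mk J)) := by
  haveI : IsLocalRing L := IsLocalization.AtPrime.isLocalRing L q
  have hker : RingHom.ker (Ideal.Quotient.mk J) ≤ q := by rw [Ideal.mk_ker]; exact hJq
  have hcm : (q.map (Ideal.Quotient.mk J)).comap (Ideal.Quotient.mk J) = q := by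
    rw [Ideal.comap_map_of_surjective _ Ideal.Quotient.mk_surjective, ← RingHom.ker_eq_comap_bot]
    exact sup_eq_left.mpr hker
  haveI hprime : (q.map (Ideal.Quotient.mk J)).IsPrime :=
    Ideal.map_isPrime_of_surjective Ideal.Quotient.mk_surjective hker
  have halg : algebraMap A (B ⧸ J) = (Ideal.Quotient.mk J).comp (algebraMap A B) := rfl
  haveI hlies : (q.map (Ideal.Quotient.mk J)).LiesOver p := by
    constructor
    rw [Ideal.under_def, halg, ← Ideal.comap_comap, hcm, hqp]
  refine ⟨hprime, hlies, ?_⟩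
  have hr_over : ∀ P' : Ideal (B ⧸ J), P'.LiesOver p →
      (P'.comap (Ideal.Quotient.mk J)).comap (algebraMap A B) = p := by
    intro P' h
    rw [Ideal.comap_comap, ← halg]
    exact h.over.symm
  apply quasiFiniteAt_of_isMax_isMin p
  · intro P' hP' hP'p hle
    haveI := hP'
    set r := P'.comap (Ideal.Quotient.mk J) with hr
    have hqr : q ≤ r := by rw [← hcm]; exact Ideal.comap_mono hle
    have hrp : r.comap (algebraMap A B) = p := hr_over P' hP'p
    have h6 : r = q := hmax r inferInstance hqr hrp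
    rw [← Ideal.map_comap_of_surjective _ Ideal.Quotient.mk_surjective P', ← hr, h6]
  · intro P' hP' hP'p hle
    haveI := hP'
    set r := P'.comap (Ideal.Quotient.mk J) with hr
    have hrq : r ≤ q := by rw [← hcm]; exact Ideal.comap_mono hle
    have hrp : r.comap (algebraMap A B) = p := hr_over P' hP'p
    have hJr : J ≤ r := by
      rw [← Ideal.mk_ker (I := J), RingHom.ker_eq_comap_bot]
      exact Ideal.comap_mono bot_le
    have hdisj : Disjoint (q.primeCompl : Set B) (r : Set B) := by
      rw [Set.disjoint_left]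
      intro x hx hxr
      exact hx (hrq hxr)
    have hr'prime : (r.map (algebraMap B L)).IsPrime :=
      IsLocalization.isPrime_of_isPrime_disjoint q.primeCompl L r inferInstance hdisj
    have hr'comap : (r.map (algebraMap B L)).comap (algebraMap B L) = r :=
      IsLocalization.under_map_of_isPrime_disjoint q.primeCompl L inferInstance hdisj
    have hK : fibIdeal (A := A) q L ⊔ J.map (algebraMap B L) ≤ r.map (algebraMap B L) := by
      refine sup_le ?_ (Ideal.map_mono hJr)
      rw [Ideal.map_le_iff_le_comap, IsScalarTower.algebraMap_eq A B L, ← Ideal.comap_comap,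
        hr'comap, hqp, hrp]
    have hKD : Ring.KrullDimLE 0 (L ⧸ (fibIdeal (A := A) q L ⊔ J.map (algebraMap B L))) :=
      Ring.krullDimLE_iff.mpr (le_of_eq hdim)
    obtain ⟨m', hm', hm'le⟩ := Ideal.exists_minimalPrimes_le hK
    have hm'max := Ideal.krullDimLE_zero_quotient_iff_forall_minimalPrimes_isMaximal.mp hKD m' hm'
    have hm'eq : m' = IsLocalRing.maximalIdeal L := IsLocalRing.eq_maximalIdeal hm'max
    have hr'eq : r.map (algebraMap B L) = IsLocalRing.maximalIdeal L :=
      le_antisymm (IsLocalRing.le_maximalIdeal hr'prime.ne_top) (hm'eq ▸ hm'le)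
    have h6 : r = q := by
      rw [← hr'comap, hr'eq]
      exact IsLocalization.AtPrime.under_maximalIdeal L q
    rw [← Ideal.map_comap_of_surjective _ Ideal.Quotient.mk_surjective P', ← hr, h6]



open Groth.Agent.Lib27.LocalCore Groth.Agent.Lib.Helper18 Groth.Agent.Lib.Helper23.QFFlat

set_option maxHeartbeats 1600000 in
/-- **Slicing a Cohen–Macaulay point down to a quasi-finite flat one (ring core).** -/
theorem exists_slice_cm {A B : Type u} [CommRing A] [CommRing B] [Algebra A B]
    [Algebra.FinitePresentation A B] (q : Ideal B) [q.IsPrime]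
    (L : Type u) [CommRing L] [Algebra B L] [Algebra A L] [IsScalarTower A B L]
    [IsLocalization.AtPrime L q] [Module.Flat A L]
    (hCM : LocCoh.IsCohenMacaulayLocalRing (L ⧸ fibIdeal (A := A) q L))
    (hmax : ∀ q' : Ideal B, q'.IsPrime → q ≤ q' →
      q'.comap (algebraMap A B) = q.comap (algebraMap A B) → q' = q) :
    ∃ (g : B) (bs : List B), g ∉ q ∧ (∀ b ∈ bs, b ∈ q) ∧
      ∀ (Bg : Type u) [CommRing Bg] [Algebra B Bg] [Algebra A Bg] [IsScalarTower A B Bg]
        [IsLocalization.Away g Bg],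
        RingTheory.Sequence.IsRegular Bg (bs.map (algebraMap B Bg)) ∧
        Module.Flat A (Bg ⧸ Ideal.ofList (bs.map (algebraMap B Bg))) ∧
        Algebra.QuasiFinite A (Bg ⧸ Ideal.ofList (bs.map (algebraMap B Bg))) ∧
        ∀ P : Ideal Bg, P.IsPrime → Ideal.ofList (bs.map (algebraMap B Bg)) ≤ P →
          P.comap (algebraMap A Bg) = q.comap (algebraMap A B) →
          P.comap (algebraMap B Bg) = q := by
  classical
  haveI : IsLocalRing L := IsLocalization.AtPrime.isLocalRing L q
  obtain ⟨hs, hmem, hreg, hdim⟩ := exists_regSeq_of_cm (fibIdeal (A := A) q L) hCM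
  -- numerators
  have hsurj : ∀ h : L, ∃ bσ : B × q.primeCompl,
      h * algebraMap B L bσ.2 = algebraMap B L bσ.1 := fun h => IsLocalization.surj q.primeCompl h
  choose bσ hbσ using hsurj
  obtain ⟨β, hβdef⟩ : ∃ β : L → B, β = fun h => (bσ h).1 := ⟨_, rfl⟩
  obtain ⟨σ, hσdef⟩ : ∃ σ : L → q.primeCompl, σ = fun h => (bσ h).2 := ⟨_, rfl⟩
  have hβ : ∀ h, h * algebraMap B L (σ h) = algebraMap B L (β h) := by
    intro h
    rw [hβdef, hσdef]
    exact hbσ h
  obtain ⟨bs, hbs⟩ : ∃ bs : List B, bs = hs.map β := ⟨_, rfl⟩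
  have hlen : bs.length = hs.length := by rw [hbs, List.length_map]
  have hJmap : ∀ l : List L, (Ideal.ofList (l.map β)).map (algebraMap B L) = Ideal.ofList l :=
    map_ofList_map_eq q.primeCompl L β σ hβ
  have hbsq : ∀ b ∈ bs, b ∈ q := by
    intro b hb
    rw [hbs] at hb
    obtain ⟨h, hh, rfl⟩ := List.mem_map.mp hb
    have h1 : algebraMap B L (β h) ∈ IsLocalRing.maximalIdeal L := by
      rw [← hβ]
      exact Ideal.mul_mem_right _ _ (hmem h hh)
    exact (IsLocalization.AtPrime.to_map_mem_maximal_iff L q (β h)).mp h1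
  have hJq : ∀ l : List B, (∀ b ∈ l, b ∈ q) → Ideal.ofList l ≤ q := fun l hl => by
    rw [Ideal.ofList, Ideal.span_le]
    exact fun x hx => hl x hx
  have htake : ∀ i, bs.take i = (hs.take i).map β := fun i => by rw [hbs, List.map_take]
  have hJi : ∀ i, (Ideal.ofList (bs.take i)).map (algebraMap B L) = Ideal.ofList (hs.take i) :=
    fun i => by rw [htake, hJmap]
  have hJiq : ∀ i, Ideal.ofList (bs.take i) ≤ q := fun i =>
    hJq _ (fun b hb => hbsq b (List.mem_of_mem_take hb))
  -- flatness of all partial quotients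
  have hflat : ∀ i, Module.Flat A (L ⧸ (Ideal.ofList (bs.take i)).map (algebraMap B L)) := by
    intro i
    have hregi : RingTheory.Sequence.IsWeaklyRegular
        (L ⧸ (fibIdeal (A := A) q L) • (⊤ : Submodule L L)) (hs.take i) := by
      have h0 := hreg
      rw [← List.take_append_drop i hs, RingTheory.Sequence.isWeaklyRegular_append_iff] at h0
      exact h0.1
    have h1 := flat_quot_ofList (A := A) q L (hs.take i) L hregi
    have hsm : (Ideal.ofList (hs.take i) • (⊤ : Submodule L L)) =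
        (Ideal.ofList (bs.take i)).map (algebraMap B L) := by
      rw [smul_eq_mul, Ideal.mul_top, hJi]
    exact Module.Flat.of_linearEquiv ((Submodule.quotEquivOfEq _ _ hsm).restrictScalars A).symm
  -- spreading out regularity
  have hkill : ∀ (i : ℕ) (hi : i < bs.length), ∃ g : B, g ∉ q ∧ ∀ c : B,
      bs[i] * c ∈ Ideal.ofList (bs.take i) → ∃ m : ℕ, g ^ m * c ∈ Ideal.ofList (bs.take i) := by
    intro i hi
    have hi' : i < hs.length := hlen ▸ hi
    refine exists_kill_mod q L (Ideal.ofList (bs.take i)) (fg_ofList _) (hJiq i) _ (hflat i) ?_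
    intro x hx
    rw [hJi] at hx ⊢
    have hbi : bs[i] = β hs[i] := by simp [hbs]
    rw [hbi, ← hβ, mul_assoc] at hx
    have h2 := mul_mem_sup_ofList_take (fibIdeal (A := A) q L) hs hreg i hi' _ hx
    exact (Ideal.unit_mul_mem_iff_mem _ (IsLocalization.map_units L (σ hs[i]))).mp h2
  choose gk hgk hgkill using hkill
  -- the full ideal
  obtain ⟨J, hJdef⟩ : ∃ J : Ideal B, J = Ideal.ofList bs := ⟨_, rfl⟩
  have hJfull : Ideal.ofList (bs.take bs.length) = J := by rw [List.take_length, hJdef]
  have hJfg : J.FG := hJdef ▸ fg_ofList bs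
  have hJleq : J ≤ q := hJdef ▸ hJq bs hbsq
  have hJL : J.map (algebraMap B L) = Ideal.ofList hs := by rw [hJdef, hbs, hJmap]
  haveI hflatJ : Module.Flat A (L ⧸ J.map (algebraMap B L)) := by
    have := hflat bs.length
    rwa [hJfull] at this
  have hFB := flat_localizedModule_quotient (A := A) q.primeCompl L J hflatJ
  haveI : Module.FinitePresentation B (B ⧸ J) := by
    refine Module.finitePresentation_of_surjective (Submodule.mkQ _)
      (Submodule.mkQ_surjective _) ?_
    rw [Submodule.ker_mkQ]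
    exact hJfg
  obtain ⟨gfl, hgfl, hfl⟩ := Groth.Agent.Lib27.Slice.exists_basicOpen_flat q (B ⧸ J) hFB
  rw [← hJL] at hdim
  obtain ⟨hqbprime, hqblies, hqf⟩ := quasiFiniteAt_quot' (q.comap (algebraMap A B)) q rfl hmax L J
    hJleq hdim
  haveI : Algebra.FinitePresentation A (B ⧸ J) := Algebra.FinitePresentation.quotient hJfg
  obtain ⟨r, hr, hrqf⟩ := Groth.Agent.Lib.Helper21.FibDim.exists_quasiFinite_away A (B ⧸ J)
    (q.map (Ideal.Quotient.mk J))
  obtain ⟨s, hsq, hsiso⟩ := Ideal.exists_not_mem_forall_mem_of_ne_of_liesOver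
    (q.comap (algebraMap A B)) (q.map (Ideal.Quotient.mk J))
  obtain ⟨ρ, rfl⟩ := Ideal.Quotient.mk_surjective r
  obtain ⟨σ₀, rfl⟩ := Ideal.Quotient.mk_surjective s
  have hρ : ρ ∉ q := fun h => hr (Ideal.mem_map_of_mem _ h)
  have hσ₀ : σ₀ ∉ q := fun h => hsq (Ideal.mem_map_of_mem _ h)
  have hker : RingHom.ker (Ideal.Quotient.mk J) ≤ q := by rw [Ideal.mk_ker]; exact hJleq
  have hcm : (q.map (Ideal.Quotient.mk J)).comap (Ideal.Quotient.mk J) = q := by
    rw [Ideal.comap_map_of_surjective _ Ideal.Quotient.mk_surjective, ← RingHom.ker_eq_comap_bot]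
    exact sup_eq_left.mpr hker
  obtain ⟨g₁, hg₁def⟩ : ∃ g₁ : B, g₁ = ∏ i : Fin bs.length, gk i i.2 := ⟨_, rfl⟩
  have hg₁ : g₁ ∉ q := by
    rw [hg₁def]
    intro h
    obtain ⟨i, -, hi⟩ := Ideal.IsPrime.prod_mem_iff.mp h
    exact hgk i i.2 hi
  have hg₁dvd : ∀ (i : ℕ) (hi : i < bs.length), gk i hi ∣ g₁ := by
    intro i hi
    rw [hg₁def]
    exact Finset.dvd_prod_of_mem (fun j : Fin bs.length => gk j j.2) (Finset.mem_univ ⟨i, hi⟩)
  obtain ⟨g, hgdef⟩ : ∃ g : B, g = g₁ * gfl * ρ * σ₀ := ⟨_, rfl⟩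
  have hgq : g ∉ q := by
    rw [hgdef]
    intro h
    rcases Ideal.IsPrime.mem_or_mem inferInstance h with h | h
    · rcases Ideal.IsPrime.mem_or_mem inferInstance h with h | h
      · rcases Ideal.IsPrime.mem_or_mem inferInstance h with h | h
        · exact hg₁ h
        · exact hgfl h
      · exact hρ h
    · exact hσ₀ h
  have hdvd₁ : g₁ ∣ g := ⟨gfl * ρ * σ₀, by rw [hgdef]; ring⟩
  have hdvdfl : gfl ∣ g := ⟨g₁ * ρ * σ₀, by rw [hgdef]; ring⟩
  have hdvdρ : ρ ∣ g := ⟨g₁ * gfl * σ₀, by rw [hgdef]; ring⟩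
  have hdvdσ : σ₀ ∣ g := ⟨g₁ * gfl * ρ, by rw [hgdef]; ring⟩
  refine ⟨g, bs, hgq, hbsq, ?_⟩
  intro Bg _ _ _ _ _
  have hgunit : IsUnit (algebraMap B Bg g) := IsLocalization.Away.algebraMap_isUnit g
  have hofList : Ideal.ofList (bs.map (algebraMap B Bg)) = J.map (algebraMap B Bg) := by
    rw [hJdef, Ideal.map_ofList]
  -- the prime `q Bg`
  have hdisj : Disjoint (Submonoid.powers g : Set B) (q : Set B) := by
    rw [Set.disjoint_left]
    rintro _ ⟨n, rfl⟩ hx
    exact hgq (Ideal.IsPrime.mem_of_pow_mem inferInstance n hx)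
  have hqBg : (q.map (algebraMap B Bg)).IsPrime :=
    IsLocalization.isPrime_of_isPrime_disjoint (Submonoid.powers g) Bg q inferInstance hdisj
  refine ⟨⟨isWeaklyRegular_away g Bg bs ?_, ?_⟩, ?_, ?_, ?_⟩
  · -- weak regularity
    intro i hi c hc
    obtain ⟨m, hm⟩ := hgkill i hi c hc
    obtain ⟨w, hw⟩ := (hg₁dvd i hi).trans hdvd₁
    refine ⟨m, ?_⟩
    rw [hw, mul_pow, mul_assoc, mul_left_comm]
    exact Ideal.mul_mem_left _ _ hm
  · -- properness
    intro htop
    rw [smul_eq_mul, Ideal.mul_top, hofList] at htop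
    have h1 : J.map (algebraMap B Bg) ≤ q.map (algebraMap B Bg) := Ideal.map_mono hJleq
    exact hqBg.ne_top (top_le_iff.mp (htop ▸ h1))
  · -- flatness
    rw [hofList]
    apply flat_quotient_map_of_localizedModule (A := A) (Submonoid.powers g) Bg J
    rw [Fl.flat_localizedModule_iff_forall_prime]
    intro Q hQ hdis
    haveI := hQ
    refine hfl Q (fun h => ?_)
    have : g ∈ Q := by
      obtain ⟨w, hw⟩ := hdvdfl
      rw [hw]
      exact Ideal.mul_mem_right _ _ h
    exact Set.disjoint_left.mp hdis this (Submonoid.mem_powers g)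
  · -- quasi-finiteness
    rw [hofList]
    haveI : IsScalarTower A (B ⧸ J) (Bg ⧸ J.map (algebraMap B Bg)) :=
      IsScalarTower.of_algebraMap_eq (fun a => by
        change Ideal.Quotient.mk _ (algebraMap A Bg a) =
          Ideal.Quotient.mk _ (algebraMap B Bg (algebraMap A B a))
        rw [← IsScalarTower.algebraMap_apply])
    have halg : ∀ x : B, algebraMap (B ⧸ J) (Bg ⧸ J.map (algebraMap B Bg))
        (Ideal.Quotient.mk J x) = Ideal.Quotient.mk _ (algebraMap B Bg x) := fun x => rfl
    have hunit : IsUnit (algebraMap (B ⧸ J) (Bg ⧸ J.map (algebraMap B Bg))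
        (Ideal.Quotient.mk J ρ)) := by
      rw [halg]
      apply IsUnit.map
      obtain ⟨w, hw⟩ := hdvdρ
      rw [hw, map_mul] at hgunit
      exact isUnit_of_mul_isUnit_left hgunit
    let f : Localization.Away (Ideal.Quotient.mk J ρ) →ₐ[B ⧸ J]
        (Bg ⧸ J.map (algebraMap B Bg)) :=
      IsLocalization.Away.liftAlgHom (Ideal.Quotient.mk J ρ) (f := Algebra.ofId _ _) hunit
    refine Algebra.QuasiFinite.of_forall_exists_mul_mem_range (f.restrictScalars A) fun x => ?_
    obtain ⟨y, rfl⟩ := Ideal.Quotient.mk_surjective x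
    obtain ⟨c, t, rfl⟩ := IsLocalization.exists_mk'_eq (Submonoid.powers g) y
    have h1 : (f.restrictScalars A) (algebraMap (B ⧸ J) _ (Ideal.Quotient.mk J (t : B))) =
        Ideal.Quotient.mk _ (algebraMap B Bg (t : B)) := f.commutes _
    have h2 : (f.restrictScalars A) (algebraMap (B ⧸ J) _ (Ideal.Quotient.mk J c)) =
        Ideal.Quotient.mk _ (algebraMap B Bg c) := f.commutes _
    refine ⟨algebraMap _ _ (Ideal.Quotient.mk J (t : B)), ?_, algebraMap _ _ (Ideal.Quotient.mk J c),
      ?_⟩
    · rw [h1]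
      exact (IsLocalization.map_units Bg t).map _
    · simp only [AlgHom.toRingHom_eq_coe, RingHom.coe_coe]
      rw [h1, h2, ← map_mul, IsLocalization.mk'_spec]
  · -- isolation
    intro P hP hJP hPp
    haveI := hP
    rw [hofList] at hJP
    by_contra hne
    have hJP' : J ≤ P.comap (algebraMap B Bg) := Ideal.map_le_iff_le_comap.mp hJP
    have hkerP : RingHom.ker (Ideal.Quotient.mk J) ≤ P.comap (algebraMap B Bg) := by
      rw [Ideal.mk_ker]; exact hJP'
    have hcmP : ((P.comap (algebraMap B Bg)).map (Ideal.Quotient.mk J)).comap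
        (Ideal.Quotient.mk J) = P.comap (algebraMap B Bg) := by
      rw [Ideal.comap_map_of_surjective _ Ideal.Quotient.mk_surjective,
        ← RingHom.ker_eq_comap_bot]
      exact sup_eq_left.mpr hkerP
    have hq'prime : ((P.comap (algebraMap B Bg)).map (Ideal.Quotient.mk J)).IsPrime :=
      Ideal.map_isPrime_of_surjective Ideal.Quotient.mk_surjective hkerP
    have hq'ne : (P.comap (algebraMap B Bg)).map (Ideal.Quotient.mk J) ≠
        q.map (Ideal.Quotient.mk J) := by
      intro heq
      apply hne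
      rw [← hcmP, heq, hcm]
    have hq'lies : ((P.comap (algebraMap B Bg)).map (Ideal.Quotient.mk J)).LiesOver
        (q.comap (algebraMap A B)) := by
      constructor
      have halg : algebraMap A (B ⧸ J) = (Ideal.Quotient.mk J).comp (algebraMap A B) := rfl
      rw [Ideal.under_def, halg, ← Ideal.comap_comap, hcmP, Ideal.comap_comap,
        ← IsScalarTower.algebraMap_eq, hPp]
    have h1 := hsiso _ hq'prime hq'ne hq'lies
    have h2 : σ₀ ∈ P.comap (algebraMap B Bg) := by
      rw [← hcmP]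
      exact h1
    have h3 : algebraMap B Bg g ∈ P := by
      obtain ⟨w, hw⟩ := hdvdσ
      rw [hw, map_mul]
      exact Ideal.mul_mem_right _ _ h2
    exact hP.ne_top (Ideal.eq_top_of_isUnit_mem _ h3 hgunit)

end Groth.Agent.Lib.Helper23.SliceCM
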