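import Groth.Agent.Lib.Helper23.FieldSep2

/-!
Noetherian (local) ring formally smooth over a field ⇒ regular; Jacobi–Zariski criterion for formal smoothness of a field extension.
-/

set_option autoImplicit false
universe u v w
open TensorProduct KaehlerDifferential

namespace Groth.Agent.Lib.Helper23.FieldSep


open Groth.Agent.Lib.Helper23.FieldSep Groth.Agent.Lib.Helper23.FieldSmooth

/-- A Noetherian local ring formally smooth over a field is regular. -/
theorem isRegularLocalRing_of_formallySmooth_field (K T : Type u) [Field K] [CommRing T]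
    [Algebra K T] [IsLocalRing T] [IsNoetherianRing T] [Algebra.FormallySmooth K T] :
    IsRegularLocalRing T := by
  obtain ⟨Λ, _, _, -, hperf⟩ := Groth.Agent.S4571.exists_primeField K
  letI : Algebra Λ T := ((algebraMap K T).comp (algebraMap Λ K)).toAlgebra
  haveI : IsScalarTower Λ K T := IsScalarTower.of_algebraMap_eq (fun _ => rfl)
  haveI : Algebra.FormallySmooth Λ K := formallySmooth_of_perfectField Λ K
  haveI : Algebra.FormallySmooth Λ T := Algebra.FormallySmooth.comp Λ K T
  exact isRegularLocalRing_of_formallySmooth Λ T

/-- A Noetherian ring formally smooth over a field is regular. -/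
theorem isRegularRing_of_formallySmooth_field (K T : Type u) [Field K] [CommRing T]
    [Algebra K T] [IsNoetherianRing T] [Algebra.FormallySmooth K T] : IsRegularRing T := by
  rw [isRegularRing_iff]
  intro q hq
  haveI : IsNoetherianRing (Localization.AtPrime q) :=
    IsLocalization.isNoetherianRing q.primeCompl _ inferInstance
  exact isRegularLocalRing_of_formallySmooth_field K (Localization.AtPrime q)

/-- Jacobi–Zariski: if `K` is formally smooth over `Λ` and `K ⊗ Ω_{k/Λ} → Ω_{K/Λ}` is injective then
the field extension `K/k` is formally smooth. -/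
theorem formallySmooth_of_injective_of_formallySmooth (Λ : Type w) (k K : Type u) [CommRing Λ]
    [Field k] [Field K] [Algebra Λ k] [Algebra k K] [Algebra Λ K] [IsScalarTower Λ k K]
    [Algebra.FormallySmooth Λ K]
    (hinj : Function.Injective (mapBaseChange Λ k K)) : Algebra.FormallySmooth k K := by
  refine ⟨inferInstance, ?_⟩
  refine ⟨fun x y => ?_⟩
  have hx : ∀ x : Algebra.H1Cotangent k K, x = 0 := by
    intro x
    have h1 : Algebra.H1Cotangent.δ Λ k K x = 0 := by
      apply hinj
      rw [map_zero]
      exact (Algebra.H1Cotangent.exact_δ_mapBaseChange Λ k K _).mpr ⟨x, rfl⟩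
    obtain ⟨y, rfl⟩ := (Algebra.H1Cotangent.exact_map_δ Λ k K x).mp h1
    rw [Subsingleton.elim y 0, map_zero]
  rw [hx x, hx y]

end Groth.Agent.Lib.Helper23.FieldSep
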