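import Mathlib
import Groth.Agent.S2452
import Groth.Agent.Lib.Helper23.CohenEq
import Groth.Agent.Lib.Helper18.SerreReg2

/-!
TFAE for Noetherian local algebras over a field with separable residue field: adic f.s. iff completion is a power series ring iff regular (helper23).
-/

set_option autoImplicit false
universe u
open IsLocalRing KaehlerDifferential TensorProduct

namespace Groth.Agent.Lib.Helper23.CohenEq2


open Groth.Agent.Lib.Helper23 Groth.Agent.Lib.Helper23.CohenEq

section Sep

variable {k A : Type u} [Field k] [CommRing A] [IsLocalRing A] [IsNoetherianRing A] [Algebra k A]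
    [Algebra.IsGeometricallyReduced k (ResidueField A)]

/-- regular local ring with separable residue field is adic formally smooth. -/
theorem adic_of_regular_of_sep (hreg : IsRegularLocalRing A) :
    CAlgX.IsAdicFormallySmooth k A (maximalIdeal A) := by
  rw [Groth.Agent.S4571.result]
  refine ⟨SymGrRegular.symGrBijective_of_isRegularLocalRing A, ?_⟩
  rw [injective_iff_map_eq_zero]
  intro w hw
  have h1 := FieldSep.mapBaseChange_lTensor ℤ k A (ResidueField A) w
  rw [hw, map_zero] at h1
  have h2 := FieldSep.injective_mapBaseChange_of_isGeometricallyReduced ℤ k (ResidueField A)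
  have h3 := (injective_iff_map_eq_zero _).mp h2 _ h1.symm
  exact (LinearEquiv.map_eq_zero_iff _).mp h3

/-- the residue field of the completion, as a `k`-algebra. -/
noncomputable def residueFieldEquiv :
    ResidueField A ≃ₐ[k] ResidueField (AdicCompletion (maximalIdeal A) A) :=
  { RingEquiv.ofBijective
      (IsLocalRing.ResidueField.map (algebraMap A (AdicCompletion (maximalIdeal A) A)))
      (AdicCompletion.residueField_map_bijective A) with
    commutes' := fun x => by
      show IsLocalRing.ResidueField.map (algebraMap A (AdicCompletion (maximalIdeal A) A))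
        (algebraMap k (ResidueField A) x) = algebraMap k _ x
      rw [IsScalarTower.algebraMap_apply k A (ResidueField A), ResidueField.algebraMap_eq,
        IsLocalRing.ResidueField.map_residue, ← IsScalarTower.algebraMap_apply,
        IsScalarTower.algebraMap_apply k (AdicCompletion (maximalIdeal A) A)
          (ResidueField (AdicCompletion (maximalIdeal A) A)), ResidueField.algebraMap_eq] }

theorem t2453main :
    [CAlgX.IsAdicFormallySmooth k A (maximalIdeal A),
     ∃ (n : ℕ) (e : AdicCompletion (maximalIdeal A) A ≃+* MvPowerSeries (Fin n) (ResidueField A)),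
       ∀ x : k, e (algebraMap A (AdicCompletion (maximalIdeal A) A) (algebraMap k A x)) =
         algebraMap (ResidueField A) (MvPowerSeries (Fin n) (ResidueField A)) (algebraMap k (ResidueField A) x),
     ∃ n : ℕ, Nonempty (AdicCompletion (maximalIdeal A) A ≃+* MvPowerSeries (Fin n) (ResidueField A)),
     IsRegularLocalRing A].TFAE := by
  tfae_have 1 → 2 := fun h => by
    have hreg : IsRegularLocalRing (AdicCompletion (maximalIdeal A) A) :=
      GeomRegular2.isRegularLocalRing_of_adic (adic_adicCompletion h)
    haveI : Algebra.IsGeometricallyReduced k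
        (ResidueField (AdicCompletion (maximalIdeal A) A)) :=
      Algebra.IsGeometricallyReduced.of_injective (residueFieldEquiv (k := k) (A := A)).symm.toAlgHom
        (residueFieldEquiv (k := k) (A := A)).symm.injective
    obtain ⟨σ, hσ⟩ := Groth.Agent.S2452.result (k := k) (A := AdicCompletion (maximalIdeal A) A)
    obtain ⟨n, e, he⟩ := exists_ringEquiv_powerSeries_of_regular
      (AdicCompletion (maximalIdeal A) A) (σ : _ →+* _) hσ
    refine ⟨n, e.symm.trans (mvPowerSeriesMapEquiv (Fin n)
      (residueFieldEquiv (k := k) (A := A)).symm.toRingEquiv), fun x => ?_⟩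
    have h1 : algebraMap A (AdicCompletion (maximalIdeal A) A) (algebraMap k A x) =
        e (MvPowerSeries.C (algebraMap k _ x)) := by
      rw [he, ← IsScalarTower.algebraMap_apply]
      exact (σ.commutes x).symm
    rw [h1, RingEquiv.trans_apply, RingEquiv.symm_apply_apply]
    have h2 : mvPowerSeriesMapEquiv (Fin n)
        (residueFieldEquiv (k := k) (A := A)).symm.toRingEquiv
        (MvPowerSeries.C (algebraMap k (ResidueField (AdicCompletion (maximalIdeal A) A)) x)) =
        MvPowerSeries.C ((residueFieldEquiv (k := k) (A := A)).symm
          (algebraMap k (ResidueField (AdicCompletion (maximalIdeal A) A)) x)) :=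
      mvPowerSeriesMapEquiv_C _ _ _
    rw [h2, (residueFieldEquiv (k := k) (A := A)).symm.commutes x]
    rfl
  tfae_have 2 → 3 := fun ⟨n, e, _⟩ => ⟨n, ⟨e⟩⟩
  tfae_have 3 → 4 := fun ⟨n, ⟨e⟩⟩ => by
    haveI : IsRegularLocalRing (AdicCompletion (maximalIdeal A) A) :=
      IsRegularLocalRing.of_ringEquiv e.symm
    exact Groth.Agent.Lib.Helper18.SerreReg.isRegularLocalRing_of_flat_of_isLocalHom A
      (AdicCompletion (maximalIdeal A) A)
  tfae_have 4 → 1 := adic_of_regular_of_sep
  tfae_finish

end Sep

end Groth.Agent.Lib.Helper23.CohenEq2
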