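import Mathlib
import Groth.Prelude.Def_EGA4b
import Groth.Agent.Lib.Helper18.FTCM
import Groth.Agent.Lib.Helper18.PMor
import Groth.Agent.Lib.Helper18.PMor3
import Groth.Agent.Lib.Helper18.PMor4
import Groth.Agent.Lib.Helper18.LocHom
import Groth.Agent.Lib.Helper18.CST2
import Groth.Agent.Lib.Helper25.RegularSmooth
import Groth.Agent.S2605
import Groth.Agent.Lib.Helper18.CplFlat
import Groth.Agent.Lib.Helper18.FormEquid1
import Groth.Agent.Lib.Helper21.AdicNoetherian

/-!
EGA IV 7.4.4 for the property Cohen-Macaulay (S2642): CM formal fibres ascend to essentially finite type local algebras.  isCohenMacaulayRing_tensor_of_essFiniteType' (K/k f.g. field ext, F CM k-algebra => K ⊗ F CM), isCohenMacaulayRing_fiber_baseChange (CM fibres are stable under ess. f.t. base change), isCohenMacaulayRing_fiber_of_isLocalization, exists_cm_presentation (local ring ess. f.t. over a complete Noetherian local ring is a quotient of a regular hence CM local ring), hasCMFormalFibres_of_essFiniteType_complete, hasCMFormalFibres_of_flat_local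 (descent along a flat local hom with CM fibres), main.
-/

set_option autoImplicit false
set_option linter.style.haveILetI false
set_option linter.unusedSectionVars false
universe u


namespace Groth.Agent.Lib.Helper23.CMAscent


open IsLocalRing TensorProduct Groth.Agent.Lib.Helper18.FTCM Groth.Agent.Lib.Helper18.FibQuot

section fields

open scoped IntermediateField.algebraAdjoinAdjoin

variable (k K F : Type u) [Field k] [Field K] [CommRing F] [Algebra k K] [Algebra k F]

/-- `K ⊗_k F` is Cohen–Macaulay for a finitely generated field extension `K/k` and a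
Cohen–Macaulay `k`-algebra `F`. -/
theorem isCohenMacaulayRing_tensor_of_essFiniteType' [Algebra.EssFiniteType k K]
    [hF : LocCoh.IsCohenMacaulayRing F] :
    LocCoh.IsCohenMacaulayRing (K ⊗[k] F) := by
  classical
  obtain ⟨s, hs⟩ := exists_isTranscendenceBasis k K
  haveI hfin : Finite s := finite_of_isTranscendenceBasis hs
  haveI : Algebra.Smooth F (MvPolynomial s F) := ⟨inferInstance, inferInstance⟩
  haveI hCM0 : LocCoh.IsCohenMacaulayRing (MvPolynomial s F) :=
    Groth.Agent.Lib.Helper18.UCat.isCohenMacaulayRing_of_smooth F (MvPolynomial s F)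
  let e₀ : MvPolynomial s k ≃ₐ[k] Algebra.adjoin k (Set.range (Subtype.val : s → K)) :=
    hs.1.aevalEquiv
  let e₁ : (Algebra.adjoin k (Set.range (Subtype.val : s → K))) ⊗[k] F ≃ₐ[k]
      (MvPolynomial s k) ⊗[k] F :=
    Algebra.TensorProduct.congr e₀.symm AlgEquiv.refl
  let e₂ : (MvPolynomial s k) ⊗[k] F ≃ₐ[k] F ⊗[k] (MvPolynomial s k) :=
    Algebra.TensorProduct.comm k _ _
  let e₃ : F ⊗[k] (MvPolynomial s k) ≃ₐ[F] MvPolynomial s F :=
    MvPolynomial.algebraTensorAlgEquiv k F
  haveI hCM1 : LocCoh.IsCohenMacaulayRing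
      ((Algebra.adjoin k (Set.range (Subtype.val : s → K))) ⊗[k] F) :=
    isCohenMacaulayRing_of_ringEquiv
      ((e₁.toRingEquiv.trans e₂.toRingEquiv).trans e₃.toRingEquiv).symm
  haveI hCM2 : LocCoh.IsCohenMacaulayRing
      ((IntermediateField.adjoin k (Set.range (Subtype.val : s → K))) ⊗[k] F) :=
    isCohenMacaulayRing_tensor_of_isLocalization k
      (Algebra.adjoin k (Set.range (Subtype.val : s → K)))
      (IntermediateField.adjoin k (Set.range (Subtype.val : s → K))) F
      (nonZeroDivisors (Algebra.adjoin k (Set.range (Subtype.val : s → K))))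
  haveI halg : Algebra.IsAlgebraic
      (IntermediateField.adjoin k (Set.range (Subtype.val : s → K))) K := hs.isAlgebraic_field
  haveI : Algebra.EssFiniteType (IntermediateField.adjoin k (Set.range (Subtype.val : s → K))) K :=
    Algebra.EssFiniteType.of_comp k _ K
  haveI : Module.Finite (IntermediateField.adjoin k (Set.range (Subtype.val : s → K))) K :=
    Algebra.finite_of_essFiniteType_of_isAlgebraic
  exact isCohenMacaulayRing_tensor_of_finite k
    (IntermediateField.adjoin k (Set.range (Subtype.val : s → K))) K F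

end fields

section baseChange

open Groth.Agent.Lib.Helper18.PMor

variable {B : Type u} [CommRing B] (C : Type u) [CommRing C] [Algebra B C]
  (B' : Type u) [CommRing B'] [Algebra B B'] [Algebra.EssFiniteType B B']

theorem isCohenMacaulayRing_fiber_baseChange
    (h : ∀ (q : Ideal B) [q.IsPrime], LocCoh.IsCohenMacaulayRing (q.Fiber C))
    (q' : Ideal B') [q'.IsPrime] :
    LocCoh.IsCohenMacaulayRing (q'.Fiber (B' ⊗[B] C)) := by
  let q := q'.under B
  letI := Localization.AtPrime.algebraOfLiesOver q q'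
  obtain ⟨e⟩ := nonempty_ringEquiv_fiber_baseChange C B' q' q q'.ResidueField
  have e0 := (Algebra.TensorProduct.lid q'.ResidueField (q'.Fiber (B' ⊗[B] C))).toRingEquiv
  haveI := h q
  haveI : LocCoh.IsCohenMacaulayRing (q'.ResidueField ⊗[q.ResidueField] (q.Fiber C)) :=
    isCohenMacaulayRing_tensor_of_essFiniteType' q.ResidueField q'.ResidueField (q.Fiber C)
  exact isCohenMacaulayRing_of_ringEquiv
    (R := q'.ResidueField ⊗[q.ResidueField] (q.Fiber C)) (e0.symm.trans e).symm

end baseChange

section loc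

variable (A : Type u) [CommRing A] [IsNoetherianRing A] (S : Submonoid A) (A' : Type u)
  [CommRing A'] [Algebra A A'] [IsLocalization S A']

include S in
theorem isCohenMacaulayRing_fiber_of_isLocalization (p : Ideal A) [p.IsPrime] :
    LocCoh.IsCohenMacaulayRing (p.Fiber A') := by
  have h := Groth.Agent.Lib.Helper18.LocHom.isRegularHom_of_isLocalization A S A'
  have h1 := (h.2 p).2
  exact Groth.Agent.Lib.Helper18.PMor.isCohenMacaulayRing_of_isRegularRing
    (Groth.Agent.Lib.Helper18.PMor.isRegularRing_of_isGeometricallyRegular h1)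

end loc



open IsLocalRing TensorProduct

section Qp

variable (R : Type u) [CommRing R] [IsLocalRing R] [IsNoetherianRing R]
  [IsAdicComplete (maximalIdeal R) R]
  (C : Type u) [CommRing C] [IsLocalRing C] [Algebra R C] [Algebra.EssFiniteType R C]

include R

/-- a local ring essentially of finite type over a complete Noetherian local ring is a quotient of
a Cohen–Macaulay (even regular) local ring -/
theorem exists_cm_presentation :
    ∃ (R' : Type u) (_ : CommRing R') (_ : LocCoh.IsCohenMacaulayLocalRing R') (g : R' →+* C),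
      Function.Surjective g := by
  obtain ⟨S, _, hS, f, hf⟩ := Groth.Agent.Lib.Helper18.CST.exists_regular_presentation R
  haveI : IsRegularRing S :=
    Groth.Agent.Lib.Helper25.RegularSmooth.isRegularRing_of_isRegularLocalRing S
  set C₀ := Algebra.EssFiniteType.subalgebra R C with hC₀
  set M := Algebra.EssFiniteType.submonoid R C with hM
  haveI : IsLocalization M C := Algebra.EssFiniteType.isLocalization R C
  obtain ⟨n, φ, hφ⟩ := Algebra.FiniteType.iff_quotient_mvPolynomial''.mp
    (inferInstance : Algebra.FiniteType R C₀)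
  haveI hreg : IsRegularRing (MvPolynomial (Fin n) S) := inferInstance
  have hP : LocCoh.IsCohenMacaulayRing (MvPolynomial (Fin n) S) :=
    Groth.Agent.Lib.Helper18.PMor.isCohenMacaulayRing_of_isRegularRing hreg
  set ψ : MvPolynomial (Fin n) S →+* C₀ := φ.toRingHom.comp (MvPolynomial.map f) with hψ
  have hψs : Function.Surjective ψ := by
    rw [hψ, RingHom.coe_comp]
    exact hφ.comp (MvPolynomial.map_surjective f hf)
  set g₀ : MvPolynomial (Fin n) S →+* C := (algebraMap C₀ C).comp ψ with hg₀
  set Q : Ideal (MvPolynomial (Fin n) S) := (maximalIdeal C).comap g₀ with hQ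
  haveI : Q.IsPrime := Ideal.comap_isPrime _ _
  have hu : ∀ y : Q.primeCompl, IsUnit (g₀ y) := by
    intro y
    by_contra hnu
    exact y.2 ((IsLocalRing.mem_maximalIdeal _).mpr hnu)
  refine ⟨Localization.AtPrime Q, inferInstance, hP.isCohenMacaulayLocalRing_localization Q,
    IsLocalization.lift hu, ?_⟩
  intro c
  obtain ⟨c₀, m, rfl⟩ := IsLocalization.exists_mk'_eq M c
  obtain ⟨F, hF⟩ := hψs c₀
  obtain ⟨G, hG⟩ := hψs m.1
  have hGu : IsUnit (g₀ G) := by
    rw [hg₀, RingHom.comp_apply, hG]
    exact IsLocalization.map_units C m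
  have hGQ : G ∈ Q.primeCompl := by
    intro hmem
    exact ((IsLocalRing.mem_maximalIdeal _).mp hmem) hGu
  refine ⟨IsLocalization.mk' (Localization.AtPrime Q) F ⟨G, hGQ⟩, ?_⟩
  rw [IsLocalization.lift_mk'_spec]
  simp only [hg₀, RingHom.comp_apply, hF, hG]
  rw [IsLocalization.mk'_spec']

theorem hasCMFormalFibres_of_essFiniteType_complete [IsNoetherianRing C] :
    EGA4.HasCMFormalFibres C := by
  obtain ⟨R', _, hR', g, hg⟩ := exists_cm_presentation R C
  haveI := hR'
  letI : Algebra R' C := g.toAlgebra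
  intro p _
  have hsupp : Module.support R' R' = Set.univ := by
    rw [Module.support_of_algebra, Algebra.algebraMap_self]
    have : RingHom.ker (RingHom.id R') = ⊥ := by
      ext x; simp [RingHom.mem_ker]
    rw [this, Submodule.bot_coe, PrimeSpectrum.zeroLocus_singleton_zero]
  exact Groth.Agent.S2605.result R' R' hR'.supportDim_eq_depth hsupp C hg p

end Qp



open IsLocalRing TensorProduct Groth.Agent.Lib.Helper18.CplFlat

section descent

variable (B : Type u) [CommRing B] [IsNoetherianRing B] [IsLocalRing B]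
  (C : Type u) [CommRing C] [IsNoetherianRing C] [IsLocalRing C] [Algebra B C]
  [Module.Flat B C] [IsLocalHom (algebraMap B C)]

/-- descent of Cohen–Macaulay formal fibres along a flat local homomorphism with Cohen–Macaulay
fibres -/
theorem hasCMFormalFibres_of_flat_local
    (hBC : ∀ (q : Ideal B) [q.IsPrime], LocCoh.IsCohenMacaulayRing (q.Fiber C))
    (hC : EGA4.HasCMFormalFibres C) : EGA4.HasCMFormalFibres B := by
  haveI : IsNoetherianRing (EGA4.Cpl C) :=
    Groth.Agent.Lib.Helper21.isNoetherianRing_adicCompletion_of_fg _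
      (maximalIdeal C).fg_of_isNoetherianRing
  haveI : IsNoetherianRing (EGA4.Cpl B) :=
    Groth.Agent.Lib.Helper21.isNoetherianRing_adicCompletion_of_fg _
      (maximalIdeal B).fg_of_isNoetherianRing
  haveI : Module.Flat B (EGA4.Cpl C) := Module.Flat.trans B C _
  have hBCh : ∀ (q : Ideal B) [q.IsPrime],
      LocCoh.IsCohenMacaulayRing (q.Fiber (EGA4.Cpl C)) :=
    fun q _ => Groth.Agent.Lib.Helper18.PMor.isCohenMacaulayRing_fiber_comp B
      C (EGA4.Cpl C) hBC hC q
  have hcomm : ∀ b : B, algebraMap B (EGA4.Cpl C) b =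
      cplMap B C (algebraMap B (EGA4.Cpl B) b) := by
    intro b
    rw [IsScalarTower.algebraMap_apply B C (EGA4.Cpl C)]
    exact (cplMap_of B C b).symm
  letI : Algebra (EGA4.Cpl B) (EGA4.Cpl C) := (cplMap B C).toAlgebra
  haveI : IsScalarTower B (EGA4.Cpl B) (EGA4.Cpl C) :=
    IsScalarTower.of_algebraMap_eq (fun b => hcomm b)
  haveI : IsLocalHom (algebraMap (EGA4.Cpl B) (EGA4.Cpl C)) := isLocalHom_cplMap B _
  haveI : Module.Flat (EGA4.Cpl B) (EGA4.Cpl C) := flat_cplMap B _
  haveI : Module.FaithfullyFlat (EGA4.Cpl B) (EGA4.Cpl C) :=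
    Module.FaithfullyFlat.of_flat_of_isLocalHom
  intro q _
  exact Groth.Agent.Lib.Helper18.PMor.isCohenMacaulayRing_fiber_of_comp_of_faithfullyFlat B
    (EGA4.Cpl B) (EGA4.Cpl C) hBCh q

end descent

section main

variable (A : Type u) [CommRing A] [IsNoetherianRing A] [IsLocalRing A]
  (B : Type u) [CommRing B] [IsNoetherianRing B] [IsLocalRing B] [Algebra A B]
  [Algebra.EssFiniteType A B]

theorem main (hA : EGA4.HasCMFormalFibres A) : EGA4.HasCMFormalFibres B := by
  haveI : IsNoetherianRing (EGA4.Cpl A) :=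
    Groth.Agent.Lib.Helper21.isNoetherianRing_adicCompletion_of_fg _
      (maximalIdeal A).fg_of_isNoetherianRing
  haveI : IsAdicComplete (maximalIdeal (EGA4.Cpl A)) (EGA4.Cpl A) :=
    Groth.Agent.Lib.Helper18.FormEquid.isAdicComplete_cpl A
  haveI : Module.Flat A (EGA4.Cpl A) := inferInstance
  haveI : IsLocalHom (algebraMap A (EGA4.Cpl A)) := inferInstance
  haveI : Module.FaithfullyFlat A (EGA4.Cpl A) := Module.FaithfullyFlat.of_flat_of_isLocalHom
  -- T = B ⊗ Â
  letI algT : Algebra (EGA4.Cpl A) (B ⊗[A] (EGA4.Cpl A)) := Algebra.TensorProduct.rightAlgebra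
  haveI : Algebra.EssFiniteType (EGA4.Cpl A) (B ⊗[A] (EGA4.Cpl A)) := by
    let e : (EGA4.Cpl A) ⊗[A] B →ₐ[EGA4.Cpl A] B ⊗[A] (EGA4.Cpl A) :=
      { (Algebra.TensorProduct.comm A (EGA4.Cpl A) B).toAlgHom with
        commutes' := fun r => by
          show (Algebra.TensorProduct.comm A (EGA4.Cpl A) B) (r ⊗ₜ 1) = 1 ⊗ₜ r
          simp }
    refine Algebra.EssFiniteType.of_surjective e ?_
    exact (Algebra.TensorProduct.comm A (EGA4.Cpl A) B).surjective
  haveI : IsNoetherianRing (B ⊗[A] (EGA4.Cpl A)) :=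
    Algebra.EssFiniteType.isNoetherianRing (EGA4.Cpl A) _
  haveI : Module.FaithfullyFlat B (B ⊗[A] (EGA4.Cpl A)) := inferInstance
  obtain ⟨n', hn'⟩ := PrimeSpectrum.comap_surjective_of_faithfullyFlat
    (B := B ⊗[A] (EGA4.Cpl A)) ⟨maximalIdeal B, inferInstance⟩
  have hn'' : n'.asIdeal.comap (algebraMap B (B ⊗[A] (EGA4.Cpl A))) = maximalIdeal B :=
    congrArg PrimeSpectrum.asIdeal hn'
  -- C
  haveI : IsNoetherianRing (Localization.AtPrime n'.asIdeal) :=
    IsLocalization.isNoetherianRing n'.asIdeal.primeCompl _ inferInstance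
  have hC : EGA4.HasCMFormalFibres (Localization.AtPrime n'.asIdeal) :=
    hasCMFormalFibres_of_essFiniteType_complete (EGA4.Cpl A) (Localization.AtPrime n'.asIdeal)
  haveI : Module.Flat B (Localization.AtPrime n'.asIdeal) :=
    Module.Flat.trans B (B ⊗[A] (EGA4.Cpl A)) _
  haveI : IsLocalHom (algebraMap B (Localization.AtPrime n'.asIdeal)) := by
    apply ((IsLocalRing.local_hom_TFAE _).out 0 4).mpr
    have h1 : (maximalIdeal (Localization.AtPrime n'.asIdeal)).comap
        (algebraMap (B ⊗[A] (EGA4.Cpl A)) (Localization.AtPrime n'.asIdeal)) = n'.asIdeal :=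
      IsLocalization.AtPrime.comap_maximalIdeal (Localization.AtPrime n'.asIdeal) n'.asIdeal
    rw [IsScalarTower.algebraMap_eq B (B ⊗[A] (EGA4.Cpl A)) (Localization.AtPrime n'.asIdeal),
      ← Ideal.comap_comap, h1, hn'']
  -- fibres
  have hBT : ∀ (q : Ideal B) [q.IsPrime],
      LocCoh.IsCohenMacaulayRing (q.Fiber (B ⊗[A] (EGA4.Cpl A))) :=
    fun q _ => isCohenMacaulayRing_fiber_baseChange (EGA4.Cpl A) B (fun p _ => hA p) q
  have hTC : ∀ (r : Ideal (B ⊗[A] (EGA4.Cpl A))) [r.IsPrime],
      LocCoh.IsCohenMacaulayRing (r.Fiber (Localization.AtPrime n'.asIdeal)) :=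
    fun r _ => isCohenMacaulayRing_fiber_of_isLocalization (B ⊗[A] (EGA4.Cpl A))
      n'.asIdeal.primeCompl (Localization.AtPrime n'.asIdeal) r
  have hBC : ∀ (q : Ideal B) [q.IsPrime],
      LocCoh.IsCohenMacaulayRing (q.Fiber (Localization.AtPrime n'.asIdeal)) :=
    fun q _ => Groth.Agent.Lib.Helper18.PMor.isCohenMacaulayRing_fiber_comp B
      (B ⊗[A] (EGA4.Cpl A)) (Localization.AtPrime n'.asIdeal) hBT hTC q
  exact hasCMFormalFibres_of_flat_local B (Localization.AtPrime n'.asIdeal) hBC hC

end main

end Groth.Agent.Lib.Helper23.CMAscent
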