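import Mathlib
import Groth.Prelude.Def_CAlg
import Groth.Prelude.Def_EGA4b
import Groth.Agent.Lib.Helper18.TensorCM
import Groth.Agent.Lib.Helper18.FibQuot
import Groth.Agent.Lib.Helper18.UCat
import Groth.Agent.Lib.Helper16.CMLocalRing
import Groth.Agent.Lib.Helper16.GorMor
import Groth.Agent.Lib.Helper23.CMAscent
import Groth.Agent.Lib.Helper18.FTCM
import Groth.Agent.Lib.Helper14.CFBC

/-!
Cohen-Macaulay local rings under flat local homomorphisms and field base change (EGA IV 6.3.5, 6.7.1): cmLocal_iff_cmModule, cm_flat_local_iff, cm_flat_abstract, cm_closedFibre_comp, cm_bc_iff (f.g. field ext), cm_bc_iff' (arbitrary field ext, B ess.f.t.), cm_cf_iff, cm_cf_iff' (closed fibres under base change).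
-/

set_option autoImplicit false
set_option linter.style.haveILetI false
set_option linter.unusedSectionVars false
universe u


namespace Groth.Agent.Lib.Helper23.CMMor


open IsLocalRing TensorProduct Groth.Agent.Lib.Helper18.CM Groth.Agent.Lib.Helper18.FibQuot

section basic

theorem cmLocal_iff_cmModule (R : Type u) [CommRing R] [IsLocalRing R] [IsNoetherianRing R] :
    LocCoh.IsCohenMacaulayLocalRing R ↔ LocCoh.IsCohenMacaulayModule R R :=
  ⟨fun h => h.supportDim_eq_depth, fun h => { supportDim_eq_depth := h }⟩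

theorem cm_of_ringEquiv_iff {R S : Type u} [CommRing R] [CommRing S] (e : R ≃+* S) :
    LocCoh.IsCohenMacaulayLocalRing R ↔ LocCoh.IsCohenMacaulayLocalRing S :=
  ⟨fun h => isCohenMacaulayLocalRing_of_ringEquiv e,
    fun h => isCohenMacaulayLocalRing_of_ringEquiv e.symm⟩

theorem cm_congr_ideal {T : Type u} [CommRing T] {𝔞 𝔟 : Ideal T} (h : 𝔞 = 𝔟) :
    LocCoh.IsCohenMacaulayLocalRing (T ⧸ 𝔞) ↔ LocCoh.IsCohenMacaulayLocalRing (T ⧸ 𝔟) := by
  subst h
  rfl

end basic

section flatLocal

variable (A B : Type u) [CommRing A] [CommRing B] [IsLocalRing A] [IsLocalRing B]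
  [IsNoetherianRing A] [IsNoetherianRing B] [Algebra A B] [IsLocalHom (algebraMap A B)]
  [Module.Flat A B]

/-- EGA IV 6.3.5: for a flat local homomorphism of Noetherian local rings, `B` is CM iff `A` and
the closed fibre are. -/
theorem cm_flat_local_iff :
    LocCoh.IsCohenMacaulayLocalRing B ↔
      (LocCoh.IsCohenMacaulayLocalRing A ∧ LocCoh.IsCohenMacaulayLocalRing (EGA4.FibRing A B)) := by
  haveI : IsNoetherianRing (EGA4.FibRing A B) := inferInstance
  have h := isCohenMacaulayModule_tensor_iff (A := A) (B := B) A B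
  have e1 : B ⊗[A] A ≃ₗ[B] B := TensorProduct.AlgebraTensorModule.rid A B B
  rw [isCohenMacaulayModule_congr e1] at h
  have h2 := isCohenMacaulayModule_fibMod_iff (A := A) (B := B) B
  have heq : (EGA4.mB A B • (⊤ : Submodule B B)) = (EGA4.mB A B : Submodule B B) := by
    rw [smul_eq_mul, Ideal.mul_top]
  -- CM over B of FibMod ↔ CM over FibRing of FibRing
  have h3 : LocCoh.IsCohenMacaulayModule B (EGA4.FibMod A B B) ↔
      LocCoh.IsCohenMacaulayModule (EGA4.FibRing A B) (EGA4.FibRing A B) := by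
    have e2 : EGA4.FibMod A B B ≃ₗ[B] EGA4.FibRing A B := Submodule.quotEquivOfEq _ _ heq
    rw [isCohenMacaulayModule_congr e2]
    haveI : IsLocalHom (algebraMap B (EGA4.FibRing A B)) :=
      IsLocalHom.of_surjective _ Ideal.Quotient.mk_surjective
    unfold LocCoh.IsCohenMacaulayModule
    rw [supportDim_quotient_ring_eq, depth_eq_of_finite (A := B) (B := EGA4.FibRing A B)]
  rw [cmLocal_iff_cmModule, cmLocal_iff_cmModule, cmLocal_iff_cmModule, h, h3]

variable (F : Type u) [CommRing F] (π : B →+* F) (hπ : Function.Surjective π)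
  (hker : RingHom.ker π = (maximalIdeal A).map (algebraMap A B))

include hπ hker in
theorem cm_flat_abstract :
    LocCoh.IsCohenMacaulayLocalRing B ↔
      (LocCoh.IsCohenMacaulayLocalRing A ∧ LocCoh.IsCohenMacaulayLocalRing F) := by
  rw [cm_flat_local_iff A B]
  have e : EGA4.FibRing A B ≃+* F :=
    (Ideal.quotEquivOfEq hker.symm).trans (RingHom.quotientKerEquivOfSurjective hπ)
  rw [cm_of_ringEquiv_iff e]

end flatLocal



open IsLocalRing TensorProduct Groth.Agent.Lib.Helper18.CM Groth.Agent.Lib.Helper18.FibQuot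
open Groth.Agent.Lib.Helper16.GorMor Groth.Agent.Lib.Helper16

section alg

variable {A B C : Type u} [CommRing A] [CommRing B] [CommRing C] [IsLocalRing A] [IsLocalRing B]
  [IsLocalRing C] (ψ : A →+* B) (φ : B →+* C) [IsLocalHom ψ] [IsLocalHom φ]

/-- closed fibres of a composite of local homomorphisms, `φ` flat -/
theorem cm_closedFibre_comp (hφ : φ.Flat)
    [IsNoetherianRing (B ⧸ (maximalIdeal A).map ψ)]
    [IsNoetherianRing (C ⧸ (maximalIdeal A).map (φ.comp ψ))]
    [IsNoetherianRing (C ⧸ (maximalIdeal B).map φ)] :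
    LocCoh.IsCohenMacaulayLocalRing (C ⧸ (maximalIdeal A).map (φ.comp ψ)) ↔
      (LocCoh.IsCohenMacaulayLocalRing (B ⧸ (maximalIdeal A).map ψ) ∧
        LocCoh.IsCohenMacaulayLocalRing (C ⧸ (maximalIdeal B).map φ)) := by
  letI := φ.toAlgebra
  haveI : Module.Flat B C := hφ
  haveI : IsLocalHom (algebraMap B C) := ‹IsLocalHom φ›
  have hIle : (maximalIdeal A).map ψ ≤ maximalIdeal B := IsLocalRing.map_maximalIdeal_le ψ
  have hIC : ((maximalIdeal A).map ψ).map (algebraMap B C) =
      (maximalIdeal A).map (φ.comp ψ) := by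
    rw [Ideal.map_map]
    rfl
  haveI hN2 : IsNoetherianRing (C ⧸ ((maximalIdeal A).map ψ).map (algebraMap B C)) := by
    rw [hIC]
    infer_instance
  obtain ⟨hlA, hlB, hloc, π₁, hπ₁, hk₁⟩ := quot_data' B C (C ⧸ (maximalIdeal B).map φ)
    (Ideal.Quotient.mk _) Ideal.Quotient.mk_surjective (by rw [Ideal.mk_ker]; rfl)
    ((maximalIdeal A).map ψ) hIle
  haveI := GorFlat.flat_quotient (A := B) (B := C) ((maximalIdeal A).map ψ)
  have h := cm_flat_abstract (B ⧸ (maximalIdeal A).map ψ)
    (C ⧸ ((maximalIdeal A).map ψ).map (algebraMap B C)) (C ⧸ (maximalIdeal B).map φ) π₁ hπ₁ hk₁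
  rw [← h]
  exact cm_congr_ideal hIC.symm

end alg

section bc

variable (k k' : Type u) [Field k] [Field k'] [Algebra k k']
  (B : Type u) [CommRing B] [IsLocalRing B] [IsNoetherianRing B] [Algebra k B]

/-- common part: descent along `B → (B ⊗ k')_q` -/
theorem cm_of_cm_tensor_atPrime [IsNoetherianRing (B ⊗[k] k')]
    (q : PrimeSpectrum (B ⊗[k] k'))
    (hq : q.asIdeal.comap (algebraMap B (B ⊗[k] k')) = maximalIdeal B)
    (h : LocCoh.IsCohenMacaulayLocalRing (Localization.AtPrime q.asIdeal)) :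
    LocCoh.IsCohenMacaulayLocalRing B := by
  haveI : IsNoetherianRing (Localization.AtPrime q.asIdeal) :=
    IsLocalization.isNoetherianRing q.asIdeal.primeCompl _ inferInstance
  haveI : Module.Flat B (B ⊗[k] k') := inferInstance
  haveI : Module.Flat (B ⊗[k] k') (Localization.AtPrime q.asIdeal) :=
    IsLocalization.flat _ q.asIdeal.primeCompl
  haveI : Module.Flat B (Localization.AtPrime q.asIdeal) :=
    Module.Flat.trans B (B ⊗[k] k') _
  haveI : IsLocalHom (algebraMap B (Localization.AtPrime q.asIdeal)) := by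
    refine ⟨fun b hb => ?_⟩
    by_contra hnu
    have hbm : b ∈ maximalIdeal B := (mem_maximalIdeal b).mpr hnu
    rw [← hq, Ideal.mem_comap] at hbm
    rw [IsScalarTower.algebraMap_apply B (B ⊗[k] k') (Localization.AtPrime q.asIdeal)] at hb
    have := (IsLocalization.AtPrime.isUnit_to_map_iff (Localization.AtPrime q.asIdeal)
      q.asIdeal _).mp hb
    exact this hbm
  exact ((cm_flat_local_iff B (Localization.AtPrime q.asIdeal)).mp h).1

/-- CM analogue of S1760: finitely generated field extensions -/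
theorem cm_bc_iff [Algebra.EssFiniteType k k'] (q : PrimeSpectrum (B ⊗[k] k'))
    (hq : q.asIdeal.comap (algebraMap B (B ⊗[k] k')) = maximalIdeal B) :
    LocCoh.IsCohenMacaulayLocalRing B ↔
      LocCoh.IsCohenMacaulayLocalRing (Localization.AtPrime q.asIdeal) := by
  haveI : Algebra.EssFiniteType B (B ⊗[k] k') := inferInstance
  haveI hN : IsNoetherianRing (B ⊗[k] k') := Algebra.EssFiniteType.isNoetherianRing B _
  constructor
  · intro h
    haveI := h
    haveI : LocCoh.IsCohenMacaulayRing B := CMLocalRing.isCohenMacaulayRing B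
    haveI : LocCoh.IsCohenMacaulayRing (k' ⊗[k] B) :=
      Groth.Agent.Lib.Helper23.CMAscent.isCohenMacaulayRing_tensor_of_essFiniteType' k k' B
    haveI : LocCoh.IsCohenMacaulayRing (B ⊗[k] k') :=
      isCohenMacaulayRing_of_ringEquiv (Algebra.TensorProduct.comm k k' B).toRingEquiv
    exact LocCoh.IsCohenMacaulayRing.isCohenMacaulayLocalRing_localization q.asIdeal
  · exact cm_of_cm_tensor_atPrime k k' B q hq

end bc



open IsLocalRing TensorProduct Groth.Agent.Lib.Helper18.CM Groth.Agent.Lib.Helper18.FibQuot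
open Groth.Agent.Lib.Helper16.GorMor Groth.Agent.Lib.Helper16

section bc

variable (k k' : Type u) [Field k] [Field k'] [Algebra k k']
  (B : Type u) [CommRing B] [IsLocalRing B] [IsNoetherianRing B] [Algebra k B]

theorem isNoetherianRing_tensor_of_essFiniteType [Algebra.EssFiniteType k B] :
    IsNoetherianRing (B ⊗[k] k') := by
  haveI : Algebra.EssFiniteType k' (k' ⊗[k] B) := inferInstance
  haveI : IsNoetherianRing (k' ⊗[k] B) := Algebra.EssFiniteType.isNoetherianRing k' _
  exact isNoetherianRing_of_ringEquiv _ (Algebra.TensorProduct.comm k k' B).toRingEquiv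

/-- CM base change for arbitrary field extensions, `B` essentially of finite type over `k` -/
theorem cm_bc_iff' [Algebra.EssFiniteType k B] (q : PrimeSpectrum (B ⊗[k] k'))
    (hq : q.asIdeal.comap (algebraMap B (B ⊗[k] k')) = maximalIdeal B) :
    LocCoh.IsCohenMacaulayLocalRing B ↔
      LocCoh.IsCohenMacaulayLocalRing (Localization.AtPrime q.asIdeal) := by
  haveI hN : IsNoetherianRing (B ⊗[k] k') := isNoetherianRing_tensor_of_essFiniteType k k' B
  constructor
  · intro h
    haveI := h
    haveI : LocCoh.IsCohenMacaulayRing B := CMLocalRing.isCohenMacaulayRing B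
    haveI : Module.Flat B (B ⊗[k] k') := inferInstance
    haveI : LocCoh.IsCohenMacaulayRing (B ⊗[k] k') := by
      apply Groth.Agent.Lib.Helper18.UCat.isCohenMacaulayRing_of_flat_of_fibres B (B ⊗[k] k')
      intro p _
      refine Groth.Agent.Lib.Helper23.CMAscent.isCohenMacaulayRing_fiber_baseChange
        (B := k) k' B ?_ p
      intro q₀ _
      haveI : LocCoh.IsCohenMacaulayRing k' :=
        Groth.Agent.Lib.Helper18.FTCM.isCohenMacaulayRing_of_krullDimLE_zero k'
      exact Groth.Agent.Lib.Helper23.CMAscent.isCohenMacaulayRing_tensor_of_essFiniteType'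
        k q₀.ResidueField k'
    exact LocCoh.IsCohenMacaulayRing.isCohenMacaulayLocalRing_localization q.asIdeal
  · exact cm_of_cm_tensor_atPrime k k' B q hq

end bc



open IsLocalRing TensorProduct Groth.Agent.Lib.Helper18.CM Groth.Agent.Lib.Helper18.FibQuot
open Groth.Agent.Lib.Helper16.GorMor Groth.Agent.Lib.Helper16 Groth.Agent.Lib.Helper14.AS

section alg

variable {A A' B Bp : Type u} [CommRing A] [CommRing A'] [CommRing B] [CommRing Bp]
  [IsLocalRing A] [IsLocalRing A'] [IsLocalRing B] [IsLocalRing Bp]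
  [Algebra A A'] [Algebra A B] [IsLocalHom (algebraMap A A')] [IsLocalHom (algebraMap A B)]
  (α : A' →+* Bp) (β : B →+* Bp) [IsLocalHom α] [IsLocalHom β]
  (φ : A' ⊗[A] B →+* Bp) (hφ1 : ∀ a, φ (a ⊗ₜ 1) = α a) (hφ2 : ∀ b, φ (1 ⊗ₜ b) = β b)

include hφ1 hφ2 in
theorem cm_cf_iff (hloc : letI := φ.toAlgebra; IsLocalization.AtPrime Bp (tpQ φ))
    [IsNoetherianRing (CFa A B)] [Algebra.EssFiniteType A A'] :
    LocCoh.IsCohenMacaulayLocalRing (CFa A B) ↔ LocCoh.IsCohenMacaulayLocalRing (CFp α) := by
  obtain ⟨q, hq, ⟨e⟩⟩ := cf_localization α β φ hφ1 hφ2 hloc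
  have : Algebra.EssFiniteType A (ResidueField A') := .comp _ A' _
  have : Algebra.EssFiniteType (ResidueField A) (ResidueField A') := .of_comp A _ _
  rw [cm_bc_iff (ResidueField A) (ResidueField A') (CFa A B) q hq]
  exact (cm_of_ringEquiv_iff e).symm

include hφ1 hφ2 in
theorem cm_cf_iff' (hloc : letI := φ.toAlgebra; IsLocalization.AtPrime Bp (tpQ φ))
    [IsNoetherianRing (CFa A B)] [Algebra.EssFiniteType A B] :
    LocCoh.IsCohenMacaulayLocalRing (CFa A B) ↔ LocCoh.IsCohenMacaulayLocalRing (CFp α) := by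
  obtain ⟨q, hq, ⟨e⟩⟩ := cf_localization α β φ hφ1 hφ2 hloc
  haveI : IsScalarTower A (ResidueField A) (CFa A B) :=
    IsScalarTower.of_algebraMap_eq fun a => rfl
  have : Algebra.EssFiniteType A (CFa A B) := inferInstance
  have : Algebra.EssFiniteType (ResidueField A) (CFa A B) := .of_comp A _ _
  rw [cm_bc_iff' (ResidueField A) (ResidueField A') (CFa A B) q hq]
  exact (cm_of_ringEquiv_iff e).symm

end alg

end Groth.Agent.Lib.Helper23.CMMor
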