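import Mathlib
import Groth.Agent.S1353
import Groth.Agent.Lib.Helper23.QFFlatSch

/-!
# fppf covers are étale-locally dominated by finite locally free covers (helper23)

`exists_etaleNbhd_finLocFree`: for `g : S₁ ⟶ S` flat l.f.p. surjective and `s : S` there are an étale
`e : S' ⟶ S` with a point `u` over `s` with trivial residue field extension, a surjective finite flat
l.f.p. `π : V ⟶ S'` and a global `r : V ⟶ S₁` with `r ≫ g = π ≫ e`.
`exists_etaleNbhd_finLocFree_of_mem_range`: same for a point in the image of a flat l.f.p. morphism.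
-/

set_option autoImplicit false
set_option linter.style.haveILetI false
universe u
open AlgebraicGeometry CategoryTheory Limits MorphismProperty

namespace Groth.Agent.Lib.Helper23.FppfDom


/-- **fppf covers are étale-locally dominated by finite locally free covers** (with a global
factorization and a residually trivial point of the étale neighbourhood). -/
theorem exists_etaleNbhd_finLocFree {S₁ S : Scheme.{u}} (g : S₁ ⟶ S) [Flat g]
    [LocallyOfFinitePresentation g] [Surjective g] (s : S) :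
    ∃ (S' V : Scheme.{u}) (e : S' ⟶ S) (π : V ⟶ S') (u : S') (r : V ⟶ S₁),
      Etale e ∧ e u = s ∧ IsIso (e.residueFieldMap u) ∧ Surjective π ∧ IsFinite π ∧ Flat π ∧
      LocallyOfFinitePresentation π ∧ r ≫ g = π ≫ e := by
  obtain ⟨Z, q, h, hq, hfl, hfp, hqf, hsurj, -⟩ :=
    Groth.Agent.Lib.Helper23.QFFlatSch.exists_flat_quasiFinite_quasiSection g
  obtain ⟨z, hz⟩ := q.surjective s
  obtain ⟨U, gU, u, hnb, V, v, hvV, hfin, hsnd, -, hfst, -⟩ :=
    Groth.Agent.S1353.result q z (q.quasiFiniteAt z)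
  haveI := hnb.etale
  let p : (V : Scheme.{u}) ⟶ U := V.ι ≫ pullback.snd q gU
  haveI : Flat p := inferInstanceAs (Flat (V.ι ≫ pullback.snd q gU))
  haveI : LocallyOfFinitePresentation p :=
    inferInstanceAs (LocallyOfFinitePresentation (V.ι ≫ pullback.snd q gU))
  haveI : IsFinite p := hfin
  let O : U.Opens := ⟨Set.range p, p.isOpenMap.isOpen_range⟩
  have huO : u ∈ O := ⟨⟨v, hvV⟩, hsnd⟩
  have hrange : Set.range p ⊆ Set.range O.ι := by
    rw [Scheme.Opens.range_ι]
    exact subset_rfl
  let π : (V : Scheme.{u}) ⟶ (O : Scheme.{u}) := IsOpenImmersion.lift O.ι p hrange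
  have hπ : π ≫ O.ι = p := IsOpenImmersion.lift_fac _ _ _
  refine ⟨O, V, O.ι ≫ gU, π, ⟨u, huO⟩, V.ι ≫ pullback.fst q gU ≫ h, inferInstance, ?_, ?_,
    ⟨?_⟩, ?_, ?_, ?_, ?_⟩
  · rw [Scheme.Hom.comp_apply]
    change gU u = s
    rw [hnb.base_eq, hz]
  · rw [Scheme.residueFieldMap_comp]
    have h1 : IsIso (gU.residueFieldMap (O.ι ⟨u, huO⟩)) :=
      (ConcreteCategory.isIso_iff_bijective _).mpr hnb.residue_bijective
    exact IsIso.comp_isIso' h1 inferInstance
  · rintro ⟨y, w, hw⟩
    refine ⟨w, ?_⟩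
    apply O.ι.isOpenEmbedding.injective
    rw [← Scheme.Hom.comp_apply, hπ, hw]
    rfl
  · exact of_postcomp (W := @IsFinite) (W' := @IsOpenImmersion) π O.ι inferInstance
      (by rw [hπ]; infer_instance)
  · exact of_postcomp (W := @Flat) (W' := @IsOpenImmersion) π O.ι inferInstance
      (by rw [hπ]; infer_instance)
  · exact of_postcomp (W := @LocallyOfFinitePresentation) (W' := @IsOpenImmersion) π O.ι
      inferInstance (by rw [hπ]; infer_instance)
  · simp only [Category.assoc]
    rw [hq, pullback.condition, ← Category.assoc π, hπ]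
    simp only [p, Category.assoc]

/-- Version for a flat l.f.p. morphism and a point of its image. -/
theorem exists_etaleNbhd_finLocFree_of_mem_range {S₁ S : Scheme.{u}} (g : S₁ ⟶ S) [Flat g]
    [LocallyOfFinitePresentation g] (s : S) (hs : s ∈ Set.range g) :
    ∃ (S' V : Scheme.{u}) (e : S' ⟶ S) (π : V ⟶ S') (u : S') (r : V ⟶ S₁),
      Etale e ∧ e u = s ∧ IsIso (e.residueFieldMap u) ∧ Surjective π ∧ IsFinite π ∧ Flat π ∧
      LocallyOfFinitePresentation π ∧ r ≫ g = π ≫ e := by
  let O : S.Opens := ⟨Set.range g, g.isOpenMap.isOpen_range⟩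
  have hrange : Set.range g ⊆ Set.range O.ι := by
    rw [Scheme.Opens.range_ι]
    exact subset_rfl
  let g' : S₁ ⟶ (O : Scheme.{u}) := IsOpenImmersion.lift O.ι g hrange
  have hg' : g' ≫ O.ι = g := IsOpenImmersion.lift_fac _ _ _
  haveI : Flat g' := of_postcomp (W := @Flat) (W' := @IsOpenImmersion) g' O.ι inferInstance
    (by rw [hg']; infer_instance)
  haveI : LocallyOfFinitePresentation g' :=
    of_postcomp (W := @LocallyOfFinitePresentation) (W' := @IsOpenImmersion) g' O.ι inferInstance
      (by rw [hg']; infer_instance)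
  haveI : Surjective g' := ⟨by
    rintro ⟨y, w, hw⟩
    refine ⟨w, ?_⟩
    apply O.ι.isOpenEmbedding.injective
    rw [← Scheme.Hom.comp_apply, hg', hw]
    rfl⟩
  obtain ⟨S', V, e, π, u, r, h1, h2, h3, h4, h5, h6, h7, h8⟩ :=
    exists_etaleNbhd_finLocFree g' ⟨s, hs⟩
  refine ⟨S', V, e ≫ O.ι, π, u, r, inferInstance, ?_, ?_, h4, h5, h6, h7, ?_⟩
  · rw [Scheme.Hom.comp_apply, h2]
    rfl
  · rw [Scheme.residueFieldMap_comp]
    have h0 : IsIso (O.ι.residueFieldMap (e u)) := inferInstance
    exact IsIso.comp_isIso' h0 h3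
  · rw [← hg', ← Category.assoc, h8, Category.assoc]

end Groth.Agent.Lib.Helper23.FppfDom
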