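import Mathlib
import Groth.Agent.S4537

/-!
Jacobi-Zariski: for A -> B adically formally smooth (B local, residue field K), the cotangent map I_A/I_A^2 -> I_B/I_B^2 of the standard presentations of K is injective; hence H1(NL_{K/A}) -> H1(NL_{K/B}) is injective.
-/

set_option autoImplicit false
universe u v w


namespace Groth.Agent.Lib.Helper23.JZInjective


open IsLocalRing Algebra

section Abstract

variable {A B K : Type u} [CommRing A] [CommRing B] [CommRing K] [Algebra A B] [Algebra A K]
  [Algebra B K] [IsScalarTower A B K]

/-- abstract criterion: a retraction modulo squares gives injectivity on cotangent modules. -/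
theorem cotangent_map_injective_of_retraction (P : Extension.{u} A K) (P' : Extension.{u} B K)
    (f : P.Hom P') (θ : P'.Ring →+* P.Ring ⧸ P.ker ^ 2)
    (h1 : ∀ x, θ (f.toRingHom x) = Ideal.Quotient.mk (P.ker ^ 2) x)
    (h2 : ∀ y ∈ P'.ker, ∀ z ∈ P'.ker, θ y * θ z = 0) :
    Function.Injective (Extension.Cotangent.map f) := by
  rw [injective_iff_map_eq_zero]
  intro x hx
  obtain ⟨x, rfl⟩ := Extension.Cotangent.mk_surjective x
  rw [Extension.Cotangent.map_mk, Extension.Cotangent.mk_eq_zero_iff] at hx
  rw [Extension.Cotangent.mk_eq_zero_iff]
  have hx' : f.toRingHom x.1 ∈ P'.ker ^ 2 := hx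
  have h3 : θ (f.toRingHom x.1) = 0 := by
    rw [pow_two] at hx'
    refine Submodule.mul_induction_on hx' ?_ ?_
    · intro y hy z hz
      rw [map_mul]
      exact h2 y hy z hz
    · intro y z hy hz
      rw [map_add, hy, hz, add_zero]
  rw [h1] at h3
  exact Ideal.Quotient.eq_zero_iff_mem.mp h3

end Abstract


section JZ

variable (A B : Type u) [CommRing A] [CommRing B] [IsLocalRing B] [Algebra A B]

theorem cotangent_map_injective
    (hfs : CAlgX.IsAdicFormallySmooth A B (maximalIdeal B)) :
    Function.Injective (Extension.Cotangent.map
      (Generators.defaultHom (Generators.self A (ResidueField B))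
        (Generators.self B (ResidueField B))).toExtensionHom) := by
  -- the infinitesimal thickening
  let π : ((Generators.self A (ResidueField B)).toExtension.Ring ⧸
      (Generators.self A (ResidueField B)).toExtension.ker ^ 2) →ₐ[A] ResidueField B :=
    Ideal.Quotient.liftₐ ((Generators.self A (ResidueField B)).toExtension.ker ^ 2)
      (IsScalarTower.toAlgHom A (Generators.self A (ResidueField B)).toExtension.Ring
        (ResidueField B))
    (fun a ha => by
      have : (Generators.self A (ResidueField B)).toExtension.ker ^ 2 ≤
          (Generators.self A (ResidueField B)).toExtension.ker := Ideal.pow_le_self two_ne_zero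
      exact this ha)
  have hπmk : ∀ a : (Generators.self A (ResidueField B)).toExtension.Ring,
      π (Ideal.Quotient.mk _ a) =
        algebraMap (Generators.self A (ResidueField B)).toExtension.Ring (ResidueField B) a :=
    fun a => rfl
  have hπ : Function.Surjective π := by
    intro y
    obtain ⟨a, rfl⟩ := (Generators.self A (ResidueField B)).toExtension.algebraMap_surjective y
    exact ⟨Ideal.Quotient.mk _ a, hπmk a⟩
  have hK2 : ∀ x y, π x = 0 → π y = 0 → x * y = 0 := by
    intro x y hx hy
    obtain ⟨a, rfl⟩ := Ideal.Quotient.mk_surjective x
    obtain ⟨b, rfl⟩ := Ideal.Quotient.mk_surjective y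
    rw [hπmk] at hx hy
    rw [← map_mul, Ideal.Quotient.eq_zero_iff_mem, pow_two]
    exact Ideal.mul_mem_mul hx hy
  obtain ⟨χ, hχ, -⟩ := Groth.Agent.S4537.lift_of_ker_sq hfs π hπ hK2
    (IsScalarTower.toAlgHom A B (ResidueField B))
    ⟨1, fun x hx => by
      rw [pow_one] at hx
      exact (residue_eq_zero_iff x).mpr hx⟩
  let θ : (Generators.self B (ResidueField B)).toExtension.Ring →+*
      ((Generators.self A (ResidueField B)).toExtension.Ring ⧸
        (Generators.self A (ResidueField B)).toExtension.ker ^ 2) :=
    MvPolynomial.eval₂Hom (χ : B →+* _)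
      (fun k => Ideal.Quotient.mk _ (MvPolynomial.X (R := A) k))
  have hθC : ∀ b : B, θ (MvPolynomial.C b) = χ b := fun b => MvPolynomial.eval₂_C _ _ _
  have hθX : ∀ k : ResidueField B, θ (MvPolynomial.X k) =
      Ideal.Quotient.mk _ (MvPolynomial.X (R := A) k) := fun k => MvPolynomial.eval₂_X _ _ _
  have hfC : ∀ a : A, (Generators.defaultHom (Generators.self A (ResidueField B))
      (Generators.self B (ResidueField B))).toExtensionHom.toRingHom (MvPolynomial.C a) =
      MvPolynomial.C (algebraMap A B a) := by
    intro a
    show (Generators.defaultHom (Generators.self A (ResidueField B))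
      (Generators.self B (ResidueField B))).toAlgHom (MvPolynomial.C a) = _
    rw [Generators.Hom.toAlgHom, ← MvPolynomial.algebraMap_eq, AlgHom.commutes]
    rfl
  have hfX : ∀ k : ResidueField B, (Generators.defaultHom (Generators.self A (ResidueField B))
      (Generators.self B (ResidueField B))).toExtensionHom.toRingHom (MvPolynomial.X k) =
      MvPolynomial.X k := by
    intro k
    show (Generators.defaultHom (Generators.self A (ResidueField B))
      (Generators.self B (ResidueField B))).toAlgHom (MvPolynomial.X k) = _
    rw [Generators.Hom.toAlgHom, MvPolynomial.aeval_X]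
    rfl
  have hi : ∀ x : MvPolynomial (ResidueField B) A,
      θ ((Generators.defaultHom (Generators.self A (ResidueField B))
        (Generators.self B (ResidueField B))).toExtensionHom.toRingHom x) =
      Ideal.Quotient.mk ((Generators.self A (ResidueField B)).toExtension.ker ^ 2) x := by
    intro x
    induction x using MvPolynomial.induction_on with
    | C a =>
      refine (congrArg θ (hfC a)).trans ((hθC _).trans ?_)
      exact AlgHom.commutes χ a
    | add x y hx hy =>
      exact (congrArg θ (map_add _ x y)).trans ((map_add θ _ _).trans
        ((congrArg₂ (· + ·) hx hy).trans (map_add _ x y).symm))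
    | mul_X x k hx =>
      refine (congrArg θ (map_mul _ x (MvPolynomial.X k))).trans ((map_mul θ _ _).trans ?_)
      refine (congrArg₂ (· * ·) hx ((congrArg θ (hfX k)).trans (hθX k))).trans ?_
      exact (map_mul _ x (MvPolynomial.X k)).symm
  have hii : ∀ y : MvPolynomial (ResidueField B) B,
      π (θ y) = algebraMap (Generators.self B (ResidueField B)).toExtension.Ring
        (ResidueField B) y := by
    intro y
    induction y using MvPolynomial.induction_on with
    | C b =>
      refine (congrArg π (hθC b)).trans ((hχ b).trans ?_)
      show algebraMap B (ResidueField B) b = MvPolynomial.aeval _ (MvPolynomial.C b)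
      rw [MvPolynomial.aeval_C]
    | add x y hx hy =>
      exact (congrArg π (map_add θ x y)).trans ((map_add π _ _).trans
        ((congrArg₂ (· + ·) hx hy).trans (map_add (algebraMap
          (Generators.self B (ResidueField B)).toExtension.Ring (ResidueField B)) x y).symm))
    | mul_X x k hx =>
      refine (congrArg π (map_mul θ x (MvPolynomial.X k))).trans ((map_mul π _ _).trans ?_)
      have hXX : algebraMap (Generators.self A (ResidueField B)).toExtension.Ring (ResidueField B)
          (MvPolynomial.X k) = algebraMap (Generators.self B (ResidueField B)).toExtension.Ring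
          (ResidueField B) (MvPolynomial.X k) := by
        show MvPolynomial.aeval _ (MvPolynomial.X k) = MvPolynomial.aeval _ (MvPolynomial.X k)
        rw [MvPolynomial.aeval_X, MvPolynomial.aeval_X]
      refine (congrArg₂ (· * ·) hx (((congrArg π (hθX k)).trans (hπmk _)).trans hXX)).trans ?_
      exact (map_mul (algebraMap (Generators.self B (ResidueField B)).toExtension.Ring
        (ResidueField B)) x (MvPolynomial.X k)).symm
  apply cotangent_map_injective_of_retraction _ _ _ θ
  · exact hi
  · intro y hy z hz
    apply hK2
    · exact (hii y).trans hy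
    · exact (hii z).trans hz

end JZ


theorem t9282main (A B : Type u) [CommRing A]
    [CommRing B] [IsLocalRing A] [IsLocalRing B] [IsNoetherianRing A] [IsNoetherianRing B]
    [Algebra A B] [IsLocalHom (algebraMap A B)]
    (hfs : CAlgX.IsAdicFormallySmooth A B (IsLocalRing.maximalIdeal B)) :
    Function.Injective
      (Algebra.H1Cotangent.map A B (IsLocalRing.ResidueField B) (IsLocalRing.ResidueField B)) := by
  intro x y hxy
  have h := cotangent_map_injective A B hfs
  apply Extension.h1Cotangentι_ext
  apply h
  have := congrArg Subtype.val hxy
  exact this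

end Groth.Agent.Lib.Helper23.JZInjective
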