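import Mathlib
import Groth.Agent.Lib.Helper18.Hull
import Groth.Agent.Lib.Helper11.GrDim

/-!
Dimension of a B-module M finite over A (A -> B Noetherian), EGA 0_IV 16.4.8 general form, dimension part. exists_prime_over_height_ge (going up for heights along integral injective extensions), annihilator_eq_comap, toEnd / finite_quotient_annihilator (B/Ann_B M is finite over A), isIntegral_quotient_annihilator, supportDim_eq_iSup (dim M_p = sup over primes q of B over p in Supp M of dim M_q).
-/

set_option autoImplicit false
universe u
set_option linter.unusedSectionVars false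


namespace Groth.Agent.Lib.Helper23.FinDD


open Ideal

/-- going up for heights: along an integral injective extension, every prime `p` has primes over it
of height at least any `n ≤ ht p`. -/
theorem exists_prime_over_height_ge {R S : Type*} [CommRing R] [CommRing S] [Algebra R S]
    [Algebra.IsIntegral R S] (hinj : Function.Injective (algebraMap R S))
    (p : Ideal R) [hp : p.IsPrime] (n : ℕ) (hn : (n : ℕ∞) ≤ p.height) :
    ∃ Q : Ideal S, Q.IsPrime ∧ Q.comap (algebraMap R S) = p ∧ (n : ℕ∞) ≤ Q.height := by
  have hn' : (n : ℕ∞) ≤ Order.height (⟨p, hp⟩ : PrimeSpectrum R) := by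
    rw [← PrimeSpectrum.height_eq_orderHeight]
    exact hn
  obtain ⟨l, hlast, hlen⟩ := Order.exists_series_of_le_height _ hn'
  have hker : (⊥ : Ideal S).comap (algebraMap R S) ≤ l.head.asIdeal := by
    rw [← RingHom.ker_eq_comap_bot, (RingHom.injective_iff_ker_eq_bot _).mp hinj]
    exact bot_le
  obtain ⟨Q, -, hQ, hQ'⟩ := Ideal.exists_ideal_over_prime_of_isIntegral l.head.asIdeal ⊥ hker
  have : Q.LiesOver l.head.asIdeal := ⟨hQ'.symm⟩
  obtain ⟨L, hL, -, hmap⟩ := Ideal.exists_ltSeries_of_hasGoingUp l Q
  refine ⟨L.last.asIdeal, L.last.2, ?_, ?_⟩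
  · have h1 : (List.map (PrimeSpectrum.comap (algebraMap R S)) L.toList).getLast? =
        l.toList.getLast? := by rw [hmap]
    rw [List.getLast?_map] at h1
    have h2 : L.toList.getLast? = some L.last := by
      rw [List.getLast?_eq_some_getLast (RelSeries.toList_ne_nil L)]
      congr 1
      exact RelSeries.getLast_toList L
    have h3 : l.toList.getLast? = some l.last := by
      rw [List.getLast?_eq_some_getLast (RelSeries.toList_ne_nil l)]
      congr 1
      exact RelSeries.getLast_toList l
    rw [h2, h3, Option.map_some, Option.some.injEq] at h1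
    rw [hlast] at h1
    exact congrArg PrimeSpectrum.asIdeal h1
  · have h1 : (L.length : ℕ∞) ≤ Order.height L.last := Order.length_le_height_last
    rw [← PrimeSpectrum.height_eq_orderHeight] at h1
    rw [hL, hlen] at h1
    exact h1



open Ideal Groth.Agent.Lib.Helper11.GrHt Groth.Agent.Lib.Helper11.GrDim

theorem withBot_le_of_forall_nat {a : ℕ∞} {b : WithBot ℕ∞}
    (h : ∀ n : ℕ, (n : ℕ∞) ≤ a → ((n : ℕ∞) : WithBot ℕ∞) ≤ b) : (a : WithBot ℕ∞) ≤ b := by
  induction b with
  | bot =>
    have := h 0 (by simp)
    simp at this
  | coe b =>
    rw [WithBot.coe_le_coe]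
    rw [← ENat.forall_natCast_le_iff_le]
    intro n hn
    exact WithBot.coe_le_coe.mp (h n hn)

section

variable (A B : Type u) [CommRing A] [CommRing B] [Algebra A B]
  (M : Type u) [AddCommGroup M] [Module B M] [Module A M] [IsScalarTower A B M]

theorem annihilator_eq_comap :
    Module.annihilator A M = (Module.annihilator B M).comap (algebraMap A B) := by
  ext a
  rw [Ideal.mem_comap, Module.mem_annihilator, Module.mem_annihilator]
  exact forall_congr' fun m => by rw [algebraMap_smul]

instance liesOver_annihilator : (Module.annihilator B M).LiesOver (Module.annihilator A M) :=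
  ⟨annihilator_eq_comap A B M⟩

/-- `B / Ann_B M` embeds into `End_A M` -/
noncomputable def toEnd : (B ⧸ Module.annihilator B M) →ₗ[A] Module.End A M :=
  Submodule.liftQ ((Module.annihilator B M).restrictScalars A)
    ((Algebra.lsmul A A M : B →ₐ[A] Module.End A M).toLinearMap) (by
      intro b hb
      rw [LinearMap.mem_ker]
      ext m
      have : b ∈ Module.annihilator B M := hb
      rw [Module.mem_annihilator] at this
      simpa using this m)

theorem toEnd_mk (b : B) (m : M) : toEnd A B M (Ideal.Quotient.mk _ b) m = b • m := rfl

theorem toEnd_injective : Function.Injective (toEnd A B M) := by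
  rw [← LinearMap.ker_eq_bot, LinearMap.ker_eq_bot']
  intro x hx
  obtain ⟨b, rfl⟩ := Ideal.Quotient.mk_surjective x
  rw [Ideal.Quotient.eq_zero_iff_mem, Module.mem_annihilator]
  intro m
  have := congrArg (fun f => f m) hx
  simpa [toEnd_mk] using this

theorem finite_quotient_annihilator [IsNoetherianRing A] [Module.Finite A M] :
    Module.Finite A (B ⧸ Module.annihilator B M) :=
  Module.Finite.of_injective (toEnd A B M) (toEnd_injective A B M)

end



open Ideal Groth.Agent.Lib.Helper11.GrHt Groth.Agent.Lib.Helper11.GrDim

section

variable (A B : Type u) [CommRing A] [CommRing B] [Algebra A B]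
  [IsNoetherianRing A] [IsNoetherianRing B]
  (M : Type u) [AddCommGroup M] [Module B M] [Module A M] [IsScalarTower A B M]
  [Module.Finite A M]

theorem isIntegral_quotient_annihilator :
    Algebra.IsIntegral (A ⧸ Module.annihilator A M) (B ⧸ Module.annihilator B M) := by
  haveI := finite_quotient_annihilator A B M
  haveI : Algebra.IsIntegral A (B ⧸ Module.annihilator B M) := Algebra.IsIntegral.of_finite A _
  exact Algebra.IsIntegral.tower_top (R := A)

theorem injective_quotient_annihilator :
    Function.Injective (algebraMap (A ⧸ Module.annihilator A M) (B ⧸ Module.annihilator B M)) :=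
  FaithfulSMul.algebraMap_injective _ _

theorem comap_map_mk_eq (p : Ideal A) (q : Ideal B) (hq : q.comap (algebraMap A B) = p)
    (hq2 : Module.annihilator B M ≤ q) :
    (q.map (Ideal.Quotient.mk (Module.annihilator B M))).comap
        (algebraMap (A ⧸ Module.annihilator A M) (B ⧸ Module.annihilator B M)) =
      p.map (Ideal.Quotient.mk (Module.annihilator A M)) := by
  have hp2 : Module.annihilator A M ≤ p := by
    rw [annihilator_eq_comap A B M, ← hq]
    exact Ideal.comap_mono hq2
  ext x
  obtain ⟨a, rfl⟩ := Ideal.Quotient.mk_surjective x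
  rw [Ideal.mem_comap, Ideal.Quotient.algebraMap_mk_of_liesOver,
    Ideal.mem_quotient_iff_mem hq2, Ideal.mem_quotient_iff_mem hp2, ← hq, Ideal.mem_comap]

theorem supportDim_eq_iSup (p : Ideal A) [p.IsPrime] :
    Module.supportDim (Localization.AtPrime p) (LocalizedModule p.primeCompl M) =
        ⨆ q ∈ {q : PrimeSpectrum B | q.asIdeal.comap (algebraMap A B) = p ∧
            q ∈ Module.support B M},
          Module.supportDim (Localization.AtPrime q.asIdeal)
            (LocalizedModule q.asIdeal.primeCompl M) := by
  haveI hfB : Module.Finite B M := Module.Finite.of_restrictScalars_finite A B M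
  haveI := isIntegral_quotient_annihilator A B M
  have hinj := injective_quotient_annihilator A B M
  by_cases hp : Module.annihilator A M ≤ p
  · rw [supportDim_localization_eq_relHt p M hp]
    apply le_antisymm
    · apply withBot_le_of_forall_nat
      intro n hn
      haveI : (p.map (Ideal.Quotient.mk (Module.annihilator A M))).IsPrime :=
        Ideal.map_isPrime_of_surjective Ideal.Quotient.mk_surjective
          (by rwa [Ideal.mk_ker])
      obtain ⟨Q, hQ, hQp, hnQ⟩ := exists_prime_over_height_ge hinj
        (p.map (Ideal.Quotient.mk (Module.annihilator A M))) n hn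
      let q : PrimeSpectrum B := ⟨Q.comap (Ideal.Quotient.mk (Module.annihilator B M)),
        inferInstance⟩
      have hq2 : Module.annihilator B M ≤ q.asIdeal := by
        intro b hb
        show Ideal.Quotient.mk _ b ∈ Q
        rw [Ideal.Quotient.eq_zero_iff_mem.mpr hb]
        exact Q.zero_mem
      have hmap : q.asIdeal.map (Ideal.Quotient.mk (Module.annihilator B M)) = Q :=
        Ideal.map_comap_of_surjective _ Ideal.Quotient.mk_surjective Q
      have hq1 : q.asIdeal.comap (algebraMap A B) = p := by
        ext a
        rw [Ideal.mem_comap]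
        show Ideal.Quotient.mk _ (algebraMap A B a) ∈ Q ↔ _
        rw [← Ideal.Quotient.algebraMap_mk_of_liesOver (Module.annihilator B M)
          (Module.annihilator A M), ← Ideal.mem_comap, hQp, Ideal.mem_quotient_iff_mem hp]
      refine le_iSup₂_of_le q ⟨hq1, Module.mem_support_iff_of_finite.mpr hq2⟩ ?_
      rw [supportDim_localization_eq_relHt q.asIdeal M hq2]
      unfold relHt
      rw [hmap]
      exact WithBot.coe_le_coe.mpr hnQ
    · refine iSup₂_le fun q hq => ?_
      obtain ⟨hq1, hq2⟩ := hq
      have hq2' : Module.annihilator B M ≤ q.asIdeal := Module.mem_support_iff_of_finite.mp hq2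
      rw [supportDim_localization_eq_relHt q.asIdeal M hq2']
      unfold relHt
      rw [WithBot.coe_le_coe, ← comap_map_mk_eq A B M p q.asIdeal hq1 hq2']
      haveI : (q.asIdeal.map (Ideal.Quotient.mk (Module.annihilator B M))).IsPrime :=
        Ideal.map_isPrime_of_surjective Ideal.Quotient.mk_surjective
          (by rwa [Ideal.mk_ker])
      exact Groth.Agent.Lib.Helper18.Hull.height_le_height_comap_of_isIntegral _
  · have h1 : Module.supportDim (Localization.AtPrime p) (LocalizedModule p.primeCompl M) = ⊥ := by
      rw [Module.supportDim_eq_bot_iff_subsingleton]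
      have : (⟨p, inferInstance⟩ : PrimeSpectrum A) ∉ Module.support A M := by
        rw [Module.mem_support_iff_of_finite]
        exact hp
      rw [Module.mem_support_iff, not_nontrivial_iff_subsingleton] at this
      exact this
    rw [h1]
    symm
    rw [iSup₂_eq_bot]
    rintro q ⟨hq1, hq2⟩
    exfalso
    apply hp
    rw [annihilator_eq_comap A B M, ← hq1]
    exact Ideal.comap_mono (Module.mem_support_iff_of_finite.mp hq2)

end

end Groth.Agent.Lib.Helper23.FinDD
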