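import Mathlib
import Groth.Agent.Lib.Helper18.CM9
import Groth.Agent.Lib.Helper18.QGor6
import Groth.Agent.Lib.Helper16.DepthTransport

/-!
Depth of a B-module M finite over A (A -> B Noetherian), EGA 0_IV 16.4.8 general form, depth part. idealDepth_map_eq_depth (A' local, B' any Noetherian A'-algebra, N finite over A': depth_{A'} N = depth of N along m B' over B'), depth_eq_idealDepth, depth_eq_iInf (depth M_p = inf over primes q of B over p in Supp M of depth M_q).
-/

set_option autoImplicit false
set_option linter.unusedSectionVars false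
universe u


namespace Groth.Agent.Lib.Helper23.FinDD


open CategoryTheory RingTheory.Sequence IsLocalRing Pointwise
open Groth.Agent.Lib.Helper16.Depth Groth.Agent.Lib.Helper18.CM

section

variable {A' B' : Type u} [CommRing A'] [CommRing B'] [IsLocalRing A'] [IsNoetherianRing A']
  [IsNoetherianRing B'] [Algebra A' B']

theorem smul_top_map_eq_top_iff (N : Type u) [AddCommGroup N] [Module B' N] [Module A' N]
    [IsScalarTower A' B' N] (I : Ideal A') :
    (I.map (algebraMap A' B')) • (⊤ : Submodule B' N) = ⊤ ↔ I • (⊤ : Submodule A' N) = ⊤ := by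
  rw [Submodule.eq_top_iff', Submodule.eq_top_iff']
  exact forall_congr' fun x => Groth.Agent.Lib.Helper18.QGor.mem_map_smul_top_iff I x

theorem le_idealDepth_map_of_le_depth (n : ℕ) (N : Type u) [AddCommGroup N] [Module B' N]
    [Module A' N] [IsScalarTower A' B' N]
    (h : (n : ℕ∞) ≤ LocCoh.depth A' N) :
    (n : ℕ∞) ≤ LocCoh.idealDepth ((maximalIdeal A').map (algebraMap A' B')) N := by
  unfold LocCoh.depth at h
  rw [le_idealDepth_iff] at h ⊢
  rcases h with h | ⟨rs, hlen, hreg, hmem⟩
  · left
    exact (smul_top_map_eq_top_iff N _).mpr h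
  · right
    refine ⟨rs.map (algebraMap A' B'), by simp [hlen], ?_, ?_⟩
    · exact (isWeaklyRegular_map_algebraMap_iff B' N rs).mpr hreg
    · intro r hr
      obtain ⟨a, ha, rfl⟩ := List.mem_map.mp hr
      exact Ideal.mem_map_of_mem _ (hmem a ha)

theorem smul_eq_zero_of_mem_map (N : Type u) [AddCommGroup N] [Module B' N]
    [Module A' N] [IsScalarTower A' B' N] (I : Ideal A') (z : N) (hz : ∀ a ∈ I, a • z = 0)
    (b : B') (hb : b ∈ I.map (algebraMap A' B')) : b • z = 0 := by
  induction hb using Submodule.span_induction with
  | mem b hb =>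
    obtain ⟨a, ha, rfl⟩ := hb
    rw [algebraMap_smul]
    exact hz a ha
  | zero => rw [zero_smul]
  | add x y _ _ hx hy => rw [add_smul, hx, hy, add_zero]
  | smul c x _ hx => rw [smul_eq_mul, mul_smul, hx, smul_zero]

theorem le_depth_of_le_idealDepth_map (n : ℕ) :
    ∀ (N : Type u) [AddCommGroup N] [Module B' N] [Module A' N] [IsScalarTower A' B' N]
      [Module.Finite A' N],
      (n : ℕ∞) ≤ LocCoh.idealDepth ((maximalIdeal A').map (algebraMap A' B')) N →
        (n : ℕ∞) ≤ LocCoh.depth A' N := by
  induction n with
  | zero => intro N _ _ _ _ _ _; simp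
  | succ n ih =>
    intro N _ _ _ _ _ h
    cases subsingleton_or_nontrivial N
    · rw [depth_eq_top_of_subsingleton]; exact le_top
    have hfinB : Module.Finite B' N := Module.Finite.of_restrictScalars_finite A' B' N
    have hne : ((maximalIdeal A').map (algebraMap A' B')) • (⊤ : Submodule B' N) ≠ ⊤ := by
      rw [Ne, smul_top_map_eq_top_iff]
      exact maximalIdeal_smul_top_ne_top N
    have h1 : 1 ≤ LocCoh.idealDepth ((maximalIdeal A').map (algebraMap A' B')) N := by
      refine le_trans ?_ h
      exact_mod_cast Nat.le_add_left 1 n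
    obtain ⟨b, hb, hbreg⟩ := (one_le_idealDepth_iff _ N hne).mp h1
    -- the maximal ideal is not associated
    have hnotass : maximalIdeal A' ∉ associatedPrimes A' N := by
      intro hass
      obtain ⟨-, z, hz⟩ := isAssociatedPrime_iff.mp hass
      have hmem : ∀ a : A', a ∈ maximalIdeal A' ↔ a • z = 0 := by
        intro a
        rw [hz, Submodule.mem_colon_singleton, Submodule.mem_bot]
      have hz0 : z ≠ 0 := by
        intro h0
        have : (1 : A') ∈ maximalIdeal A' := by rw [hmem, h0, smul_zero]
        exact (IsLocalRing.maximalIdeal.isMaximal A').ne_top ((Ideal.eq_top_iff_one _).mpr this)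
      have hbz : b • z = 0 :=
        smul_eq_zero_of_mem_map N _ z (fun a ha => (hmem a).mp ha) b hb
      exact hz0 (hbreg (by simpa using hbz))
    have hd1 : 1 ≤ LocCoh.depth A' N := by
      rw [Order.one_le_iff_ne_zero, Ne, depth_eq_zero_iff]
      exact hnotass
    obtain ⟨x, hx, hreg⟩ := (one_le_depth_iff N).mp hd1
    have hy : algebraMap A' B' x ∈ (maximalIdeal A').map (algebraMap A' B') :=
      Ideal.mem_map_of_mem _ hx
    have hregB : IsSMulRegular N (algebraMap A' B' x) := by
      intro m m' hmm
      apply hreg
      simpa [algebraMap_smul] using hmm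
    have hfinA : Module.Finite A' (QuotSMulTop (algebraMap A' B' x) N) :=
      finite_quotient_of_tower N _
    have heq : (x • (⊤ : Submodule A' N)) =
        ((algebraMap A' B' x) • (⊤ : Submodule B' N)).restrictScalars A' := by
      ext m
      simp only [Submodule.mem_smul_pointwise_iff_exists, Submodule.mem_top, true_and,
        Submodule.restrictScalars_mem, algebraMap_smul]
    let e : QuotSMulTop x N ≃ₗ[A'] QuotSMulTop (algebraMap A' B' x) N :=
      (Submodule.quotEquivOfEq _ _ heq) ≪≫ₗ
        (Submodule.Quotient.restrictScalarsEquiv A' ((algebraMap A' B' x) • (⊤ : Submodule B' N)))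
    have hS := Groth.Agent.S0320.result B' ((maximalIdeal A').map (algebraMap A' B')) N hne
      (algebraMap A' B' x) hy hregB
    have hn : (n : ℕ∞) ≤ LocCoh.idealDepth ((maximalIdeal A').map (algebraMap A' B'))
        (QuotSMulTop (algebraMap A' B' x) N) := by
      rw [← hS] at h
      push_cast at h
      exact (ENat.add_le_add_iff_right (by simp)).mp h
    have h2 := ih (QuotSMulTop (algebraMap A' B' x) N) hn
    rw [← depth_congr e] at h2
    rw [← depth_quotSMulTop N hx hreg]
    push_cast
    exact add_le_add_left h2 1

/-- the depth of `N` over the local ring `A'` is its depth along `𝔪 B'` over `B'` -/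
theorem idealDepth_map_eq_depth (N : Type u) [AddCommGroup N] [Module B' N] [Module A' N]
    [IsScalarTower A' B' N] [Module.Finite A' N] :
    LocCoh.idealDepth ((maximalIdeal A').map (algebraMap A' B')) N = LocCoh.depth A' N :=
  ENat.eq_of_forall_natCast_le_iff fun n =>
    ⟨le_depth_of_le_idealDepth_map n N, le_idealDepth_map_of_le_depth n N⟩

end



open CategoryTheory RingTheory.Sequence IsLocalRing Pointwise
open Groth.Agent.Lib.Helper16.Depth Groth.Agent.Lib.Helper18.CM

section

variable (A B : Type u) [CommRing A] [CommRing B] [IsNoetherianRing A] [IsNoetherianRing B]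
  [Algebra A B]
  (M : Type u) [AddCommGroup M] [Module B M] [Module A M] [IsScalarTower A B M]
  [Module.Finite A M] (p : Ideal A) [p.IsPrime]

/-- the submonoid of `B` generated by `A ∖ p` -/
abbrev SB : Submonoid B := Algebra.algebraMapSubmonoid B p.primeCompl

/-- the ideal `p B_p` of `B_p` -/
noncomputable abbrev IB : Ideal (Localization (SB A B p)) :=
  (maximalIdeal (Localization.AtPrime p)).map
    (algebraMap (Localization.AtPrime p) (Localization (SB A B p)))

theorem algebraMap_comm (a : A) :
    algebraMap (Localization.AtPrime p) (Localization (SB A B p))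
        (algebraMap A (Localization.AtPrime p) a) =
      algebraMap B (Localization (SB A B p)) (algebraMap A B a) := by
  rw [← IsScalarTower.algebraMap_apply A (Localization.AtPrime p) (Localization (SB A B p)),
    IsScalarTower.algebraMap_apply A B (Localization (SB A B p))]

/-- depth of `M_p` over `A_p` as an ideal depth over `B_p` -/
theorem depth_eq_idealDepth :
    LocCoh.depth (Localization.AtPrime p) (LocalizedModule p.primeCompl M) =
      LocCoh.idealDepth (IB A B p) (LocalizedModule (SB A B p) M) := by
  let A' := Localization.AtPrime p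
  let B' := Localization (SB A B p)
  let N := LocalizedModule (SB A B p) M
  letI modA'N : Module A' N := Module.compHom N (algebraMap A' B')
  haveI tA'B'N : IsScalarTower A' B' N := IsScalarTower.of_algebraMap_smul fun r x => rfl
  haveI tAA'N : IsScalarTower A A' N := by
    refine IsScalarTower.of_algebraMap_smul fun a x => ?_
    change algebraMap A' B' (algebraMap A A' a) • x = a • x
    rw [algebraMap_comm, algebraMap_smul, algebraMap_smul]
  let g : M →ₗ[A] N := (LocalizedModule.mkLinearMap (SB A B p) M).restrictScalars A
  haveI hg : IsLocalizedModule p.primeCompl g :=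
    IsLocalizedModule.restrictScalars p.primeCompl (LocalizedModule.mkLinearMap (SB A B p) M)
  haveI : IsNoetherianRing A' := IsLocalization.isNoetherianRing p.primeCompl A' inferInstance
  haveI : IsNoetherianRing B' := IsLocalization.isNoetherianRing (SB A B p) B' inferInstance
  haveI : Module.Finite A' N := Module.Finite.of_isLocalizedModule p.primeCompl g
  rw [← depth_eq_of_isLocalizedModule p M A' N g]
  exact (idealDepth_map_eq_depth (A' := A') (B' := B') N).symm

end



open CategoryTheory RingTheory.Sequence IsLocalRing Pointwise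
open Groth.Agent.Lib.Helper16.Depth Groth.Agent.Lib.Helper18.CM Groth.Agent.Lib.Helper18.QGor

section

variable (A B : Type u) [CommRing A] [CommRing B] [IsNoetherianRing A] [IsNoetherianRing B]
  [Algebra A B]
  (M : Type u) [AddCommGroup M] [Module B M] [Module A M] [IsScalarTower A B M]
  [Module.Finite A M] (p : Ideal A) [p.IsPrime]

theorem IB_eq :
    IB A B p = (p.map (algebraMap A B)).map (algebraMap B (Localization (SB A B p))) := by
  unfold IB
  rw [← Localization.AtPrime.map_eq_maximalIdeal, Ideal.map_map, Ideal.map_map]
  congr 1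
  ext a
  exact algebraMap_comm A B p a

theorem comap_comap_eq_of_IB_le (Q : Ideal (Localization (SB A B p))) [hQ : Q.IsPrime]
    (hIQ : IB A B p ≤ Q) :
    (Q.comap (algebraMap B (Localization (SB A B p)))).comap (algebraMap A B) = p := by
  ext a
  rw [Ideal.mem_comap, Ideal.mem_comap]
  constructor
  · intro ha
    by_contra hap
    have hmem : algebraMap A B a ∈ SB A B p := ⟨a, hap, rfl⟩
    have hu : IsUnit (algebraMap B (Localization (SB A B p)) (algebraMap A B a)) :=
      IsLocalization.map_units _ ⟨_, hmem⟩
    exact hQ.ne_top (Ideal.eq_top_of_isUnit_mem _ ha hu)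
  · intro ha
    apply hIQ
    rw [← algebraMap_comm]
    apply Ideal.mem_map_of_mem
    exact (IsLocalization.AtPrime.to_map_mem_maximal_iff _ p a).mpr ha

theorem depth_eq_iInf :
    LocCoh.depth (Localization.AtPrime p) (LocalizedModule p.primeCompl M) =
      ⨅ q ∈ {q : PrimeSpectrum B | q.asIdeal.comap (algebraMap A B) = p ∧
          q ∈ Module.support B M},
        LocCoh.depth (Localization.AtPrime q.asIdeal)
          (LocalizedModule q.asIdeal.primeCompl M) := by
  rw [depth_eq_idealDepth A B M p]
  haveI hfB : Module.Finite B M := Module.Finite.of_restrictScalars_finite A B M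
  haveI : IsNoetherianRing (Localization (SB A B p)) :=
    IsLocalization.isNoetherianRing (SB A B p) _ inferInstance
  apply ENat.eq_of_forall_natCast_le_iff
  intro n
  rw [le_idealDepth_iff_forall_le_depth (IB A B p) (LocalizedModule (SB A B p) M) n,
    le_iInf₂_iff]
  constructor
  · rintro h q ⟨hq1, hq2⟩
    have hdisj : Disjoint (SB A B p : Set B) (q.asIdeal : Set B) := by
      rw [Set.disjoint_left]
      rintro _ ⟨a, ha, rfl⟩ haq
      apply ha
      rw [← hq1]
      exact haq
    haveI hQ : (q.asIdeal.map (algebraMap B (Localization (SB A B p)))).IsPrime :=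
      IsLocalization.isPrime_of_isPrime_disjoint (SB A B p) _ _ q.2 hdisj
    have hcomap : (q.asIdeal.map (algebraMap B (Localization (SB A B p)))).comap
        (algebraMap B (Localization (SB A B p))) = q.asIdeal :=
      IsLocalization.comap_map_of_isPrime_disjoint (SB A B p) _ q.2 hdisj
    have hI : IB A B p ≤ q.asIdeal.map (algebraMap B (Localization (SB A B p))) := by
      rw [IB_eq]
      apply Ideal.map_mono
      rw [Ideal.map_le_iff_le_comap, hq1]
    have h1 := h (q.asIdeal.map (algebraMap B (Localization (SB A B p)))) hI
    rw [depth_localization_localization' (SB A B p) M _] at h1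
    rwa [depth_congr_of_eq M hcomap] at h1
  · intro h Q hQ hIQ
    rw [depth_localization_localization' (SB A B p) M Q]
    have hq1 := comap_comap_eq_of_IB_le A B p Q hIQ
    by_cases hsupp : (⟨Q.comap (algebraMap B (Localization (SB A B p))), inferInstance⟩ :
        PrimeSpectrum B) ∈ Module.support B M
    · exact h ⟨Q.comap (algebraMap B (Localization (SB A B p))), inferInstance⟩ ⟨hq1, hsupp⟩
    · rw [Module.mem_support_iff, not_nontrivial_iff_subsingleton] at hsupp
      haveI := hsupp
      rw [depth_eq_top_of_subsingleton]
      exact le_top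

end

end Groth.Agent.Lib.Helper23.FinDD
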