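import Mathlib
import Groth.Agent.Lib.Helper18.SerreReg2
import Groth.Agent.Lib.Helper18.FlatLocal
import Groth.Agent.Lib.Helper21.AdicNoetherian

/-!
Adic completions and power series rings of regular rings are regular (EGA 0_IV 17.3.8.1 / 17.3.8); a Noetherian ring is regular iff its localizations at maximal ideals are (helper23).
-/

set_option autoImplicit false
universe u
open IsLocalRing

namespace Groth.Agent.Lib.Helper23.RegularCompletion


/-- a Noetherian ring is regular as soon as its localizations at maximal ideals are. -/
theorem isRegularRing_of_forall_maximal (R : Type u) [CommRing R] [IsNoetherianRing R]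
    (h : ∀ (m : Ideal R) [m.IsMaximal], IsRegularLocalRing (Localization.AtPrime m)) :
    IsRegularRing R := by
  rw [isRegularRing_iff]
  intro P hP
  obtain ⟨m, hm, hPm⟩ := Ideal.exists_le_maximal P hP.ne_top
  haveI := h m
  set S := Localization.AtPrime m
  set p : Ideal S := P.map (algebraMap R S) with hp
  have hdisj : Disjoint (m.primeCompl : Set R) (P : Set R) := by
    rw [Set.disjoint_left]
    intro x hx hxP
    exact hx (hPm hxP)
  haveI hpprime : p.IsPrime := IsLocalization.isPrime_of_isPrime_disjoint m.primeCompl S P hP hdisj
  have hcomap : p.comap (algebraMap R S) = P :=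
    IsLocalization.comap_map_of_isPrime_disjoint m.primeCompl S hP hdisj
  haveI : IsRegularLocalRing (Localization.AtPrime p) :=
    Groth.Agent.Lib.Helper18.SerreReg.isRegularLocalRing_localization_atPrime S p
  haveI h1 : IsLocalization.AtPrime (Localization.AtPrime p) (p.comap (algebraMap R S)) :=
    IsLocalization.isLocalization_isLocalization_atPrime_isLocalization m.primeCompl
      (Localization.AtPrime p) p
  have key : ∀ Q : Ideal R, Q = P → ∀ [Q.IsPrime] [IsLocalization.AtPrime (Localization.AtPrime p) Q],
      IsRegularLocalRing (Localization.AtPrime P) := by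
    intro Q hQ _ _
    subst hQ
    exact IsRegularLocalRing.of_ringEquiv (R := Localization.AtPrime p)
      (IsLocalization.algEquiv Q.primeCompl (Localization.AtPrime p) (Localization.AtPrime Q)).toRingEquiv
  haveI : (p.comap (algebraMap R S)).IsPrime := Ideal.comap_isPrime _ p
  exact key _ hcomap



section Completion

variable (A : Type u) [CommRing A] [IsRegularRing A] (J : Ideal A)

instance isNoetherianRing_adicCompletion' : IsNoetherianRing (AdicCompletion J A) :=
  Groth.Agent.Lib.Helper21.isNoetherianRing_adicCompletion_of_fg J (IsNoetherian.noetherian J)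

theorem map_comap_maximal (M : Ideal (AdicCompletion J A)) [M.IsMaximal] :
    (M.comap (algebraMap A (AdicCompletion J A))).IsMaximal ∧
      (M.comap (algebraMap A (AdicCompletion J A))).map (algebraMap A (AdicCompletion J A)) = M := by
  have hfg : J.FG := IsNoetherian.noetherian J
  haveI := AdicCompletion.isAdicComplete_self J hfg
  have hJM : J.map (algebraMap A (AdicCompletion J A)) ≤ M := by
    refine (IsAdicComplete.le_jacobson_bot (J.map (algebraMap A (AdicCompletion J A)))).trans ?_
    exact sInf_le ⟨bot_le, inferInstance⟩
  have hsurj : Function.Surjective ((Ideal.Quotient.mk M).comp (algebraMap A (AdicCompletion J A))) := by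
    intro y
    obtain ⟨x, rfl⟩ := Ideal.Quotient.mk_surjective y
    obtain ⟨a, ha⟩ := Ideal.Quotient.mk_surjective (AdicCompletion.evalOneₐ J x)
    refine ⟨a, ?_⟩
    rw [RingHom.comp_apply, Ideal.Quotient.eq]
    apply hJM
    rw [← AdicCompletion.ker_evalOneₐ_eq_map J hfg, RingHom.mem_ker]
    show AdicCompletion.evalOneₐ J (algebraMap A (AdicCompletion J A) a - x) = 0
    rw [map_sub, ← ha, sub_eq_zero]
    rfl
  letI : Field (AdicCompletion J A ⧸ M) := Ideal.Quotient.field M
  have hmax : (M.comap (algebraMap A (AdicCompletion J A))).IsMaximal := by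
    have h1 := Ideal.comap_isMaximal_of_surjective
      ((Ideal.Quotient.mk M).comp (algebraMap A (AdicCompletion J A))) hsurj
      (K := (⊥ : Ideal (AdicCompletion J A ⧸ M)))
    have h2 : (⊥ : Ideal (AdicCompletion J A ⧸ M)).comap
        ((Ideal.Quotient.mk M).comp (algebraMap A (AdicCompletion J A)))
        = M.comap (algebraMap A (AdicCompletion J A)) := by
      rw [← Ideal.comap_comap, ← RingHom.ker_eq_comap_bot, Ideal.mk_ker]
    rw [← h2]
    exact h1
  refine ⟨hmax, ?_⟩
  have hJm : J ≤ M.comap (algebraMap A (AdicCompletion J A)) := by
    intro j hj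
    exact hJM (Ideal.mem_map_of_mem _ hj)
  haveI := hmax
  have h3 := AdicCompletion.isMaximal_map_of_le J (M.comap (algebraMap A (AdicCompletion J A))) hJm hfg
  exact h3.eq_of_le (Ideal.IsPrime.ne_top inferInstance) Ideal.map_comap_le

end Completion



section Completion

variable (A : Type u) [CommRing A] [IsRegularRing A] (J : Ideal A)

theorem isRegularLocalRing_atMaximal (M : Ideal (AdicCompletion J A)) [M.IsMaximal] :
    IsRegularLocalRing (Localization.AtPrime M) := by
  obtain ⟨hmax, hmap⟩ := map_comap_maximal A J M
  set m := M.comap (algebraMap A (AdicCompletion J A)) with hm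
  haveI : m.IsPrime := Ideal.comap_isPrime _ M
  have hflat := RingHom.Flat.localRingHom (f := algebraMap A (AdicCompletion J A))
    (RingHom.flat_algebraMap_iff.mpr inferInstance) M m rfl
  letI := (Localization.localRingHom m M (algebraMap A (AdicCompletion J A)) rfl).toAlgebra
  haveI : Module.Flat (Localization.AtPrime m) (Localization.AtPrime M) := hflat
  haveI : IsLocalHom (algebraMap (Localization.AtPrime m) (Localization.AtPrime M)) :=
    Localization.isLocalHom_localRingHom m M (algebraMap A (AdicCompletion J A)) rfl
  have hfib : (maximalIdeal (Localization.AtPrime m)).map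
      (algebraMap (Localization.AtPrime m) (Localization.AtPrime M))
      = maximalIdeal (Localization.AtPrime M) := by
    rw [← Localization.AtPrime.map_eq_maximalIdeal, Ideal.map_map]
    have hcomp : (algebraMap (Localization.AtPrime m) (Localization.AtPrime M)).comp
        (algebraMap A (Localization.AtPrime m))
        = (algebraMap (AdicCompletion J A) (Localization.AtPrime M)).comp
          (algebraMap A (AdicCompletion J A)) := by
      ext a
      exact Localization.localRingHom_to_map m M (algebraMap A (AdicCompletion J A)) rfl a
    rw [hcomp, ← Ideal.map_map, hmap, Localization.AtPrime.map_eq_maximalIdeal]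
  haveI : IsRegularLocalRing (Localization.AtPrime M ⧸
      (maximalIdeal (Localization.AtPrime m)).map
        (algebraMap (Localization.AtPrime m) (Localization.AtPrime M))) :=
    IsRegularLocalRing.of_ringEquiv (R := ResidueField (Localization.AtPrime M))
      (Ideal.quotEquivOfEq hfib.symm)
  exact Groth.Agent.Lib.Helper18.FlatLocal.isRegularLocalRing_of_flat_of_fibre
    (Localization.AtPrime m) (Localization.AtPrime M)

theorem t5785main : IsRegularRing (AdicCompletion J A) :=
  isRegularRing_of_forall_maximal _ fun M _ => isRegularLocalRing_atMaximal A J M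

end Completion

theorem t5784main (A : Type u) [CommRing A] [IsRegularRing A] (n : ℕ) :
    IsRegularRing (MvPowerSeries (Fin n) A) := by
  haveI : IsRegularRing (MvPolynomial (Fin n) A) := inferInstance
  haveI := t5785main (MvPolynomial (Fin n) A) (MvPolynomial.idealOfVars (Fin n) A)
  exact IsRegularRing.of_ringEquiv (MvPowerSeries.toAdicCompletionAlgEquiv (Fin n) A).symm.toRingEquiv

end Groth.Agent.Lib.Helper23.RegularCompletion
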