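import Mathlib
import Groth.Agent.Lib.Helper20.CohenReg
import Groth.Agent.Lib.Helper15.RigClosed
import Groth.Agent.Lib.Helper28.ArtinLocalFinite
import Groth.Agent.Lib.Helper12.IntegralDim
import Groth.Agent.Lib.Helper1.ArtFunObsDimMain

/-!
Cohen structure theorem for complete local domains containing a field (EGA 0_IV 19.8.8 (ii)): finite_Phi (evaluation k0[[T]] -> A at a system of parameters is finite), t2460main.
-/

set_option autoImplicit false


namespace Groth.Agent.Lib.Helper23.CohenDomain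


universe u

open IsLocalRing Groth.Agent.Lib.Helper20 Groth.Agent.Lib.Helper1.ArtFunLib

section Main

variable {k₀ A : Type u} [Field k₀] [CommRing A] [IsLocalRing A] [IsNoetherianRing A]
  [IsAdicComplete (maximalIdeal A) A] [Algebra k₀ A]

/-- finiteness of the evaluation map at a system of parameters -/
theorem finite_Phi [Module.Finite k₀ (ResidueField A)] {n : ℕ} (x : Fin n → A)
    (hx : ∀ i, x i ∈ maximalIdeal A)
    (hmin : maximalIdeal A ∈ (Ideal.span (Set.range x)).minimalPrimes) :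
    (CohenReg.Phi k₀ x hx).toRingHom.Finite := by
  letI : Algebra (MvPowerSeries (Fin n) k₀) A := (CohenReg.Phi k₀ x hx).toRingHom.toAlgebra
  haveI : IsScalarTower k₀ (MvPowerSeries (Fin n) k₀) A := IsScalarTower.of_algebraMap_eq
    (fun c => ((CohenReg.Phi k₀ x hx).commutes c).symm)
  change Module.Finite (MvPowerSeries (Fin n) k₀) A
  have hmap : (Ideal.span (Set.range (MvPowerSeries.X : Fin n → MvPowerSeries (Fin n) k₀))).map
      (algebraMap (MvPowerSeries (Fin n) k₀) A) = Ideal.span (Set.range x) :=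
    CohenReg.map_span_X k₀ x hx
  have hJle : Ideal.span (Set.range x) ≤ maximalIdeal A := by
    rw [Ideal.span_le]; rintro _ ⟨i, rfl⟩; exact hx i
  -- Hausdorff
  haveI hH : IsHausdorff (Ideal.span (Set.range (MvPowerSeries.X : Fin n → MvPowerSeries (Fin n) k₀)))
      A := by
    refine ⟨fun a ha => ?_⟩
    have hA : IsHausdorff (maximalIdeal A) A := inferInstance
    apply hA.haus'
    intro m
    have h1 := ha m
    rw [SModEq.zero] at h1 ⊢
    rw [Ideal.smul_top_eq_map, Submodule.restrictScalars_mem, Ideal.map_pow, hmap] at h1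
    rw [smul_eq_mul, Ideal.mul_top]
    exact Ideal.pow_right_mono hJle m h1
  apply Groth.Agent.Lib.Helper15.finite_of_finite_quotient_of_isAdicComplete
    (Ideal.span (Set.range (MvPowerSeries.X : Fin n → MvPowerSeries (Fin n) k₀)))
  -- the quotient
  haveI hart : IsArtinianRing (A ⧸ Ideal.span (Set.range x)) :=
    IsLocalRing.quotient_artinian_of_mem_minimalPrimes_of_isLocalRing _ hmin
  haveI : Nontrivial (A ⧸ Ideal.span (Set.range x)) :=
    Ideal.Quotient.nontrivial_iff.mpr (fun h => (maximalIdeal.isMaximal A).ne_top (top_le_iff.mp (h ▸ hJle)))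
  haveI hloc : IsLocalRing (A ⧸ Ideal.span (Set.range x)) :=
    IsLocalRing.of_surjective' (Ideal.Quotient.mk _) Ideal.Quotient.mk_surjective
  haveI hfinres : Module.Finite k₀ ((A ⧸ Ideal.span (Set.range x)) ⧸
      maximalIdeal (A ⧸ Ideal.span (Set.range x))) := by
    let g : A →ₐ[k₀] (A ⧸ Ideal.span (Set.range x)) ⧸ maximalIdeal (A ⧸ Ideal.span (Set.range x)) :=
      (Ideal.Quotient.mkₐ k₀ _).comp (Ideal.Quotient.mkₐ k₀ _)
    have hg : ∀ a ∈ maximalIdeal A, g a = 0 := by
      intro a ha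
      change Ideal.Quotient.mk _ (Ideal.Quotient.mk _ a) = 0
      rw [Ideal.Quotient.eq_zero_iff_mem, IsLocalRing.mem_maximalIdeal]
      intro hu
      have hlh : IsLocalHom (Ideal.Quotient.mk (Ideal.span (Set.range x))) :=
        IsLocalHom.of_surjective _ Ideal.Quotient.mk_surjective
      exact (IsLocalRing.mem_maximalIdeal a).mp ha (IsLocalHom.map_nonunit a hu)
    let g' : ResidueField A →ₐ[k₀] _ := Ideal.Quotient.liftₐ (maximalIdeal A) g hg
    have hg' : Function.Surjective g' := by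
      intro y
      obtain ⟨y', rfl⟩ := Ideal.Quotient.mk_surjective y
      obtain ⟨a, rfl⟩ := Ideal.Quotient.mk_surjective y'
      exact ⟨residue A a, rfl⟩
    exact Module.Finite.of_surjective g'.toLinearMap hg'
  haveI hfin₀ : Module.Finite k₀ (A ⧸ Ideal.span (Set.range x)) :=
    Groth.Agent.Lib.Helper28.finite_of_residue_finite
  haveI hfin₁ : Module.Finite (MvPowerSeries (Fin n) k₀) (A ⧸ Ideal.span (Set.range x)) :=
    Module.Finite.of_restrictScalars_finite k₀ _ _
  -- transfer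
  have hsub : (Ideal.span (Set.range (MvPowerSeries.X : Fin n → MvPowerSeries (Fin n) k₀)) • ⊤ :
      Submodule (MvPowerSeries (Fin n) k₀) A) =
      (Ideal.span (Set.range x)).restrictScalars (MvPowerSeries (Fin n) k₀) := by
    rw [Ideal.smul_top_eq_map, hmap]
  rw [hsub]
  let f : A ⧸ Ideal.span (Set.range x) →ₗ[MvPowerSeries (Fin n) k₀]
      A ⧸ (Ideal.span (Set.range x)).restrictScalars (MvPowerSeries (Fin n) k₀) :=
    Submodule.liftQ ((Ideal.span (Set.range x)).restrictScalars (MvPowerSeries (Fin n) k₀))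
      (Submodule.mkQ _) (by
        intro a ha
        rw [LinearMap.mem_ker, Submodule.mkQ_apply, Submodule.Quotient.mk_eq_zero]
        exact ha)
  have hf : Function.Surjective f := by
    intro y
    obtain ⟨a, rfl⟩ := Submodule.Quotient.mk_surjective _ y
    exact ⟨Ideal.Quotient.mk _ a, rfl⟩
  exact Module.Finite.of_surjective f hf

end Main




open IsLocalRing Groth.Agent.Lib.Helper20 Groth.Agent.Lib.Helper1.ArtFunLib

section Main2

theorem t2460main {k₀ A : Type u} [Field k₀] [CommRing A] [IsDomain A] [IsLocalRing A] [IsNoetherianRing A]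
    [IsAdicComplete (maximalIdeal A) A] [Algebra k₀ A] [Module.Finite k₀ (ResidueField A)] :
    ∃ (n : ℕ) (w : MvPowerSeries (Fin n) k₀ →ₐ[k₀] A), Function.Injective w ∧ IsLocalHom w.toRingHom ∧ w.toRingHom.Finite := by
  classical
  obtain ⟨s, hsmin, hscard⟩ :=
    Ideal.exists_finset_card_eq_height_of_isNoetherianRing (maximalIdeal A)
  obtain ⟨n, hn⟩ : ∃ n, n = s.card := ⟨_, rfl⟩
  let x : Fin n → A := fun i => ((s.equivFin.symm (Fin.cast hn i) : s) : A)
  have hrange : Set.range x = (s : Set A) := by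
    ext a
    constructor
    · rintro ⟨i, rfl⟩
      exact (s.equivFin.symm (Fin.cast hn i)).2
    · intro ha
      refine ⟨Fin.cast hn.symm (s.equivFin ⟨a, ha⟩), ?_⟩
      simp [x]
  have hmin : maximalIdeal A ∈ (Ideal.span (Set.range x)).minimalPrimes := by
    rw [hrange]; exact hsmin
  have hx : ∀ i, x i ∈ maximalIdeal A := by
    intro i
    exact hmin.1.2 (Ideal.subset_span ⟨i, rfl⟩)
  have hfin := finite_Phi (k₀ := k₀) x hx hmin
  have hmap : (Ideal.span (Set.range (MvPowerSeries.X : Fin n → MvPowerSeries (Fin n) k₀))).map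
      (CohenReg.Phi k₀ x hx).toRingHom = Ideal.span (Set.range x) :=
    CohenReg.map_span_X k₀ x hx
  have hloc : IsLocalHom (CohenReg.Phi k₀ x hx).toRingHom := by
    refine ⟨fun F hF => ?_⟩
    by_contra hnu
    have h1 : F ∈ maximalIdeal (MvPowerSeries (Fin n) k₀) := (IsLocalRing.mem_maximalIdeal F).mpr hnu
    rw [maximalIdeal_mvPowerSeries_eq_span] at h1
    have h2 : (CohenReg.Phi k₀ x hx).toRingHom F ∈ Ideal.span (Set.range x) := by
      rw [← hmap]; exact Ideal.mem_map_of_mem _ h1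
    have h3 : (CohenReg.Phi k₀ x hx).toRingHom F ∈ maximalIdeal A := hmin.1.2 h2
    exact (IsLocalRing.mem_maximalIdeal _).mp h3 hF
  refine ⟨n, CohenReg.Phi k₀ x hx, ?_, hloc, hfin⟩
  -- injectivity by dimension
  rw [injective_iff_map_eq_zero]
  intro F hF
  by_contra hF0
  letI : Algebra (MvPowerSeries (Fin n) k₀) A := (CohenReg.Phi k₀ x hx).toRingHom.toAlgebra
  haveI : Module.Finite (MvPowerSeries (Fin n) k₀) A := hfin
  -- the quotient by the kernel
  obtain ⟨𝔨, h𝔨⟩ : ∃ 𝔨 : Ideal (MvPowerSeries (Fin n) k₀),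
      𝔨 = RingHom.ker (algebraMap (MvPowerSeries (Fin n) k₀) A) := ⟨_, rfl⟩
  have hF𝔨 : F ∈ 𝔨 := by rw [h𝔨]; exact hF
  letI : Algebra (MvPowerSeries (Fin n) k₀ ⧸ 𝔨) A :=
    (Ideal.Quotient.lift 𝔨 (algebraMap (MvPowerSeries (Fin n) k₀) A)
      (fun a ha => by rw [h𝔨] at ha; exact ha)).toAlgebra
  haveI : IsScalarTower (MvPowerSeries (Fin n) k₀) (MvPowerSeries (Fin n) k₀ ⧸ 𝔨) A :=
    IsScalarTower.of_algebraMap_eq (R := MvPowerSeries (Fin n) k₀)
      (S := MvPowerSeries (Fin n) k₀ ⧸ 𝔨) (A := A) (fun _ => rfl)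
  haveI : Algebra.IsIntegral (MvPowerSeries (Fin n) k₀ ⧸ 𝔨) A := by
    haveI : Module.Finite (MvPowerSeries (Fin n) k₀ ⧸ 𝔨) A :=
      Module.Finite.of_restrictScalars_finite (MvPowerSeries (Fin n) k₀) _ _
    infer_instance
  have hinj : Function.Injective (algebraMap (MvPowerSeries (Fin n) k₀ ⧸ 𝔨) A) := by
    rw [injective_iff_map_eq_zero]
    intro y hy
    obtain ⟨G, rfl⟩ := Ideal.Quotient.mk_surjective y
    rw [Ideal.Quotient.eq_zero_iff_mem, h𝔨]
    exact hy
  have hdim1 := Groth.Agent.Lib.Helper12.ringKrullDim_eq_of_isIntegral_of_injective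
    (MvPowerSeries (Fin n) k₀ ⧸ 𝔨) A hinj
  have hdim2 : ringKrullDim (MvPowerSeries (Fin n) k₀ ⧸ 𝔨) + 1 ≤
      ringKrullDim (MvPowerSeries (Fin n) k₀) :=
    ringKrullDim_succ_le_of_surjective (Ideal.Quotient.mk 𝔨) Ideal.Quotient.mk_surjective
      (mem_nonZeroDivisors_of_ne_zero hF0) (Ideal.Quotient.eq_zero_iff_mem.mpr hF𝔨)
  have hdim3 : ringKrullDim (MvPowerSeries (Fin n) k₀) ≤ n := by
    refine le_trans (ringKrullDim_le_spanFinrank_maximalIdeal _) ?_
    exact_mod_cast spanFinrank_maximalIdeal_mvPowerSeries_le k₀ n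
  have hdim4 : ringKrullDim A = n := by
    rw [← IsLocalRing.maximalIdeal_height_eq_ringKrullDim, ← hscard, hn]
    rfl
  rw [hdim1, hdim4] at hdim2
  have h5 : ((n : WithBot ℕ∞) + 1) ≤ n := le_trans hdim2 hdim3
  have h6 : ((n + 1 : ℕ) : WithBot ℕ∞) ≤ (n : ℕ) := by exact_mod_cast h5
  have h7 : n + 1 ≤ n := by exact_mod_cast h6
  omega

end Main2

end Groth.Agent.Lib.Helper23.CohenDomain
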