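import Mathlib
import Groth.Agent.S4537

/-!
Extension of derivations along an adically formally smooth map to a complete local ring; twisted lifting of derivations (exists_derivation_lift_tw), compatible towers and limits.
-/

set_option autoImplicit false
universe u v w


namespace Groth.Agent.Lib.Helper23.DerExtend


open TrivSqZeroExt

section DerLiftTw

variable {A B Q : Type u} [CommRing A] [CommRing B] [CommRing Q] [Algebra A B] [Algebra B Q]
  [Algebra A Q] [IsScalarTower A B Q]
  {M' M : Type u} [AddCommGroup M'] [AddCommGroup M] [Module Q M'] [Module Q M]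
  [Module B M'] [Module B M] [IsScalarTower B Q M'] [IsScalarTower B Q M]
  [Module A M'] [Module A M] [IsScalarTower A B M'] [IsScalarTower A B M]

/-- twisted lifting of derivations: a derivation `D : B → M` extending (via `g`) a derivation
`D₀ : A → M'` lifts to a derivation `B → M'` extending `D₀`. -/
theorem exists_derivation_lift_tw {J : Ideal B} (h : CAlgX.IsAdicFormallySmooth A B J)
    (hQ : ∃ m : ℕ, ∀ x ∈ J ^ m, algebraMap B Q x = 0)
    (g : M' →ₗ[Q] M) (hg : Function.Surjective g) (D₀ : Derivation ℤ A M') (D : Derivation ℤ B M)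
    (hD : ∀ a, D (algebraMap A B a) = g (D₀ a)) :
    ∃ D' : Derivation ℤ B M', (∀ b, g (D' b) = D b) ∧ ∀ a, D' (algebraMap A B a) = D₀ a := by
  letI : Module Qᵐᵒᵖ M' := Module.compHom _ ((RingHom.id Q).fromOpposite mul_comm)
  letI : Module Qᵐᵒᵖ M := Module.compHom _ ((RingHom.id Q).fromOpposite mul_comm)
  haveI : IsCentralScalar Q M' := ⟨fun r m => rfl⟩
  haveI : IsCentralScalar Q M := ⟨fun r m => rfl⟩
  have hsmulA : ∀ (a : A) (x : M'), algebraMap A Q a • x = a • x := fun a x => by
    rw [IsScalarTower.algebraMap_apply A B Q, algebraMap_smul, algebraMap_smul]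
  have hsmul : ∀ (b : B) (x : M), algebraMap B Q b • x = b • x := fun b x => algebraMap_smul Q b x
  have hsmul' : ∀ (b : B) (x : M'), algebraMap B Q b • x = b • x := fun b x => algebraMap_smul Q b x
  -- twisted structure maps
  let α' : A →+* TrivSqZeroExt Q M' :=
    { toFun := fun a => TrivSqZeroExt.inl (algebraMap A Q a) + TrivSqZeroExt.inr (D₀ a)
      map_one' := by simp
      map_mul' := fun a b => by
        apply TrivSqZeroExt.ext
        · simp
        · simp only [TrivSqZeroExt.snd_add, TrivSqZeroExt.snd_inl, TrivSqZeroExt.snd_inr, zero_add,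
            TrivSqZeroExt.snd_mul, TrivSqZeroExt.fst_add, TrivSqZeroExt.fst_inl,
            TrivSqZeroExt.fst_inr, add_zero, op_smul_eq_smul, Derivation.leibniz, hsmulA]
      map_zero' := by simp
      map_add' := fun a b => by
        apply TrivSqZeroExt.ext
        · simp
        · simp }
  letI : Algebra A (TrivSqZeroExt Q M') := α'.toAlgebra
  letI : Algebra A (TrivSqZeroExt Q M) := ((TrivSqZeroExt.map g).toRingHom.comp α').toAlgebra
  let π : TrivSqZeroExt Q M' →ₐ[A] TrivSqZeroExt Q M :=
    { (TrivSqZeroExt.map g).toRingHom with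
      commutes' := fun c => rfl }
  have hπfst : ∀ x, (π x).fst = x.fst := fun x => TrivSqZeroExt.fst_map g x
  have hπsnd : ∀ x, (π x).snd = g x.snd := fun x => TrivSqZeroExt.snd_map g x
  have hπ : Function.Surjective π := by
    intro y
    obtain ⟨x, hx⟩ := hg y.snd
    refine ⟨TrivSqZeroExt.inl y.fst + TrivSqZeroExt.inr x, ?_⟩
    apply TrivSqZeroExt.ext
    · rw [hπfst]; simp
    · rw [hπsnd]; simp [hx]
  have hK2 : ∀ x y, π x = 0 → π y = 0 → x * y = 0 := by
    intro x y hx hy
    have h1 : x.fst = 0 := by rw [← hπfst, hx]; rfl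
    have h2 : y.fst = 0 := by rw [← hπfst, hy]; rfl
    apply TrivSqZeroExt.ext
    · rw [TrivSqZeroExt.fst_mul, h1, zero_mul]; rfl
    · rw [TrivSqZeroExt.snd_mul, h1, h2, zero_smul]
      simp
  let u₀ : B →+* TrivSqZeroExt Q M :=
    { toFun := fun b => TrivSqZeroExt.inl (algebraMap B Q b) + TrivSqZeroExt.inr (D b)
      map_one' := by simp
      map_mul' := fun a b => by
        apply TrivSqZeroExt.ext
        · simp
        · simp only [TrivSqZeroExt.snd_add, TrivSqZeroExt.snd_inl, TrivSqZeroExt.snd_inr, zero_add,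
            TrivSqZeroExt.snd_mul, TrivSqZeroExt.fst_add, TrivSqZeroExt.fst_inl,
            TrivSqZeroExt.fst_inr, add_zero, op_smul_eq_smul, Derivation.leibniz, hsmul]
      map_zero' := by simp
      map_add' := fun a b => by
        apply TrivSqZeroExt.ext
        · simp
        · simp }
  have halgM : ∀ a : A, algebraMap A (TrivSqZeroExt Q M) a =
      TrivSqZeroExt.inl (algebraMap A Q a) + TrivSqZeroExt.inr (g (D₀ a)) := by
    intro a
    show TrivSqZeroExt.map g (TrivSqZeroExt.inl (algebraMap A Q a) + TrivSqZeroExt.inr (D₀ a)) = _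
    rw [map_add, TrivSqZeroExt.map_inl, TrivSqZeroExt.map_inr]
  let u : B →ₐ[A] TrivSqZeroExt Q M :=
    { u₀ with
      commutes' := fun c => by
        show TrivSqZeroExt.inl (algebraMap B Q (algebraMap A B c)) +
          TrivSqZeroExt.inr (D (algebraMap A B c)) = algebraMap A (TrivSqZeroExt Q M) c
        rw [halgM, hD, ← IsScalarTower.algebraMap_apply] }
  have hufst : ∀ b, (u b).fst = algebraMap B Q b := fun b => by
    show (TrivSqZeroExt.inl (algebraMap B Q b) + TrivSqZeroExt.inr (D b)).fst = _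
    simp
  have husnd : ∀ b, (u b).snd = D b := fun b => by
    show (TrivSqZeroExt.inl (algebraMap B Q b) + TrivSqZeroExt.inr (D b)).snd = _
    simp
  obtain ⟨m, hm⟩ := hQ
  have hu : ∃ m' : ℕ, ∀ x ∈ J ^ m', u x = 0 := by
    refine ⟨2 * m, fun x hx => ?_⟩
    rw [mul_comm, pow_mul, pow_two] at hx
    refine Submodule.mul_induction_on hx ?_ ?_
    · intro y hy z hz
      apply TrivSqZeroExt.ext
      · rw [hufst, map_mul, hm y hy, zero_mul]; rfl
      · rw [husnd, Derivation.leibniz, ← hsmul, ← hsmul, hm y hy, hm z hz, zero_smul, zero_smul,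
          add_zero]; rfl
    · intro y z hy hz
      rw [map_add, hy, hz, add_zero]
  obtain ⟨v, hv, -⟩ := Groth.Agent.S4537.lift_of_ker_sq h π hπ hK2 u hu
  have hvfst : ∀ b, (v b).fst = algebraMap B Q b := fun b => by
    rw [← hπfst, hv, hufst]
  let D₁ : B →+ M' :=
    { toFun := fun b => (v b).snd
      map_zero' := by rw [map_zero]; rfl
      map_add' := fun a b => by rw [map_add]; rfl }
  have hleib : ∀ a b, D₁.toIntLinearMap (a * b) = a • D₁.toIntLinearMap b + b • D₁.toIntLinearMap a := by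
    intro a b
    show (v (a * b)).snd = a • (v b).snd + b • (v a).snd
    rw [map_mul, TrivSqZeroExt.snd_mul, hvfst, hvfst, op_smul_eq_smul, hsmul', hsmul']
  refine ⟨Derivation.mk' D₁.toIntLinearMap hleib, fun b => ?_, fun a => ?_⟩
  · show g (v b).snd = D b
    rw [← hπsnd, hv, husnd]
  · show (v (algebraMap A B a)).snd = D₀ a
    rw [AlgHom.commutes]
    show (TrivSqZeroExt.inl (algebraMap A Q a) + TrivSqZeroExt.inr (D₀ a)).snd = _
    simp

end DerLiftTw



open IsLocalRing

section Tower

variable {A B : Type u} [CommRing A] [CommRing B] [Algebra A B] (J : Ideal B)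

/-- derivations into `B/J^n` extending `D`. -/
def X (D : Derivation ℤ A A) (n : ℕ) : Type u :=
  {D' : Derivation ℤ B (B ⧸ J ^ n) // ∀ a, D' (algebraMap A B a) =
    Ideal.Quotient.mk (J ^ n) (algebraMap A B (D a))}

theorem exists_step (h : CAlgX.IsAdicFormallySmooth A B J) (D : Derivation ℤ A A) (n : ℕ)
    (x : X J D n) : ∃ y : X J D (n + 1), ∀ b,
      Ideal.Quotient.factor (Ideal.pow_le_pow_right (Nat.le_succ n)) (y.1 b) = x.1 b := by
  have hle : J ^ (n + 1) ≤ J ^ n := Ideal.pow_le_pow_right (Nat.le_succ n)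
  letI : Algebra (B ⧸ J ^ (n + 1)) (B ⧸ J ^ n) := (Ideal.Quotient.factor hle).toAlgebra
  haveI : IsScalarTower B (B ⧸ J ^ (n + 1)) (B ⧸ J ^ n) :=
    IsScalarTower.of_algebraMap_eq (fun a => rfl)
  have hgsurj : Function.Surjective (Algebra.linearMap (B ⧸ J ^ (n + 1)) (B ⧸ J ^ n)) :=
    Ideal.Quotient.factor_surjective hle
  have hQ : ∃ m : ℕ, ∀ x ∈ J ^ m, algebraMap B (B ⧸ J ^ (n + 1)) x = 0 :=
    ⟨n + 1, fun x hx => Ideal.Quotient.eq_zero_iff_mem.mpr hx⟩
  let D₀ : Derivation ℤ A (B ⧸ J ^ (n + 1)) :=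
    (Algebra.linearMap A (B ⧸ J ^ (n + 1))).compDer D
  have hD₀ : ∀ a, D₀ a = Ideal.Quotient.mk (J ^ (n + 1)) (algebraMap A B (D a)) := fun a => rfl
  obtain ⟨D', h1, h2⟩ := exists_derivation_lift_tw h hQ
    (Algebra.linearMap (B ⧸ J ^ (n + 1)) (B ⧸ J ^ n)) hgsurj D₀ x.1
    (fun a => by
      rw [x.2 a, hD₀]
      rfl)
  exact ⟨⟨D', fun a => by rw [h2, hD₀]⟩, fun b => h1 b⟩

/-- the compatible tower of derivations. -/
noncomputable def seq (h : CAlgX.IsAdicFormallySmooth A B J) (D : Derivation ℤ A A) :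
    ∀ n, X J D n
  | 0 => ⟨0, fun a => by
      rw [Derivation.coe_zero, Pi.zero_apply, eq_comm, Ideal.Quotient.eq_zero_iff_mem, pow_zero,
        Ideal.one_eq_top]
      trivial⟩
  | n + 1 => (exists_step J h D n (seq h D n)).choose

theorem seq_succ (h : CAlgX.IsAdicFormallySmooth A B J) (D : Derivation ℤ A A) (n : ℕ) (b : B) :
    Ideal.Quotient.factor (Ideal.pow_le_pow_right (Nat.le_succ n)) ((seq J h D (n + 1)).1 b) =
      (seq J h D n).1 b :=
  (exists_step J h D n (seq J h D n)).choose_spec b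

theorem seq_le (h : CAlgX.IsAdicFormallySmooth A B J) (D : Derivation ℤ A A) (b : B) :
    ∀ (n m : ℕ) (hmn : m ≤ n),
      Ideal.Quotient.factor (Ideal.pow_le_pow_right hmn) ((seq J h D n).1 b) = (seq J h D m).1 b := by
  intro n
  induction n with
  | zero =>
    intro m hmn
    obtain rfl : m = 0 := Nat.le_zero.mp hmn
    obtain ⟨c, hc⟩ := Ideal.Quotient.mk_surjective ((seq J h D 0).1 b)
    rw [← hc]
    rfl
  | succ n ih =>
    intro m hmn
    rcases Nat.lt_or_ge n m with hlt | hge
    · obtain rfl : m = n + 1 := le_antisymm hmn hlt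
      obtain ⟨c, hc⟩ := Ideal.Quotient.mk_surjective ((seq J h D (n + 1)).1 b)
      rw [← hc]
      rfl
    · rw [← ih m hge, ← seq_succ J h D n b]
      obtain ⟨c, hc⟩ := Ideal.Quotient.mk_surjective ((seq J h D (n + 1)).1 b)
      rw [← hc]
      rfl

end Tower



open IsLocalRing

section Limit

variable {B : Type u} [CommRing B] (J : Ideal B)

theorem exists_limit [IsPrecomplete J B] (s : ∀ n, B ⧸ J ^ n)
    (hs : ∀ (n m : ℕ) (hmn : m ≤ n),
      Ideal.Quotient.factor (Ideal.pow_le_pow_right hmn) (s n) = s m) :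
    ∃ L : B, ∀ n, Ideal.Quotient.mk (J ^ n) L = s n := by
  choose r hr using fun n => Ideal.Quotient.mk_surjective (s n)
  obtain ⟨L, hL⟩ := IsPrecomplete.prec' (I := J) (M := B) r (by
    intro m n hmn
    rw [SModEq.sub_mem, smul_eq_mul, Ideal.mul_top, ← Ideal.Quotient.eq, hr m, ← hs n m hmn, ← hr n]
    rfl)
  refine ⟨L, fun n => ?_⟩
  have := hL n
  rw [SModEq.sub_mem, smul_eq_mul, Ideal.mul_top, ← Ideal.Quotient.eq, hr n] at this
  exact this.symm

theorem eq_of_forall_mk_eq [IsHausdorff J B] (x y : B)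
    (h : ∀ n, Ideal.Quotient.mk (J ^ n) x = Ideal.Quotient.mk (J ^ n) y) : x = y := by
  rw [← sub_eq_zero]
  apply IsHausdorff.haus' (I := J)
  intro n
  rw [SModEq.sub_mem, sub_zero, smul_eq_mul, Ideal.mul_top, ← Ideal.Quotient.eq_zero_iff_mem,
    map_sub, h n, sub_self]

end Limit

theorem t9258main (A B : Type u) [CommRing A]
    [CommRing B] [IsLocalRing A] [IsLocalRing B] [IsNoetherianRing A] [IsNoetherianRing B]
    [Algebra A B] [IsLocalHom (algebraMap A B)]
    [IsAdicComplete (IsLocalRing.maximalIdeal B) B]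
    (hfs : CAlgX.IsAdicFormallySmooth A B (IsLocalRing.maximalIdeal B)) (D : Derivation ℤ A A) :
    ∃ D' : Derivation ℤ B B, ∀ a : A, D' (algebraMap A B a) = algebraMap A B (D a) := by
  set J := maximalIdeal B
  have hex : ∀ b : B, ∃ L : B, ∀ n, Ideal.Quotient.mk (J ^ n) L = (seq J hfs D n).1 b :=
    fun b => exists_limit J (fun n => (seq J hfs D n).1 b) (seq_le J hfs D b)
  choose L hL using hex
  have huniq := eq_of_forall_mk_eq J
  let D₁ : B →+ B :=
    { toFun := L
      map_zero' := by
        apply huniq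
        intro n
        rw [hL, map_zero, map_zero]
      map_add' := fun a b => by
        apply huniq
        intro n
        rw [hL, map_add, map_add, hL, hL] }
  have hleib : ∀ a b, D₁.toIntLinearMap (a * b) = a • D₁.toIntLinearMap b + b • D₁.toIntLinearMap a := by
    intro a b
    show L (a * b) = a • L b + b • L a
    apply huniq
    intro n
    rw [hL, Derivation.leibniz, map_add, smul_eq_mul, smul_eq_mul, map_mul, map_mul, hL, hL]
    rfl
  refine ⟨Derivation.mk' D₁.toIntLinearMap hleib, fun a => ?_⟩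
  show L (algebraMap A B a) = _
  apply huniq
  intro n
  rw [hL, (seq J hfs D n).2 a]

end Groth.Agent.Lib.Helper23.DerExtend
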