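import Mathlib
import Groth.Agent.Lib.Helper23.PBasisField
import Groth.Agent.Lib.Helper23.PBasisDer
import Groth.Agent.S4571
import Groth.Agent.Lib.Helper23.SymGrRegular

/-!
Generic formal fibres in characteristic p, part 1 (EGA 0_IV 22.3, Nagata): p-independence over directed families of subfields (exists_pIndSet), derivations dual to p-independent sets (exists_derivation_of_pIndSet), the criterion crit (a regular local K-algebra E is adic formally smooth over K if derivations of K over a directed family of cofinite subfields F_i with intersection K^p extend to E), the subfields kSub = k^p(B minus i) of a field with p-basis B (kp, kSub, pIndSet_kSub, mem_kp_of_forall, exists_basis_kSub).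
-/

set_option autoImplicit false
universe u


namespace Groth.Agent.Lib.Helper23.FormalFibreCharP


open EGA41 Groth.Agent.Lib.Helper23.PBasisField

section A1

variable {K : Type u} [Field K]

theorem adjoin_mono_field {G G' : Subfield K} (h : G ≤ G') (S : Set K) (x : K)
    (hx : x ∈ IntermediateField.adjoin ↥G S) : x ∈ IntermediateField.adjoin ↥G' S := by
  let T : IntermediateField ↥G K :=
    Subfield.toIntermediateField (IntermediateField.adjoin ↥G' S).toSubfield (fun y => by
      have : algebraMap ↥G K y = algebraMap ↥G' K ⟨y.1, h y.2⟩ := rfl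
      rw [this]
      exact (IntermediateField.adjoin ↥G' S).algebraMap_mem _)
  have hle : IntermediateField.adjoin ↥G S ≤ T := by
    rw [IntermediateField.adjoin_le_iff]
    intro s hs
    exact IntermediateField.subset_adjoin ↥G' S hs
  exact hle hx

theorem PIndSet.mono_set {F : Type*} [Field F] [Algebra F K] {T T' : Set K} (h : T' ⊆ T)
    (hT : PIndSet F T) : PIndSet F T' := by
  intro a ha hmem
  apply hT a (h ha)
  refine IntermediateField.adjoin.mono F _ _ ?_ hmem
  exact Set.diff_subset_diff_left h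

theorem PIndSet.mono_field {G G' : Subfield K} (h : G ≤ G') {T : Set K}
    (hT : PIndSet ↥G' T) : PIndSet ↥G T := by
  intro a ha hmem
  exact hT a ha (adjoin_mono_field h _ a hmem)

theorem hpow_subfield (p : ℕ) (G : Subfield K) (hG : ∀ y : K, y ^ p ∈ G) :
    ∀ y : K, y ^ p ∈ (algebraMap ↥G K).range := fun y => ⟨⟨y ^ p, hG y⟩, rfl⟩

end A1



open EGA41 Groth.Agent.Lib.Helper23.PBasisField

section A2

variable (p : ℕ) [Fact p.Prime] {K : Type u} [Field K] [CharP K p]
  {ι : Type*} (F : ι → Subfield K) (hdir : ∀ a b, ∃ c, F c ≤ F a ⊓ F b)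
  (hpow : ∀ i (y : K), y ^ p ∈ F i)
  (F₀ : Subfield K) (h0 : ∀ x, (∀ i, x ∈ F i) → x ∈ F₀)

include hdir hpow h0 in
/-- if `a` lies in all `F i (T')` and `T'` is `p`-independent over some `F i₁`, then `a ∈ F₀(T')`. -/
theorem mem_adjoin_of_forall (hpow0 : ∀ y : K, y ^ p ∈ F₀) (T' : Set K) (i₁ : ι)
    (hI : PIndSet ↥(F i₁) T') (a : K)
    (ha : ∀ i, a ∈ IntermediateField.adjoin ↥(F i) T') :
    a ∈ IntermediateField.adjoin ↥F₀ T' := by
  classical
  have hI' := (pIndSet_iff_linearIndepOn p (hpow_subfield p (F i₁) (hpow i₁)) T').mp hI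
  have hspan : ∀ i, a ∈ Submodule.span ↥(F i) (pMonomial (id : K → K) '' redOn p T') := by
    intro i
    have h1 := ha i
    rw [← Set.image_id T'] at h1
    exact (mem_adjoin_iff p (hpow_subfield p (F i) (hpow i)) id T' a).mp h1
  obtain ⟨c₁, hc₁s, hc₁⟩ := (Finsupp.mem_span_image_iff_linearCombination _).mp (hspan i₁)
  have hclaim : ∀ e, ((c₁ e : ↥(F i₁)) : K) ∈ F₀ := by
    intro e
    apply h0
    intro j
    obtain ⟨i, hi⟩ := hdir i₁ j
    have hi1 : F i ≤ F i₁ := hi.trans inf_le_left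
    have hij : F i ≤ F j := hi.trans inf_le_right
    obtain ⟨c, hcs, hc⟩ := (Finsupp.mem_span_image_iff_linearCombination _).mp (hspan i)
    let c' : (K →₀ ℕ) →₀ ↥(F i₁) := c.mapRange (Subfield.inclusion hi1) (map_zero _)
    have hc's : c' ∈ Finsupp.supported ↥(F i₁) ↥(F i₁) (redOn p T') := by
      rw [Finsupp.mem_supported] at hcs ⊢
      exact (Finset.coe_subset.mpr Finsupp.support_mapRange).trans hcs
    have hc' : Finsupp.linearCombination ↥(F i₁) (pMonomial (id : K → K)) c' = a := by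
      rw [← hc, Finsupp.linearCombination_apply, Finsupp.linearCombination_apply]
      show (Finsupp.mapRange (Subfield.inclusion hi1) (map_zero _) c).sum _ = _
      rw [Finsupp.sum_mapRange_index (h := fun (i : K →₀ ℕ) (a : ↥(F i₁)) => a • pMonomial (id : K → K) i)
        (fun _ => zero_smul _ _)]
      rfl
    have hsub : c₁ - c' = 0 := by
      apply (linearIndepOn_iff.mp hI') (c₁ - c') (Submodule.sub_mem _ hc₁s hc's)
      rw [map_sub, hc₁, hc', sub_self]
    have heq : c₁ e = c' e := by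
      have := congrArg (fun f => f e) hsub
      simpa [sub_eq_zero] using this
    rw [heq]
    exact hij (c e).2
  rw [← Set.image_id T', mem_adjoin_iff p (hpow_subfield p F₀ hpow0) id T' a]
  rw [← hc₁, Finsupp.linearCombination_apply, Finsupp.sum]
  refine Submodule.sum_mem _ fun e he => ?_
  have h1 : (c₁ e) • pMonomial (id : K → K) e =
      (⟨((c₁ e : ↥(F i₁)) : K), hclaim e⟩ : ↥F₀) • pMonomial (id : K → K) e := rfl
  rw [h1]
  refine Submodule.smul_mem _ _ (Submodule.subset_span ⟨e, ?_, rfl⟩)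
  rw [Finsupp.mem_supported] at hc₁s
  exact hc₁s he

end A2



open EGA41 Groth.Agent.Lib.Helper23.PBasisField

section A3

variable (p : ℕ) [Fact p.Prime] {K : Type u} [Field K] [CharP K p]
  {ι : Type*} [Nonempty ι] (F : ι → Subfield K) (hdir : ∀ a b, ∃ c, F c ≤ F a ⊓ F b)
  (hpow : ∀ i (y : K), y ^ p ∈ F i)
  (F₀ : Subfield K) (h0 : ∀ x, (∀ i, x ∈ F i) → x ∈ F₀)

include hdir hpow h0 in
/-- **L1**: a finite set `p`-independent over `F₀ = ⋂ F i` is `p`-independent over some `F i`. -/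
theorem exists_pIndSet (hpow0 : ∀ y : K, y ^ p ∈ F₀) (T : Finset K)
    (hT : PIndSet ↥F₀ (T : Set K)) : ∃ i, PIndSet ↥(F i) (T : Set K) := by
  classical
  induction T using Finset.induction_on with
  | empty =>
    obtain ⟨i⟩ := ‹Nonempty ι›
    exact ⟨i, fun a ha => absurd ha (by simp)⟩
  | insert a T' haT' ih =>
    rw [Finset.coe_insert] at hT
    have hT' : PIndSet ↥F₀ (T' : Set K) := PIndSet.mono_set (Set.subset_insert _ _) hT
    obtain ⟨i₁, hi₁⟩ := ih hT'
    have ha : a ∉ IntermediateField.adjoin ↥F₀ (T' : Set K) := by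
      have := hT a (Set.mem_insert _ _)
      have heq : (insert a (T' : Set K)) \ {a} = (T' : Set K) := by
        ext x
        simp only [Set.mem_diff, Set.mem_insert_iff, Set.mem_singleton_iff, Finset.mem_coe]
        constructor
        · rintro ⟨h1 | h1, h2⟩
          · exact absurd h1 h2
          · exact h1
        · intro hx
          exact ⟨Or.inr hx, fun h => haT' (h ▸ hx)⟩
      rwa [heq] at this
    have hex : ∃ i₂, a ∉ IntermediateField.adjoin ↥(F i₂) (T' : Set K) := by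
      by_contra hcon
      push_neg at hcon
      exact ha (mem_adjoin_of_forall p F hdir hpow F₀ h0 hpow0 (T' : Set K) i₁ hi₁ a hcon)
    obtain ⟨i₂, hi₂⟩ := hex
    obtain ⟨i, hi⟩ := hdir i₁ i₂
    refine ⟨i, ?_⟩
    rw [Finset.coe_insert]
    apply pIndSet_insert p (hpow_subfield p (F i) (hpow i)) (T' : Set K)
      (PIndSet.mono_field (hi.trans inf_le_left) hi₁) a
    intro hmem
    exact hi₂ (adjoin_mono_field (hi.trans inf_le_right) _ a hmem)

end A3



open EGA41 Groth.Agent.Lib.Helper23.PBasisField Groth.Agent.Lib.Helper23.PBasisDer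

section A4

variable (p : ℕ) [Fact p.Prime] {K : Type u} [Field K] [CharP K p]

theorem pPowerSubfield_le (G : Subfield K) (hG : ∀ y : K, y ^ p ∈ G) :
    pPowerSubfield p ↥G K ≤ G := by
  intro x hx
  have hx' : x ∈ Algebra.adjoin ↥G (Set.range fun b : K => b ^ p) := hx
  clear hx
  induction hx' using Algebra.adjoin_induction with
  | mem y hy =>
    obtain ⟨z, rfl⟩ := hy
    exact hG z
  | algebraMap r => exact r.2
  | add y z _ _ hy hz => exact add_mem hy hz
  | mul y z _ _ hy hz => exact mul_mem hy hz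

open Classical in
/-- **L3**: for a finite set `T` that is `p`-independent over a subfield `G ⊇ K^p`, and `t₀ ∈ T`,
there is a derivation of `K` vanishing on `G` with `δ t₀ = 1` and `δ t = 0` for the other `t ∈ T`. -/
theorem exists_derivation_of_pIndSet (G : Subfield K) (hG : ∀ y : K, y ^ p ∈ G) (T : Set K)
    (hT : PIndSet ↥G T) (t₀ : K) :
    ∃ δ : Derivation ℤ K K, (∀ x ∈ G, δ x = 0) ∧ ∀ t ∈ T, δ t = if t = t₀ then 1 else 0 := by
  classical
  have hT' : PIndSet (pPowerSubfield p ↥G K) T :=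
    PIndSet.mono_field (pPowerSubfield_le p G hG) hT
  have hL : IsPIndependent p ↥G (Subtype.val : T → K) := (isPIndependent_val_iff p ↥G T).mpr hT'
  have hS : IsPGenerating p ↥G (Subtype.val : ↥(Set.univ : Set K) → K) :=
    (isPGenerating_val_iff p ↥G _).mpr (by
      rw [eq_top_iff]; intro m _; exact IntermediateField.subset_adjoin _ _ (Set.mem_univ m))
  obtain ⟨B, hTB, -, hB⟩ := exists_isPBasis p ↥G (Set.univ : Set K) T (Set.subset_univ _) hS hL
  obtain ⟨D, hD⟩ := exists_derivationA_of_pBasis p (Subtype.val : B → K) hB (L := K)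
    (fun b => if b.1 = t₀ then 1 else 0)
  refine ⟨D.restrictScalars ℤ, fun x hx => ?_, fun t ht => ?_⟩
  · exact D.map_algebraMap ⟨x, hx⟩
  · exact hD ⟨t, hTB ht⟩

end A4



open EGA41 Groth.Agent.Lib.Helper23.PBasisField Groth.Agent.Lib.Helper23.PBasisDer
open TensorProduct KaehlerDifferential IsLocalRing

section A5

variable (p : ℕ) [Fact p.Prime] {K E : Type u} [Field K] [CharP K p] [CommRing E] [IsLocalRing E]
  [Algebra K E]
  {ι : Type*} [Nonempty ι] (F : ι → Subfield K) (hdir : ∀ a b, ∃ c, F c ≤ F a ⊓ F b)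
  (hpow : ∀ i (y : K), y ^ p ∈ F i)
  (h0 : ∀ x, (∀ i, x ∈ F i) → ∃ y : K, y ^ p = x)
  (hH : ∀ i (δ : Derivation ℤ K K), (∀ x ∈ F i, δ x = 0) →
    ∃ δE : Derivation ℤ E E, ∀ x, δE (algebraMap K E x) = algebraMap K E (δ x))

/-- a basis of the absolute differentials of a field of characteristic `p`, given by a `p`-basis. -/
theorem exists_basis_kaehler_int :
    ∃ (𝔅 : Set K) (b : Module.Basis 𝔅 K (Ω[K⁄ℤ])) (Λ : Type u) (_ : Field Λ) (_ : Algebra Λ K),
      (∀ i, b i = D ℤ K i.1) ∧ PIndSet (pPowerSubfield p Λ K) 𝔅 := by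
  obtain ⟨Λ, _, _, hΛ1, -⟩ := Groth.Agent.S4571.exists_primeField K
  obtain ⟨𝔅, h𝔅⟩ := exists_isPBasis' p Λ (K := K)
  obtain ⟨b, hb⟩ := exists_basis_kaehler p (Subtype.val : 𝔅 → K) h𝔅
  let e : Ω[K⁄ℤ] ≃ₗ[K] Ω[K⁄Λ] :=
    LinearEquiv.ofBijective (KaehlerDifferential.map ℤ Λ K K)
      (Groth.Agent.S4571.map_bijective Λ K hΛ1)
  refine ⟨𝔅, b.map e.symm, Λ, inferInstance, inferInstance, fun i => ?_,
    (isPIndependent_val_iff p Λ 𝔅).mp h𝔅.1⟩
  rw [Module.Basis.map_apply, LinearEquiv.symm_apply_eq, hb]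
  show _ = KaehlerDifferential.map ℤ Λ K K (D ℤ K i.1)
  rw [KaehlerDifferential.map_D]
  rfl

end A5



open EGA41 Groth.Agent.Lib.Helper23.PBasisField Groth.Agent.Lib.Helper23.PBasisDer
open TensorProduct KaehlerDifferential IsLocalRing

section A6

variable (p : ℕ) [Fact p.Prime] {K E : Type u} [Field K] [CharP K p] [CommRing E] [IsLocalRing E]
  [Algebra K E]
  {ι : Type*} [Nonempty ι] (F : ι → Subfield K) (hdir : ∀ a b, ∃ c, F c ≤ F a ⊓ F b)
  (hpow : ∀ i (y : K), y ^ p ∈ F i)
  (h0 : ∀ x, (∀ i, x ∈ F i) → ∃ y : K, y ^ p = x)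
  (hH : ∀ i (δ : Derivation ℤ K K), (∀ x ∈ F i, δ x = 0) →
    ∃ δE : Derivation ℤ E E, ∀ x, δE (algebraMap K E x) = algebraMap K E (δ x))

include hdir hpow h0 hH in
theorem injective_of_family :
    Function.Injective ((mapBaseChange ℤ K E).lTensor (ResidueField E)) := by
  classical
  obtain ⟨𝔅, b, Λ, _, _, hb, hInd⟩ := exists_basis_kaehler_int p (K := K)
  let bE := Algebra.TensorProduct.basis E b
  let bκ := Algebra.TensorProduct.basis (ResidueField E) bE
  show Function.Injective ((mapBaseChange ℤ K E).baseChange (ResidueField E))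
  rw [injective_iff_map_eq_zero]
  intro ω hω
  by_contra hne
  have hrepr : bκ.repr ω ≠ 0 := fun h => hne ((LinearEquiv.map_eq_zero_iff _).mp h)
  obtain ⟨i₀, hi₀⟩ : ∃ i₀, bκ.repr ω i₀ ≠ 0 := by
    by_contra h
    push_neg at h
    exact hrepr (Finsupp.ext h)
  have hpow0 : ∀ y : K, y ^ p ∈ pPowerSubfield p Λ K := fun y => Algebra.subset_adjoin ⟨y, rfl⟩
  have h0' : ∀ x, (∀ i, x ∈ F i) → x ∈ pPowerSubfield p Λ K := by
    intro x hx
    obtain ⟨y, rfl⟩ := h0 x hx
    exact hpow0 y
  let T : Finset K := (bκ.repr ω).support.image Subtype.val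
  have hTB : (T : Set K) ⊆ 𝔅 := by
    intro t ht
    rw [Finset.mem_coe, Finset.mem_image] at ht
    obtain ⟨j, -, rfl⟩ := ht
    exact j.2
  have hT0 : PIndSet ↥(pPowerSubfield p Λ K) (T : Set K) := PIndSet.mono_set hTB hInd
  obtain ⟨i, hi⟩ := exists_pIndSet p F hdir hpow (pPowerSubfield p Λ K) h0' hpow0 T hT0
  obtain ⟨δ, hδ1, hδ2⟩ := exists_derivation_of_pIndSet p (F i) (hpow i) (T : Set K) hi i₀.1
  obtain ⟨δE, hδE⟩ := hH i δ hδ1
  let ℓ : Ω[E⁄ℤ] →ₗ[E] ResidueField E :=
    (Algebra.linearMap E (ResidueField E)) ∘ₗ δE.liftKaehlerDifferential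
  let lam : ResidueField E ⊗[E] Ω[E⁄ℤ] →ₗ[ResidueField E] ResidueField E :=
    LinearMap.liftBaseChange (ResidueField E) ℓ
  have hbasis : ∀ j : 𝔅, lam ((mapBaseChange ℤ K E).baseChange (ResidueField E) (bκ j)) =
      algebraMap E (ResidueField E) (algebraMap K E (δ j.1)) := by
    intro j
    rw [Algebra.TensorProduct.basis_apply, Algebra.TensorProduct.basis_apply,
      LinearMap.baseChange_tmul, KaehlerDifferential.mapBaseChange_tmul, one_smul, hb,
      KaehlerDifferential.map_D, LinearMap.liftBaseChange_tmul, one_smul]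
    show algebraMap E (ResidueField E) (δE.liftKaehlerDifferential (D ℤ E (algebraMap K E j.1))) = _
    rw [Derivation.liftKaehlerDifferential_comp_D, hδE]
  have hsum : ω = ∑ j ∈ (bκ.repr ω).support, (bκ.repr ω) j • bκ j := by
    conv_lhs => rw [← bκ.linearCombination_repr ω]
    rw [Finsupp.linearCombination_apply, Finsupp.sum]
  have hval : lam ((mapBaseChange ℤ K E).baseChange (ResidueField E) ω) = (bκ.repr ω) i₀ := by
    conv_lhs => rw [hsum]
    rw [map_sum, map_sum]
    simp_rw [map_smul, hbasis]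
    rw [Finset.sum_eq_single i₀]
    · have h1 : δ i₀.1 = 1 := by
        rw [hδ2 i₀.1 (by
          rw [Finset.mem_coe, Finset.mem_image]
          exact ⟨i₀, Finsupp.mem_support_iff.mpr hi₀, rfl⟩), if_pos rfl]
      rw [h1, map_one, map_one, smul_eq_mul, mul_one]
    · intro j hj hne'
      have h1 : δ j.1 = 0 := by
        rw [hδ2 j.1 (by
          rw [Finset.mem_coe, Finset.mem_image]
          exact ⟨j, hj, rfl⟩), if_neg (fun h => hne' (Subtype.ext h))]
      rw [h1, map_zero, map_zero, smul_zero]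
    · intro h
      exact absurd (Finsupp.mem_support_iff.mpr hi₀) h
  rw [hω, map_zero] at hval
  exact hi₀ hval.symm

end A6



open EGA41 Groth.Agent.Lib.Helper23.PBasisField Groth.Agent.Lib.Helper23.PBasisDer
open TensorProduct KaehlerDifferential IsLocalRing

section A7

variable (p : ℕ) [Fact p.Prime] {K E : Type u} [Field K] [CharP K p] [CommRing E]
  [IsRegularLocalRing E] [Algebra K E]
  {ι : Type*} [Nonempty ι] (F : ι → Subfield K) (hdir : ∀ a b, ∃ c, F c ≤ F a ⊓ F b)
  (hpow : ∀ i (y : K), y ^ p ∈ F i)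
  (h0 : ∀ x, (∀ i, x ∈ F i) → ∃ y : K, y ^ p = x)
  (hH : ∀ i (δ : Derivation ℤ K K), (∀ x ∈ F i, δ x = 0) →
    ∃ δE : Derivation ℤ E E, ∀ x, δE (algebraMap K E x) = algebraMap K E (δ x))

include hdir hpow h0 hH in
/-- **Criterion** (Nagata/Matsumura 30.9-style): a regular local `K`-algebra `E` in characteristic
`p` is adic formally smooth over `K` as soon as, for a directed family of subfields `F i ⊇ K^p`
with `⋂ F i = K^p`, all derivations of `K` over the `F i` extend to `E`. -/
theorem crit : CAlgX.IsAdicFormallySmooth K E (maximalIdeal E) :=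
  (Groth.Agent.S4571.result (k := K) (A := E)).mpr
    ⟨Groth.Agent.Lib.Helper23.SymGrRegular.symGrBijective_of_isRegularLocalRing E,
      injective_of_family p F hdir hpow h0 hH⟩

end A7



open EGA41 Groth.Agent.Lib.Helper23.PBasisField

section B1

variable (p : ℕ) [Fact p.Prime] (k : Type u) [Field k] [CharP k p]

/-- the subfield `k^p`. -/
def kp : Subfield k := (frobenius k p).fieldRange

variable {k}

theorem pow_mem_kp (y : k) : y ^ p ∈ kp p k := ⟨y, rfl⟩

variable (𝔅 : Set k)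

/-- the subfield `k^p(𝔅 ∖ i)`. -/
def kSub (i : Set k) : Subfield k := (IntermediateField.adjoin ↥(kp p k) (𝔅 \ i)).toSubfield

theorem kSub_mono {i i' : Set k} (h : i ⊆ i') : kSub p 𝔅 i' ≤ kSub p 𝔅 i := by
  intro x hx
  exact IntermediateField.adjoin.mono ↥(kp p k) _ _ (Set.diff_subset_diff_right h) hx

theorem kp_le_kSub (i : Set k) : kp p k ≤ kSub p 𝔅 i := by
  intro x hx
  exact (IntermediateField.adjoin ↥(kp p k) (𝔅 \ i)).algebraMap_mem ⟨x, hx⟩

theorem pow_mem_kSub (i : Set k) (y : k) : y ^ p ∈ kSub p 𝔅 i :=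
  kp_le_kSub p 𝔅 i (pow_mem_kp p y)

theorem mem_adjoin_kSub_iff (i T : Set k) (x : k) :
    x ∈ IntermediateField.adjoin ↥(kSub p 𝔅 i) T ↔
      x ∈ IntermediateField.adjoin ↥(kp p k) ((𝔅 \ i) ∪ T) := by
  constructor
  · intro hx
    let T' : IntermediateField ↥(kSub p 𝔅 i) k :=
      Subfield.toIntermediateField (IntermediateField.adjoin ↥(kp p k) ((𝔅 \ i) ∪ T)).toSubfield
        (fun y => by
          have hy : (y : k) ∈ IntermediateField.adjoin ↥(kp p k) (𝔅 \ i) := y.2
          exact IntermediateField.adjoin.mono ↥(kp p k) _ _ Set.subset_union_left hy)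
    have hle : IntermediateField.adjoin ↥(kSub p 𝔅 i) T ≤ T' := by
      rw [IntermediateField.adjoin_le_iff]
      intro s hs
      exact IntermediateField.subset_adjoin ↥(kp p k) _ (Set.mem_union_right _ hs)
    exact hle hx
  · intro hx
    let T' : IntermediateField ↥(kp p k) k :=
      Subfield.toIntermediateField (IntermediateField.adjoin ↥(kSub p 𝔅 i) T).toSubfield
        (fun y => by
          have : algebraMap ↥(kp p k) k y = algebraMap ↥(kSub p 𝔅 i) k ⟨y.1, kp_le_kSub p 𝔅 i y.2⟩ :=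
            rfl
          rw [this]
          exact (IntermediateField.adjoin ↥(kSub p 𝔅 i) T).algebraMap_mem _)
    have hle : IntermediateField.adjoin ↥(kp p k) ((𝔅 \ i) ∪ T) ≤ T' := by
      rw [IntermediateField.adjoin_le_iff]
      rintro s (hs | hs)
      · have h1 : s ∈ kSub p 𝔅 i := IntermediateField.subset_adjoin ↥(kp p k) _ hs
        exact (IntermediateField.adjoin ↥(kSub p 𝔅 i) T).algebraMap_mem ⟨s, h1⟩
      · exact IntermediateField.subset_adjoin ↥(kSub p 𝔅 i) _ hs
    exact hle hx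

variable (h𝔅 : PIndSet ↥(kp p k) 𝔅) (h𝔅top : IntermediateField.adjoin ↥(kp p k) 𝔅 = ⊤)

include h𝔅 in
theorem pIndSet_kSub (i : Set k) (hi : i ⊆ 𝔅) : PIndSet ↥(kSub p 𝔅 i) i := by
  intro a ha hmem
  rw [mem_adjoin_kSub_iff] at hmem
  apply h𝔅 a (hi ha)
  refine IntermediateField.adjoin.mono ↥(kp p k) _ _ ?_ hmem
  rintro x (hx | hx)
  · exact ⟨hx.1, fun h => hx.2 (h ▸ ha)⟩
  · exact ⟨hi hx.1, hx.2⟩

include h𝔅top in
theorem adjoin_kSub_eq_top (i : Set k) (hi : i ⊆ 𝔅) (x : k) :
    x ∈ IntermediateField.adjoin ↥(kSub p 𝔅 i) i := by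
  rw [mem_adjoin_kSub_iff]
  have : (𝔅 \ i) ∪ i = 𝔅 := Set.diff_union_of_subset hi
  rw [this, h𝔅top]
  trivial

end B1



open EGA41 Groth.Agent.Lib.Helper23.PBasisField

section B2

variable (p : ℕ) [Fact p.Prime] {k : Type u} [Field k] [CharP k p]
variable (𝔅 : Set k)
variable (h𝔅 : PIndSet ↥(kp p k) 𝔅) (h𝔅top : IntermediateField.adjoin ↥(kp p k) 𝔅 = ⊤)

theorem hpow_kp : ∀ y : k, y ^ p ∈ (algebraMap ↥(kp p k) k).range :=
  hpow_subfield p (kp p k) (pow_mem_kp p)

include h𝔅 h𝔅top in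
/-- **(k3)**: the intersection of the subfields `k^p(𝔅 ∖ i)`, `i` finite, is `k^p`. -/
theorem mem_kp_of_forall (x : k)
    (hx : ∀ i : Finset k, (i : Set k) ⊆ 𝔅 → x ∈ kSub p 𝔅 (i : Set k)) : x ∈ kp p k := by
  classical
  have hx0 : x ∈ IntermediateField.adjoin ↥(kp p k) 𝔅 := by rw [h𝔅top]; trivial
  obtain ⟨T, hT𝔅, hxT⟩ := IntermediateField.exists_finset_of_mem_adjoin hx0
  have hx1 : x ∈ IntermediateField.adjoin ↥(kp p k) (𝔅 \ (T : Set k)) := hx T hT𝔅
  have hI := (pIndSet_iff_linearIndepOn p (hpow_kp p) 𝔅).mp h𝔅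
  rw [← Set.image_id (T : Set k), mem_adjoin_iff p (hpow_kp p) id] at hxT
  rw [← Set.image_id (𝔅 \ (T : Set k)), mem_adjoin_iff p (hpow_kp p) id] at hx1
  obtain ⟨c, hcs, hc⟩ := (Finsupp.mem_span_image_iff_linearCombination _).mp hxT
  obtain ⟨c', hc's, hc'⟩ := (Finsupp.mem_span_image_iff_linearCombination _).mp hx1
  have hcs𝔅 : c ∈ Finsupp.supported ↥(kp p k) ↥(kp p k) (redOn p 𝔅) :=
    Finsupp.supported_mono (redOn_mono p hT𝔅) hcs
  have hc's𝔅 : c' ∈ Finsupp.supported ↥(kp p k) ↥(kp p k) (redOn p 𝔅) :=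
    Finsupp.supported_mono (redOn_mono p Set.diff_subset) hc's
  have hsub : c - c' = 0 := by
    apply (linearIndepOn_iff.mp hI) (c - c') (Submodule.sub_mem _ hcs𝔅 hc's𝔅)
    rw [map_sub, hc, hc', sub_self]
  have hcc' : c = c' := sub_eq_zero.mp hsub
  have hsupp : ∀ e ∈ c.support, e = 0 := by
    intro e he
    have h1 : e ∈ redOn p (T : Set k) := (Finsupp.mem_supported _ _).mp hcs he
    have h2 : e ∈ redOn p (𝔅 \ (T : Set k)) := by
      rw [hcc'] at he
      exact (Finsupp.mem_supported _ _).mp hc's he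
    ext a
    by_contra ha
    have ha' : a ∈ e.support := Finsupp.mem_support_iff.mpr ha
    exact (h2.2 ha').2 (h1.2 ha')
  rw [← hc, Finsupp.linearCombination_apply, Finsupp.sum]
  refine Subfield.sum_mem _ fun e he => ?_
  rw [hsupp e he, pMonomial_zero]
  show ((c 0 : ↥(kp p k)) : k) * 1 ∈ kp p k
  rw [mul_one]
  exact (c 0).2

theorem finite_redOn (i : Finset k) : (redOn p (i : Set k)).Finite := by
  classical
  apply Set.Finite.subset (Finset.finite_toSet (i.finsupp (fun _ => Finset.range p)))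
  intro e he
  rw [Finset.mem_coe, Finset.mem_finsupp_iff]
  exact ⟨by exact_mod_cast he.2, fun a _ => Finset.mem_range.mpr (he.1 a)⟩

end B2



open EGA41 Groth.Agent.Lib.Helper23.PBasisField

section B3

variable (p : ℕ) [Fact p.Prime] {k : Type u} [Field k] [CharP k p]
variable (𝔅 : Set k)
variable (h𝔅 : PIndSet ↥(kp p k) 𝔅) (h𝔅top : IntermediateField.adjoin ↥(kp p k) 𝔅 = ⊤)

include h𝔅 h𝔅top in
theorem exists_basis_kSub (i : Finset k) (hi : (i : Set k) ⊆ 𝔅) :
    ∃ (S : Type u) (_ : Fintype S) (β : Module.Basis S ↥(kSub p 𝔅 (i : Set k)) k),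
      ∀ s, β s ∈ Submonoid.closure (i : Set k) := by
  classical
  have hpw := hpow_subfield p (kSub p 𝔅 (i : Set k)) (pow_mem_kSub p 𝔅 (i : Set k))
  have hli : LinearIndepOn ↥(kSub p 𝔅 (i : Set k)) (pMonomial (id : k → k)) (redOn p (i : Set k)) :=
    (pIndSet_iff_linearIndepOn p hpw (i : Set k)).mp (pIndSet_kSub p 𝔅 h𝔅 (i : Set k) hi)
  have hsp : ⊤ ≤ Submodule.span ↥(kSub p 𝔅 (i : Set k))
      (Set.range fun e : ↥(redOn p (i : Set k)) => pMonomial (id : k → k) e.1) := by
    refine (Submodule.eq_top_iff'.mpr fun x => ?_).ge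
    have h1' := adjoin_kSub_eq_top p 𝔅 h𝔅top (i : Set k) hi x
    have h1'' : x ∈ IntermediateField.adjoin ↥(kSub p 𝔅 (i : Set k)) ((id : k → k) '' (i : Set k)) := by
      rw [Set.image_id]; exact h1'
    have h1 := (mem_adjoin_iff p hpw id (i : Set k) x).mp h1''
    have h2 : (Set.range fun e : ↥(redOn p (i : Set k)) => pMonomial (id : k → k) e.1) =
        pMonomial (id : k → k) '' redOn p (i : Set k) := by
      ext m
      constructor
      · rintro ⟨e, rfl⟩; exact ⟨e.1, e.2, rfl⟩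
      · rintro ⟨e, he, rfl⟩; exact ⟨⟨e, he⟩, rfl⟩
    rw [h2]
    exact h1
  refine ⟨↥(redOn p (i : Set k)), (finite_redOn p i).fintype, Module.Basis.mk hli hsp, fun s => ?_⟩
  rw [Module.Basis.mk_apply]
  exact pMonomial_mem_of_support (Submonoid.closure (i : Set k)) id (i : Set k)
    (fun a ha => Submonoid.subset_closure ha) s.1 s.2.2

end B3

end Groth.Agent.Lib.Helper23.FormalFibreCharP
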