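import Mathlib
import Groth.Agent.Lib.Helper23.FormalFibreCharP1

/-!
Generic formal fibres in characteristic p, part 2: the subrings RG = G[[X^p]] of k[[X]] (RG, mem_RG_iff, pow_mem_RG), the decomposition of k[[X]] as a free G[[X^p]]-module on beta_s X^r (decomposition, decomposition_unique, mem_RG_of_mul), the subfields FK i of Frac k[[X]] and their intersection (FK, pow_mem_FK, mem_FK_iff, exists_pow_eq_of_forall_mem_FK).
-/

set_option autoImplicit false
universe u


namespace Groth.Agent.Lib.Helper23.FormalFibreCharP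


open MvPowerSeries

section B4

variable (p : ℕ) [hp : Fact p.Prime] {k : Type u} [Field k] (n : ℕ)

/-- all exponents divisible by `p`. -/
def pdiv (ν : Fin n →₀ ℕ) : Prop := ∀ j, p ∣ ν j

/-- exponentwise division by `p`. -/
noncomputable def dv (ν : Fin n →₀ ℕ) : Fin n →₀ ℕ := Finsupp.mapRange (· / p) (Nat.zero_div p) ν

variable {n} in
theorem smul_dv {ν : Fin n →₀ ℕ} (h : pdiv p n ν) : p • dv p n ν = ν := by
  ext j
  simp only [dv, Finsupp.smul_apply, Finsupp.mapRange_apply, smul_eq_mul]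
  exact Nat.mul_div_cancel' (h j)

theorem pdiv_smul (μ : Fin n →₀ ℕ) : pdiv p n (p • μ) := fun j => by
  simp only [Finsupp.smul_apply, smul_eq_mul]
  exact dvd_mul_right p _

theorem dv_smul (μ : Fin n →₀ ℕ) : dv p n (p • μ) = μ := by
  ext j
  simp only [dv, Finsupp.smul_apply, Finsupp.mapRange_apply, smul_eq_mul]
  exact Nat.mul_div_cancel_left _ hp.out.pos

theorem coeff_expand (f : MvPowerSeries (Fin n) k) (ν : Fin n →₀ ℕ) [Decidable (pdiv p n ν)] :
    coeff ν (expand p hp.out.ne_zero f) = if pdiv p n ν then coeff (dv p n ν) f else 0 := by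
  split_ifs with h
  · conv_lhs => rw [← smul_dv p h]
    exact coeff_expand_smul p hp.out.ne_zero f _
  · unfold pdiv at h
    push_neg at h
    obtain ⟨j, hj⟩ := h
    exact coeff_expand_of_not_dvd p hp.out.ne_zero f hj

/-- `g ↦ g(X^p)` from `G[[X]]` to `k[[X]]`. -/
noncomputable def Xi (G : Subfield k) : MvPowerSeries (Fin n) ↥G →+* MvPowerSeries (Fin n) k :=
  ((expand p hp.out.ne_zero : MvPowerSeries (Fin n) k →ₐ[k] MvPowerSeries (Fin n) k) :
    MvPowerSeries (Fin n) k →+* MvPowerSeries (Fin n) k).comp (MvPowerSeries.map G.subtype)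

theorem coeff_Xi (G : Subfield k) (g : MvPowerSeries (Fin n) ↥G) (ν : Fin n →₀ ℕ)
    [Decidable (pdiv p n ν)] :
    coeff ν (Xi p n G g) = if pdiv p n ν then ((coeff (dv p n ν) g : ↥G) : k) else 0 := by
  show coeff ν (expand p hp.out.ne_zero (MvPowerSeries.map G.subtype g)) = _
  rw [coeff_expand, coeff_map]
  rfl

/-- the subring `G[[X^p]]` of `k[[X]]`. -/
noncomputable def RG (G : Subfield k) : Subring (MvPowerSeries (Fin n) k) := (Xi p n G).range

theorem mem_RG_iff (G : Subfield k) (f : MvPowerSeries (Fin n) k) :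
    f ∈ RG p n G ↔ ∀ ν, coeff ν f ∈ G ∧ (¬ pdiv p n ν → coeff ν f = 0) := by
  classical
  constructor
  · rintro ⟨g, rfl⟩ ν
    rw [coeff_Xi]
    split_ifs with h
    · exact ⟨(coeff (dv p n ν) g).2, fun h' => absurd h h'⟩
    · exact ⟨zero_mem _, fun _ => rfl⟩
  · intro h
    refine ⟨fun μ => ⟨coeff (p • μ) f, (h (p • μ)).1⟩, ?_⟩
    ext ν
    rw [coeff_Xi]
    split_ifs with hν
    · show coeff (p • dv p n ν) f = _
      rw [smul_dv p hν]
    · exact ((h ν).2 hν).symm

theorem RG_mono {G G' : Subfield k} (h : G ≤ G') : RG p n G ≤ RG p n G' := by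
  intro f hf
  rw [mem_RG_iff] at hf ⊢
  exact fun ν => ⟨h (hf ν).1, (hf ν).2⟩

end B4



open MvPowerSeries

section B5

variable (p : ℕ) [hp : Fact p.Prime] {k : Type u} [Field k] [CharP k p] (n : ℕ)

theorem coeff_pow_p (f : MvPowerSeries (Fin n) k) (ν : Fin n →₀ ℕ) [Decidable (pdiv p n ν)] :
    coeff ν (f ^ p) = if pdiv p n ν then (coeff (dv p n ν) f) ^ p else 0 := by
  haveI : ExpChar k p := ExpChar.prime hp.out
  rw [← map_frobenius_expand p hp.out.ne_zero, coeff_map, coeff_expand]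
  split_ifs
  · rfl
  · exact map_zero _

theorem pow_mem_RG (G : Subfield k) (hG : ∀ y : k, y ^ p ∈ G) (f : MvPowerSeries (Fin n) k) :
    f ^ p ∈ RG p n G := by
  classical
  rw [mem_RG_iff]
  intro ν
  rw [coeff_pow_p]
  split_ifs with h
  · exact ⟨hG _, fun h' => absurd h h'⟩
  · exact ⟨zero_mem _, fun _ => rfl⟩

theorem exists_pow_eq_of_mem (f : MvPowerSeries (Fin n) k) (hf : f ∈ RG p n (kp p k)) :
    ∃ g : MvPowerSeries (Fin n) k, g ^ p = f := by
  classical
  rw [mem_RG_iff] at hf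
  have hroot : ∀ μ : Fin n →₀ ℕ, ∃ y : k, y ^ p = coeff (p • μ) f := by
    intro μ
    obtain ⟨y, hy⟩ := (hf (p • μ)).1
    exact ⟨y, hy⟩
  choose g hg using hroot
  refine ⟨g, ?_⟩
  ext ν
  rw [coeff_pow_p]
  split_ifs with h
  · show (g (dv p n ν)) ^ p = _
    rw [hg, smul_dv p h]
  · exact ((hf ν).2 h).symm

end B5



open MvPowerSeries

section B6

variable (p : ℕ) [hp : Fact p.Prime] (n : ℕ)

/-- exponent vector attached to a residue vector. -/
noncomputable def rhat (r : Fin n → Fin p) : Fin n →₀ ℕ :=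
  Finsupp.equivFunOnFinite.symm (fun j => (r j : ℕ))

theorem rhat_apply (r : Fin n → Fin p) (j : Fin n) : rhat p n r j = (r j : ℕ) := rfl

/-- residues of an exponent vector. -/
def r0 (ν : Fin n →₀ ℕ) : Fin n → Fin p := fun j => ⟨ν j % p, Nat.mod_lt _ hp.out.pos⟩

theorem key_index (r : Fin n → Fin p) (ν : Fin n →₀ ℕ) :
    (rhat p n r ≤ ν ∧ pdiv p n (ν - rhat p n r)) ↔ r = r0 p n ν := by
  constructor
  · rintro ⟨h1, h2⟩
    funext j
    apply Fin.ext
    show (r j : ℕ) = ν j % p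
    have h1j : (r j : ℕ) ≤ ν j := h1 j
    obtain ⟨m, hm⟩ := h2 j
    rw [Finsupp.tsub_apply, rhat_apply] at hm
    have : ν j = (r j : ℕ) + p * m := by omega
    rw [this, Nat.add_mul_mod_self_left, Nat.mod_eq_of_lt (r j).2]
  · rintro rfl
    refine ⟨fun j => Nat.mod_le _ _, fun j => ?_⟩
    rw [Finsupp.tsub_apply, rhat_apply]
    show p ∣ ν j - ν j % p
    exact Nat.dvd_sub_mod _

theorem sub_add_r0 (ν : Fin n →₀ ℕ) : ν - rhat p n (r0 p n ν) + rhat p n (r0 p n ν) = ν := by
  ext j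
  rw [Finsupp.add_apply, Finsupp.tsub_apply, rhat_apply]
  show ν j - ν j % p + ν j % p = ν j
  exact Nat.sub_add_cancel (Nat.mod_le _ _)

theorem r0_add_smul (r : Fin n → Fin p) (μ : Fin n →₀ ℕ) :
    r0 p n (rhat p n r + p • μ) = r := by
  funext j
  apply Fin.ext
  show (rhat p n r + p • μ) j % p = (r j : ℕ)
  rw [Finsupp.add_apply, Finsupp.smul_apply, rhat_apply, smul_eq_mul, Nat.add_mul_mod_self_left,
    Nat.mod_eq_of_lt (r j).2]

theorem add_smul_sub (r : Fin n → Fin p) (μ : Fin n →₀ ℕ) :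
    rhat p n r + p • μ - rhat p n r = p • μ := by
  ext j
  simp [Finsupp.tsub_apply]

end B6



open MvPowerSeries

section B7

variable (p : ℕ) [hp : Fact p.Prime] {k : Type u} [Field k] (n : ℕ)
  (G : Subfield k) {S : Type u} [Fintype S] (β : Module.Basis S ↥G k)

/-- the `(s, r)`-component of `f` in the decomposition of `k[[X]]` over `G[[X^p]]`. -/
noncomputable def comp (f : MvPowerSeries (Fin n) k) (s : S) (r : Fin n → Fin p) :
    MvPowerSeries (Fin n) k :=
  open Classical in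
  fun ν => if pdiv p n ν then ((β.repr (coeff (ν + rhat p n r) f) s : ↥G) : k) else 0

theorem coeff_comp (f : MvPowerSeries (Fin n) k) (s : S) (r : Fin n → Fin p) (ν : Fin n →₀ ℕ)
    [Decidable (pdiv p n ν)] :
    coeff ν (comp p n G β f s r) =
      if pdiv p n ν then ((β.repr (coeff (ν + rhat p n r) f) s : ↥G) : k) else 0 := by
  show comp p n G β f s r ν = _
  unfold comp
  congr

theorem comp_mem (f : MvPowerSeries (Fin n) k) (s : S) (r : Fin n → Fin p) :
    comp p n G β f s r ∈ RG p n G := by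
  classical
  rw [mem_RG_iff]
  intro ν
  rw [coeff_comp]
  split_ifs with h
  · exact ⟨(β.repr _ s).2, fun h' => absurd h h'⟩
  · exact ⟨zero_mem _, fun _ => rfl⟩

/-- **Decomposition**: `f = ∑ β_s X^r f_{s,r}` with `f_{s,r} ∈ G[[X^p]]`. -/
theorem decomposition (f : MvPowerSeries (Fin n) k) :
    f = ∑ s : S, ∑ r : Fin n → Fin p, monomial (rhat p n r) (β s) * comp p n G β f s r := by
  classical
  ext ν
  rw [map_sum]
  simp_rw [map_sum, coeff_monomial_mul, coeff_comp]
  have h1 : ∀ s : S, ∀ r : Fin n → Fin p,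
      (if rhat p n r ≤ ν then β s * (if pdiv p n (ν - rhat p n r) then
        ((β.repr (coeff (ν - rhat p n r + rhat p n r) f) s : ↥G) : k) else 0) else 0) =
      if r = r0 p n ν then β s * ((β.repr (coeff ν f) s : ↥G) : k) else 0 := by
    intro s r
    by_cases hr : r = r0 p n ν
    · have h2 := (key_index p n r ν).mpr hr
      rw [if_pos h2.1, if_pos h2.2, if_pos hr, hr, sub_add_r0]
    · rw [if_neg hr]
      by_cases h3 : rhat p n r ≤ ν
      · rw [if_pos h3]
        have h4 : ¬ pdiv p n (ν - rhat p n r) := fun h4 => hr ((key_index p n r ν).mp ⟨h3, h4⟩)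
        rw [if_neg h4, mul_zero]
      · rw [if_neg h3]
  simp_rw [h1]
  simp_rw [Finset.sum_ite_eq' Finset.univ (r0 p n ν), if_pos (Finset.mem_univ _)]
  conv_lhs => rw [← β.sum_repr (coeff ν f)]
  refine Finset.sum_congr rfl fun s _ => ?_
  show ((β.repr (coeff ν f) s : ↥G) : k) * β s = _
  ring

end B7



open MvPowerSeries

section B8

variable (p : ℕ) [hp : Fact p.Prime] {k : Type u} [Field k] (n : ℕ)
  (G : Subfield k) {S : Type u} [Fintype S] (β : Module.Basis S ↥G k)

/-- **Uniqueness** of the decomposition. -/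
theorem decomposition_unique (c : S → (Fin n → Fin p) → MvPowerSeries (Fin n) k)
    (hc : ∀ s r, c s r ∈ RG p n G)
    (h0 : ∑ s : S, ∑ r : Fin n → Fin p, monomial (rhat p n r) (β s) * c s r = 0) :
    ∀ s r, c s r = 0 := by
  classical
  have hc' := fun s r => (mem_RG_iff p n G (c s r)).mp (hc s r)
  -- coefficients at `p • μ`
  have key : ∀ (r₁ : Fin n → Fin p) (μ : Fin n →₀ ℕ) (s : S), coeff (p • μ) (c s r₁) = 0 := by
    intro r₁ μ
    have h1 := congrArg (coeff (rhat p n r₁ + p • μ)) h0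
    rw [map_sum, map_zero] at h1
    simp_rw [map_sum, coeff_monomial_mul] at h1
    have h2 : ∀ s : S, ∀ r : Fin n → Fin p,
        (if rhat p n r ≤ rhat p n r₁ + p • μ then
          β s * coeff (rhat p n r₁ + p • μ - rhat p n r) (c s r) else 0) =
        if r = r₁ then β s * coeff (p • μ) (c s r₁) else 0 := by
      intro s r
      by_cases hr : r = r₁
      · subst hr
        rw [if_pos rfl, if_pos (le_self_add), add_smul_sub]
      · rw [if_neg hr]
        by_cases h3 : rhat p n r ≤ rhat p n r₁ + p • μ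
        · rw [if_pos h3]
          have h4 : ¬ pdiv p n (rhat p n r₁ + p • μ - rhat p n r) := by
            intro h4
            have := (key_index p n r _).mp ⟨h3, h4⟩
            rw [r0_add_smul] at this
            exact hr this
          rw [(hc' s r _).2 h4, mul_zero]
        · rw [if_neg h3]
    simp_rw [h2] at h1
    simp_rw [Finset.sum_ite_eq' Finset.univ r₁, if_pos (Finset.mem_univ _)] at h1
    have h3 : ∑ s : S, (⟨coeff (p • μ) (c s r₁), (hc' s r₁ _).1⟩ : ↥G) • β s = 0 := by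
      refine Eq.trans (Finset.sum_congr rfl fun s _ => ?_) h1
      show coeff (p • μ) (c s r₁) * β s = _
      ring
    intro s
    have h4 := Fintype.linearIndependent_iff.mp β.linearIndependent _ h3 s
    exact congrArg Subtype.val h4
  intro s r
  ext ν
  rw [map_zero]
  by_cases h : pdiv p n ν
  · rw [← smul_dv p h]
    exact key r _ s
  · exact (hc' s r ν).2 h

end B8



open MvPowerSeries

section B9

variable (p : ℕ) [hp : Fact p.Prime] {k : Type u} [Field k] (n : ℕ)
  (G : Subfield k) {S : Type u} [Fintype S] (β : Module.Basis S ↥G k)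

theorem C_mem_RG (g : k) (hg : g ∈ G) : (C g : MvPowerSeries (Fin n) k) ∈ RG p n G := by
  classical
  rw [mem_RG_iff]
  intro ν
  rw [coeff_C]
  split_ifs with h
  · refine ⟨hg, fun h' => absurd ?_ h'⟩
    rw [h]
    intro j
    simp
  · exact ⟨zero_mem _, fun _ => rfl⟩

theorem rhat_zero : rhat p n (fun _ => (⟨0, hp.out.pos⟩ : Fin p)) = 0 := by
  ext j
  rfl

include β in
/-- **(U2)**: `G[[X^p]]` is "saturated" in `k[[X]]`. -/
theorem mem_RG_of_mul (f u v : MvPowerSeries (Fin n) k) (hu : u ∈ RG p n G) (hv : v ∈ RG p n G)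
    (hv0 : v ≠ 0) (h : f * v = u) : f ∈ RG p n G := by
  classical
  set z : Fin n → Fin p := fun _ => (⟨0, hp.out.pos⟩ : Fin p) with hz
  set c1 : S → k := fun s => ((β.repr 1 s : ↥G) : k) with hc1
  have hc1G : ∀ s, c1 s ∈ G := fun s => (β.repr 1 s).2
  have hsum1 : ∑ s : S, β s * c1 s = 1 := by
    conv_rhs => rw [← β.sum_repr 1]
    refine Finset.sum_congr rfl fun s _ => ?_
    show _ = ((β.repr 1 s : ↥G) : k) * β s
    ring
  let c' : S → (Fin n → Fin p) → MvPowerSeries (Fin n) k := fun s r =>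
    comp p n G β f s r * v - (if r = z then C (c1 s) * u else 0)
  have hc'mem : ∀ s r, c' s r ∈ RG p n G := by
    intro s r
    refine Subring.sub_mem _ (Subring.mul_mem _ (comp_mem p n G β f s r) hv) ?_
    split_ifs
    · exact Subring.mul_mem _ (C_mem_RG p n G _ (hc1G s)) hu
    · exact Subring.zero_mem _
  have hc'0 : ∑ s : S, ∑ r : Fin n → Fin p, monomial (rhat p n r) (β s) * c' s r = 0 := by
    simp only [c', mul_sub, Finset.sum_sub_distrib]
    have h1 : ∑ s : S, ∑ r : Fin n → Fin p,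
        monomial (rhat p n r) (β s) * (comp p n G β f s r * v) = f * v := by
      conv_rhs => rw [decomposition p n G β f, Finset.sum_mul]
      refine Finset.sum_congr rfl fun s _ => ?_
      rw [Finset.sum_mul]
      refine Finset.sum_congr rfl fun r _ => ?_
      ring
    have h2 : ∑ s : S, ∑ r : Fin n → Fin p,
        monomial (rhat p n r) (β s) * (if r = z then C (c1 s) * u else 0) = u := by
      simp_rw [mul_ite, mul_zero, Finset.sum_ite_eq' Finset.univ z, if_pos (Finset.mem_univ _)]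
      rw [hz, rhat_zero]
      have h3 : ∀ s : S, (monomial (0 : Fin n →₀ ℕ) (β s) : MvPowerSeries (Fin n) k) *
          (C (c1 s) * u) = C (β s * c1 s) * u := by
        intro s
        rw [← mul_assoc, map_mul]
        rfl
      simp_rw [h3, ← Finset.sum_mul, ← map_sum, hsum1, map_one, one_mul]
    rw [h1, h2, h, sub_self]
  have hzero := decomposition_unique p n G β c' hc'mem hc'0
  -- pick `s` with `c1 s ≠ 0`
  obtain ⟨s, hs⟩ : ∃ s, c1 s ≠ 0 := by
    by_contra hcon
    push_neg at hcon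
    simp_rw [hcon, mul_zero, Finset.sum_const_zero] at hsum1
    exact zero_ne_one hsum1
  have h4 : comp p n G β f s z * v = C (c1 s) * f * v := by
    have := hzero s z
    simp only [c'] at this
    rw [if_pos trivial, sub_eq_zero] at this
    rw [this, ← h, mul_assoc]
  have h5 : comp p n G β f s z = C (c1 s) * f := mul_right_cancel₀ hv0 h4
  have h6 : f = C ((c1 s)⁻¹) * comp p n G β f s z := by
    rw [h5, ← mul_assoc, ← map_mul, inv_mul_cancel₀ hs, map_one, one_mul]
  rw [h6]
  exact Subring.mul_mem _ (C_mem_RG p n G _ (inv_mem (hc1G s))) (comp_mem p n G β f s z)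

end B9



open MvPowerSeries EGA41 Groth.Agent.Lib.Helper23.PBasisField

section B10

variable (p : ℕ) [hp : Fact p.Prime] {k : Type u} [Field k] [CharP k p] (n : ℕ)
  (𝔅 : Set k)
  (K : Type u) [Field K] [Algebra (MvPowerSeries (Fin n) k) K]
  [IsFractionRing (MvPowerSeries (Fin n) k) K]

/-- the subfield of `K = Frac k[[X]]` generated by `G[[X^p]]`, `G = k^p(𝔅 ∖ i)`. -/
noncomputable def FK (i : Set k) : Subfield K :=
  Subfield.closure (algebraMap (MvPowerSeries (Fin n) k) K '' (RG p n (kSub p 𝔅 i) : Set _))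

theorem FK_mono {i i' : Set k} (h : i ⊆ i') : FK p n 𝔅 K i' ≤ FK p n 𝔅 K i :=
  Subfield.closure_mono (Set.image_mono (RG_mono p n (kSub_mono p 𝔅 h)))

theorem algebraMap_mem_FK (i : Set k) (f : MvPowerSeries (Fin n) k)
    (hf : f ∈ RG p n (kSub p 𝔅 i)) : algebraMap _ K f ∈ FK p n 𝔅 K i :=
  Subfield.subset_closure ⟨f, hf, rfl⟩

theorem pow_mem_FK (i : Set k) (x : K) : x ^ p ∈ FK p n 𝔅 K i := by
  obtain ⟨a, b, hb, rfl⟩ := IsFractionRing.div_surjective (A := MvPowerSeries (Fin n) k) x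
  rw [div_pow, ← map_pow, ← map_pow]
  exact div_mem (algebraMap_mem_FK p n 𝔅 K i _ (pow_mem_RG p n _ (pow_mem_kSub p 𝔅 i) a))
    (algebraMap_mem_FK p n 𝔅 K i _ (pow_mem_RG p n _ (pow_mem_kSub p 𝔅 i) b))

theorem mem_FK_iff (i : Set k) (x : K) : x ∈ FK p n 𝔅 K i ↔
    ∃ u ∈ RG p n (kSub p 𝔅 i), ∃ v ∈ RG p n (kSub p 𝔅 i),
      algebraMap _ K u / algebraMap _ K v = x := by
  have hcl : Subring.closure (algebraMap (MvPowerSeries (Fin n) k) K ''
      (RG p n (kSub p 𝔅 i) : Set _)) = (RG p n (kSub p 𝔅 i)).map (algebraMap _ K) := by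
    rw [← Subring.coe_map, Subring.closure_eq]
  constructor
  · intro hx
    obtain ⟨y, hy, z, hz, rfl⟩ := Subfield.mem_closure_iff.mp hx
    rw [hcl] at hy hz
    obtain ⟨u, hu, rfl⟩ := hy
    obtain ⟨v, hv, rfl⟩ := hz
    exact ⟨u, hu, v, hv, rfl⟩
  · rintro ⟨u, hu, v, hv, rfl⟩
    exact div_mem (algebraMap_mem_FK p n 𝔅 K i u hu) (algebraMap_mem_FK p n 𝔅 K i v hv)

end B10



open MvPowerSeries EGA41 Groth.Agent.Lib.Helper23.PBasisField

section B11

variable (p : ℕ) [hp : Fact p.Prime] {k : Type u} [Field k] [CharP k p] (n : ℕ)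
  (𝔅 : Set k) (h𝔅 : PIndSet ↥(kp p k) 𝔅) (h𝔅top : IntermediateField.adjoin ↥(kp p k) 𝔅 = ⊤)
  (K : Type u) [Field K] [Algebra (MvPowerSeries (Fin n) k) K]
  [IsFractionRing (MvPowerSeries (Fin n) k) K]

include h𝔅 h𝔅top in
/-- **(B1c)**: the intersection of the subfields `FK i` is `K^p`. -/
theorem exists_pow_eq_of_forall_mem_FK (x : K)
    (hx : ∀ i : Finset k, (i : Set k) ⊆ 𝔅 → x ∈ FK p n 𝔅 K (i : Set k)) :
    ∃ y : K, y ^ p = x := by
  classical
  obtain ⟨a, b, hb, rfl⟩ := IsFractionRing.div_surjective (A := MvPowerSeries (Fin n) k) x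
  have hinj : Function.Injective (algebraMap (MvPowerSeries (Fin n) k) K) :=
    IsFractionRing.injective _ K
  have hb0 : b ≠ 0 := nonZeroDivisors.ne_zero hb
  have hb0' : algebraMap (MvPowerSeries (Fin n) k) K b ≠ 0 := fun h => hb0 (hinj (by rw [h, map_zero]))
  have hp1 : p - 1 + 1 = p := Nat.sub_add_cancel hp.out.one_le
  -- a' = a b^(p-1) lies in every `RG i`
  have hmem : ∀ i : Finset k, (i : Set k) ⊆ 𝔅 → a * b ^ (p - 1) ∈ RG p n (kSub p 𝔅 (i : Set k)) := by
    intro i hi
    obtain ⟨S, _, β, -⟩ := exists_basis_kSub p 𝔅 h𝔅 h𝔅top i hi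
    obtain ⟨u, hu, v, hv, huv⟩ := (mem_FK_iff p n 𝔅 K (i : Set k) _).mp (hx i hi)
    by_cases hv0 : v = 0
    · rw [hv0, map_zero, div_zero, eq_comm, div_eq_zero_iff] at huv
      rcases huv with h | h
      · have : a = 0 := hinj (by rw [h, map_zero])
        rw [this, zero_mul]
        exact Subring.zero_mem _
      · exact absurd h hb0'
    · have hv0' : algebraMap (MvPowerSeries (Fin n) k) K v ≠ 0 :=
        fun h => hv0 (hinj (by rw [h, map_zero]))
      have h1 : a * v = u * b := by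
        apply hinj
        rw [map_mul, map_mul]
        field_simp at huv
        rw [huv, mul_comm]
      refine mem_RG_of_mul p n _ β (a * b ^ (p - 1)) (u * b ^ p) v
        (Subring.mul_mem _ hu (pow_mem_RG p n _ (pow_mem_kSub p 𝔅 _) b)) hv hv0 ?_
      calc a * b ^ (p - 1) * v = (a * v) * b ^ (p - 1) := by ring
        _ = u * b * b ^ (p - 1) := by rw [h1]
        _ = u * b ^ (p - 1 + 1) := by ring
        _ = u * b ^ p := by rw [hp1]
  have hmem0 : a * b ^ (p - 1) ∈ RG p n (kp p k) := by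
    rw [mem_RG_iff]
    intro ν
    refine ⟨mem_kp_of_forall p 𝔅 h𝔅 h𝔅top _ fun i hi => ?_, ?_⟩
    · exact ((mem_RG_iff p n _ _).mp (hmem i hi) ν).1
    · exact ((mem_RG_iff p n _ _).mp (hmem ∅ (by simp)) ν).2
  obtain ⟨g, hg⟩ := exists_pow_eq_of_mem p n _ hmem0
  refine ⟨algebraMap _ K g / algebraMap _ K b, ?_⟩
  rw [div_pow, ← map_pow, hg, map_mul, map_pow]
  have h2 : (algebraMap (MvPowerSeries (Fin n) k) K b) ^ p =
      algebraMap (MvPowerSeries (Fin n) k) K b * (algebraMap (MvPowerSeries (Fin n) k) K b) ^ (p - 1) := by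
    rw [← pow_succ', hp1]
  rw [h2, mul_div_mul_right _ _ (pow_ne_zero _ hb0')]

end B11

end Groth.Agent.Lib.Helper23.FormalFibreCharP
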