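import Mathlib
import Groth.Agent.Lib.Helper23.FormalFibreCharP2
import Groth.Agent.Lib.Helper23.DerExtend
import Groth.Agent.S9318
import Groth.Agent.Lib.Helper21.AdicNoetherian
import Groth.Agent.Lib.Helper23.RegularHom
import Groth.Agent.Lib.Helper23.RegularCompletion
import Groth.Agent.Lib.Helper25.RegularSmooth
import Groth.Agent.Lib.Helper1.ArtFunObsDimMain

/-!
Generic formal fibres in characteristic p, part 3: coefficientwise derivations Dco, derivation_eq_zero, exists_extension_abs, extension of derivations along formally etale maps and completions (exists_derivation_of_formallyEtale, exists_derivation_completion), exists_extension_powerSeries, adic_of_powerSeries, gff_powerSeries (generic formal fibres of localizations of k[[X]] are adic formally smooth).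
-/

set_option autoImplicit false
universe u


namespace Groth.Agent.Lib.Helper23.FormalFibreCharP


open MvPowerSeries

section C1

variable {k : Type u} [Field k] (n : ℕ)

/-- coefficientwise application of a derivation of `k`. -/
noncomputable def DcoFun (δ : Derivation ℤ k k) (f : MvPowerSeries (Fin n) k) :
    MvPowerSeries (Fin n) k := fun ν => δ (coeff ν f)

theorem coeff_DcoFun (δ : Derivation ℤ k k) (f : MvPowerSeries (Fin n) k) (ν : Fin n →₀ ℕ) :
    coeff ν (DcoFun n δ f) = δ (coeff ν f) := rfl

/-- coefficientwise extension of a derivation of `k` to `k[[X]]`. -/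
noncomputable def Dco (δ : Derivation ℤ k k) :
    Derivation ℤ (MvPowerSeries (Fin n) k) (MvPowerSeries (Fin n) k) :=
  Derivation.mk'
    ({ toFun := DcoFun n δ
       map_zero' := by ext ν; rw [coeff_DcoFun, map_zero, map_zero]
       map_add' := fun f g => by
        ext ν
        rw [coeff_DcoFun, map_add, map_add, map_add, coeff_DcoFun, coeff_DcoFun] } :
      MvPowerSeries (Fin n) k →+ MvPowerSeries (Fin n) k).toIntLinearMap
    (fun f g => by
      classical
      ext ν
      show coeff ν (DcoFun n δ (f * g)) = coeff ν (f • DcoFun n δ g + g • DcoFun n δ f)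
      rw [smul_eq_mul, smul_eq_mul, mul_comm g, map_add, coeff_mul, coeff_mul, coeff_DcoFun,
        coeff_mul, map_sum, ← Finset.sum_add_distrib]
      refine Finset.sum_congr rfl fun x _ => ?_
      rw [Derivation.leibniz, smul_eq_mul, smul_eq_mul, coeff_DcoFun, coeff_DcoFun]
      ring)

theorem coeff_Dco (δ : Derivation ℤ k k) (f : MvPowerSeries (Fin n) k) (ν : Fin n →₀ ℕ) :
    coeff ν (Dco n δ f) = δ (coeff ν f) := rfl

theorem Dco_C (δ : Derivation ℤ k k) (c : k) : Dco n δ (C c) = C (δ c) := by
  classical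
  ext ν
  rw [coeff_Dco, coeff_C, coeff_C]
  split_ifs
  · rfl
  · exact map_zero _

theorem Dco_X (δ : Derivation ℤ k k) (j : Fin n) : Dco n δ (X j) = 0 := by
  classical
  ext ν
  rw [coeff_Dco, coeff_X, map_zero]
  split_ifs
  · exact δ.map_one_eq_zero
  · exact map_zero _

variable (p : ℕ) [hp : Fact p.Prime]

theorem Dco_eq_zero_of_mem_RG (δ : Derivation ℤ k k) (G : Subfield k) (hδ : ∀ x ∈ G, δ x = 0)
    (f : MvPowerSeries (Fin n) k) (hf : f ∈ RG p n G) : Dco n δ f = 0 := by
  ext ν
  rw [coeff_Dco, map_zero]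
  exact hδ _ (((mem_RG_iff p n G f).mp hf) ν).1

theorem pderiv_eq_zero_of_mem_RG [CharP k p] (j : Fin n) (G : Subfield k)
    (f : MvPowerSeries (Fin n) k) (hf : f ∈ RG p n G) : pderiv k j f = 0 := by
  ext ν
  rw [coeff_pderiv, map_zero]
  by_cases h : pdiv p n (ν + Finsupp.single j 1)
  · have h1 := h j
    rw [Finsupp.add_apply, Finsupp.single_eq_same] at h1
    have h2 : ((ν j + 1 : ℕ) : k) = 0 := (CharP.cast_eq_zero_iff k p _).mpr h1
    rw [show ((ν j : k) + 1) = ((ν j + 1 : ℕ) : k) by push_cast; rfl, h2, mul_zero]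
  · rw [(((mem_RG_iff p n G f).mp hf) _).2 h, zero_mul]

end C1



open MvPowerSeries

section C3

/-- the subring of elements killed by an additive derivation. -/
def derKer {A M : Type*} [CommRing A] [Algebra ℤ A] [AddCommGroup M] [Module A M]
    (d : Derivation ℤ A M) : Subring A where
  carrier := {a | d a = 0}
  mul_mem' := fun {a b} ha hb => by
    show d (a * b) = 0
    rw [Derivation.leibniz, show d a = 0 from ha, show d b = 0 from hb, smul_zero, smul_zero,
      add_zero]
  one_mem' := d.map_one_eq_zero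
  add_mem' := fun {a b} ha hb => by
    show d (a + b) = 0
    rw [map_add, show d a = 0 from ha, show d b = 0 from hb, add_zero]
  zero_mem' := map_zero d
  neg_mem' := fun {a} ha => by
    show d (-a) = 0
    rw [map_neg, show d a = 0 from ha, neg_zero]

theorem mem_derKer {A M : Type*} [CommRing A] [Algebra ℤ A] [AddCommGroup M] [Module A M]
    (d : Derivation ℤ A M) (a : A) : a ∈ derKer d ↔ d a = 0 := Iff.rfl

variable (p : ℕ) [hp : Fact p.Prime] {k : Type u} [Field k] (n : ℕ)
  (G : Subfield k) {S : Type u} [Fintype S] (β : Module.Basis S ↥G k)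

/-- **(gen)**: a derivation of `k[[X]]` killing `G[[X^p]]`, the `X_j` and the constants from a set
`i` whose monoid closure contains the basis `β` of `k` over `G`, is zero. -/
theorem derivation_eq_zero {M : Type*} [AddCommGroup M] [Module (MvPowerSeries (Fin n) k) M]
    (d : Derivation ℤ (MvPowerSeries (Fin n) k) M) (i : Set k)
    (hβ : ∀ s, β s ∈ Submonoid.closure i)
    (h1 : ∀ f ∈ RG p n G, d f = 0) (h2 : ∀ b ∈ i, d (C b) = 0) (h3 : ∀ j, d (X j) = 0)
    (f : MvPowerSeries (Fin n) k) : d f = 0 := by
  have hC : ∀ c ∈ Submonoid.closure i, (C c : MvPowerSeries (Fin n) k) ∈ derKer d := by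
    intro c hc
    induction hc using Submonoid.closure_induction with
    | mem x hx => exact h2 x hx
    | one => rw [map_one]; exact Subring.one_mem _
    | mul x y _ _ hx hy => rw [map_mul]; exact Subring.mul_mem _ hx hy
  have hmon : ∀ (s : S) (r : Fin n → Fin p),
      (monomial (rhat p n r) (β s) : MvPowerSeries (Fin n) k) ∈ derKer d := by
    intro s r
    rw [MvPowerSeries.monomial_eq', Finsupp.prod]
    exact Subring.mul_mem _ (hC _ (hβ s))
      (Subring.prod_mem _ fun j _ => Subring.pow_mem _ (h3 j) _)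
  rw [← mem_derKer, decomposition p n G β f]
  exact Subring.sum_mem _ fun s _ => Subring.sum_mem _ fun r _ =>
    Subring.mul_mem _ (hmon s r) (h1 _ (comp_mem p n G β f s r))

end C3



section C4

variable {R K E : Type u} [CommRing R] [IsDomain R] [Field K] [Algebra R K] [IsFractionRing R K]
  [CommRing E] [Algebra R E] [Algebra K E] [IsScalarTower R K E]

/-- two "derivations along `K → E`" agreeing on `R` agree on `K = Frac R`. -/
theorem eq_of_eq_on_ring (δE : Derivation ℤ E E) (δ : Derivation ℤ K K)
    (h : ∀ r : R, δE (algebraMap R E r) = algebraMap K E (δ (algebraMap R K r))) (x : K) :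
    δE (algebraMap K E x) = algebraMap K E (δ x) := by
  obtain ⟨a, b, hb, rfl⟩ := IsFractionRing.div_surjective (A := R) x
  have hb0 : algebraMap R K b ≠ 0 := by
    intro h0
    have : b = 0 := IsFractionRing.injective R K (by rw [h0, map_zero])
    exact nonZeroDivisors.ne_zero hb this
  set x := algebraMap R K a / algebraMap R K b with hx
  have hxb : x * algebraMap R K b = algebraMap R K a := div_mul_cancel₀ _ hb0
  have hunit : IsUnit (algebraMap K E (algebraMap R K b)) := (IsUnit.mk0 _ hb0).map _
  have e1 : δE (algebraMap K E (x * algebraMap R K b)) =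
      algebraMap K E (δ (x * algebraMap R K b)) := by
    rw [hxb, ← IsScalarTower.algebraMap_apply, h]
  rw [map_mul, Derivation.leibniz, Derivation.leibniz, map_add, smul_eq_mul, smul_eq_mul,
    smul_eq_mul, smul_eq_mul, map_mul, map_mul] at e1
  have e2 : δE (algebraMap K E (algebraMap R K b)) = algebraMap K E (δ (algebraMap R K b)) := by
    rw [← IsScalarTower.algebraMap_apply, h]
  rw [e2] at e1
  have e3 : algebraMap K E (algebraMap R K b) * δE (algebraMap K E x) =
      algebraMap K E (algebraMap R K b) * algebraMap K E (δ x) := add_left_cancel e1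
  exact hunit.mul_left_cancel e3

end C4



theorem der_sum_apply' {A M : Type*} [CommRing A] [AddCommGroup M]
    [Module A M] {ι : Type*} (s : Finset ι) (f : ι → Derivation ℤ A M) (y : A) :
    (∑ i ∈ s, f i) y = ∑ i ∈ s, f i y := by
  classical
  induction s using Finset.induction_on with
  | empty => simp
  | insert a s ha ih => rw [Finset.sum_insert ha, Finset.sum_insert ha, Derivation.add_apply, ih]

section C5

variable {R K E : Type u} [CommRing R] [Algebra ℤ R] [IsDomain R] [Field K] [Algebra R K]
  [IsFractionRing R K] [CommRing E] [Algebra R E] [Algebra K E] [IsScalarTower R K E]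

/-- **(H), abstract form**: if `R` has derivations `Dz j` dual to elements `z j`, vanishing on a
subring `R₀`, extending to `E`, and if derivations `R → E` vanishing on `R₀` and the `z j` are zero,
then every derivation of `K = Frac R` vanishing on `R₀` extends to `E`. -/
theorem exists_extension_abs (R₀ : Subring R) {J : Type*} [Fintype J] [DecidableEq J]
    (z : J → R) (Dz : J → Derivation ℤ R R)
    (hDz : ∀ j l, Dz j (z l) = if l = j then 1 else 0)
    (hD0 : ∀ j, ∀ f ∈ R₀, Dz j f = 0)
    (DE : J → Derivation ℤ E E)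
    (hDE : ∀ j f, DE j (algebraMap R E f) = algebraMap R E (Dz j f))
    (hgen : ∀ d : Derivation ℤ R E, (∀ f ∈ R₀, d f = 0) → (∀ j, d (z j) = 0) → ∀ f, d f = 0)
    (δ : Derivation ℤ K K) (hδ : ∀ f ∈ R₀, δ (algebraMap R K f) = 0) :
    ∃ δE : Derivation ℤ E E, ∀ x, δE (algebraMap K E x) = algebraMap K E (δ x) := by
  classical
  have hinst : ‹Algebra ℤ R› = Ring.toIntAlgebra R := Subsingleton.elim _ _
  subst hinst
  let cj : J → E := fun j => algebraMap K E (δ (algebraMap R K (z j)))
  let δE : Derivation ℤ E E := ∑ j, cj j • DE j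
  have hδE : ∀ e : E, δE e = ∑ j, cj j * DE j e := by
    intro e
    simp only [δE]
    rw [der_sum_apply']
    rfl
  have hδEalg : ∀ f : R, δE (algebraMap R E f) = ∑ j, cj j * algebraMap R E (Dz j f) := by
    intro f
    rw [hδE]
    exact Finset.sum_congr rfl fun j _ => by rw [hDE]
  -- the difference derivation `R → E`
  let d : Derivation ℤ R E := Derivation.mk'
    ({ toFun := fun r => δE (algebraMap R E r) - algebraMap K E (δ (algebraMap R K r))
       map_zero' := by simp
       map_add' := fun a b => by simp only [map_add]; abel } : R →+ E).toIntLinearMap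
    (fun a b => by
      show δE (algebraMap R E (a * b)) - algebraMap K E (δ (algebraMap R K (a * b))) =
        a • (δE (algebraMap R E b) - algebraMap K E (δ (algebraMap R K b))) +
        b • (δE (algebraMap R E a) - algebraMap K E (δ (algebraMap R K a)))
      rw [map_mul (algebraMap R E), map_mul (algebraMap R K), Derivation.leibniz,
        Derivation.leibniz, map_add, smul_eq_mul,
        smul_eq_mul, smul_eq_mul, smul_eq_mul, map_mul (algebraMap K E), map_mul (algebraMap K E),
        ← IsScalarTower.algebraMap_apply R K E, ← IsScalarTower.algebraMap_apply R K E,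
        Algebra.smul_def, Algebra.smul_def]
      ring)
  have hd : ∀ r, d r = δE (algebraMap R E r) - algebraMap K E (δ (algebraMap R K r)) :=
    fun r => rfl
  have hd0 : ∀ f, d f = 0 := by
    apply hgen d
    · intro f hf
      rw [hd, hδEalg, hδ f hf, map_zero, sub_zero]
      exact Finset.sum_eq_zero fun j _ => by rw [hD0 j f hf, map_zero, mul_zero]
    · intro l
      rw [hd, hδEalg, sub_eq_zero]
      simp_rw [hDz]
      rw [Finset.sum_eq_single l]
      · rw [if_pos rfl, map_one, mul_one]
      · intro j _ hjl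
        rw [if_neg (Ne.symm hjl), map_zero, mul_zero]
      · intro h; exact absurd (Finset.mem_univ l) h
  refine ⟨δE, eq_of_eq_on_ring (R := R) δE δ fun r => ?_⟩
  have := hd0 r
  rw [hd, sub_eq_zero] at this
  exact this

end C5



open TensorProduct KaehlerDifferential IsLocalRing

section C6

/-- derivations extend along formally étale algebras. -/
theorem exists_derivation_of_formallyEtale {A B : Type u} [CommRing A] [Algebra ℤ A] [CommRing B]
    [Algebra A B] [Algebra.FormallyEtale A B] (D₀ : Derivation ℤ A A) :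
    ∃ D' : Derivation ℤ B B, ∀ a, D' (algebraMap A B a) = algebraMap A B (D₀ a) := by
  have hinst : ‹Algebra ℤ A› = Ring.toIntAlgebra A := Subsingleton.elim _ _
  subst hinst
  let e := KaehlerDifferential.tensorKaehlerEquivOfFormallyEtale ℤ A B
  let ℓ₀ : Ω[A⁄ℤ] →ₗ[A] B := (Algebra.linearMap A B) ∘ₗ D₀.liftKaehlerDifferential
  let ℓ : B ⊗[A] Ω[A⁄ℤ] →ₗ[B] B := LinearMap.liftBaseChange B ℓ₀
  let lam : Ω[B⁄ℤ] →ₗ[B] B := ℓ ∘ₗ e.symm.toLinearMap
  refine ⟨lam.compDer (D ℤ B), fun f => ?_⟩
  show ℓ (e.symm (D ℤ B (algebraMap A B f))) = _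
  rw [KaehlerDifferential.tensorKaehlerEquivOfFormallyEtale_symm_D_algebraMap]
  show ℓ ((1 : B) ⊗ₜ[A] D ℤ A f) = _
  rw [LinearMap.liftBaseChange_tmul, one_smul]
  show algebraMap A B (D₀.liftKaehlerDifferential (D ℤ A f)) = _
  rw [Derivation.liftKaehlerDifferential_comp_D]

theorem isAdicFormallySmooth_self (A : Type u) [CommRing A] (I : Ideal A) :
    CAlgX.IsAdicFormallySmooth A A I := by
  intro C _ _ N _ ψ _
  refine ⟨Algebra.ofId A C, ?_⟩
  ext

/-- derivations of a Noetherian local ring extend to its completion. -/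
theorem exists_derivation_completion {A : Type u} [CommRing A] [IsLocalRing A] [IsNoetherianRing A]
    (D₀ : Derivation ℤ A A) :
    ∃ D' : Derivation ℤ (AdicCompletion (maximalIdeal A) A) (AdicCompletion (maximalIdeal A) A),
      ∀ a, D' (algebraMap A _ a) = algebraMap A _ (D₀ a) := by
  haveI : IsNoetherianRing (AdicCompletion (maximalIdeal A) A) :=
    Groth.Agent.Lib.Helper21.isNoetherianRing_adicCompletion_of_fg (maximalIdeal A)
      (IsNoetherian.noetherian _)
  have h1 := (Groth.Agent.S9318.result (R := A) (S := A) (maximalIdeal A)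
    (IsNoetherian.noetherian _)).mp (isAdicFormallySmooth_self A _)
  rw [← AdicCompletion.maximalIdeal_eq_map] at h1
  exact Groth.Agent.Lib.Helper23.DerExtend.t9258main A (AdicCompletion (maximalIdeal A) A) h1 D₀

end C6



open MvPowerSeries EGA41 Groth.Agent.Lib.Helper23.PBasisField

section C7

variable (p : ℕ) [hp : Fact p.Prime] {k : Type u} [Field k] [CharP k p] (n : ℕ)
  (𝔅 : Set k) (h𝔅 : PIndSet ↥(kp p k) 𝔅) (h𝔅top : IntermediateField.adjoin ↥(kp p k) 𝔅 = ⊤)
  (K : Type u) [Field K] [Algebra (MvPowerSeries (Fin n) k) K]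
  [IsFractionRing (MvPowerSeries (Fin n) k) K]
  {E : Type u} [CommRing E] [Algebra (MvPowerSeries (Fin n) k) E] [Algebra K E]
  [IsScalarTower (MvPowerSeries (Fin n) k) K E]

include h𝔅 h𝔅top in
/-- **(H) for power series**: if all derivations of `R = k[[X]]` extend to `E`, then every
derivation of `K = Frac R` killing `FK i` extends to `E`. -/
theorem exists_extension_powerSeries
    (hext : ∀ D₀ : Derivation ℤ (MvPowerSeries (Fin n) k) (MvPowerSeries (Fin n) k),
      ∃ D' : Derivation ℤ E E, ∀ f, D' (algebraMap (MvPowerSeries (Fin n) k) E f) =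
        algebraMap (MvPowerSeries (Fin n) k) E (D₀ f))
    (i : Finset k) (hi : (i : Set k) ⊆ 𝔅) (δ : Derivation ℤ K K)
    (hδ : ∀ x ∈ FK p n 𝔅 K (i : Set k), δ x = 0) :
    ∃ δE : Derivation ℤ E E, ∀ x, δE (algebraMap K E x) = algebraMap K E (δ x) := by
  classical
  obtain ⟨S, _, β, hβ⟩ := exists_basis_kSub p 𝔅 h𝔅 h𝔅top i hi
  -- derivations of `k` dual to the elements of `i`
  have hδb : ∀ b : k, ∃ δb : Derivation ℤ k k, (∀ x ∈ kSub p 𝔅 (i : Set k), δb x = 0) ∧
      ∀ t ∈ (i : Set k), δb t = if t = b then 1 else 0 := fun b =>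
    exists_derivation_of_pIndSet p (kSub p 𝔅 (i : Set k)) (pow_mem_kSub p 𝔅 (i : Set k))
      (i : Set k) (pIndSet_kSub p 𝔅 h𝔅 (i : Set k) hi) b
  choose δb hδb0 hδb1 using hδb
  let z : (↥i ⊕ Fin n) → MvPowerSeries (Fin n) k :=
    Sum.elim (fun b => C b.1) (fun j => X j)
  let Dz : (↥i ⊕ Fin n) → Derivation ℤ (MvPowerSeries (Fin n) k) (MvPowerSeries (Fin n) k) :=
    Sum.elim (fun b => Dco n (δb b.1)) (fun j => (pderiv k j).restrictScalars ℤ)
  have hDz : ∀ j l, Dz j (z l) = if l = j then 1 else 0 := by
    rintro (b | j) (b' | j')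
    · show Dco n (δb b.1) (C b'.1) = _
      rw [Dco_C, hδb1 b.1 b'.1 b'.2]
      by_cases h : b' = b
      · rw [if_pos (congrArg Subtype.val h), if_pos (congrArg Sum.inl h), map_one]
      · rw [if_neg (fun h' => h (Subtype.ext h')), if_neg (fun h' => h (Sum.inl.inj h')), map_zero]
    · show Dco n (δb b.1) (X j') = _
      rw [Dco_X, if_neg (by simp)]
    · show pderiv k j (C b'.1) = _
      rw [pderiv_C, if_neg (by simp)]
    · show pderiv k j (X j') = _
      by_cases h : j' = j
      · subst h
        rw [pderiv_X_self, if_pos rfl]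
      · rw [pderiv_X_of_ne h, if_neg (fun h' => h (Sum.inr.inj h'))]
  have hD0 : ∀ j, ∀ f ∈ RG p n (kSub p 𝔅 (i : Set k)), Dz j f = 0 := by
    rintro (b | j) f hf
    · exact Dco_eq_zero_of_mem_RG n p (δb b.1) _ (hδb0 b.1) f hf
    · exact pderiv_eq_zero_of_mem_RG n p j _ f hf
  choose DE hDE using fun j => hext (Dz j)
  haveI : IsDomain (MvPowerSeries (Fin n) k) := NoZeroDivisors.to_isDomain _
  refine exists_extension_abs (R := MvPowerSeries (Fin n) k) (K := K) (E := E)
    (RG p n (kSub p 𝔅 (i : Set k))) z Dz hDz hD0 DE hDE ?_ δ ?_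
  · intro d h1 h2 f
    refine derivation_eq_zero p n _ β d (i : Set k) hβ h1 ?_ ?_ f
    · intro b hb
      exact h2 (Sum.inl ⟨b, hb⟩)
    · intro j
      exact h2 (Sum.inr j)
  · intro f hf
    exact hδ _ (algebraMap_mem_FK p n 𝔅 K (i : Set k) f hf)

end C7



open MvPowerSeries EGA41 Groth.Agent.Lib.Helper23.PBasisField IsLocalRing

section Y1

variable (p : ℕ) [hp : Fact p.Prime] {k : Type u} [Field k] [hk : CharP k p] (n : ℕ)
  {E : Type u} [CommRing E] [Algebra (MvPowerSeries (Fin n) k) E] [IsRegularLocalRing E]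

include p hp hk in
/-- **(I), abstract form**: a regular local `k[[X]]`-algebra `E` in which the nonzero elements of
`k[[X]]` are invertible and to which all derivations of `k[[X]]` extend is adic formally smooth over
`k[[X]]` (equivalently over `Frac k[[X]]`). -/
theorem adic_of_powerSeries
    (hunit : ∀ r : MvPowerSeries (Fin n) k, r ≠ 0 → IsUnit (algebraMap _ E r))
    (hext : ∀ D₀ : Derivation ℤ (MvPowerSeries (Fin n) k) (MvPowerSeries (Fin n) k),
      ∃ D' : Derivation ℤ E E, ∀ f, D' (algebraMap (MvPowerSeries (Fin n) k) E f) =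
        algebraMap (MvPowerSeries (Fin n) k) E (D₀ f)) :
    CAlgX.IsAdicFormallySmooth (MvPowerSeries (Fin n) k) E (maximalIdeal E) := by
  classical
  haveI : IsDomain (MvPowerSeries (Fin n) k) := NoZeroDivisors.to_isDomain _
  let K := FractionRing (MvPowerSeries (Fin n) k)
  have hu : ∀ y : nonZeroDivisors (MvPowerSeries (Fin n) k),
      IsUnit (algebraMap (MvPowerSeries (Fin n) k) E y) := fun y =>
    hunit y (nonZeroDivisors.ne_zero y.2)
  letI : Algebra K E := (IsLocalization.lift (S := K) hu).toAlgebra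
  haveI : IsScalarTower (MvPowerSeries (Fin n) k) K E := IsScalarTower.of_algebraMap_eq
    (fun r => (IsLocalization.lift_eq hu r).symm)
  haveI : CharP (MvPowerSeries (Fin n) k) p :=
    charP_of_injective_algebraMap (algebraMap k (MvPowerSeries (Fin n) k)).injective p
  haveI : CharP K p := charP_of_injective_algebraMap
    (IsFractionRing.injective (MvPowerSeries (Fin n) k) K) p
  -- a p-basis of k
  obtain ⟨𝔅, -, -, h𝔅, h𝔅top⟩ := exists_pIndSet_adjoin_eq_top (F := ↥(kp p k)) (K := k) p
    (hpow_kp p) ∅ Set.univ (Set.empty_subset _)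
    (by intro a ha; exact absurd ha (Set.notMem_empty a))
    (by rw [eq_top_iff]; intro x _; exact IntermediateField.subset_adjoin _ _ (Set.mem_univ x))
  let ι := {i : Finset k // (i : Set k) ⊆ 𝔅}
  haveI : Nonempty ι := ⟨⟨∅, by simp⟩⟩
  have h1 : CAlgX.IsAdicFormallySmooth K E (maximalIdeal E) := by
    refine crit p (fun i : ι => FK p n 𝔅 K (i.1 : Set k)) ?_ ?_ ?_ ?_
    · intro a b
      refine ⟨⟨a.1 ∪ b.1, ?_⟩, le_inf (FK_mono p n 𝔅 K ?_) (FK_mono p n 𝔅 K ?_)⟩
      · rw [Finset.coe_union]; exact Set.union_subset a.2 b.2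
      · rw [Finset.coe_union]; exact Set.subset_union_left
      · rw [Finset.coe_union]; exact Set.subset_union_right
    · intro i y
      exact pow_mem_FK p n 𝔅 K _ y
    · intro x hx
      exact exists_pow_eq_of_forall_mem_FK p n 𝔅 h𝔅 h𝔅top K x (fun i hi => hx ⟨i, hi⟩)
    · intro i δ hδ
      exact exists_extension_powerSeries p n 𝔅 h𝔅 h𝔅top K hext i.1 i.2 δ hδ
  haveI : Algebra.FormallyEtale (MvPowerSeries (Fin n) k) K :=
    Algebra.FormallyEtale.of_isLocalization (nonZeroDivisors (MvPowerSeries (Fin n) k))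
  exact Groth.Agent.Lib.Helper23.RegularHom.adic_of_formallySmooth_base
    (MvPowerSeries (Fin n) k) K E _ h1

end Y1



open MvPowerSeries EGA41 IsLocalRing

section Y2

variable (p : ℕ) [hp : Fact p.Prime] {k : Type u} [Field k] [hk : CharP k p] (n : ℕ)
  (m : Ideal (MvPowerSeries (Fin n) k)) [m.IsPrime]
  {A₁ : Type u} [CommRing A₁] [Algebra (MvPowerSeries (Fin n) k) A₁] [IsLocalization.AtPrime A₁ m]
  [IsLocalRing A₁]

include p hp hk m in
/-- **(I)**: the generic formal fibre of a localization `A₁` of `k[[X]]` (char. `p`) at a prime is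
adic formally smooth: for every prime `Q` of `Â₁` with `Q ∩ A₁ = 0`, `(Â₁)_Q` is adic formally
smooth over `A₁`. -/
theorem gff_powerSeries (Q : Ideal (AdicCompletion (maximalIdeal A₁) A₁)) [Q.IsPrime]
    (hQ : Q.comap (algebraMap A₁ (AdicCompletion (maximalIdeal A₁) A₁)) = ⊥) :
    CAlgX.IsAdicFormallySmooth A₁ (Localization.AtPrime Q)
      (maximalIdeal (Localization.AtPrime Q)) := by
  haveI : IsDomain (MvPowerSeries (Fin n) k) := NoZeroDivisors.to_isDomain _
  haveI : IsRegularLocalRing (MvPowerSeries (Fin n) k) :=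
    Groth.Agent.Lib.Helper1.ArtFunLib.isRegularLocalRing_mvPowerSeries k n
  haveI : IsRegularRing (MvPowerSeries (Fin n) k) :=
    Groth.Agent.Lib.Helper25.RegularSmooth.isRegularRing_of_isRegularLocalRing _
  haveI : IsRegularLocalRing A₁ := IsRegularLocalRing.of_ringEquiv
    (IsLocalization.algEquiv m.primeCompl (Localization.AtPrime m) A₁).toRingEquiv
  haveI : IsRegularRing A₁ :=
    Groth.Agent.Lib.Helper25.RegularSmooth.isRegularRing_of_isRegularLocalRing _
  haveI : IsRegularRing (AdicCompletion (maximalIdeal A₁) A₁) :=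
    Groth.Agent.Lib.Helper23.RegularCompletion.t5785main A₁ (maximalIdeal A₁)
  haveI : IsRegularLocalRing (Localization.AtPrime Q) := inferInstance
  have hinj : Function.Injective (algebraMap (MvPowerSeries (Fin n) k) A₁) :=
    IsLocalization.injective A₁ (Ideal.primeCompl_le_nonZeroDivisors m)
  haveI : Algebra.FormallyEtale (MvPowerSeries (Fin n) k) A₁ :=
    Algebra.FormallyEtale.of_isLocalization m.primeCompl
  haveI : Algebra.FormallyEtale (AdicCompletion (maximalIdeal A₁) A₁) (Localization.AtPrime Q) :=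
    Algebra.FormallyEtale.of_isLocalization Q.primeCompl
  have h1 : CAlgX.IsAdicFormallySmooth (MvPowerSeries (Fin n) k) (Localization.AtPrime Q)
      (maximalIdeal (Localization.AtPrime Q)) := by
    refine adic_of_powerSeries p n ?_ ?_
    · intro r hr
      rw [IsScalarTower.algebraMap_apply (MvPowerSeries (Fin n) k) A₁ (Localization.AtPrime Q),
        IsScalarTower.algebraMap_apply A₁ (AdicCompletion (maximalIdeal A₁) A₁)
          (Localization.AtPrime Q)]
      apply IsLocalization.map_units (M := Q.primeCompl) (Localization.AtPrime Q) ⟨_, _⟩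
      intro hmem
      have h2 : algebraMap (MvPowerSeries (Fin n) k) A₁ r ∈
          Q.comap (algebraMap A₁ (AdicCompletion (maximalIdeal A₁) A₁)) := hmem
      rw [hQ, Ideal.mem_bot] at h2
      exact hr (hinj (by rw [h2, map_zero]))
    · intro D₀
      obtain ⟨D₁, hD₁⟩ := exists_derivation_of_formallyEtale (B := A₁) D₀
      obtain ⟨D₂, hD₂⟩ := exists_derivation_completion D₁
      obtain ⟨D₃, hD₃⟩ := exists_derivation_of_formallyEtale (B := Localization.AtPrime Q) D₂
      refine ⟨D₃, fun f => ?_⟩
      rw [IsScalarTower.algebraMap_apply (MvPowerSeries (Fin n) k) A₁ (Localization.AtPrime Q),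
        IsScalarTower.algebraMap_apply A₁ (AdicCompletion (maximalIdeal A₁) A₁)
          (Localization.AtPrime Q), hD₃, hD₂, hD₁,
        IsScalarTower.algebraMap_apply (MvPowerSeries (Fin n) k) A₁ (Localization.AtPrime Q),
        IsScalarTower.algebraMap_apply A₁ (AdicCompletion (maximalIdeal A₁) A₁)
          (Localization.AtPrime Q)]
  exact Groth.Agent.Lib.Helper23.RegularHom.adic_of_formallyUnramified
    (MvPowerSeries (Fin n) k) A₁ (Localization.AtPrime Q) _ h1

end Y2

end Groth.Agent.Lib.Helper23.FormalFibreCharP
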