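import Mathlib
import Groth.Agent.Lib.Helper18.CplQuot
import Groth.Agent.Lib.Helper18.CplIso
import Groth.Agent.Lib.Helper16.RegularRingFacts
import Groth.Agent.Lib.Helper18.Exc2
import Groth.Agent.Lib.Helper23.RegularCompletion
import Groth.Agent.Lib.Helper25.RegularSmooth
import Groth.Agent.S9405
import Groth.Agent.Lib.Helper21.RegularLocal
import Groth.Agent.Lib.Helper23.FieldSmooth
import Groth.Agent.Lib.Helper23.FieldSep
import Groth.Agent.S2453

/-!
Generic formal fibres of finite domains over regular local rings of characteristic zero (EGA 0_IV 22.3.3-type statement, S4602): if A is regular local of char 0, B a finite domain over A, n a prime of B, C = B_n, q a prime of the completion of C with q ∩ C = 0, then the localization of the completion at q is regular (`main_regular`), hence adic formally smooth over Frac B (`t4602main`). Ingredients: `exists_equiv` (completion of B_n is the localization of B ⊗ Â at n(B ⊗ Â)), `isRegularLocalRing_tensor_atPrime` (B ⊗[A] R is regular at primes lying over 0 of B, for R regular, char 0),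 `core` (case n maximal over a local A), reduction lemmas (`isMaximal_n₁`, `isLocalization_atPrime_n₁`), `finite_frac` (helper23).
-/

set_option autoImplicit false
universe u


namespace Groth.Agent.Lib.Helper23.GenericFormalFibre


open IsLocalRing TensorProduct

section A

variable {A B : Type u} [CommRing A] [CommRing B] [IsLocalRing A] [IsNoetherianRing A]
  [Algebra A B] (n : Ideal B)

/-- elements of the completion are constants modulo the extended maximal ideal. -/
theorem exists_sub_mem_map (r : AdicCompletion (maximalIdeal A) A) :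
    ∃ a : A, r - algebraMap A _ a ∈ (maximalIdeal A).map
      (algebraMap A (AdicCompletion (maximalIdeal A) A)) := by
  obtain ⟨a, ha⟩ := Ideal.Quotient.mk_surjective (AdicCompletion.evalₐ (maximalIdeal A) 1 r)
  refine ⟨a, ?_⟩
  have h1 := (Groth.Agent.Lib.Helper18.CplQuot.mem_map_pow_iff_evalₐ (M := maximalIdeal A)
    (IsNoetherian.noetherian _) 1 (r - algebraMap A _ a))
  rw [pow_one] at h1
  rw [h1, map_sub, AdicCompletion.algebraMap_apply, AdicCompletion.evalₐ_of, ← ha,
    Algebra.algebraMap_self, RingHom.id_apply, sub_self]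

theorem tmul_mem_of_mem_map (hn : maximalIdeal A ≤ n.comap (algebraMap A B)) (b : B)
    (r' : AdicCompletion (maximalIdeal A) A)
    (hr' : r' ∈ (maximalIdeal A).map (algebraMap A (AdicCompletion (maximalIdeal A) A))) :
    b ⊗ₜ[A] r' ∈ n.map (algebraMap B (B ⊗[A] AdicCompletion (maximalIdeal A) A)) := by
  have hr'' : r' ∈ Submodule.span (AdicCompletion (maximalIdeal A) A)
      ((algebraMap A (AdicCompletion (maximalIdeal A) A)) '' (maximalIdeal A : Set A)) := hr'
  clear hr'
  induction hr'' using Submodule.span_induction with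
  | mem y hy =>
    obtain ⟨a', ha', rfl⟩ := hy
    have : b ⊗ₜ[A] (algebraMap A (AdicCompletion (maximalIdeal A) A) a') =
        algebraMap B (B ⊗[A] AdicCompletion (maximalIdeal A) A) (algebraMap A B a' * b) := by
      rw [Algebra.TensorProduct.algebraMap_apply, Algebra.algebraMap_self, RingHom.id_apply,
        Algebra.algebraMap_eq_smul_one a', ← TensorProduct.smul_tmul, Algebra.smul_def]
    rw [this]
    exact Ideal.mem_map_of_mem _ (Ideal.mul_mem_right _ _ (hn ha'))
  | zero => rw [TensorProduct.tmul_zero]; exact Ideal.zero_mem _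
  | add y z _ _ hy hz =>
    rw [TensorProduct.tmul_add]
    exact Ideal.add_mem _ hy hz
  | smul c y _ hy =>
    have : b ⊗ₜ[A] (c • y) = ((1 : B) ⊗ₜ[A] c) * (b ⊗ₜ[A] y) := by
      rw [Algebra.TensorProduct.tmul_mul_tmul, one_mul, smul_eq_mul]
    rw [this]
    exact Ideal.mul_mem_left _ _ hy


/-- in `B ⊗[A] Â`, everything is congruent to an element of `B` modulo `n`, for `n ⊇ 𝔪_A B`. -/
theorem exists_sub_mem (hn : maximalIdeal A ≤ n.comap (algebraMap A B))
    (x : B ⊗[A] AdicCompletion (maximalIdeal A) A) :
    ∃ b : B, x - b ⊗ₜ[A] (1 : AdicCompletion (maximalIdeal A) A) ∈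
      n.map (algebraMap B (B ⊗[A] AdicCompletion (maximalIdeal A) A)) := by
  induction x using TensorProduct.induction_on with
  | zero => exact ⟨0, by simp⟩
  | add x y hx hy =>
    obtain ⟨b, hb⟩ := hx
    obtain ⟨c, hc⟩ := hy
    refine ⟨b + c, ?_⟩
    have := Ideal.add_mem _ hb hc
    convert this using 1
    rw [TensorProduct.add_tmul]; ring
  | tmul b r =>
    obtain ⟨a, ha⟩ := exists_sub_mem_map r
    refine ⟨a • b, ?_⟩
    have h1 : b ⊗ₜ[A] r - (a • b) ⊗ₜ[A] (1 : AdicCompletion (maximalIdeal A) A) =
        b ⊗ₜ[A] (r - algebraMap A _ a) := by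
      rw [TensorProduct.tmul_sub, TensorProduct.smul_tmul, Algebra.algebraMap_eq_smul_one]
    rw [h1]
    exact tmul_mem_of_mem_map n hn b _ ha

end A



open IsLocalRing TensorProduct

section B

variable {A B : Type u} [CommRing A] [CommRing B] [IsLocalRing A] [IsNoetherianRing A]
  [Algebra A B] (n : Ideal B)

/-- the map `B ⊗[A] Â → B/n`. -/
noncomputable def Phi (hn : maximalIdeal A ≤ n.comap (algebraMap A B)) :
    B ⊗[A] AdicCompletion (maximalIdeal A) A →ₐ[A] B ⧸ n :=
  Algebra.TensorProduct.lift (Ideal.Quotient.mkₐ A n)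
    ((Ideal.quotientMapₐ n (Algebra.ofId A B) hn).comp (AdicCompletion.evalOneₐ (maximalIdeal A)))
    (fun _ _ => Commute.all _ _)

theorem Phi_tmul_one (hn : maximalIdeal A ≤ n.comap (algebraMap A B)) (b : B) :
    Phi n hn (b ⊗ₜ[A] 1) = Ideal.Quotient.mk n b := by
  rw [Phi, Algebra.TensorProduct.lift_tmul, map_one, mul_one]
  rfl

theorem ker_Phi (hn : maximalIdeal A ≤ n.comap (algebraMap A B)) :
    RingHom.ker (Phi n hn : B ⊗[A] AdicCompletion (maximalIdeal A) A →+* B ⧸ n) =
      n.map (algebraMap B (B ⊗[A] AdicCompletion (maximalIdeal A) A)) := by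
  apply le_antisymm
  · intro x hx
    obtain ⟨b, hb⟩ := exists_sub_mem n hn x
    have hle : n.map (algebraMap B (B ⊗[A] AdicCompletion (maximalIdeal A) A)) ≤
        RingHom.ker (Phi n hn : B ⊗[A] AdicCompletion (maximalIdeal A) A →+* B ⧸ n) := by
      rw [Ideal.map_le_iff_le_comap]
      intro c hc
      rw [Ideal.mem_comap, RingHom.mem_ker]
      show Phi n hn (c ⊗ₜ[A] 1) = 0
      rw [Phi_tmul_one, Ideal.Quotient.eq_zero_iff_mem]
      exact hc
    have h1 := hle hb
    rw [RingHom.mem_ker] at hx h1
    have h1' : Phi n hn (x - b ⊗ₜ[A] 1) = 0 := h1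
    have hx' : Phi n hn x = 0 := hx
    rw [map_sub, hx', zero_sub, neg_eq_zero, Phi_tmul_one, Ideal.Quotient.eq_zero_iff_mem] at h1'
    have h2 : b ⊗ₜ[A] (1 : AdicCompletion (maximalIdeal A) A) ∈
        n.map (algebraMap B (B ⊗[A] AdicCompletion (maximalIdeal A) A)) :=
      Ideal.mem_map_of_mem _ h1'
    have := Ideal.add_mem _ hb h2
    rwa [sub_add_cancel] at this
  · rw [Ideal.map_le_iff_le_comap]
    intro c hc
    rw [Ideal.mem_comap, RingHom.mem_ker]
    show Phi n hn (c ⊗ₜ[A] 1) = 0
    rw [Phi_tmul_one, Ideal.Quotient.eq_zero_iff_mem]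
    exact hc

theorem Phi_surjective (hn : maximalIdeal A ≤ n.comap (algebraMap A B)) :
    Function.Surjective (Phi n hn) := by
  intro y
  obtain ⟨b, rfl⟩ := Ideal.Quotient.mk_surjective y
  exact ⟨b ⊗ₜ[A] 1, Phi_tmul_one n hn b⟩

theorem isMaximal_map [hmax : n.IsMaximal] (hn : maximalIdeal A ≤ n.comap (algebraMap A B)) :
    (n.map (algebraMap B (B ⊗[A] AdicCompletion (maximalIdeal A) A))).IsMaximal := by
  rw [Ideal.isMaximal_iff]
  have hcomap : ∀ b : B, b ⊗ₜ[A] (1 : AdicCompletion (maximalIdeal A) A) ∈
      n.map (algebraMap B (B ⊗[A] AdicCompletion (maximalIdeal A) A)) → b ∈ n := by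
    intro b hb
    rw [← ker_Phi n hn, RingHom.mem_ker] at hb
    have hb' : Phi n hn (b ⊗ₜ[A] 1) = 0 := hb
    rwa [Phi_tmul_one, Ideal.Quotient.eq_zero_iff_mem] at hb'
  refine ⟨fun h1 => ?_, ?_⟩
  · have : (1 : B) ∈ n := hcomap 1 h1
    exact hmax.ne_top ((Ideal.eq_top_iff_one n).mpr this)
  · intro J x hIJ hx hxJ
    obtain ⟨b, hb⟩ := exists_sub_mem n hn x
    have hbn : b ∉ n := by
      intro hbn
      apply hx
      have h2 : b ⊗ₜ[A] (1 : AdicCompletion (maximalIdeal A) A) ∈
          n.map (algebraMap B (B ⊗[A] AdicCompletion (maximalIdeal A) A)) :=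
        Ideal.mem_map_of_mem _ hbn
      have := Ideal.add_mem _ hb h2
      rwa [sub_add_cancel] at this
    obtain ⟨c, i, hi, hci⟩ := hmax.exists_inv hbn
    -- 1 = c*b + i ; in S': 1 = (c⊗1)(b⊗1) + i⊗1
    have h3 : (1 : B ⊗[A] AdicCompletion (maximalIdeal A) A) =
        (c ⊗ₜ[A] 1) * x - (c ⊗ₜ[A] 1) * (x - b ⊗ₜ[A] 1) + i ⊗ₜ[A] 1 := by
      have : (c ⊗ₜ[A] (1 : AdicCompletion (maximalIdeal A) A)) * (b ⊗ₜ[A] 1) + i ⊗ₜ[A] 1 = 1 := by
        rw [Algebra.TensorProduct.tmul_mul_tmul, one_mul, ← TensorProduct.add_tmul, hci]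
        rfl
      rw [← this]; ring
    rw [h3]
    refine Ideal.add_mem _ (Ideal.sub_mem _ (Ideal.mul_mem_left _ _ hxJ)
      (Ideal.mul_mem_left _ _ (hIJ hb))) (hIJ ?_)
    exact Ideal.mem_map_of_mem _ hi

theorem comap_map (hn : maximalIdeal A ≤ n.comap (algebraMap A B)) :
    (n.map (algebraMap B (B ⊗[A] AdicCompletion (maximalIdeal A) A))).comap
      (algebraMap B (B ⊗[A] AdicCompletion (maximalIdeal A) A)) = n := by
  rw [← ker_Phi n hn]
  ext x
  rw [Ideal.mem_comap, RingHom.mem_ker]
  show Phi n hn (x ⊗ₜ[A] 1) = 0 ↔ _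
  rw [Phi_tmul_one, Ideal.Quotient.eq_zero_iff_mem]

end B



open IsLocalRing TensorProduct

section C

variable {B S C D : Type u} [CommRing B] [CommRing S] [CommRing C] [CommRing D]
  [Algebra B S] [Algebra B C] [Algebra S D]
  (n : Ideal B) [hnmax : n.IsMaximal] [IsLocalization.AtPrime C n] [IsLocalRing C]
  (N : Ideal S) [hNmax : N.IsMaximal] [IsLocalization.AtPrime D N] [IsLocalRing D]

/-- the canonical map `C = B_n → D = S_N`. -/
noncomputable def phi (hcomap : N.comap (algebraMap B S) = n) : C →+* D :=
  IsLocalization.lift (M := n.primeCompl) (g := (algebraMap S D).comp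
    (algebraMap B S)) (fun y => by
      rw [RingHom.comp_apply]
      apply IsLocalization.map_units (M := N.primeCompl) D
        ⟨algebraMap B S y, ?_⟩
      intro hy
      have : (y : B) ∈ N.comap (algebraMap B S) := hy
      rw [hcomap] at this
      exact y.2 this)

theorem phi_algebraMap (hcomap : N.comap (algebraMap B S) = n) (b : B) :
    phi (C := C) (D := D) n N hcomap (algebraMap B C b) =
      algebraMap S D (algebraMap B S b) := by
  rw [phi, IsLocalization.lift_eq, RingHom.comp_apply]

theorem map_phi (hN : N = n.map (algebraMap B S)) (hcomap : N.comap (algebraMap B S) = n) :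
    (maximalIdeal C).map (phi (C := C) (D := D) n N hcomap) = maximalIdeal D := by
  rw [← IsLocalization.AtPrime.map_eq_maximalIdeal n C, Ideal.map_map,
    ← IsLocalization.AtPrime.map_eq_maximalIdeal N D]
  have h1 : (phi (C := C) (D := D) n N hcomap).comp (algebraMap B C) =
      (algebraMap S D).comp (algebraMap B S) := by
    apply RingHom.ext
    intro b
    exact phi_algebraMap n N hcomap b
  rw [h1, ← Ideal.map_map, ← hN]

end C



open IsLocalRing TensorProduct

section D

variable {B S C D : Type u} [CommRing B] [CommRing S] [CommRing C] [CommRing D]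
  [Algebra B S] [Algebra B C] [Algebra S D]
  (n : Ideal B) [hnmax : n.IsMaximal] [IsLocalization.AtPrime C n] [IsLocalRing C]
  (N : Ideal S) [hNmax : N.IsMaximal] [IsLocalization.AtPrime D N] [IsLocalRing D]

theorem phi_res_surjective (hcomap : N.comap (algebraMap B S) = n)
    (hres : ∀ x : S, ∃ b : B, x - algebraMap B S b ∈ N) :
    Function.Surjective ((Ideal.Quotient.mk (maximalIdeal D)).comp
      (phi (C := C) (D := D) n N hcomap)) := by
  intro z
  obtain ⟨s, hs⟩ := (IsLocalization.AtPrime.equivQuotMaximalIdeal N D).surjective z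
  obtain ⟨s, rfl⟩ := Ideal.Quotient.mk_surjective s
  obtain ⟨b, hb⟩ := hres s
  refine ⟨algebraMap B C b, ?_⟩
  rw [RingHom.comp_apply, phi_algebraMap, ← hs, IsLocalization.AtPrime.equivQuotMaximalIdeal_apply_mk,
    eq_comm, Ideal.Quotient.eq, ← map_sub, ← IsLocalization.AtPrime.map_eq_maximalIdeal N D]
  exact Ideal.mem_map_of_mem _ hb

theorem flat_phi [Module.Flat B S] (hcomap : N.comap (algebraMap B S) = n) :
    (phi (C := C) (D := D) n N hcomap).Flat := by
  letI : Algebra C D := (phi (C := C) (D := D) n N hcomap).toAlgebra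
  letI : Algebra B D := ((algebraMap S D).comp (algebraMap B S)).toAlgebra
  haveI : IsScalarTower B S D := IsScalarTower.of_algebraMap_eq (fun _ => rfl)
  haveI : IsScalarTower B C D := IsScalarTower.of_algebraMap_eq (fun b =>
    (phi_algebraMap n N hcomap b).symm)
  haveI : Module.Flat S D := IsLocalization.flat D N.primeCompl
  haveI : Module.Flat B D := Module.Flat.trans B S D
  show Module.Flat C D
  exact (Module.flat_iff_of_isLocalization C n.primeCompl D).mpr inferInstance

end D



open IsLocalRing TensorProduct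

section E

variable {B S C D : Type u} [CommRing B] [CommRing S] [CommRing C] [CommRing D]
  [Algebra B S] [Algebra B C] [Algebra S D]
  (n : Ideal B) [hnmax : n.IsMaximal] [IsLocalization.AtPrime C n] [IsLocalRing C]
  (N : Ideal S) [hNmax : N.IsMaximal] [IsLocalization.AtPrime D N] [IsLocalRing D]

open Groth.Agent.Lib.Helper18.CplFlat in
theorem exists_equiv [Module.Flat B S] [IsNoetherianRing C] [IsNoetherianRing D]
    [IsAdicComplete (maximalIdeal D) D]
    (hN : N = n.map (algebraMap B S)) (hcomap : N.comap (algebraMap B S) = n)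
    (hres : ∀ x : S, ∃ b : B, x - algebraMap B S b ∈ N) :
    ∃ e : AdicCompletion (maximalIdeal C) C ≃+* D, ∀ b : B,
      e (algebraMap C (AdicCompletion (maximalIdeal C) C) (algebraMap B C b)) =
        algebraMap S D (algebraMap B S b) := by
  letI : Algebra C D := (phi (C := C) (D := D) n N hcomap).toAlgebra
  haveI : IsLocalHom (algebraMap C D) :=
    ((IsLocalRing.local_hom_TFAE (algebraMap C D)).out 0 2).mpr (map_phi n N hN hcomap).le
  haveI : Module.Flat C D := flat_phi n N hcomap
  have hbij := Groth.Agent.Lib.Helper18.CplIso.cplMap_bijective C D (map_phi n N hN hcomap)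
    (phi_res_surjective n N hcomap hres)
  let e1 : AdicCompletion (maximalIdeal C) C ≃+* AdicCompletion (maximalIdeal D) D :=
    RingEquiv.ofBijective (cplMap C D) hbij
  let e2 : D ≃ₐ[D] AdicCompletion (maximalIdeal D) D := AdicCompletion.ofAlgEquiv (maximalIdeal D)
  refine ⟨e1.trans e2.symm.toRingEquiv, fun b => ?_⟩
  have h1 : e1 (algebraMap C (AdicCompletion (maximalIdeal C) C) (algebraMap B C b)) =
      algebraMap D (AdicCompletion (maximalIdeal D) D) (algebraMap C D (algebraMap B C b)) :=
    cplMap_of C D (algebraMap B C b)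
  have h2 : algebraMap C D (algebraMap B C b) = algebraMap S D (algebraMap B S b) :=
    phi_algebraMap n N hcomap b
  rw [RingEquiv.trans_apply, h1, h2]
  show e2.symm _ = _
  rw [AdicCompletion.algebraMap_apply, Algebra.algebraMap_self, RingHom.id_apply]
  exact AdicCompletion.ofAlgEquiv_symm_of (maximalIdeal D) _

end E



open IsLocalRing TensorProduct

section F

variable {B S C D : Type u} [CommRing B] [IsDomain B] [CommRing S] [CommRing C] [CommRing D]
  [Algebra B S] [Algebra B C] [Algebra S D]
  (n : Ideal B) [hnp : n.IsPrime] [IsLocalization.AtPrime C n] [IsLocalRing C]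
  (N : Ideal S) [hNp : N.IsPrime] [IsLocalization.AtPrime D N]

include n N in
theorem isRegularLocalRing_of_equiv
    (e : AdicCompletion (maximalIdeal C) C ≃+* D)
    (he : ∀ b : B, e (algebraMap C (AdicCompletion (maximalIdeal C) C) (algebraMap B C b)) =
        algebraMap S D (algebraMap B S b))
    (q : Ideal (AdicCompletion (maximalIdeal C) C)) [q.IsPrime]
    (hq : q.comap (algebraMap C (AdicCompletion (maximalIdeal C) C)) = ⊥)
    (Hreg : ∀ (Q : Ideal S) [Q.IsPrime], Q.comap (algebraMap B S) = ⊥ →
      IsRegularLocalRing (Localization.AtPrime Q)) :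
    IsRegularLocalRing (Localization.AtPrime q) := by
  have hinjC : Function.Injective (algebraMap B C) :=
    IsLocalization.injective C (M := n.primeCompl) (Ideal.primeCompl_le_nonZeroDivisors n)
  set Q' : Ideal D := q.comap e.symm with hQ'
  haveI : Q'.IsPrime := Ideal.comap_isPrime _ q
  set Q : Ideal S := Q'.comap (algebraMap S D) with hQ
  haveI : Q.IsPrime := Ideal.comap_isPrime _ Q'
  have hQB : Q.comap (algebraMap B S) = ⊥ := by
    rw [eq_bot_iff]
    intro b hb
    have h1 : e.symm (algebraMap S D (algebraMap B S b)) ∈ q := hb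
    rw [← he, RingEquiv.symm_apply_apply] at h1
    have h2 : algebraMap B C b ∈ q.comap (algebraMap C (AdicCompletion (maximalIdeal C) C)) := h1
    rw [hq, Ideal.mem_bot] at h2
    rw [Ideal.mem_bot]
    exact hinjC (by rw [h2, map_zero])
  haveI h1 := Hreg Q hQB
  haveI h2 : IsLocalization.AtPrime (Localization.AtPrime Q') Q :=
    IsLocalization.isLocalization_isLocalization_atPrime_isLocalization N.primeCompl
      (Localization.AtPrime Q') Q'
  haveI h3 : IsRegularLocalRing (Localization.AtPrime Q') :=
    IsRegularLocalRing.of_ringEquiv (R := Localization.AtPrime Q)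
      (IsLocalization.algEquiv Q.primeCompl (Localization.AtPrime Q)
        (Localization.AtPrime Q')).toRingEquiv
  exact IsRegularLocalRing.of_ringEquiv (R := Localization.AtPrime Q')
    (IsLocalization.ringEquivOfRingEquiv
      (Localization.AtPrime Q') (Localization.AtPrime q) e.symm
      (e.symm.map_primeCompl_comap_eq q))

end F



open IsLocalRing TensorProduct

section G

theorem isRegularRing_of_isLocalization {R R' : Type u} [CommRing R] [CommRing R'] [Algebra R R']
    (M : Submonoid R) [IsLocalization M R'] [IsRegularRing R] : IsRegularRing R' := by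
  haveI := Groth.Agent.Lib.Helper16.PDR.isRegularRing_localization R M
  exact IsRegularRing.of_ringEquiv (IsLocalization.algEquiv M (Localization M) R').toRingEquiv

theorem isRegularLocalRing_atPrime_of_isLocalization {S T : Type u} [CommRing S] [CommRing T]
    [Algebra S T] (M : Submonoid S) [IsLocalization M T] [IsRegularRing T]
    (Q : Ideal S) [hQ : Q.IsPrime] (hdisj : Disjoint (M : Set S) (Q : Set S)) :
    IsRegularLocalRing (Localization.AtPrime Q) := by
  set p : Ideal T := Q.map (algebraMap S T) with hp
  haveI hpprime : p.IsPrime := IsLocalization.isPrime_of_isPrime_disjoint M T Q hQ hdisj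
  have hcomap : p.comap (algebraMap S T) = Q :=
    IsLocalization.comap_map_of_isPrime_disjoint M T hQ hdisj
  haveI h1 : IsLocalization.AtPrime (Localization.AtPrime p) (p.comap (algebraMap S T)) :=
    IsLocalization.isLocalization_isLocalization_atPrime_isLocalization M
      (Localization.AtPrime p) p
  have key : ∀ Q₁ : Ideal S, Q₁ = Q → ∀ [Q₁.IsPrime] [IsLocalization.AtPrime (Localization.AtPrime p) Q₁],
      IsRegularLocalRing (Localization.AtPrime Q) := by
    intro Q₁ hQ₁ _ _
    subst hQ₁
    exact IsRegularLocalRing.of_ringEquiv (R := Localization.AtPrime p)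
      (IsLocalization.algEquiv Q₁.primeCompl (Localization.AtPrime p) (Localization.AtPrime Q₁)).toRingEquiv
  haveI : (p.comap (algebraMap S T)).IsPrime := Ideal.comap_isPrime _ p
  exact key _ hcomap

end G



open IsLocalRing TensorProduct nonZeroDivisors

section H

variable {A R K L : Type u} [CommRing A] [IsDomain A] [CommRing R] [Algebra A R] [IsRegularRing R]
  [Field K] [CharZero K] [Algebra A K] [IsFractionRing A K] [Field L] [Algebra K L] [Algebra A L]
  [IsScalarTower A K L] [Module.Finite K L]

attribute [local instance] Algebra.TensorProduct.rightAlgebra in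
theorem isRegularRing_fraction_tensor : IsRegularRing (K ⊗[A] R) :=
  isRegularRing_of_isLocalization (R := R) (Algebra.algebraMapSubmonoid R A⁰)

theorem isRegularRing_tensor_tensor : IsRegularRing (L ⊗[K] (K ⊗[A] R)) := by
  haveI h1 : IsRegularRing (K ⊗[A] R) := isRegularRing_fraction_tensor
  haveI : IsNoetherianRing (K ⊗[A] R) := inferInstance
  exact Groth.Agent.Lib.Helper18.Exc.geomRegular_of_isRegularRing_of_perfectField K (K ⊗[A] R) h1 L
    inferInstance

variable (K) in
include K in
theorem isRegularRing_tensor : IsRegularRing (L ⊗[A] R) := by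
  haveI : IsRegularRing (L ⊗[K] (K ⊗[A] R)) := isRegularRing_tensor_tensor
  exact IsRegularRing.of_ringEquiv (Algebra.TensorProduct.cancelBaseChange A K L L R).toRingEquiv

end H



open IsLocalRing TensorProduct nonZeroDivisors

section I

variable {A B R K L : Type u} [CommRing A] [IsDomain A] [CommRing B] [IsDomain B] [Algebra A B]
  [CommRing R] [Algebra A R] [IsRegularRing R]
  [Field K] [CharZero K] [Algebra A K] [IsFractionRing A K] [Field L] [Algebra K L] [Algebra A L]
  [IsScalarTower A K L] [Module.Finite K L] [Algebra B L] [IsFractionRing B L] [IsScalarTower A B L]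

variable (K L) in
include K L in
attribute [local instance] Algebra.TensorProduct.rightAlgebra in
theorem isRegularLocalRing_tensor_atPrime (Q : Ideal (B ⊗[A] R)) [Q.IsPrime]
    (hQ : Q.comap (algebraMap B (B ⊗[A] R)) = ⊥) :
    IsRegularLocalRing (Localization.AtPrime Q) := by
  haveI h1 : IsRegularRing (L ⊗[A] R) := isRegularRing_tensor K
  haveI h2 : IsRegularRing (L ⊗[B] (B ⊗[A] R)) :=
    IsRegularRing.of_ringEquiv (Algebra.TensorProduct.cancelBaseChange A B L L R).symm.toRingEquiv
  haveI h3 : IsLocalization (Algebra.algebraMapSubmonoid (B ⊗[A] R) B⁰) (L ⊗[B] (B ⊗[A] R)) :=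
    inferInstance
  refine isRegularLocalRing_atPrime_of_isLocalization (T := L ⊗[B] (B ⊗[A] R))
    (Algebra.algebraMapSubmonoid (B ⊗[A] R) B⁰) Q ?_
  rw [Set.disjoint_left]
  rintro x ⟨b, hb, rfl⟩ hxQ
  have h4 : b ∈ Q.comap (algebraMap B (B ⊗[A] R)) := hxQ
  rw [hQ, Ideal.mem_bot] at h4
  exact nonZeroDivisors.ne_zero hb h4

end I



open IsLocalRing TensorProduct nonZeroDivisors

section J

theorem complete_of_finite (R S : Type u) [CommRing R] [IsLocalRing R] [IsNoetherianRing R]
    [IsAdicComplete (maximalIdeal R) R] [CommRing S] [Algebra R S] [Module.Finite R S]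
    (N : Ideal S) [hN : N.IsMaximal] :
    IsNoetherianRing (Localization.AtPrime N) ∧
      IsAdicComplete (maximalIdeal (Localization.AtPrime N)) (Localization.AtPrime N) :=
  (Groth.Agent.S9405.result R S).2.2 ⟨N, hN⟩

variable {A B C K L : Type u} [CommRing A] [IsRegularLocalRing A] [IsDomain A]
  [CommRing B] [IsDomain B] [Algebra A B] [Module.Finite A B]
  [Field K] [CharZero K] [Algebra A K] [IsFractionRing A K] [Field L] [Algebra K L] [Algebra A L]
  [IsScalarTower A K L] [Module.Finite K L] [Algebra B L] [IsFractionRing B L] [IsScalarTower A B L]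
  (n : Ideal B) [hnmax : n.IsMaximal]
  [CommRing C] [Algebra B C] [IsLocalization.AtPrime C n] [IsLocalRing C]

attribute [local instance] Algebra.TensorProduct.rightAlgebra in
theorem finite_right : Module.Finite (AdicCompletion (maximalIdeal A) A)
    (B ⊗[A] AdicCompletion (maximalIdeal A) A) :=
  Module.Finite.equiv
    (Algebra.TensorProduct.commRight A (AdicCompletion (maximalIdeal A) A) B).toLinearEquiv

variable (K L) in
include K L in
theorem core (hn : maximalIdeal A ≤ n.comap (algebraMap A B))
    (q : Ideal (AdicCompletion (maximalIdeal C) C)) [q.IsPrime]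
    (hq : q.comap (algebraMap C (AdicCompletion (maximalIdeal C) C)) = ⊥) :
    IsRegularLocalRing (Localization.AtPrime q) := by
  haveI : IsRegularRing A := Groth.Agent.Lib.Helper25.RegularSmooth.isRegularRing_of_isRegularLocalRing A
  haveI hRreg : IsRegularRing (AdicCompletion (maximalIdeal A) A) :=
    Groth.Agent.Lib.Helper23.RegularCompletion.t5785main A (maximalIdeal A)
  haveI : IsNoetherianRing (AdicCompletion (maximalIdeal A) A) := inferInstance
  haveI hNmax : (n.map (algebraMap B (B ⊗[A] AdicCompletion (maximalIdeal A) A))).IsMaximal :=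
    isMaximal_map n hn
  have hcomap := comap_map n hn
  have hres : ∀ x : B ⊗[A] AdicCompletion (maximalIdeal A) A, ∃ b : B,
      x - algebraMap B _ b ∈ n.map (algebraMap B (B ⊗[A] AdicCompletion (maximalIdeal A) A)) :=
    fun x => exists_sub_mem n hn x
  haveI : IsAdicComplete (maximalIdeal (AdicCompletion (maximalIdeal A) A))
      (AdicCompletion (maximalIdeal A) A) :=
    inferInstance
  obtain ⟨hDnoeth, hDcomp⟩ :=
    letI := Algebra.TensorProduct.rightAlgebra (R := A) (A := B)
      (B := AdicCompletion (maximalIdeal A) A)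
    haveI := finite_right (A := A) (B := B)
    complete_of_finite (AdicCompletion (maximalIdeal A) A)
      (B ⊗[A] AdicCompletion (maximalIdeal A) A)
      (n.map (algebraMap B (B ⊗[A] AdicCompletion (maximalIdeal A) A)))
  haveI : IsNoetherianRing B := IsNoetherianRing.of_finite A B
  haveI : IsNoetherianRing C := IsLocalization.isNoetherianRing n.primeCompl C inferInstance
  obtain ⟨e, he⟩ := exists_equiv (C := C) (D := Localization.AtPrime
    (n.map (algebraMap B (B ⊗[A] AdicCompletion (maximalIdeal A) A)))) n
    (n.map (algebraMap B (B ⊗[A] AdicCompletion (maximalIdeal A) A))) rfl hcomap hres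
  exact isRegularLocalRing_of_equiv n
    (n.map (algebraMap B (B ⊗[A] AdicCompletion (maximalIdeal A) A))) e he q hq
    (fun Q _ hQ => isRegularLocalRing_tensor_atPrime K L Q hQ)

end J



open IsLocalRing TensorProduct nonZeroDivisors

section K

variable {A B A₁ B₁ : Type u} [CommRing A] [IsDomain A] [CommRing B] [IsDomain B] [Algebra A B]
  (hinj : Function.Injective (algebraMap A B)) (n : Ideal B) [hnp : n.IsPrime]
  (m : Ideal A) [hmp : m.IsPrime] (hm : n.comap (algebraMap A B) = m)
  [CommRing A₁] [Algebra A A₁] [IsLocalization.AtPrime A₁ m]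
  [CommRing B₁] [Algebra B B₁] [IsLocalization (Algebra.algebraMapSubmonoid B m.primeCompl) B₁]
  [Algebra A₁ B₁] [Algebra A B₁] [IsScalarTower A A₁ B₁] [IsScalarTower A B B₁]

include hinj in
theorem submonoid_le : Algebra.algebraMapSubmonoid B m.primeCompl ≤ B⁰ := by
  rintro _ ⟨a, ha, rfl⟩
  apply mem_nonZeroDivisors_of_ne_zero
  intro h0
  rw [← map_zero (algebraMap A B)] at h0
  have := hinj h0
  subst this
  exact ha (Ideal.zero_mem m)

include hinj m in
theorem isDomain_B₁ : IsDomain B₁ :=
  IsLocalization.isDomain_of_le_nonZeroDivisors B₁ (submonoid_le hinj m)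

include hinj m in
theorem injective_BB₁ : Function.Injective (algebraMap B B₁) :=
  IsLocalization.injective B₁ (submonoid_le hinj m)

include hinj m in
theorem injective_A₁B₁ : Function.Injective (algebraMap A₁ B₁) := by
  rw [injective_iff_map_eq_zero]
  intro x hx
  obtain ⟨a, s, rfl⟩ := IsLocalization.exists_mk'_eq m.primeCompl x
  have h1 : algebraMap A₁ B₁ (algebraMap A A₁ a) = 0 := by
    have := IsLocalization.mk'_spec A₁ a s
    rw [← this, map_mul, hx, zero_mul]
  rw [← IsScalarTower.algebraMap_apply, IsScalarTower.algebraMap_apply A B B₁] at h1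
  have h2 : algebraMap A B a = 0 := injective_BB₁ (B₁ := B₁) hinj m (by rw [h1, map_zero])
  have h3 : a = 0 := hinj (by rw [h2, map_zero])
  rw [h3, IsLocalization.mk'_zero]

include hm in
theorem disjoint_n : Disjoint (Algebra.algebraMapSubmonoid B m.primeCompl : Set B) (n : Set B) := by
  rw [Set.disjoint_left]
  rintro _ ⟨a, ha, rfl⟩ han
  apply ha
  rw [← hm]
  exact han

include hm in
theorem isPrime_n₁ : (n.map (algebraMap B B₁)).IsPrime :=
  IsLocalization.isPrime_of_isPrime_disjoint _ B₁ n hnp (disjoint_n n m hm)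

include hm in
theorem comap_n₁ : (n.map (algebraMap B B₁)).comap (algebraMap B B₁) = n :=
  IsLocalization.comap_map_of_isPrime_disjoint _ B₁ hnp (disjoint_n n m hm)

include hm in
theorem le_comap_n₁ [IsLocalRing A₁] :
    maximalIdeal A₁ ≤ (n.map (algebraMap B B₁)).comap (algebraMap A₁ B₁) := by
  rw [← IsLocalization.AtPrime.map_eq_maximalIdeal m A₁, Ideal.map_le_iff_le_comap]
  intro a ha
  rw [Ideal.mem_comap, Ideal.mem_comap, ← IsScalarTower.algebraMap_apply,
    IsScalarTower.algebraMap_apply A B B₁]
  apply Ideal.mem_map_of_mem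
  rw [← hm] at ha
  exact ha

include hm in
theorem isMaximal_n₁ [IsLocalRing A₁] [Algebra.IsIntegral A₁ B₁] :
    (n.map (algebraMap B B₁)).IsMaximal := by
  haveI := isPrime_n₁ (B₁ := B₁) n m hm
  apply Ideal.isMaximal_of_isIntegral_of_isMaximal_comap (R := A₁)
  have h1 := le_comap_n₁ (A₁ := A₁) (B₁ := B₁) n m hm
  have h2 : (n.map (algebraMap B B₁)).comap (algebraMap A₁ B₁) ≠ ⊤ :=
    Ideal.IsPrime.ne_top inferInstance
  rw [← (maximalIdeal.isMaximal A₁).eq_of_le h2 h1]
  infer_instance

end K



open IsLocalRing TensorProduct nonZeroDivisors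

section L

variable {A B B₁ C : Type u} [CommRing A] [CommRing B] [Algebra A B]
  (n : Ideal B) [hnp : n.IsPrime]
  (m : Ideal A) [hmp : m.IsPrime] (hm : n.comap (algebraMap A B) = m)
  [CommRing B₁] [Algebra B B₁] [IsLocalization (Algebra.algebraMapSubmonoid B m.primeCompl) B₁]
  [CommRing C] [Algebra B C] [IsLocalization.AtPrime C n]

include hm in
theorem submonoid_le_primeCompl : Algebra.algebraMapSubmonoid B m.primeCompl ≤ n.primeCompl := by
  rintro _ ⟨a, ha, rfl⟩ han
  apply ha
  rw [← hm]
  exact han

/-- the map `B₁ → C`. -/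
noncomputable def psi : B₁ →+* C :=
  IsLocalization.lift (M := Algebra.algebraMapSubmonoid B m.primeCompl) (g := algebraMap B C)
    (fun y => IsLocalization.map_units (M := n.primeCompl) C
      ⟨y.1, submonoid_le_primeCompl n m hm y.2⟩)

theorem psi_algebraMap (b : B) :
    psi (B₁ := B₁) (C := C) n m hm (algebraMap B B₁ b) = algebraMap B C b := by
  rw [psi, IsLocalization.lift_eq]

include hm in
theorem isLocalization_atPrime_n₁ [Algebra B₁ C] [IsScalarTower B B₁ C]
    [hn₁ : (n.map (algebraMap B B₁)).IsPrime] :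
    IsLocalization.AtPrime C (n.map (algebraMap B B₁)) := by
  have hdisj : Disjoint (Algebra.algebraMapSubmonoid B m.primeCompl : Set B) (n : Set B) := by
    rw [Set.disjoint_left]
    intro x hx hxn
    exact submonoid_le_primeCompl n m hm hx hxn
  have hcomap : (n.map (algebraMap B B₁)).comap (algebraMap B B₁) = n :=
    IsLocalization.comap_map_of_isPrime_disjoint _ B₁ hnp hdisj
  haveI h1 : IsLocalization (n.primeCompl.map (algebraMap B B₁)) C :=
    IsLocalization.isLocalization_of_submonoid_le B₁ C
      (Algebra.algebraMapSubmonoid B m.primeCompl) n.primeCompl (submonoid_le_primeCompl n m hm)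
  refine IsLocalization.of_le (M := n.primeCompl.map (algebraMap B B₁)) (S := C) _ ?_ ?_
  · rintro _ ⟨y, hy, rfl⟩ hyn
    apply hy
    have : y ∈ (n.map (algebraMap B B₁)).comap (algebraMap B B₁) := hyn
    rwa [hcomap] at this
  · intro r hr
    obtain ⟨b, s, rfl⟩ := IsLocalization.exists_mk'_eq (Algebra.algebraMapSubmonoid B m.primeCompl) r
    have hb : b ∉ n := by
      intro hbn
      apply hr
      have h2 : algebraMap B B₁ b ∈ n.map (algebraMap B B₁) := Ideal.mem_map_of_mem _ hbn
      have h3 := IsLocalization.mk'_spec B₁ b s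
      have h4 : IsUnit (algebraMap B B₁ s) := IsLocalization.map_units B₁ s
      have h5 : IsLocalization.mk' B₁ b s * algebraMap B B₁ s ∈ n.map (algebraMap B B₁) := by
        rw [h3]; exact h2
      rcases hn₁.mem_or_mem h5 with h6 | h6
      · exact h6
      · exact absurd (Ideal.eq_top_of_isUnit_mem _ h6 h4) hn₁.ne_top
    have h3 := IsLocalization.mk'_spec B₁ b s
    have h4 : IsUnit (algebraMap B₁ C (algebraMap B B₁ b)) := by
      rw [← IsScalarTower.algebraMap_apply]
      exact IsLocalization.map_units (M := n.primeCompl) C ⟨b, hb⟩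
    rw [← h3, map_mul] at h4
    exact isUnit_of_mul_isUnit_left h4

end L



open IsLocalRing TensorProduct nonZeroDivisors

section M

theorem finite_frac {A B K L : Type u} [CommRing A] [IsDomain A] [CommRing B] [IsDomain B]
    [Algebra A B] [Module.Finite A B] (hinj : Function.Injective (algebraMap A B))
    [Field K] [Algebra A K] [IsFractionRing A K] [Field L] [Algebra B L] [IsFractionRing B L]
    [Algebra K L] [Algebra A L] [IsScalarTower A K L] [IsScalarTower A B L] :
    Module.Finite K L := by
  haveI : FaithfulSMul A B := (faithfulSMul_iff_algebraMap_injective A B).mpr hinj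
  haveI : Algebra.IsAlgebraic A B := inferInstance
  haveI : IsLocalization (Algebra.algebraMapSubmonoid B A⁰) L := inferInstance
  exact Module.Finite.of_isLocalization A B A⁰

attribute [local instance] FractionRing.liftAlgebra in
theorem main_regular {A B A₁ B₁ C : Type u} [CommRing A] [IsRegularLocalRing A] [CharZero A]
    [CommRing B] [IsDomain B] [Algebra A B] [Module.Finite A B]
    (hinj : Function.Injective (algebraMap A B)) (n : Ideal B) [n.IsPrime]
    (m : Ideal A) [m.IsPrime] (hm : n.comap (algebraMap A B) = m)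
    [CommRing A₁] [Algebra A A₁] [IsLocalization.AtPrime A₁ m]
    [CommRing B₁] [Algebra B B₁] [IsLocalization (Algebra.algebraMapSubmonoid B m.primeCompl) B₁]
    [Algebra A₁ B₁] [Algebra A B₁] [IsScalarTower A A₁ B₁] [IsScalarTower A B B₁]
    [CommRing C] [Algebra B C] [IsLocalization.AtPrime C n] [IsLocalRing C]
    (q : Ideal (AdicCompletion (maximalIdeal C) C)) [q.IsPrime]
    (hq : q.comap (algebraMap C (AdicCompletion (maximalIdeal C) C)) = ⊥) :
    IsRegularLocalRing (Localization.AtPrime q) := by
  haveI : IsDomain A := Groth.Agent.Lib.Helper21.isDomain_of_isRegularLocalRing A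
  haveI : IsRegularLocalRing (Localization.AtPrime m) :=
    Groth.Agent.Lib.Helper18.SerreReg.isRegularLocalRing_localization_atPrime A m
  haveI : IsRegularLocalRing A₁ := IsRegularLocalRing.of_ringEquiv
    (IsLocalization.algEquiv m.primeCompl (Localization.AtPrime m) A₁).toRingEquiv
  haveI : IsDomain A₁ := Groth.Agent.Lib.Helper21.isDomain_of_isRegularLocalRing A₁
  haveI : IsDomain B₁ := isDomain_B₁ hinj m
  haveI : Module.Finite A₁ B₁ := Module.Finite.of_isLocalization A B m.primeCompl
  have hinj₁ : Function.Injective (algebraMap A₁ B₁) := injective_A₁B₁ hinj m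
  haveI : FaithfulSMul A₁ B₁ := (faithfulSMul_iff_algebraMap_injective A₁ B₁).mpr hinj₁
  haveI : Module.Finite (FractionRing A₁) (FractionRing B₁) := finite_frac hinj₁
  have hinjA : Function.Injective (algebraMap A A₁) :=
    IsLocalization.injective A₁ (Ideal.primeCompl_le_nonZeroDivisors m)
  haveI : CharZero (FractionRing A₁) :=
    charZero_of_injective_ringHom (f := (algebraMap A₁ (FractionRing A₁)).comp (algebraMap A A₁))
      ((IsFractionRing.injective A₁ (FractionRing A₁)).comp hinjA)
  haveI hn₁p : (n.map (algebraMap B B₁)).IsPrime := isPrime_n₁ n m hm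
  haveI hn₁max : (n.map (algebraMap B B₁)).IsMaximal := isMaximal_n₁ (A₁ := A₁) n m hm
  letI : Algebra B₁ C := (psi (B₁ := B₁) (C := C) n m hm).toAlgebra
  haveI : IsScalarTower B B₁ C := IsScalarTower.of_algebraMap_eq
    (fun b => (psi_algebraMap n m hm b).symm)
  haveI : IsLocalization.AtPrime C (n.map (algebraMap B B₁)) := isLocalization_atPrime_n₁ n m hm
  exact core (FractionRing A₁) (FractionRing B₁) (n.map (algebraMap B B₁))
    (le_comap_n₁ (A₁ := A₁) (B₁ := B₁) n m hm) q hq

end M



open IsLocalRing TensorProduct nonZeroDivisors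

theorem t4602main
    {A B : Type u} [CommRing A] [IsRegularLocalRing A] [CharZero A] [CommRing B] [IsDomain B] [Algebra A B]
    [Module.Finite A B] (hinj : Function.Injective (algebraMap A B)) (n : Ideal B) [n.IsPrime]
    (q : Ideal (AdicCompletion (maximalIdeal (Localization.AtPrime n)) (Localization.AtPrime n))) [q.IsPrime]
    (hq : q.comap (algebraMap (Localization.AtPrime n)
      (AdicCompletion (maximalIdeal (Localization.AtPrime n)) (Localization.AtPrime n))) = ⊥)
    [Algebra (FractionRing B) (Localization.AtPrime q)] :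
    CAlgX.IsAdicFormallySmooth (FractionRing B) (Localization.AtPrime q) (maximalIdeal (Localization.AtPrime q)) := by
  have hreg : IsRegularLocalRing (Localization.AtPrime q) :=
    main_regular (A₁ := Localization.AtPrime (n.comap (algebraMap A B)))
      (B₁ := Localization (Algebra.algebraMapSubmonoid B (n.comap (algebraMap A B)).primeCompl))
      (C := Localization.AtPrime n) hinj n (n.comap (algebraMap A B)) rfl q hq
  haveI : CharZero B := charZero_of_injective_algebraMap hinj
  haveI : CharZero (FractionRing B) :=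
    charZero_of_injective_algebraMap (IsFractionRing.injective B (FractionRing B))
  haveI : Algebra.FormallySmooth (FractionRing B) (ResidueField (Localization.AtPrime q)) :=
    Groth.Agent.Lib.Helper23.FieldSmooth.formallySmooth_of_perfectField _ _
  haveI : Algebra.IsGeometricallyReduced (FractionRing B) (ResidueField (Localization.AtPrime q)) :=
    (Groth.Agent.Lib.Helper23.FieldSep.formallySmooth_iff_isGeometricallyReduced _ _).mp inferInstance
  haveI : IsNoetherianRing (Localization.AtPrime q) := inferInstance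
  exact ((Groth.Agent.S2453.result (k := FractionRing B) (A := Localization.AtPrime q)).out 0 3).mpr hreg

end Groth.Agent.Lib.Helper23.GenericFormalFibre
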