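import Mathlib
import Groth.Agent.Lib.Helper23.FormalFibreCharP3
import Groth.Agent.Lib.Helper23.GenericFormalFibre
import Groth.Agent.Lib.Helper23.GeomRegular2
import Groth.Agent.Lib.Helper21.AdicNoetherian
import Groth.Agent.Lib.Helper23.RegularHom
import Groth.Agent.Lib.Helper18.CST3
import Groth.Agent.Lib.Helper23.CohenRing

/-!
Generic formal fibres, part 4: transfer of adic formal smoothness along ring isomorphisms (adic_of_ringEquiv, adic_of_equiv), through finite extensions (core_adic, main_adic), and the main theorem t4583main (EGA 0_IV 22.3.3 / 7.4.4-type statement: for a complete Noetherian local domain A, a prime p and a prime q of the completion of A_p with q cap A_p = 0, the localization at q is adic formally smooth over Frac A).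
-/

set_option autoImplicit false
universe u


namespace Groth.Agent.Lib.Helper23.FormalFibreCharP


open EGA41 IsLocalRing

section D1

/-- transfer of adic formal smoothness along a ring isomorphism compatible with the base. -/
theorem adic_of_ringEquiv {R E E' : Type u} [CommRing R] [CommRing E] [CommRing E'] [Algebra R E]
    [Algebra R E'] (e : E ≃+* E') (he : ∀ r, e (algebraMap R E r) = algebraMap R E' r)
    (I : Ideal E) (I' : Ideal E') (hI : I ≤ I'.comap (e : E →+* E'))
    (h : CAlgX.IsAdicFormallySmooth R E I) : CAlgX.IsAdicFormallySmooth R E' I' := by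
  intro C _ _ N hN ψ ⟨k, hk⟩
  let e' : E ≃ₐ[R] E' := AlgEquiv.ofRingEquiv (f := e) he
  have hpow : ∀ x ∈ I ^ k, e x ∈ I' ^ k := by
    intro x hx
    have h1 : I ^ k ≤ (I' ^ k).comap (e : E →+* E') := by
      refine le_trans (Ideal.pow_right_mono hI k) ?_
      exact Ideal.le_comap_pow _ k
    exact h1 hx
  obtain ⟨χ, hχ⟩ := h C N hN (ψ.comp e'.toAlgHom) ⟨k, fun x hx => hk _ (hpow x hx)⟩
  refine ⟨χ.comp e'.symm.toAlgHom, ?_⟩
  ext x
  have h2 : (Ideal.Quotient.mkₐ R N) (χ (e'.symm x)) = ψ (e' (e'.symm x)) :=
    AlgHom.congr_fun hχ (e'.symm x)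
  rw [AlgEquiv.apply_symm_apply] at h2
  exact h2

theorem maximalIdeal_le_comap_ringEquiv {E E' : Type u} [CommRing E] [CommRing E'] [IsLocalRing E]
    [IsLocalRing E'] (e : E ≃+* E') : maximalIdeal E ≤ (maximalIdeal E').comap (e : E →+* E') := by
  intro x hx
  rw [Ideal.mem_comap, mem_maximalIdeal, mem_nonunits_iff]
  rw [mem_maximalIdeal, mem_nonunits_iff] at hx
  intro hu
  apply hx
  have := hu.map e.symm
  simpa using this

/-- adic formal smoothness only depends on the structure map. -/
theorem adic_congr_algebra {R E : Type u} [CommRing R] [CommRing E] (i₁ i₂ : Algebra R E)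
    (h : ∀ r, @algebraMap R E _ _ i₁ r = @algebraMap R E _ _ i₂ r) (I : Ideal E)
    (h1 : @CAlgX.IsAdicFormallySmooth R _ E _ i₁ I) : @CAlgX.IsAdicFormallySmooth R _ E _ i₂ I := by
  have : i₁ = i₂ := Algebra.algebra_ext _ _ h
  subst this
  exact h1

end D1



open EGA41 IsLocalRing

section D2

variable {B S C D : Type u} [CommRing B] [IsDomain B] [CommRing S] [CommRing C] [CommRing D]
  [Algebra B S] [Algebra B C] [Algebra S D]
  (n : Ideal B) [hnp : n.IsPrime] [IsLocalization.AtPrime C n] [IsLocalRing C]
  (N : Ideal S) [hNp : N.IsPrime] [IsLocalization.AtPrime D N]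

include n N in
theorem adic_of_equiv
    (e : AdicCompletion (maximalIdeal C) C ≃+* D)
    (he : ∀ b : B, e (algebraMap C (AdicCompletion (maximalIdeal C) C) (algebraMap B C b)) =
        algebraMap S D (algebraMap B S b))
    (q : Ideal (AdicCompletion (maximalIdeal C) C)) [q.IsPrime]
    (hq : q.comap (algebraMap C (AdicCompletion (maximalIdeal C) C)) = ⊥)
    (Hsm : ∀ (Q : Ideal S) [Q.IsPrime], Q.comap (algebraMap B S) = ⊥ →
      CAlgX.IsAdicFormallySmooth B (Localization.AtPrime Q)
        (maximalIdeal (Localization.AtPrime Q))) :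
    CAlgX.IsAdicFormallySmooth B (Localization.AtPrime q)
      (maximalIdeal (Localization.AtPrime q)) := by
  have hinjC : Function.Injective (algebraMap B C) :=
    IsLocalization.injective C (M := n.primeCompl) (Ideal.primeCompl_le_nonZeroDivisors n)
  set Q' : Ideal D := q.comap e.symm with hQ'
  haveI : Q'.IsPrime := Ideal.comap_isPrime _ q
  set Q : Ideal S := Q'.comap (algebraMap S D) with hQ
  haveI : Q.IsPrime := Ideal.comap_isPrime _ Q'
  have hQB : Q.comap (algebraMap B S) = ⊥ := by
    rw [eq_bot_iff]
    intro b hb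
    have h1 : e.symm (algebraMap S D (algebraMap B S b)) ∈ q := hb
    rw [← he, RingEquiv.symm_apply_apply] at h1
    have h2 : algebraMap B C b ∈ q.comap (algebraMap C (AdicCompletion (maximalIdeal C) C)) := h1
    rw [hq, Ideal.mem_bot] at h2
    rw [Ideal.mem_bot]
    exact hinjC (by rw [h2, map_zero])
  have h1 := Hsm Q hQB
  haveI h2 : IsLocalization.AtPrime (Localization.AtPrime Q') Q :=
    IsLocalization.isLocalization_isLocalization_atPrime_isLocalization N.primeCompl
      (Localization.AtPrime Q') Q'
  let e₁ : Localization.AtPrime Q ≃ₐ[S] Localization.AtPrime Q' :=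
    IsLocalization.algEquiv Q.primeCompl (Localization.AtPrime Q) (Localization.AtPrime Q')
  let e₂ : Localization.AtPrime Q' ≃+* Localization.AtPrime q :=
    IsLocalization.ringEquivOfRingEquiv
      (Localization.AtPrime Q') (Localization.AtPrime q) e.symm
      (e.symm.map_primeCompl_comap_eq q)
  refine adic_of_ringEquiv (e₁.toRingEquiv.trans e₂) (fun b => ?_) _ _
    (maximalIdeal_le_comap_ringEquiv _) h1
  rw [RingEquiv.trans_apply]
  rw [IsScalarTower.algebraMap_apply B S (Localization.AtPrime Q)]
  have h3 : e₁.toRingEquiv (algebraMap S (Localization.AtPrime Q) (algebraMap B S b)) =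
      algebraMap S (Localization.AtPrime Q') (algebraMap B S b) := e₁.commutes _
  rw [h3, IsScalarTower.algebraMap_apply S D (Localization.AtPrime Q')]
  have h4 : e₂ (algebraMap D (Localization.AtPrime Q') (algebraMap S D (algebraMap B S b))) =
      algebraMap _ (Localization.AtPrime q) (e.symm (algebraMap S D (algebraMap B S b))) :=
    IsLocalization.ringEquivOfRingEquiv_eq _ _
  rw [h4, ← he, RingEquiv.symm_apply_apply]
  rw [IsScalarTower.algebraMap_apply B C (Localization.AtPrime q),
    IsScalarTower.algebraMap_apply C (AdicCompletion (maximalIdeal C) C) (Localization.AtPrime q)]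

end D2



open EGA41 IsLocalRing TensorProduct Groth.Agent.Lib.Helper23.GenericFormalFibre

section D3

variable {A B C : Type u} [CommRing A] [IsLocalRing A] [IsNoetherianRing A]
  [CommRing B] [IsDomain B] [Algebra A B] [Module.Finite A B]
  (n : Ideal B) [hnmax : n.IsMaximal]
  [CommRing C] [Algebra B C] [IsLocalization.AtPrime C n] [IsLocalRing C]

theorem core_adic (hinj : Function.Injective (algebraMap A B))
    (hn : maximalIdeal A ≤ n.comap (algebraMap A B))
    (Hgff : ∀ (Q₀ : Ideal (AdicCompletion (maximalIdeal A) A)) [Q₀.IsPrime],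
      Q₀.comap (algebraMap A (AdicCompletion (maximalIdeal A) A)) = ⊥ →
      CAlgX.IsAdicFormallySmooth A (Localization.AtPrime Q₀)
        (maximalIdeal (Localization.AtPrime Q₀)))
    (q : Ideal (AdicCompletion (maximalIdeal C) C)) [q.IsPrime]
    (hq : q.comap (algebraMap C (AdicCompletion (maximalIdeal C) C)) = ⊥) :
    CAlgX.IsAdicFormallySmooth B (Localization.AtPrime q)
      (maximalIdeal (Localization.AtPrime q)) := by
  haveI : IsNoetherianRing (AdicCompletion (maximalIdeal A) A) :=
    Groth.Agent.Lib.Helper21.isNoetherianRing_adicCompletion_of_fg (maximalIdeal A)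
      (IsNoetherian.noetherian _)
  haveI hNmax : (n.map (algebraMap B (B ⊗[A] AdicCompletion (maximalIdeal A) A))).IsMaximal :=
    isMaximal_map n hn
  have hcomap := comap_map n hn
  have hres : ∀ x : B ⊗[A] AdicCompletion (maximalIdeal A) A, ∃ b : B,
      x - algebraMap B _ b ∈ n.map (algebraMap B (B ⊗[A] AdicCompletion (maximalIdeal A) A)) :=
    fun x => exists_sub_mem n hn x
  haveI : IsAdicComplete (maximalIdeal (AdicCompletion (maximalIdeal A) A))
      (AdicCompletion (maximalIdeal A) A) :=
    inferInstance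
  obtain ⟨hDnoeth, hDcomp⟩ :=
    letI := Algebra.TensorProduct.rightAlgebra (R := A) (A := B)
      (B := AdicCompletion (maximalIdeal A) A)
    haveI : Module.Finite (AdicCompletion (maximalIdeal A) A)
        (B ⊗[A] AdicCompletion (maximalIdeal A) A) :=
      Module.Finite.equiv
        (Algebra.TensorProduct.commRight A (AdicCompletion (maximalIdeal A) A) B).toLinearEquiv
    complete_of_finite (AdicCompletion (maximalIdeal A) A)
      (B ⊗[A] AdicCompletion (maximalIdeal A) A)
      (n.map (algebraMap B (B ⊗[A] AdicCompletion (maximalIdeal A) A)))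
  haveI : IsNoetherianRing B := IsNoetherianRing.of_finite A B
  haveI : IsNoetherianRing C := IsLocalization.isNoetherianRing n.primeCompl C inferInstance
  obtain ⟨e, he⟩ := exists_equiv (C := C) (D := Localization.AtPrime
    (n.map (algebraMap B (B ⊗[A] AdicCompletion (maximalIdeal A) A)))) n
    (n.map (algebraMap B (B ⊗[A] AdicCompletion (maximalIdeal A) A))) rfl hcomap hres
  refine adic_of_equiv n
    (n.map (algebraMap B (B ⊗[A] AdicCompletion (maximalIdeal A) A))) e he q hq ?_
  intro Q _ hQ
  set Q₀ : Ideal (AdicCompletion (maximalIdeal A) A) :=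
    Q.comap ((Algebra.TensorProduct.includeRight :
      AdicCompletion (maximalIdeal A) A →ₐ[A] B ⊗[A] AdicCompletion (maximalIdeal A) A) :
      AdicCompletion (maximalIdeal A) A →+* B ⊗[A] AdicCompletion (maximalIdeal A) A) with hQ₀
  haveI : Q₀.IsPrime := Ideal.comap_isPrime _ Q
  have hQ₀A : Q₀.comap (algebraMap A (AdicCompletion (maximalIdeal A) A)) = ⊥ := by
    rw [eq_bot_iff]
    intro a ha
    have h1 : (1 : B) ⊗ₜ[A] (algebraMap A (AdicCompletion (maximalIdeal A) A) a) ∈ Q := ha
    have h2 : (1 : B) ⊗ₜ[A] (algebraMap A (AdicCompletion (maximalIdeal A) A) a) =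
        algebraMap B (B ⊗[A] AdicCompletion (maximalIdeal A) A) (algebraMap A B a) := by
      rw [Algebra.TensorProduct.algebraMap_apply, Algebra.algebraMap_self, RingHom.id_apply,
        Algebra.algebraMap_eq_smul_one, Algebra.algebraMap_eq_smul_one, TensorProduct.tmul_smul,
        TensorProduct.smul_tmul']
    rw [h2] at h1
    have h3 : algebraMap A B a ∈ Q.comap (algebraMap B _) := h1
    rw [hQ, Ideal.mem_bot] at h3
    rw [Ideal.mem_bot]
    exact hinj (by rw [h3, map_zero])
  exact Groth.Agent.Lib.Helper23.GeomRegular2.adic_tensor_atPrime (k := A)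
    (S := AdicCompletion (maximalIdeal A) A) (K := B) Q Q₀ rfl (Hgff Q₀ hQ₀A)

end D3



open EGA41 IsLocalRing TensorProduct Groth.Agent.Lib.Helper23.GenericFormalFibre

section D4

theorem main_adic {A B A₁ B₁ C : Type u} [CommRing A] [IsDomain A] [IsNoetherianRing A]
    [CommRing B] [IsDomain B] [Algebra A B] [Module.Finite A B]
    (hinj : Function.Injective (algebraMap A B)) (n : Ideal B) [n.IsPrime]
    (m : Ideal A) [m.IsPrime] (hm : n.comap (algebraMap A B) = m)
    [CommRing A₁] [Algebra A A₁] [IsLocalization.AtPrime A₁ m] [IsLocalRing A₁]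
    [CommRing B₁] [Algebra B B₁] [IsLocalization (Algebra.algebraMapSubmonoid B m.primeCompl) B₁]
    [Algebra A₁ B₁] [Algebra A B₁] [IsScalarTower A A₁ B₁] [IsScalarTower A B B₁]
    [CommRing C] [Algebra B C] [IsLocalization.AtPrime C n] [IsLocalRing C]
    (Hgff : ∀ (Q₀ : Ideal (AdicCompletion (maximalIdeal A₁) A₁)) [Q₀.IsPrime],
      Q₀.comap (algebraMap A₁ (AdicCompletion (maximalIdeal A₁) A₁)) = ⊥ →
      CAlgX.IsAdicFormallySmooth A₁ (Localization.AtPrime Q₀)
        (maximalIdeal (Localization.AtPrime Q₀)))
    (q : Ideal (AdicCompletion (maximalIdeal C) C)) [q.IsPrime]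
    (hq : q.comap (algebraMap C (AdicCompletion (maximalIdeal C) C)) = ⊥) :
    CAlgX.IsAdicFormallySmooth B (Localization.AtPrime q)
      (maximalIdeal (Localization.AtPrime q)) := by
  haveI : IsNoetherianRing A₁ := IsLocalization.isNoetherianRing m.primeCompl A₁ inferInstance
  haveI : IsDomain B₁ := isDomain_B₁ hinj m
  haveI : Module.Finite A₁ B₁ := Module.Finite.of_isLocalization A B m.primeCompl
  have hinj₁ : Function.Injective (algebraMap A₁ B₁) := injective_A₁B₁ hinj m
  haveI hn₁p : (n.map (algebraMap B B₁)).IsPrime := isPrime_n₁ n m hm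
  haveI hn₁max : (n.map (algebraMap B B₁)).IsMaximal := isMaximal_n₁ (A₁ := A₁) n m hm
  letI : Algebra B₁ C := (psi (B₁ := B₁) (C := C) n m hm).toAlgebra
  haveI : IsScalarTower B B₁ C := IsScalarTower.of_algebraMap_eq
    (fun b => (psi_algebraMap n m hm b).symm)
  haveI : IsLocalization.AtPrime C (n.map (algebraMap B B₁)) := isLocalization_atPrime_n₁ n m hm
  have h1 : CAlgX.IsAdicFormallySmooth B₁ (Localization.AtPrime q)
      (maximalIdeal (Localization.AtPrime q)) :=
    core_adic (n.map (algebraMap B B₁)) hinj₁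
      (le_comap_n₁ (A₁ := A₁) (B₁ := B₁) n m hm) Hgff q hq
  haveI : Algebra.FormallyEtale B B₁ :=
    Algebra.FormallyEtale.of_isLocalization (Algebra.algebraMapSubmonoid B m.primeCompl)
  haveI : IsScalarTower B B₁ (Localization.AtPrime q) := inferInstance
  exact Groth.Agent.Lib.Helper23.RegularHom.adic_of_formallySmooth_base B B₁
    (Localization.AtPrime q) _ h1

end D4



open EGA41 IsLocalRing TensorProduct Groth.Agent.Lib.Helper23.GenericFormalFibre

section D5

theorem adic_congr_tower {A S E : Type u} [CommRing A] [CommRing S] [CommRing E] [Algebra A S]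
    [Algebra S E] (i₁ i₂ : Algebra A E)
    (t₁ : ∀ r, @algebraMap A E _ _ i₁ r = algebraMap S E (algebraMap A S r))
    (t₂ : ∀ r, @algebraMap A E _ _ i₂ r = algebraMap S E (algebraMap A S r)) (I : Ideal E)
    (h : @CAlgX.IsAdicFormallySmooth A _ E _ i₁ I) : @CAlgX.IsAdicFormallySmooth A _ E _ i₂ I :=
  adic_congr_algebra i₁ i₂ (fun r => (t₁ r).trans (t₂ r).symm) I h

/-- characteristic zero case: via regularity. -/
theorem t4583_of_charZero {R A : Type u} [CommRing R] [IsRegularLocalRing R] [CharZero R]
    [CommRing A] [IsDomain A] (f : R →+* A) (hinj : Function.Injective f) (hfin : f.Finite)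
    (p : Ideal A) [p.IsPrime]
    (q : Ideal (AdicCompletion (maximalIdeal (Localization.AtPrime p)) (Localization.AtPrime p)))
    [q.IsPrime]
    (hq : q.comap (algebraMap (Localization.AtPrime p)
      (AdicCompletion (maximalIdeal (Localization.AtPrime p)) (Localization.AtPrime p))) = ⊥)
    [Algebra (FractionRing A) (Localization.AtPrime q)] :
    CAlgX.IsAdicFormallySmooth (FractionRing A) (Localization.AtPrime q)
      (maximalIdeal (Localization.AtPrime q)) := by
  letI := f.toAlgebra
  haveI : Module.Finite R A := hfin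
  exact t4602main (A := R) (B := A) hinj p q hq

/-- characteristic `c > 0` case, canonical algebra structure. -/
theorem t4583_of_charP_canon (c : ℕ) [Fact c.Prime] {k : Type u} [Field k] [CharP k c] (n : ℕ)
    {A : Type u} [CommRing A] [IsDomain A] (f : MvPowerSeries (Fin n) k →+* A)
    (hinj : Function.Injective f) (hfin : f.Finite)
    (p : Ideal A) [p.IsPrime]
    (q : Ideal (AdicCompletion (maximalIdeal (Localization.AtPrime p)) (Localization.AtPrime p)))
    [q.IsPrime]
    (hq : q.comap (algebraMap (Localization.AtPrime p)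
      (AdicCompletion (maximalIdeal (Localization.AtPrime p)) (Localization.AtPrime p))) = ⊥) :
    CAlgX.IsAdicFormallySmooth A (Localization.AtPrime q)
      (maximalIdeal (Localization.AtPrime q)) := by
  letI := f.toAlgebra
  haveI : Module.Finite (MvPowerSeries (Fin n) k) A := hfin
  haveI : IsDomain (MvPowerSeries (Fin n) k) := NoZeroDivisors.to_isDomain _
  haveI : IsRegularLocalRing (MvPowerSeries (Fin n) k) :=
    Groth.Agent.Lib.Helper1.ArtFunLib.isRegularLocalRing_mvPowerSeries k n
  haveI : IsNoetherianRing (MvPowerSeries (Fin n) k) := inferInstance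
  exact main_adic (A := MvPowerSeries (Fin n) k) (B := A)
    (A₁ := Localization.AtPrime (p.comap (algebraMap (MvPowerSeries (Fin n) k) A)))
    (B₁ := Localization (Algebra.algebraMapSubmonoid A
      (p.comap (algebraMap (MvPowerSeries (Fin n) k) A)).primeCompl))
    (C := Localization.AtPrime p) hinj p (p.comap (algebraMap (MvPowerSeries (Fin n) k) A)) rfl
    (fun Q₀ _ hQ₀ => gff_powerSeries c n (p.comap (algebraMap (MvPowerSeries (Fin n) k) A)) Q₀ hQ₀)
    q hq

end D5



open EGA41 IsLocalRing TensorProduct Groth.Agent.Lib.Helper23.GenericFormalFibre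

section D6

theorem t4583main {A : Type u} [CommRing A]
    [IsDomain A] [IsLocalRing A] [IsNoetherianRing A] [IsAdicComplete (maximalIdeal A) A] (p : Ideal A) [p.IsPrime]
    (q : Ideal (AdicCompletion (maximalIdeal (Localization.AtPrime p)) (Localization.AtPrime p))) [q.IsPrime]
    (hq : q.comap (algebraMap (Localization.AtPrime p)
      (AdicCompletion (maximalIdeal (Localization.AtPrime p)) (Localization.AtPrime p))) = ⊥)
    [Algebra (FractionRing A) (Localization.AtPrime q)] [IsScalarTower A (FractionRing A) (Localization.AtPrime q)] :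
    CAlgX.IsAdicFormallySmooth (FractionRing A) (Localization.AtPrime q) (maximalIdeal (Localization.AtPrime q)) := by
  obtain ⟨Λ, _, n, f, hΛ, hfinj, hffin, -⟩ := Groth.Agent.Lib.Helper18.CST.exists_finite_injective A
  rcases hΛ with hF | hC
  · letI := hF.toField
    obtain ⟨c, hc⟩ := CharP.exists Λ
    rcases CharP.char_is_prime_or_zero Λ c with hcp | hc0
    · haveI : Fact c.Prime := ⟨hcp⟩
      have h1 := t4583_of_charP_canon c n f hfinj hffin p q hq
      haveI : Algebra.FormallyEtale A (FractionRing A) :=
        Algebra.FormallyEtale.of_isLocalization (nonZeroDivisors A)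
      exact Groth.Agent.Lib.Helper23.RegularHom.adic_of_formallyUnramified A (FractionRing A)
        (Localization.AtPrime q) _ h1
    · subst hc0
      haveI : CharZero Λ := CharP.charP_to_charZero Λ
      haveI : IsRegularLocalRing (MvPowerSeries (Fin n) Λ) :=
        Groth.Agent.Lib.Helper1.ArtFunLib.isRegularLocalRing_mvPowerSeries Λ n
      haveI : CharZero (MvPowerSeries (Fin n) Λ) :=
        charZero_of_injective_algebraMap (algebraMap Λ (MvPowerSeries (Fin n) Λ)).injective
      exact t4583_of_charZero f hfinj hffin p q hq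
  · have hC' : EGA41.IsCohenRingEGA Λ := Or.inr hC
    obtain ⟨hdom, hdvr, -⟩ := hC
    obtain ⟨c, -, -, hcz, -⟩ := Groth.Agent.Lib.Helper23.CohenRing.cohenRing_data hC'
    haveI := Groth.Agent.Lib.Helper18.CST.isRegularLocalRing_of_isCohenRingEGA hC'
    haveI : IsRegularLocalRing (MvPowerSeries (Fin n) Λ) :=
      Groth.Agent.Lib.Helper18.CST.isRegularLocalRing_mvPowerSeries Λ n
    haveI : CharZero (MvPowerSeries (Fin n) Λ) :=
      charZero_of_injective_algebraMap (R := Λ) (A := MvPowerSeries (Fin n) Λ)
        (fun a b hab => MvPowerSeries.C_injective hab)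
    exact t4583_of_charZero f hfinj hffin p q hq

end D6

end Groth.Agent.Lib.Helper23.FormalFibreCharP
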