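import Mathlib
import Groth.Agent.Lib.Helper23.FormalFibreCharP4
import Groth.Agent.S2453
import Groth.Agent.Lib.Helper23.FieldSmooth
import Groth.Agent.Lib.Helper23.FieldSep
import Groth.Agent.Lib.Helper18.Exc2
import Groth.Agent.Lib.Helper9.SemiLocalProd

/-!
Complete Noetherian local rings are G-rings (EGA IV 7.4.4 / Matsumura 32.3 via 0_IV 22.3.3): adic_of_regular_charZero, adic_of_complete_domain (abstract form of S4583: for C a localization at a prime of a complete local domain and q a prime of the completion of C with q cap C = 0, the localization at q is adic formally smooth over C), geomRegular_of_forall_adic, geomRegular_formalFibre_bot_of_adic, geomRegular_formalFibre (all formal fibres of localizations of complete local rings are geometrically regular), t0598main.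
-/

set_option autoImplicit false
universe u


namespace Groth.Agent.Lib.Helper23.CompleteGRing


open EGA41 IsLocalRing TensorProduct Groth.Agent.Lib.Helper23.GenericFormalFibre
open Groth.Agent.Lib.Helper23.FormalFibreCharP

section A

/-- a regular local algebra `E` over a domain `C` of characteristic zero in which the nonzero
elements of `C` are invertible is adic formally smooth over `C`. -/
theorem adic_of_regular_charZero {C E : Type u} [CommRing C] [IsDomain C] [CharZero C]
    [CommRing E] [IsLocalRing E] [IsNoetherianRing E] [Algebra C E]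
    (hunit : ∀ c : C, c ≠ 0 → IsUnit (algebraMap C E c)) (hreg : IsRegularLocalRing E) :
    CAlgX.IsAdicFormallySmooth C E (maximalIdeal E) := by
  let K := FractionRing C
  have hu : ∀ y : nonZeroDivisors C, IsUnit (algebraMap C E y) := fun y =>
    hunit y (nonZeroDivisors.ne_zero y.2)
  letI : Algebra K E := (IsLocalization.lift (S := K) hu).toAlgebra
  haveI : IsScalarTower C K E := IsScalarTower.of_algebraMap_eq
    (fun r => (IsLocalization.lift_eq hu r).symm)
  haveI : CharZero K := charZero_of_injective_algebraMap (IsFractionRing.injective C K)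
  haveI : Algebra.FormallySmooth K (ResidueField E) :=
    Groth.Agent.Lib.Helper23.FieldSmooth.formallySmooth_of_perfectField _ _
  haveI : Algebra.IsGeometricallyReduced K (ResidueField E) :=
    (Groth.Agent.Lib.Helper23.FieldSep.formallySmooth_iff_isGeometricallyReduced _ _).mp inferInstance
  have h1 : CAlgX.IsAdicFormallySmooth K E (maximalIdeal E) :=
    ((Groth.Agent.S2453.result (k := K) (A := E)).out 0 3).mpr hreg
  haveI : Algebra.FormallyEtale C K := Algebra.FormallyEtale.of_isLocalization (nonZeroDivisors C)
  exact Groth.Agent.Lib.Helper23.RegularHom.adic_of_formallySmooth_base C K E _ h1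

end A



open EGA41 IsLocalRing TensorProduct Groth.Agent.Lib.Helper23.GenericFormalFibre
open Groth.Agent.Lib.Helper23.FormalFibreCharP

section B

variable {A C : Type u} [CommRing A] [IsDomain A] (p : Ideal A) [p.IsPrime]
  [CommRing C] [Algebra A C] [IsLocalization.AtPrime C p] [IsLocalRing C]
  (q : Ideal (AdicCompletion (maximalIdeal C) C)) [q.IsPrime]
  (hq : q.comap (algebraMap C (AdicCompletion (maximalIdeal C) C)) = ⊥)

include hq in
theorem isUnit_of_ne_zero [IsDomain C] (c : C) (hc : c ≠ 0) :
    IsUnit (algebraMap C (Localization.AtPrime q) c) := by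
  rw [IsScalarTower.algebraMap_apply C (AdicCompletion (maximalIdeal C) C) (Localization.AtPrime q)]
  apply IsLocalization.map_units (M := q.primeCompl) (Localization.AtPrime q) ⟨_, _⟩
  intro hmem
  have h2 : c ∈ q.comap (algebraMap C (AdicCompletion (maximalIdeal C) C)) := hmem
  rw [hq, Ideal.mem_bot] at h2
  exact hc h2

include p hq in
/-- characteristic zero case. -/
theorem adic_of_charZero {R : Type u} [CommRing R] [IsRegularLocalRing R] [CharZero R]
    (f : R →+* A) (hinj : Function.Injective f) (hfin : f.Finite) [IsNoetherianRing C] :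
    CAlgX.IsAdicFormallySmooth C (Localization.AtPrime q)
      (maximalIdeal (Localization.AtPrime q)) := by
  letI := f.toAlgebra
  haveI : Module.Finite R A := hfin
  have hreg : IsRegularLocalRing (Localization.AtPrime q) :=
    main_regular (A := R) (B := A) (A₁ := Localization.AtPrime (p.comap (algebraMap R A)))
      (B₁ := Localization (Algebra.algebraMapSubmonoid A (p.comap (algebraMap R A)).primeCompl))
      (C := C) hinj p (p.comap (algebraMap R A)) rfl q hq
  haveI : IsDomain C :=
    IsLocalization.isDomain_of_le_nonZeroDivisors C (Ideal.primeCompl_le_nonZeroDivisors p)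
  have hinjC : Function.Injective (algebraMap A C) :=
    IsLocalization.injective C (Ideal.primeCompl_le_nonZeroDivisors p)
  haveI : CharZero C :=
    charZero_of_injective_ringHom (f := (algebraMap A C).comp f) (hinjC.comp hinj)
  haveI : IsNoetherianRing (AdicCompletion (maximalIdeal C) C) :=
    Groth.Agent.Lib.Helper21.isNoetherianRing_adicCompletion_of_fg (maximalIdeal C)
      (IsNoetherian.noetherian _)
  haveI : IsNoetherianRing (Localization.AtPrime q) :=
    IsLocalization.isNoetherianRing q.primeCompl _ inferInstance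
  exact adic_of_regular_charZero (isUnit_of_ne_zero q hq) hreg

include p hq in
/-- characteristic `c > 0` case. -/
theorem adic_of_charP (c : ℕ) [Fact c.Prime] {k : Type u} [Field k] [CharP k c] (n : ℕ)
    (f : MvPowerSeries (Fin n) k →+* A) (hinj : Function.Injective f) (hfin : f.Finite) :
    CAlgX.IsAdicFormallySmooth C (Localization.AtPrime q)
      (maximalIdeal (Localization.AtPrime q)) := by
  letI := f.toAlgebra
  haveI : Module.Finite (MvPowerSeries (Fin n) k) A := hfin
  haveI : IsDomain (MvPowerSeries (Fin n) k) := NoZeroDivisors.to_isDomain _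
  haveI : IsRegularLocalRing (MvPowerSeries (Fin n) k) :=
    Groth.Agent.Lib.Helper1.ArtFunLib.isRegularLocalRing_mvPowerSeries k n
  haveI : IsNoetherianRing (MvPowerSeries (Fin n) k) := inferInstance
  have h1 := main_adic (A := MvPowerSeries (Fin n) k) (B := A)
    (A₁ := Localization.AtPrime (p.comap (algebraMap (MvPowerSeries (Fin n) k) A)))
    (B₁ := Localization (Algebra.algebraMapSubmonoid A
      (p.comap (algebraMap (MvPowerSeries (Fin n) k) A)).primeCompl))
    (C := C) hinj p (p.comap (algebraMap (MvPowerSeries (Fin n) k) A)) rfl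
    (fun Q₀ _ hQ₀ => gff_powerSeries c n (p.comap (algebraMap (MvPowerSeries (Fin n) k) A)) Q₀ hQ₀)
    q hq
  haveI : Algebra.FormallyEtale A C := Algebra.FormallyEtale.of_isLocalization p.primeCompl
  exact Groth.Agent.Lib.Helper23.RegularHom.adic_of_formallyUnramified A C
    (Localization.AtPrime q) _ h1

end B

section C

/-- **Generic formal fibres of localizations of complete local domains** (abstract form of
`t4583main`): adic formal smoothness over the local ring itself. -/
theorem adic_of_complete_domain {A C : Type u} [CommRing A] [IsDomain A] [IsLocalRing A]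
    [IsNoetherianRing A] [IsAdicComplete (maximalIdeal A) A] (p : Ideal A) [p.IsPrime]
    [CommRing C] [Algebra A C] [IsLocalization.AtPrime C p] [IsLocalRing C]
    (q : Ideal (AdicCompletion (maximalIdeal C) C)) [q.IsPrime]
    (hq : q.comap (algebraMap C (AdicCompletion (maximalIdeal C) C)) = ⊥) :
    CAlgX.IsAdicFormallySmooth C (Localization.AtPrime q)
      (maximalIdeal (Localization.AtPrime q)) := by
  haveI : IsNoetherianRing C := IsLocalization.isNoetherianRing p.primeCompl C inferInstance
  obtain ⟨Λ, _, n, f, hΛ, hfinj, hffin, -⟩ := Groth.Agent.Lib.Helper18.CST.exists_finite_injective A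
  rcases hΛ with hF | hC
  · letI := hF.toField
    obtain ⟨c, hc⟩ := CharP.exists Λ
    rcases CharP.char_is_prime_or_zero Λ c with hcp | hc0
    · haveI : Fact c.Prime := ⟨hcp⟩
      exact adic_of_charP p q hq c n f hfinj hffin
    · subst hc0
      haveI : CharZero Λ := CharP.charP_to_charZero Λ
      haveI : IsRegularLocalRing (MvPowerSeries (Fin n) Λ) :=
        Groth.Agent.Lib.Helper1.ArtFunLib.isRegularLocalRing_mvPowerSeries Λ n
      haveI : CharZero (MvPowerSeries (Fin n) Λ) :=
        charZero_of_injective_algebraMap (algebraMap Λ (MvPowerSeries (Fin n) Λ)).injective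
      exact adic_of_charZero p q hq f hfinj hffin
  · have hC' : EGA41.IsCohenRingEGA Λ := Or.inr hC
    obtain ⟨hdom, hdvr, -⟩ := hC
    obtain ⟨c, -, -, hcz, -⟩ := Groth.Agent.Lib.Helper23.CohenRing.cohenRing_data hC'
    haveI := Groth.Agent.Lib.Helper18.CST.isRegularLocalRing_of_isCohenRingEGA hC'
    haveI : IsRegularLocalRing (MvPowerSeries (Fin n) Λ) :=
      Groth.Agent.Lib.Helper18.CST.isRegularLocalRing_mvPowerSeries Λ n
    haveI : CharZero (MvPowerSeries (Fin n) Λ) :=
      charZero_of_injective_algebraMap (R := Λ) (A := MvPowerSeries (Fin n) Λ)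
        (fun a b hab => MvPowerSeries.C_injective hab)
    exact adic_of_charZero p q hq f hfinj hffin

end C



open EGA41 IsLocalRing TensorProduct

section G1

/-- a Noetherian algebra over a field all of whose local rings are adic formally smooth is
geometrically regular. -/
theorem geomRegular_of_forall_adic {k F : Type u} [Field k] [CommRing F] [Algebra k F]
    [IsNoetherianRing F]
    (h : ∀ (𝔮 : Ideal F) [𝔮.IsPrime], CAlgX.IsAdicFormallySmooth k (Localization.AtPrime 𝔮)
      (maximalIdeal (Localization.AtPrime 𝔮))) : CAlg.IsGeometricallyRegular k F := by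
  intro k' _ _ hfin
  haveI : IsNoetherianRing (F ⊗[k] k') := IsNoetherianRing.of_finite F _
  haveI : IsNoetherianRing (k' ⊗[k] F) :=
    isNoetherianRing_of_ringEquiv _ (Algebra.TensorProduct.comm k F k').toRingEquiv
  rw [isRegularRing_iff]
  intro Q hQ
  let φ : F →+* k' ⊗[k] F :=
    ((Algebra.TensorProduct.includeRight : F →ₐ[k] k' ⊗[k] F) : F →+* k' ⊗[k] F)
  haveI : (Q.comap φ).IsPrime := Ideal.comap_isPrime φ Q
  have h1 := Groth.Agent.Lib.Helper23.GeomRegular2.adic_tensor_atPrime (k := k) (S := F) (K := k')
    Q (Q.comap φ) rfl (h (Q.comap φ))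
  haveI : IsNoetherianRing (Localization.AtPrime Q) :=
    IsLocalization.isNoetherianRing Q.primeCompl _ inferInstance
  exact Groth.Agent.Lib.Helper23.GeomRegular2.isRegularLocalRing_of_adic h1

end G1

section G2

variable (C : Type u) [CommRing C] [IsDomain C] [IsLocalRing C] [IsNoetherianRing C]

/-- the generic formal fibre of a Noetherian local domain `C` is geometrically regular as soon as
the local rings `Ĉ_q`, `q ∩ C = 0`, are adic formally smooth over `C`. -/
theorem geomRegular_formalFibre_bot_of_adic
    (h : ∀ (q : Ideal (AdicCompletion (maximalIdeal C) C)) [q.IsPrime],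
      q.comap (algebraMap C (AdicCompletion (maximalIdeal C) C)) = ⊥ →
      CAlgX.IsAdicFormallySmooth C (Localization.AtPrime q)
        (maximalIdeal (Localization.AtPrime q))) :
    CAlg.IsGeometricallyRegular (⊥ : Ideal C).ResidueField (EGA4.formalFibre C ⊥) := by
  haveI : IsNoetherianRing (AdicCompletion (maximalIdeal C) C) :=
    Groth.Agent.Lib.Helper21.isNoetherianRing_adicCompletion_of_fg (maximalIdeal C)
      (IsNoetherian.noetherian _)
  haveI : IsNoetherianRing ((⊥ : Ideal C).Fiber (EGA4.Cpl C)) := inferInstance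
  refine geomRegular_of_forall_adic (fun 𝔮 _ => ?_)
  let φ : AdicCompletion (maximalIdeal C) C →+* (⊥ : Ideal C).Fiber (EGA4.Cpl C) :=
    ((Algebra.TensorProduct.includeRight : AdicCompletion (maximalIdeal C) C →ₐ[C]
      (⊥ : Ideal C).ResidueField ⊗[C] AdicCompletion (maximalIdeal C) C) :
      AdicCompletion (maximalIdeal C) C →+* _)
  haveI : (𝔮.comap φ).IsPrime := Ideal.comap_isPrime φ 𝔮
  have hq : (𝔮.comap φ).comap (algebraMap C (AdicCompletion (maximalIdeal C) C)) = ⊥ := by
    rw [eq_bot_iff]
    intro c hc
    rw [Ideal.mem_bot]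
    by_contra hc0
    have h1 : (1 : (⊥ : Ideal C).ResidueField) ⊗ₜ[C]
        (algebraMap C (AdicCompletion (maximalIdeal C) C) c) ∈ 𝔮 := hc
    have h2 : (1 : (⊥ : Ideal C).ResidueField) ⊗ₜ[C]
        (algebraMap C (AdicCompletion (maximalIdeal C) C) c) =
        algebraMap (⊥ : Ideal C).ResidueField ((⊥ : Ideal C).Fiber (EGA4.Cpl C))
          (algebraMap C (⊥ : Ideal C).ResidueField c) := by
      rw [Algebra.TensorProduct.algebraMap_apply, Algebra.algebraMap_self, RingHom.id_apply,
        Algebra.algebraMap_eq_smul_one, Algebra.algebraMap_eq_smul_one, TensorProduct.tmul_smul,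
        TensorProduct.smul_tmul']
    rw [h2] at h1
    have h3 : algebraMap C (⊥ : Ideal C).ResidueField c ≠ 0 := by
      intro h0
      exact hc0 ((Ideal.mem_bot).mp (Ideal.algebraMap_residueField_eq_zero.mp h0))
    have h4 : IsUnit (algebraMap (⊥ : Ideal C).ResidueField ((⊥ : Ideal C).Fiber (EGA4.Cpl C))
        (algebraMap C (⊥ : Ideal C).ResidueField c)) := (IsUnit.mk0 _ h3).map _
    exact (Ideal.IsPrime.ne_top inferInstance) (Ideal.eq_top_of_isUnit_mem _ h1 h4)
  exact Groth.Agent.Lib.Helper23.GeomRegular2.adic_tensor_atPrime (k := C)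
    (S := AdicCompletion (maximalIdeal C) C) (K := (⊥ : Ideal C).ResidueField) 𝔮 (𝔮.comap φ) rfl
    (h (𝔮.comap φ) hq)

end G2



open EGA41 IsLocalRing TensorProduct

section H

variable (R : Type u) [CommRing R] [IsLocalRing R] [IsNoetherianRing R]
  [IsAdicComplete (maximalIdeal R) R] (P : Ideal R) [P.IsPrime]

/-- all formal fibres of a localization of a complete local ring are geometrically regular. -/
theorem geomRegular_formalFibre (r : Ideal (Localization.AtPrime P)) [hr : r.IsPrime] :
    CAlg.IsGeometricallyRegular r.ResidueField (EGA4.formalFibre (Localization.AtPrime P) r) := by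
  haveI : IsNoetherianRing (Localization.AtPrime P) :=
    IsLocalization.isNoetherianRing P.primeCompl _ inferInstance
  set r₀ : Ideal R := r.comap (algebraMap R (Localization.AtPrime P)) with hr₀
  haveI : r₀.IsPrime := Ideal.comap_isPrime _ r
  set I : Ideal (Localization.AtPrime P) := r₀.map (algebraMap R (Localization.AtPrime P)) with hI
  have hIr : I = r := IsLocalization.map_comap P.primeCompl (Localization.AtPrime P) r
  haveI hIp : I.IsPrime := hIr ▸ hr
  have hr₀P : r₀ ≤ P := by
    intro x hx
    have h1 : algebraMap R (Localization.AtPrime P) x ∈ maximalIdeal (Localization.AtPrime P) :=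
      IsLocalRing.le_maximalIdeal hr.ne_top hx
    rw [← Localization.AtPrime.comap_maximalIdeal (I := P)]
    exact h1
  -- the complete local domain `A = R / r₀`
  haveI : Nontrivial (R ⧸ r₀) := Ideal.Quotient.nontrivial_iff.mpr (Ideal.IsPrime.ne_top inferInstance)
  haveI : IsLocalRing (R ⧸ r₀) :=
    IsLocalRing.of_surjective' (Ideal.Quotient.mk r₀) Ideal.Quotient.mk_surjective
  haveI : IsAdicComplete (maximalIdeal (R ⧸ r₀)) (R ⧸ r₀) :=
    Groth.Agent.Lib.Helper9.SemiLocalProd.isAdicComplete_maximalIdeal_of_finite R (R ⧸ r₀)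
  -- the local domain `C = B / I`
  haveI : Nontrivial (Localization.AtPrime P ⧸ I) :=
    Ideal.Quotient.nontrivial_iff.mpr hIp.ne_top
  haveI : IsLocalRing (Localization.AtPrime P ⧸ I) :=
    IsLocalRing.of_surjective' (Ideal.Quotient.mk I) Ideal.Quotient.mk_surjective
  -- the prime `p = P / r₀`
  have hker : RingHom.ker (Ideal.Quotient.mk r₀) ≤ P := by rw [Ideal.mk_ker]; exact hr₀P
  haveI hp : (P.map (Ideal.Quotient.mk r₀)).IsPrime :=
    Ideal.map_isPrime_of_surjective Ideal.Quotient.mk_surjective hker
  have hmem : ∀ x : R, Ideal.Quotient.mk r₀ x ∈ P.map (Ideal.Quotient.mk r₀) ↔ x ∈ P := by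
    intro x
    constructor
    · intro hx
      have h1 : x ∈ (P.map (Ideal.Quotient.mk r₀)).comap (Ideal.Quotient.mk r₀) := hx
      rwa [Ideal.comap_map_of_surjective _ Ideal.Quotient.mk_surjective, ← RingHom.ker_eq_comap_bot,
        sup_eq_left.mpr hker] at h1
    · exact fun hx => Ideal.mem_map_of_mem _ hx
  have hcompl : (P.map (Ideal.Quotient.mk r₀)).primeCompl =
      Algebra.algebraMapSubmonoid (R ⧸ r₀) P.primeCompl := by
    ext y
    obtain ⟨x, rfl⟩ := Ideal.Quotient.mk_surjective y
    constructor
    · intro hy
      exact ⟨x, fun hx => hy ((hmem x).mpr hx), rfl⟩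
    · rintro ⟨x', hx', hxx'⟩ hy
      apply hx'
      have : Ideal.Quotient.mk r₀ x' ∈ P.map (Ideal.Quotient.mk r₀) := by
        have h2 : Ideal.Quotient.mk r₀ x' = Ideal.Quotient.mk r₀ x := hxx'
        rw [h2]; exact hy
      exact (hmem x').mp this
  haveI : IsLocalization.AtPrime (Localization.AtPrime P ⧸ I) (P.map (Ideal.Quotient.mk r₀)) := by
    show IsLocalization (P.map (Ideal.Quotient.mk r₀)).primeCompl (Localization.AtPrime P ⧸ I)
    rw [hcompl]
    infer_instance
  haveI : IsNoetherianRing (Localization.AtPrime P ⧸ I) := inferInstance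
  have h1 : CAlg.IsGeometricallyRegular (⊥ : Ideal (Localization.AtPrime P ⧸ I)).ResidueField
      (EGA4.formalFibre (Localization.AtPrime P ⧸ I) ⊥) :=
    geomRegular_formalFibre_bot_of_adic (Localization.AtPrime P ⧸ I)
      (fun q _ hq => adic_of_complete_domain (P.map (Ideal.Quotient.mk r₀)) q hq)
  have h2 := Groth.Agent.Lib.Helper18.Exc.geomRegular_formalFibre_of_quotient
    (Localization.AtPrime P) I ⊥ h1
  have hc : (⊥ : Ideal (Localization.AtPrime P ⧸ I)).comap
      (algebraMap (Localization.AtPrime P) (Localization.AtPrime P ⧸ I)) = r := by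
    rw [← RingHom.ker_eq_comap_bot]
    exact (Ideal.mk_ker).trans hIr
  exact Groth.Agent.Lib.Helper18.Exc.geomRegular_formalFibre_congr hc h2

end H

theorem t0598main (R : Type u) [CommRing R] [IsLocalRing R] [IsNoetherianRing R]
    [IsAdicComplete (IsLocalRing.maximalIdeal R) R] : CAlg.IsGRing R := by
  refine ⟨inferInstance, fun P _ => ?_⟩
  haveI : IsNoetherianRing (Localization.AtPrime P) :=
    IsLocalization.isNoetherianRing P.primeCompl _ inferInstance
  haveI : IsNoetherianRing (AdicCompletion (maximalIdeal (Localization.AtPrime P))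
      (Localization.AtPrime P)) :=
    Groth.Agent.Lib.Helper21.isNoetherianRing_adicCompletion_of_fg _ (IsNoetherian.noetherian _)
  exact ⟨inferInstance, fun r _ => ⟨inferInstance, geomRegular_formalFibre R P r⟩⟩

end Groth.Agent.Lib.Helper23.CompleteGRing
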