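import Mathlib
import Groth.Agent.Lib.Helper23.CohenSmooth
import Groth.Agent.Lib.Helper23.AdicSmooth
import Groth.Agent.Lib.Helper23.GenericFormalFibre
import Groth.Agent.Lib.Helper23.FormalFibreCharP4
import Groth.Agent.Lib.Helper23.GeomRegular
import Groth.Agent.Lib.Helper18.FibBridge
import Groth.Agent.Lib.Helper18.CplQuot
import Groth.Agent.Lib.Helper23.CompleteGRing

/-!
EGA 0_IV 19.7.1 (a)=>(b) in general: exists_artinRees, inf_eq_bot, exists_section_adic (flat B with B/aB adic formally smooth over A/a: square-zero extensions of B killed by a and separated for the preimage topology split), formallySmoothAdic_of_flat_of_fibre (flat + adic formally smooth fibre => EGA41.IsFormallySmoothAdic A a B n), geomRegular_localization, fibre_adic / formallySmoothAdic_of_geomRegular_fibre (flat map of Noetherian rings with geometrically regular fibre over r: B_r -> S_q is formally smooth for the adic topologies), t4582main (EGA IV 7.4.4-type: A complete local,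 B = A_p, q prime of the completion of B, r = q cap B: completion localized at q is formally smooth over B_r).
-/

set_option autoImplicit false
universe u


namespace Groth.Agent.Lib.Helper23.FlatFibreSmooth


open EGA41 IsLocalRing Groth.Agent.Lib.Helper23.CohenSmooth

section KL1

variable {A : Type u} [CommRing A] (𝔞 : Ideal A) {B : Type u} [CommRing B] [Algebra A B]
  [IsNoetherianRing B] (𝔫 : Ideal B)

/-- Artin–Rees consequence: `𝔫^(ν+c) ∩ 𝔞B ⊆ 𝔞B · 𝔫^ν`. -/
theorem exists_artinRees (ν : ℕ) : ∃ μ : ℕ, ν ≤ μ ∧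
    𝔫 ^ μ ⊓ 𝔞.map (algebraMap A B) ≤ 𝔞.map (algebraMap A B) * 𝔫 ^ ν := by
  obtain ⟨c, hc⟩ := Ideal.exists_pow_inf_eq_pow_smul 𝔫 (𝔞.map (algebraMap A B) : Submodule B B)
  refine ⟨ν + c, Nat.le_add_right _ _, ?_⟩
  have h1 := hc (ν + c) (Nat.le_add_left _ _)
  rw [Nat.add_sub_cancel] at h1
  intro x hx
  have h2 : x ∈ (𝔫 ^ (ν + c) • ⊤ ⊓ (𝔞.map (algebraMap A B) : Submodule B B) : Submodule B B) := by
    refine ⟨?_, hx.2⟩
    rw [Ideal.smul_top_eq_map, Algebra.algebraMap_self, Ideal.map_id]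
    exact hx.1
  rw [h1] at h2
  have h3 : (𝔫 ^ ν • (𝔫 ^ c • ⊤ ⊓ (𝔞.map (algebraMap A B) : Submodule B B)) : Submodule B B) ≤
      (𝔫 ^ ν • (𝔞.map (algebraMap A B) : Submodule B B) : Submodule B B) :=
    Submodule.smul_mono le_rfl inf_le_right
  have h4 := h3 h2
  rw [smul_eq_mul, mul_comm] at h4
  exact h4

end KL1



open EGA41 IsLocalRing Groth.Agent.Lib.Helper23.CohenSmooth

section KL2

variable {A : Type u} [CommRing A] (𝔞 : Ideal A) {B : Type u} [CommRing B] [Algebra A B]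
  [IsNoetherianRing B] (𝔫 : Ideal B)
  {E : Type u} [CommRing E] [Algebra A E] (pr : E →ₐ[A] B)

/-- `N ∩ (𝔞E + I_E^μ) = 0`. -/
theorem inf_eq_bot [Module.Flat A B] (hpr : Function.Surjective pr)
    (h𝔞 : ∀ a ∈ 𝔞, ∀ x, pr x = 0 → a • x = 0) (ν μ : ℕ) (hνμ : ν ≤ μ)
    (hAR : 𝔫 ^ μ ⊓ 𝔞.map (algebraMap A B) ≤ 𝔞.map (algebraMap A B) * 𝔫 ^ ν)
    (hnil : ∀ x ∈ (𝔫.comap (pr : E →+* B)) ^ ν, pr x = 0 → x = 0)
    (x : E) (hx0 : pr x = 0)
    (hx : x ∈ 𝔞.map (algebraMap A E) ⊔ (𝔫.comap (pr : E →+* B)) ^ μ) : x = 0 := by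
  obtain ⟨y, hy, z, hz, rfl⟩ := Submodule.mem_sup.mp hx
  have hIE : (𝔞.map (algebraMap A E)).map (pr : E →+* B) = 𝔞.map (algebraMap A B) := by
    rw [Ideal.map_map]
    congr 1
    exact pr.comp_algebraMap
  have hIn : (𝔫.comap (pr : E →+* B)).map (pr : E →+* B) = 𝔫 :=
    Ideal.map_comap_of_surjective _ hpr 𝔫
  have hz' : pr z ∈ 𝔫 ^ μ := by
    have : (pr : E →+* B) z ∈ ((𝔫.comap (pr : E →+* B)) ^ μ).map (pr : E →+* B) :=
      Ideal.mem_map_of_mem _ hz
    rwa [Ideal.map_pow, hIn] at this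
  have hy' : pr y ∈ 𝔞.map (algebraMap A B) := by
    have : (pr : E →+* B) y ∈ (𝔞.map (algebraMap A E)).map (pr : E →+* B) :=
      Ideal.mem_map_of_mem _ hy
    rwa [hIE] at this
  have hyz : pr y = - pr z := by
    rw [map_add] at hx0
    exact eq_neg_of_add_eq_zero_left hx0
  have h1 : pr y ∈ 𝔞.map (algebraMap A B) * 𝔫 ^ ν := by
    apply hAR
    refine ⟨?_, hy'⟩
    rw [hyz]
    exact neg_mem hz'
  -- lift to `𝔞E * I_E^ν`
  have h2 : (𝔞.map (algebraMap A E) * (𝔫.comap (pr : E →+* B)) ^ ν).map (pr : E →+* B) =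
      𝔞.map (algebraMap A B) * 𝔫 ^ ν := by
    rw [Ideal.map_mul, hIE, Ideal.map_pow, hIn]
  rw [← h2] at h1
  obtain ⟨y', hy'mem, hy'eq⟩ := (Ideal.mem_map_iff_of_surjective (pr : E →+* B) hpr).mp h1
  have hy'eq' : pr y' = pr y := hy'eq
  have hy'1 : y' ∈ 𝔞.map (algebraMap A E) :=
    (Ideal.mul_le_left : 𝔞.map (algebraMap A E) * (𝔫.comap (pr : E →+* B)) ^ ν ≤ _) hy'mem
  have hy'2 : y' ∈ (𝔫.comap (pr : E →+* B)) ^ ν :=
    (Ideal.mul_le_right : 𝔞.map (algebraMap A E) * (𝔫.comap (pr : E →+* B)) ^ ν ≤ _) hy'mem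
  have hsub : y - y' ∈ 𝔞.map (algebraMap A E) := sub_mem hy hy'1
  have hsub0 : pr (y - y') = 0 := by rw [map_sub, hy'eq', sub_self]
  have h3 : y - y' = 0 := eq_zero_of_mem_map 𝔞 pr hpr h𝔞 hsub hsub0
  have hyy' : y = y' := sub_eq_zero.mp h3
  apply hnil _ ?_ hx0
  refine add_mem ?_ (Ideal.pow_le_pow_right hνμ hz)
  rw [hyy']
  exact hy'2

end KL2



open EGA41 IsLocalRing Groth.Agent.Lib.Helper23.CohenSmooth

section KL3

variable {A : Type u} [CommRing A] (𝔞 : Ideal A) {B : Type u} [CommRing B] [Algebra A B]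
  [IsNoetherianRing B] (𝔫 : Ideal B)
  {E : Type u} [CommRing E] [Algebra A E] (pr : E →ₐ[A] B)

/-- Key step (EGA 0_IV 19.7.1): `B` flat over `A`, `B/𝔞B` adic formally smooth over `A/𝔞`; then a
surjection of `A`-algebras `E → B` with square-zero kernel `N` killed by `𝔞`, such that
`I_E^ν ∩ N = 0` (`I_E` the preimage of `𝔫`), has an `A`-algebra section. -/
theorem exists_section_adic [Module.Flat A B]
    (hfib : CAlgX.IsAdicFormallySmooth (A ⧸ 𝔞) (B ⧸ 𝔞.map (algebraMap A B))
      (𝔫.map (Ideal.Quotient.mk (𝔞.map (algebraMap A B)))))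
    (hpr : Function.Surjective pr)
    (hK2 : ∀ x y, pr x = 0 → pr y = 0 → x * y = 0)
    (h𝔞 : ∀ a ∈ 𝔞, ∀ x, pr x = 0 → a • x = 0)
    (ν : ℕ) (hnil : ∀ x ∈ (𝔫.comap (pr : E →+* B)) ^ ν, pr x = 0 → x = 0) :
    ∃ s : B →ₐ[A] E, ∀ b, pr (s b) = b := by
  classical
  obtain ⟨μ, hνμ, hAR⟩ := exists_artinRees 𝔞 𝔫 ν
  have hIE : (𝔞.map (algebraMap A E)).map (pr : E →+* B) = 𝔞.map (algebraMap A B) := by
    rw [Ideal.map_map]
    congr 1
    exact pr.comp_algebraMap
  have hIn : (𝔫.comap (pr : E →+* B)).map (pr : E →+* B) = 𝔫 :=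
    Ideal.map_comap_of_surjective _ hpr 𝔫
  set 𝔟 : Ideal E := 𝔞.map (algebraMap A E) ⊔ (𝔫.comap (pr : E →+* B)) ^ μ with h𝔟
  have hN𝔟 : ∀ x, pr x = 0 → x ∈ 𝔟 → x = 0 := fun x h0 hx =>
    inf_eq_bot 𝔞 𝔫 pr hpr h𝔞 ν μ hνμ hAR hnil x h0 hx
  -- the `A/𝔞`-algebra `T = E/𝔟`
  let φ : A ⧸ 𝔞 →+* E ⧸ 𝔟 :=
    Ideal.Quotient.lift 𝔞 ((Ideal.Quotient.mk 𝔟).comp (algebraMap A E)) (fun a ha => by
      show Ideal.Quotient.mk 𝔟 (algebraMap A E a) = 0
      exact Ideal.Quotient.eq_zero_iff_mem.mpr (Ideal.mem_sup_left (Ideal.mem_map_of_mem _ ha)))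
  letI algT : Algebra (A ⧸ 𝔞) (E ⧸ 𝔟) := φ.toAlgebra
  haveI : IsScalarTower A (A ⧸ 𝔞) (E ⧸ 𝔟) := IsScalarTower.of_algebraMap_eq (fun a => rfl)
  let JT : Ideal (E ⧸ 𝔟) := (RingHom.ker (pr : E →+* B)).map (Ideal.Quotient.mk 𝔟)
  have hJT : JT ^ 2 = ⊥ := by
    have h1 : RingHom.ker (pr : E →+* B) * RingHom.ker (pr : E →+* B) = ⊥ := by
      rw [eq_bot_iff, Ideal.mul_le]
      intro x hx y hy
      rw [Ideal.mem_bot]
      exact hK2 x y hx hy
    show JT ^ 2 = ⊥
    rw [pow_two, ← Ideal.map_mul, h1, Ideal.map_bot]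
  -- the map `ψ₀ : B → T/JT`
  have hker : RingHom.ker (pr : E →+* B) ≤
      RingHom.ker ((Ideal.Quotient.mk JT).comp (Ideal.Quotient.mk 𝔟)) := by
    intro x hx
    rw [RingHom.mem_ker, RingHom.comp_apply, Ideal.Quotient.eq_zero_iff_mem]
    exact Ideal.mem_map_of_mem _ hx
  let ψ₀ : B →+* (E ⧸ 𝔟) ⧸ JT :=
    (pr : E →+* B).liftOfSurjective hpr ⟨(Ideal.Quotient.mk JT).comp (Ideal.Quotient.mk 𝔟), hker⟩
  have hψ₀ : ∀ e : E, ψ₀ (pr e) = Ideal.Quotient.mk JT (Ideal.Quotient.mk 𝔟 e) := fun e =>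
    RingHom.liftOfSurjective_comp_apply (pr : E →+* B) hpr
      ⟨(Ideal.Quotient.mk JT).comp (Ideal.Quotient.mk 𝔟), hker⟩ e
  have hψ₀𝔟 : ∀ e ∈ 𝔟, ψ₀ (pr e) = 0 := fun e he => by
    rw [hψ₀, Ideal.Quotient.eq_zero_iff_mem.mpr he, map_zero]
  have hψ₀𝔞 : ∀ b ∈ 𝔞.map (algebraMap A B), ψ₀ b = 0 := by
    intro b hb
    rw [← hIE] at hb
    obtain ⟨e, he, rfl⟩ := (Ideal.mem_map_iff_of_surjective (pr : E →+* B) hpr).mp hb
    exact hψ₀𝔟 e (Ideal.mem_sup_left he)
  let ψ₁ : B ⧸ 𝔞.map (algebraMap A B) →+* (E ⧸ 𝔟) ⧸ JT :=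
    Ideal.Quotient.lift _ ψ₀ hψ₀𝔞
  have hψ₁ : ∀ b, ψ₁ (Ideal.Quotient.mk _ b) = ψ₀ b := fun b => Ideal.Quotient.lift_mk _ _ _
  let ψ : B ⧸ 𝔞.map (algebraMap A B) →ₐ[A ⧸ 𝔞] (E ⧸ 𝔟) ⧸ JT :=
    { ψ₁ with
      commutes' := fun r => by
        obtain ⟨a, rfl⟩ := Ideal.Quotient.mk_surjective r
        show ψ₁ (Ideal.Quotient.mk _ (algebraMap A B a)) =
          Ideal.Quotient.mk JT (Ideal.Quotient.mk 𝔟 (algebraMap A E a))
        rw [hψ₁, ← hψ₀, AlgHom.commutes] }
  have hψ : ∀ b, ψ (Ideal.Quotient.mk _ b) = ψ₀ b := hψ₁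
  have hcont : ∀ x ∈ (𝔫.map (Ideal.Quotient.mk (𝔞.map (algebraMap A B)))) ^ μ, ψ x = 0 := by
    intro x hx
    rw [← Ideal.map_pow] at hx
    obtain ⟨b, hb, rfl⟩ := (Ideal.mem_map_iff_of_surjective _ Ideal.Quotient.mk_surjective).mp hx
    rw [← hIn, ← Ideal.map_pow] at hb
    obtain ⟨e, he, rfl⟩ := (Ideal.mem_map_iff_of_surjective (pr : E →+* B) hpr).mp hb
    rw [hψ]
    exact hψ₀𝔟 e (Ideal.mem_sup_right he)
  obtain ⟨χ, hχ⟩ := hfib (E ⧸ 𝔟) JT hJT ψ ⟨μ, hcont⟩
  have hχ' : ∀ x, Ideal.Quotient.mk JT (χ x) = ψ x := fun x => AlgHom.congr_fun hχ x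
  -- the embedding `E → B × T`
  let ι : E →ₐ[A] B × (E ⧸ 𝔟) := AlgHom.prod pr (Ideal.Quotient.mkₐ A 𝔟)
  have hι : Function.Injective ι := by
    rw [injective_iff_map_eq_zero]
    intro x hx
    have h1 : pr x = 0 := congrArg Prod.fst hx
    have h2 : Ideal.Quotient.mk 𝔟 x = 0 := congrArg Prod.snd hx
    exact hN𝔟 x h1 (Ideal.Quotient.eq_zero_iff_mem.mp h2)
  let g : B →ₐ[A] B × (E ⧸ 𝔟) := AlgHom.prod (AlgHom.id A B)
    ((χ.restrictScalars A).comp (Ideal.Quotient.mkₐ A (𝔞.map (algebraMap A B))))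
  have hg : ∀ b, g b ∈ ι.range := by
    intro b
    obtain ⟨e₀, rfl⟩ := hpr b
    have h1 : Ideal.Quotient.mk JT (χ (Ideal.Quotient.mk _ (pr e₀)) - Ideal.Quotient.mk 𝔟 e₀) = 0 := by
      rw [map_sub, hχ', hψ, hψ₀, sub_self]
    rw [Ideal.Quotient.eq_zero_iff_mem] at h1
    obtain ⟨n, hn, hn'⟩ := (Ideal.mem_map_iff_of_surjective _ Ideal.Quotient.mk_surjective).mp h1
    refine ⟨e₀ + n, ?_⟩
    have hn0 : pr n = 0 := hn
    refine Prod.ext ?_ ?_
    · show pr (e₀ + n) = pr e₀
      rw [map_add, hn0, add_zero]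
    · show Ideal.Quotient.mk 𝔟 (e₀ + n) = χ (Ideal.Quotient.mk _ (pr e₀))
      rw [map_add, hn']
      ring
  let s : B →ₐ[A] E :=
    ((AlgEquiv.ofInjective ι hι).symm : ι.range →ₐ[A] E).comp (g.codRestrict ι.range hg)
  refine ⟨s, fun b => ?_⟩
  have h1 : (AlgEquiv.ofInjective ι hι) (s b) = g.codRestrict ι.range hg b :=
    AlgEquiv.apply_symm_apply _ _
  have h2 : ι (s b) = g b := congrArg Subtype.val h1
  exact congrArg Prod.fst h2

end KL3



open EGA41 IsLocalRing Groth.Agent.Lib.Helper23.CohenSmooth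

section KL4

variable {A : Type u} [CommRing A] (𝔞 : Ideal A) {B : Type u} [CommRing B] [Algebra A B]
  [IsNoetherianRing B] (𝔫 : Ideal B)

/-- **EGA 0_IV 19.7.1, (a) ⇒ (b)**: a flat `A`-algebra `B` (Noetherian) whose fibre `B/𝔞B` is adic
formally smooth over `A/𝔞` is formally smooth over `A` for the `𝔞`-adic and `𝔫`-adic topologies. -/
theorem formallySmoothAdic_of_flat_of_fibre [Module.Flat A B]
    (hfib : CAlgX.IsAdicFormallySmooth (A ⧸ 𝔞) (B ⧸ 𝔞.map (algebraMap A B))
      (𝔫.map (Ideal.Quotient.mk (𝔞.map (algebraMap A B))))) :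
    EGA41.IsFormallySmoothAdic A 𝔞 B 𝔫 := by
  apply Groth.Agent.Lib.Helper23.AdicSmooth.of_smallStep 𝔞 𝔫
  intro C' C'' _ _ _ _ π hπ hK2 h𝔞 _ u ⟨m, hu⟩
  classical
  let E : Subalgebra A (B × C') :=
    AlgHom.equalizer (u.comp (AlgHom.fst A B C')) (π.comp (AlgHom.snd A B C'))
  have hmemE : ∀ x : E, u (x.1.1) = π (x.1.2) := fun x => x.2
  let pr : E →ₐ[A] B := (AlgHom.fst A B C').comp E.val
  let sndE : E →ₐ[A] C' := (AlgHom.snd A B C').comp E.val
  have hprE : ∀ x : E, pr x = x.1.1 := fun x => rfl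
  have hsndE : ∀ x : E, sndE x = x.1.2 := fun x => rfl
  have hpr : Function.Surjective pr := by
    intro b
    obtain ⟨c', hc'⟩ := hπ (u b)
    exact ⟨⟨(b, c'), hc'.symm⟩, rfl⟩
  have hπsnd : ∀ x : E, pr x = 0 → π (sndE x) = 0 := by
    intro x hx
    rw [hsndE, ← hmemE, ← hprE, hx, map_zero]
  have hext : ∀ x : E, pr x = 0 → sndE x = 0 → x = 0 := by
    intro x h1 h2
    exact Subtype.ext (Prod.ext h1 h2)
  have hK2E : ∀ x y : E, pr x = 0 → pr y = 0 → x * y = 0 := by
    intro x y hx hy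
    apply hext
    · rw [map_mul, hx, zero_mul]
    · rw [map_mul]
      exact hK2 _ _ (hπsnd x hx) (hπsnd y hy)
  have h𝔞E : ∀ a ∈ 𝔞, ∀ x : E, pr x = 0 → a • x = 0 := by
    intro a ha x hx
    apply hext
    · rw [map_smul, hx, smul_zero]
    · rw [map_smul]
      exact h𝔞 a ha _ (hπsnd x hx)
  -- the nilpotent ideal `𝔠`
  let 𝔠 : Ideal C' := (𝔫.map (u : B →+* C'')).comap (π : C' →+* C'')
  have hum : (𝔫.map (u : B →+* C'')) ^ m = ⊥ := by
    rw [← Ideal.map_pow, eq_bot_iff, Ideal.map_le_iff_le_comap]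
    intro x hx
    rw [Ideal.mem_comap, Ideal.mem_bot]
    exact hu x hx
  have h𝔠m : ∀ y ∈ 𝔠 ^ m, π y = 0 := by
    intro y hy
    have h1 : 𝔠 ^ m ≤ ((𝔫.map (u : B →+* C'')) ^ m).comap (π : C' →+* C'') :=
      Ideal.le_comap_pow _ m
    have h2 := h1 hy
    rw [hum, Ideal.mem_comap, Ideal.mem_bot] at h2
    exact h2
  have h𝔠2m : 𝔠 ^ (m + m) = ⊥ := by
    rw [pow_add, eq_bot_iff, Ideal.mul_le]
    intro x hx y hy
    rw [Ideal.mem_bot]
    exact hK2 x y (h𝔠m x hx) (h𝔠m y hy)
  have hIE𝔠 : (𝔫.comap (pr : E →+* B)).map (sndE : E →+* C') ≤ 𝔠 := by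
    rw [Ideal.map_le_iff_le_comap]
    intro x hx
    rw [Ideal.mem_comap, Ideal.mem_comap]
    have h1 : π (sndE x) = u (pr x) := (hmemE x).symm
    show π (sndE x) ∈ _
    rw [h1]
    exact Ideal.mem_map_of_mem _ hx
  have hnil : ∀ x ∈ (𝔫.comap (pr : E →+* B)) ^ (m + m), pr x = 0 → x = 0 := by
    intro x hx hx0
    apply hext x hx0
    have h1 : (sndE : E →+* C') x ∈ ((𝔫.comap (pr : E →+* B)) ^ (m + m)).map (sndE : E →+* C') :=
      Ideal.mem_map_of_mem _ hx
    rw [Ideal.map_pow] at h1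
    have h2 := Ideal.pow_right_mono hIE𝔠 (m + m) h1
    rw [h𝔠2m, Ideal.mem_bot] at h2
    exact h2
  obtain ⟨s, hs⟩ := exists_section_adic 𝔞 𝔫 pr hfib hpr hK2E h𝔞E (m + m) hnil
  have hv : ∀ b, π (sndE (s b)) = u b := by
    intro b
    have h1 : π (sndE (s b)) = u (pr (s b)) := (hmemE (s b)).symm
    rw [h1, hs]
  refine ⟨sndE.comp s, hv, m + m, ?_⟩
  intro x hx
  have h𝔫𝔠 : 𝔫.map ((sndE.comp s : B →ₐ[A] C') : B →+* C') ≤ 𝔠 := by
    rw [Ideal.map_le_iff_le_comap]
    intro b hb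
    rw [Ideal.mem_comap, Ideal.mem_comap]
    show π (sndE (s b)) ∈ _
    rw [hv]
    exact Ideal.mem_map_of_mem _ hb
  have h1 : ((sndE.comp s : B →ₐ[A] C') : B →+* C') x ∈
      (𝔫 ^ (m + m)).map ((sndE.comp s : B →ₐ[A] C') : B →+* C') := Ideal.mem_map_of_mem _ hx
  rw [Ideal.map_pow] at h1
  have h2 := Ideal.pow_right_mono h𝔫𝔠 (m + m) h1
  rw [h𝔠2m, Ideal.mem_bot] at h2
  exact h2

end KL4



open EGA41 IsLocalRing TensorProduct

section GLoc

attribute [local instance] Algebra.TensorProduct.rightAlgebra in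
/-- geometric regularity passes to localizations. -/
theorem geomRegular_localization {k F : Type u} [Field k] [CommRing F] [Algebra k F]
    (h : CAlg.IsGeometricallyRegular k F) (M : Submonoid F) :
    CAlg.IsGeometricallyRegular k (Localization M) := by
  intro k' _ _ hfin
  haveI h1 : IsRegularRing (k' ⊗[k] F) := h k' hfin
  haveI h2 : IsRegularRing (F ⊗[k] k') :=
    IsRegularRing.of_ringEquiv (Algebra.TensorProduct.comm k k' F).toRingEquiv
  haveI h3 : IsLocalization (Algebra.algebraMapSubmonoid (F ⊗[k] k') M)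
      (Localization M ⊗[F] (F ⊗[k] k')) := inferInstance
  haveI h4 : IsRegularRing (Localization M ⊗[F] (F ⊗[k] k')) :=
    Groth.Agent.Lib.Helper23.GenericFormalFibre.isRegularRing_of_isLocalization
      (Algebra.algebraMapSubmonoid (F ⊗[k] k') M)
  haveI h5 : IsRegularRing (Localization M ⊗[k] k') :=
    IsRegularRing.of_ringEquiv
      (Algebra.TensorProduct.cancelBaseChange k F (Localization M) (Localization M) k').toRingEquiv
  exact IsRegularRing.of_ringEquiv (Algebra.TensorProduct.comm k (Localization M) k').toRingEquiv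

end GLoc



open EGA41 IsLocalRing TensorProduct Groth.Agent.Lib.Helper18.FibBridge
open Groth.Agent.Lib.Helper23.FormalFibreCharP

section M1

variable {B S : Type u} [CommRing B] [CommRing S] [Algebra B S] [IsNoetherianRing B]
  [IsNoetherianRing S]
  (r : Ideal B) [r.IsPrime] (𝔮 : Ideal (r.Fiber S)) [𝔮.IsPrime]
  [Algebra (Localization.AtPrime r) (Localization.AtPrime (ctr r 𝔮))]
  [IsScalarTower B (Localization.AtPrime r) (Localization.AtPrime (ctr r 𝔮))]

theorem map_map_eq :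
    (r.map (algebraMap B S)).map (algebraMap S (Localization.AtPrime (ctr r 𝔮))) =
      (maximalIdeal (Localization.AtPrime r)).map
        (algebraMap (Localization.AtPrime r) (Localization.AtPrime (ctr r 𝔮))) := by
  rw [← Localization.AtPrime.map_eq_maximalIdeal, Ideal.map_map, Ideal.map_map,
    ← IsScalarTower.algebraMap_eq, ← IsScalarTower.algebraMap_eq]

theorem map_le_maximalIdeal :
    (maximalIdeal (Localization.AtPrime r)).map
      (algebraMap (Localization.AtPrime r) (Localization.AtPrime (ctr r 𝔮))) ≤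
      maximalIdeal (Localization.AtPrime (ctr r 𝔮)) := by
  rw [← map_map_eq, ← Localization.AtPrime.map_eq_maximalIdeal]
  apply Ideal.map_mono
  rw [Ideal.map_le_iff_le_comap, ctr_comap r 𝔮]

end M1



open EGA41 IsLocalRing TensorProduct Groth.Agent.Lib.Helper18.FibBridge
open Groth.Agent.Lib.Helper23.FormalFibreCharP

section M2

variable {B S : Type u} [CommRing B] [CommRing S] [Algebra B S] [IsNoetherianRing B]
  [IsNoetherianRing S]
  (r : Ideal B) [r.IsPrime] (𝔮 : Ideal (r.Fiber S)) [𝔮.IsPrime]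
  [Algebra (Localization.AtPrime r) (Localization.AtPrime (ctr r 𝔮))]
  [IsScalarTower B (Localization.AtPrime r) (Localization.AtPrime (ctr r 𝔮))]

/-- ring homomorphisms out of the residue field of `B_r` are determined by their restriction to
`B`. -/
theorem residueField_hom_ext {Y : Type*} [CommRing Y] (f₁ f₂ : r.ResidueField →+* Y)
    (h : ∀ b : B, f₁ (algebraMap B r.ResidueField b) = f₂ (algebraMap B r.ResidueField b)) :
    f₁ = f₂ := by
  apply Ideal.Quotient.ringHom_ext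
  apply IsLocalization.ringHom_ext r.primeCompl
  ext b
  exact h b

theorem fibre_adic (hgeo : CAlg.IsGeometricallyRegular r.ResidueField (r.Fiber S)) :
    CAlgX.IsAdicFormallySmooth
      (Localization.AtPrime r ⧸ maximalIdeal (Localization.AtPrime r))
      (Localization.AtPrime (ctr r 𝔮) ⧸ (maximalIdeal (Localization.AtPrime r)).map
        (algebraMap (Localization.AtPrime r) (Localization.AtPrime (ctr r 𝔮))))
      ((maximalIdeal (Localization.AtPrime (ctr r 𝔮))).map (Ideal.Quotient.mk _)) := by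
  have hFq : CAlg.IsGeometricallyRegular r.ResidueField (Localization.AtPrime 𝔮) :=
    geomRegular_localization hgeo 𝔮.primeCompl
  haveI : IsNoetherianRing (Localization.AtPrime 𝔮) :=
    IsLocalization.isNoetherianRing 𝔮.primeCompl _ inferInstance
  have hadic : CAlgX.IsAdicFormallySmooth r.ResidueField (Localization.AtPrime 𝔮)
      (maximalIdeal (Localization.AtPrime 𝔮)) :=
    (Groth.Agent.Lib.Helper23.GeomRegular.geomRegular_iff_adic).mp hFq
  let e₁ := Ideal.Fiber.algEquivAux₂ (R := B) (S := S) r 𝔮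
  let e₂ := Ideal.quotientEquivAlgOfEq B (map_map_eq r 𝔮)
  let e := e₁.trans e₂
  -- the quotient is local with the expected maximal ideal
  have hne : (maximalIdeal (Localization.AtPrime r)).map
      (algebraMap (Localization.AtPrime r) (Localization.AtPrime (ctr r 𝔮))) ≠ ⊤ := fun htop =>
    (Ideal.IsPrime.ne_top (inferInstance : (maximalIdeal (Localization.AtPrime (ctr r 𝔮))).IsPrime))
      (top_le_iff.mp (htop ▸ map_le_maximalIdeal r 𝔮))
  haveI : Nontrivial (Localization.AtPrime (ctr r 𝔮) ⧸ (maximalIdeal (Localization.AtPrime r)).map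
      (algebraMap (Localization.AtPrime r) (Localization.AtPrime (ctr r 𝔮)))) :=
    Ideal.Quotient.nontrivial_iff.mpr hne
  haveI : IsNoetherianRing (Localization.AtPrime (ctr r 𝔮)) :=
    IsLocalization.isNoetherianRing (ctr r 𝔮).primeCompl _ inferInstance
  have hmax := Groth.Agent.Lib.Helper18.CplQuot.map_maximalIdeal_eq
    (Localization.AtPrime (ctr r 𝔮))
    (Localization.AtPrime (ctr r 𝔮) ⧸ (maximalIdeal (Localization.AtPrime r)).map
      (algebraMap (Localization.AtPrime r) (Localization.AtPrime (ctr r 𝔮))))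
    Ideal.Quotient.mk_surjective
  have hI' : maximalIdeal (Localization.AtPrime 𝔮) ≤
      ((maximalIdeal (Localization.AtPrime (ctr r 𝔮))).map (Ideal.Quotient.mk
        ((maximalIdeal (Localization.AtPrime r)).map
          (algebraMap (Localization.AtPrime r) (Localization.AtPrime (ctr r 𝔮)))))).comap
        (e.toRingEquiv : Localization.AtPrime 𝔮 →+* _) := by
    refine (maximalIdeal_le_comap_ringEquiv (E := Localization.AtPrime 𝔮)
      (E' := Localization.AtPrime (ctr r 𝔮) ⧸ (maximalIdeal (Localization.AtPrime r)).map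
        (algebraMap (Localization.AtPrime r) (Localization.AtPrime (ctr r 𝔮))))
      e.toRingEquiv).trans_eq ?_
    congr 1
    exact hmax.symm
  -- compatibility with the residue field
  have htower : ∀ b : B, algebraMap (Localization.AtPrime r ⧸ maximalIdeal (Localization.AtPrime r))
      (Localization.AtPrime (ctr r 𝔮) ⧸ (maximalIdeal (Localization.AtPrime r)).map
        (algebraMap (Localization.AtPrime r) (Localization.AtPrime (ctr r 𝔮))))
      (algebraMap B r.ResidueField b) =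
      algebraMap B (Localization.AtPrime (ctr r 𝔮) ⧸ (maximalIdeal (Localization.AtPrime r)).map
        (algebraMap (Localization.AtPrime r) (Localization.AtPrime (ctr r 𝔮)))) b := by
    intro b
    show Ideal.Quotient.mk _ (algebraMap (Localization.AtPrime r) (Localization.AtPrime (ctr r 𝔮))
      (algebraMap B (Localization.AtPrime r) b)) =
      Ideal.Quotient.mk _ (algebraMap B (Localization.AtPrime (ctr r 𝔮)) b)
    rw [← IsScalarTower.algebraMap_apply]
  have he : ∀ x : r.ResidueField, e.toRingEquiv (algebraMap r.ResidueField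
      (Localization.AtPrime 𝔮) x) =
      algebraMap (Localization.AtPrime r ⧸ maximalIdeal (Localization.AtPrime r))
        (Localization.AtPrime (ctr r 𝔮) ⧸ (maximalIdeal (Localization.AtPrime r)).map
          (algebraMap (Localization.AtPrime r) (Localization.AtPrime (ctr r 𝔮)))) x := by
    intro x
    have h1 := residueField_hom_ext r
      ((e.toRingEquiv : Localization.AtPrime 𝔮 →+* _).comp
        (algebraMap r.ResidueField (Localization.AtPrime 𝔮)))
      (algebraMap (Localization.AtPrime r ⧸ maximalIdeal (Localization.AtPrime r))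
        (Localization.AtPrime (ctr r 𝔮) ⧸ (maximalIdeal (Localization.AtPrime r)).map
          (algebraMap (Localization.AtPrime r) (Localization.AtPrime (ctr r 𝔮)))))
      (fun b => by
        refine Eq.trans ?_ (htower b).symm
        show e (algebraMap r.ResidueField (Localization.AtPrime 𝔮)
          (algebraMap B r.ResidueField b)) = _
        rw [← IsScalarTower.algebraMap_apply B r.ResidueField (Localization.AtPrime 𝔮)]
        exact e.commutes b)
    exact congrArg (fun f => f x) h1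
  letI algQ : Algebra r.ResidueField
      (Localization.AtPrime (ctr r 𝔮) ⧸ (maximalIdeal (Localization.AtPrime r)).map
        (algebraMap (Localization.AtPrime r) (Localization.AtPrime (ctr r 𝔮)))) :=
    (inferInstance : Algebra (Localization.AtPrime r ⧸ maximalIdeal (Localization.AtPrime r))
      (Localization.AtPrime (ctr r 𝔮) ⧸ (maximalIdeal (Localization.AtPrime r)).map
        (algebraMap (Localization.AtPrime r) (Localization.AtPrime (ctr r 𝔮)))))
  exact adic_of_ringEquiv (R := r.ResidueField) e.toRingEquiv he _ _ hI' hadic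

end M2



open EGA41 IsLocalRing TensorProduct Groth.Agent.Lib.Helper18.FibBridge
open Groth.Agent.Lib.Helper23.FormalFibreCharP

section M3

variable {B S : Type u} [CommRing B] [CommRing S] [Algebra B S] [IsNoetherianRing B]
  [IsNoetherianRing S] [Module.Flat B S]

/-- local rings of a flat map with geometrically regular fibre are formally smooth (adic). -/
theorem formallySmoothAdic_of_geomRegular_fibre (r : Ideal B) [r.IsPrime] (q : Ideal S) [q.IsPrime]
    (hrq : q.comap (algebraMap B S) = r)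
    [Algebra (Localization.AtPrime r) (Localization.AtPrime q)]
    [IsScalarTower B (Localization.AtPrime r) (Localization.AtPrime q)]
    (hgeo : CAlg.IsGeometricallyRegular r.ResidueField (r.Fiber S)) :
    EGA41.IsFormallySmoothAdic (Localization.AtPrime r) (maximalIdeal (Localization.AtPrime r))
      (Localization.AtPrime q) (maximalIdeal (Localization.AtPrime q)) := by
  obtain ⟨𝔮, h𝔮, rfl⟩ := exists_prime_of_comap_eq r q hrq
  haveI : IsNoetherianRing (Localization.AtPrime (ctr r 𝔮)) :=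
    IsLocalization.isNoetherianRing (ctr r 𝔮).primeCompl _ inferInstance
  haveI : Module.Flat B (Localization.AtPrime (ctr r 𝔮)) := inferInstance
  haveI : Module.Flat (Localization.AtPrime r) (Localization.AtPrime (ctr r 𝔮)) :=
    (Module.flat_iff_of_isLocalization (Localization.AtPrime r) r.primeCompl
      (Localization.AtPrime (ctr r 𝔮))).mpr inferInstance
  exact formallySmoothAdic_of_flat_of_fibre _ _ (fibre_adic r 𝔮 hgeo)

end M3

section Main

theorem t4582main {A : Type u} [CommRing A]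
    [IsLocalRing A] [IsNoetherianRing A] [IsAdicComplete (maximalIdeal A) A] (p : Ideal A) [p.IsPrime]
    (q : Ideal (AdicCompletion (maximalIdeal (Localization.AtPrime p)) (Localization.AtPrime p))) [q.IsPrime]
    [Algebra (Localization.AtPrime (q.comap (algebraMap (Localization.AtPrime p)
        (AdicCompletion (maximalIdeal (Localization.AtPrime p)) (Localization.AtPrime p)))))
      (Localization.AtPrime q)]
    [IsScalarTower (Localization.AtPrime p)
      (Localization.AtPrime (q.comap (algebraMap (Localization.AtPrime p)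
        (AdicCompletion (maximalIdeal (Localization.AtPrime p)) (Localization.AtPrime p)))))
      (Localization.AtPrime q)] :
    EGA41.IsFormallySmoothAdic
      (Localization.AtPrime (q.comap (algebraMap (Localization.AtPrime p)
        (AdicCompletion (maximalIdeal (Localization.AtPrime p)) (Localization.AtPrime p)))))
      (maximalIdeal _) (Localization.AtPrime q) (maximalIdeal _) := by
  haveI : IsNoetherianRing (Localization.AtPrime p) :=
    IsLocalization.isNoetherianRing p.primeCompl _ inferInstance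
  haveI : IsNoetherianRing (AdicCompletion (maximalIdeal (Localization.AtPrime p))
      (Localization.AtPrime p)) :=
    Groth.Agent.Lib.Helper21.isNoetherianRing_adicCompletion_of_fg _ (IsNoetherian.noetherian _)
  exact formallySmoothAdic_of_geomRegular_fibre _ q rfl
    (Groth.Agent.Lib.Helper23.CompleteGRing.geomRegular_formalFibre A p _)

end Main

end Groth.Agent.Lib.Helper23.FlatFibreSmooth
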