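import Mathlib
import Groth.Agent.Lib.Helper23.CompleteGRing
import Groth.Agent.Lib.Helper23.FormalFibreCharP4
import Groth.Agent.Lib.Helper9.SemiLocalProd
import Groth.Agent.Lib.Helper18.FibBridge

/-!
Power series rings over complete local rings are regular over the base: Dco (coefficientwise derivation of R[[X]] from a derivation of R), exists_Dco, psBC / psBC_bijective (D ⊗_R R[[T]] ≅ D[[T]] for a finite algebra D over a Noetherian ring R), adic_base_charZero / adic_base_charP (generic fibre of D₀ → D₀[[T]], D₀ regular of char 0 or k[[x]] of char p, is adic formally smooth), adic_localization_of_ringEquiv, adic_dom_of_base, adic_dom (generic fibre of D → D[[T]] for a complete local domain D), geomRegular_generic, geomRegular_of_algEquiv, geomRegular_fiber_mvPowerSeries (all fibres of A → A[[T]], A complete local, geometrically regular), isRegularHom_of_algEquiv_mvPowerSeries.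
-/

set_option autoImplicit false
universe u


namespace Groth.Agent.Lib.Helper23.PSRegular


open MvPowerSeries TensorProduct

section C1

variable {R : Type u} [CommRing R] (n : ℕ)

/-- coefficientwise application of a derivation of `R`. -/
noncomputable def DcoFun (δ : Derivation ℤ R R) (f : MvPowerSeries (Fin n) R) :
    MvPowerSeries (Fin n) R := fun ν => δ (coeff ν f)

theorem coeff_DcoFun (δ : Derivation ℤ R R) (f : MvPowerSeries (Fin n) R) (ν : Fin n →₀ ℕ) :
    coeff ν (DcoFun n δ f) = δ (coeff ν f) := rfl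

/-- coefficientwise extension of a derivation of `R` to `R[[X]]`. -/
noncomputable def Dco (δ : Derivation ℤ R R) :
    Derivation ℤ (MvPowerSeries (Fin n) R) (MvPowerSeries (Fin n) R) :=
  Derivation.mk'
    ({ toFun := DcoFun n δ
       map_zero' := by ext ν; rw [coeff_DcoFun, map_zero, map_zero]
       map_add' := fun f g => by
        ext ν
        rw [coeff_DcoFun, map_add, map_add, map_add, coeff_DcoFun, coeff_DcoFun] } :
      MvPowerSeries (Fin n) R →+ MvPowerSeries (Fin n) R).toIntLinearMap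
    (fun f g => by
      classical
      ext ν
      show coeff ν (DcoFun n δ (f * g)) = coeff ν (f • DcoFun n δ g + g • DcoFun n δ f)
      rw [smul_eq_mul, smul_eq_mul, mul_comm g, map_add, coeff_mul, coeff_mul, coeff_DcoFun,
        coeff_mul, map_sum, ← Finset.sum_add_distrib]
      refine Finset.sum_congr rfl fun x _ => ?_
      rw [Derivation.leibniz, smul_eq_mul, smul_eq_mul, coeff_DcoFun, coeff_DcoFun]
      ring)

theorem coeff_Dco (δ : Derivation ℤ R R) (f : MvPowerSeries (Fin n) R) (ν : Fin n →₀ ℕ) :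
    coeff ν (Dco n δ f) = δ (coeff ν f) := rfl

theorem Dco_C (δ : Derivation ℤ R R) (c : R) : Dco n δ (C c) = C (δ c) := by
  classical
  ext ν
  rw [coeff_Dco, coeff_C, coeff_C]
  split_ifs
  · rfl
  · exact map_zero _

/-- instance-robust form of `Dco`. -/
theorem exists_Dco [i1 : Algebra ℤ R] [i2 : Algebra ℤ (MvPowerSeries (Fin n) R)]
    (δ : Derivation ℤ R R) :
    ∃ D : Derivation ℤ (MvPowerSeries (Fin n) R) (MvPowerSeries (Fin n) R),
      ∀ c, D (C c) = C (δ c) := by
  have h1 : i1 = Ring.toIntAlgebra R := Subsingleton.elim _ _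
  subst h1
  have h2 : i2 = MvPowerSeries.instAlgebra := Subsingleton.elim _ _
  subst h2
  exact ⟨Dco n δ, Dco_C n δ⟩

end C1

section BC

variable (R : Type u) [CommRing R] (D : Type u) [CommRing D] [Algebra R D] (n : ℕ)

/-- the comparison map `D ⊗_R R[[T]] → D[[T]]`. -/
noncomputable def psBC : D ⊗[R] MvPowerSeries (Fin n) R →ₐ[D] MvPowerSeries (Fin n) D :=
  Algebra.TensorProduct.lift (Algebra.ofId D (MvPowerSeries (Fin n) D))
    (MvPowerSeries.mapAlgHom (Algebra.ofId R D))
    (fun _ _ => Commute.all _ _)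

theorem psBC_tmul (d : D) (f : MvPowerSeries (Fin n) R) :
    psBC R D n (d ⊗ₜ f) = C d * MvPowerSeries.map (algebraMap R D) f := by
  rw [psBC, Algebra.TensorProduct.lift_tmul]
  rfl

theorem coeff_psBC_tmul (d : D) (f : MvPowerSeries (Fin n) R) (ν : Fin n →₀ ℕ) :
    coeff ν (psBC R D n (d ⊗ₜ f)) = d * algebraMap R D (coeff ν f) := by
  rw [psBC_tmul, coeff_C_mul, coeff_map]

end BC



open MvPowerSeries TensorProduct

section BC2

variable (R : Type u) [CommRing R] (D : Type u) [CommRing D] [Algebra R D] (n : ℕ)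

/-- a power series from its coefficient function. -/
def mkPS {σ : Type*} {R : Type*} (c : (σ →₀ ℕ) → R) : MvPowerSeries σ R := c

theorem coeff_mkPS {σ : Type*} {R : Type*} [Semiring R] (c : (σ →₀ ℕ) → R) (ν : σ →₀ ℕ) :
    coeff ν (mkPS c) = c ν := rfl

theorem pi_apply_sum {m : ℕ} (π : (Fin m → R) →ₗ[R] D) (r : Fin m → R) :
    π r = ∑ i, r i • π (Pi.single i 1) := by
  classical
  conv_lhs => rw [← Finset.univ_sum_single r]
  rw [map_sum]
  refine Finset.sum_congr rfl fun i _ => ?_
  have : (Pi.single i (r i) : Fin m → R) = r i • Pi.single i 1 := by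
    ext j
    rw [Pi.smul_apply, smul_eq_mul]
    by_cases h : j = i
    · subst h; simp
    · simp [Pi.single_eq_of_ne h]
  rw [this, map_smul]

theorem psBC_surjective [Module.Finite R D] : Function.Surjective (psBC R D n) := by
  classical
  obtain ⟨m, π, hπ⟩ := Module.Finite.exists_fin' R D
  intro G
  choose r hr using fun ν : Fin n →₀ ℕ => hπ (coeff ν G)
  refine ⟨∑ i, (π (Pi.single i 1)) ⊗ₜ[R] (mkPS (fun ν => r ν i) : MvPowerSeries (Fin n) R), ?_⟩
  ext ν
  rw [map_sum, map_sum]
  have : ∀ i, coeff ν (psBC R D n ((π (Pi.single i 1)) ⊗ₜ[R]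
      (mkPS (fun ν => r ν i) : MvPowerSeries (Fin n) R))) = r ν i • π (Pi.single i 1) := by
    intro i
    rw [coeff_psBC_tmul, Algebra.smul_def, mul_comm, coeff_mkPS]
  rw [Finset.sum_congr rfl fun i _ => this i, ← pi_apply_sum, hr]

theorem exists_sum_tmul {m : ℕ} (π : (Fin m → R) →ₗ[R] D) (hπ : Function.Surjective π)
    (x : D ⊗[R] MvPowerSeries (Fin n) R) :
    ∃ f : Fin m → MvPowerSeries (Fin n) R, x = ∑ i, (π (Pi.single i 1)) ⊗ₜ[R] f i := by
  classical
  induction x using TensorProduct.induction_on with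
  | zero => exact ⟨fun _ => 0, by simp⟩
  | tmul d f =>
    obtain ⟨r, rfl⟩ := hπ d
    refine ⟨fun i => r i • f, ?_⟩
    rw [pi_apply_sum R D π r, TensorProduct.sum_tmul]
    refine Finset.sum_congr rfl fun i _ => ?_
    rw [TensorProduct.smul_tmul]
  | add x y hx hy =>
    obtain ⟨f, rfl⟩ := hx
    obtain ⟨g, rfl⟩ := hy
    refine ⟨fun i => f i + g i, ?_⟩
    rw [← Finset.sum_add_distrib]
    refine Finset.sum_congr rfl fun i _ => ?_
    rw [TensorProduct.tmul_add]

theorem psBC_injective [Module.Finite R D] [IsNoetherianRing R] :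
    Function.Injective (psBC R D n) := by
  classical
  obtain ⟨m, π, hπ⟩ := Module.Finite.exists_fin' R D
  have hfg : (LinearMap.ker π).FG := IsNoetherian.noetherian _
  obtain ⟨s, g, hg⟩ := Submodule.fg_iff_exists_fin_generating_family.mp hfg
  rw [injective_iff_map_eq_zero]
  intro x hx
  obtain ⟨f, rfl⟩ := exists_sum_tmul R D n π hπ x
  have hker : ∀ ν : Fin n →₀ ℕ, (fun i => coeff ν (f i)) ∈ LinearMap.ker π := by
    intro ν
    rw [LinearMap.mem_ker, pi_apply_sum R D π]
    have h1 := congrArg (coeff ν) hx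
    rw [map_sum, map_sum, map_zero] at h1
    rw [← h1]
    refine Finset.sum_congr rfl fun i _ => ?_
    rw [coeff_psBC_tmul, Algebra.smul_def, mul_comm]
  have hc : ∀ ν : Fin n →₀ ℕ, ∃ c : Fin s → R, ∑ j, c j • g j = fun i => coeff ν (f i) := by
    intro ν
    have := hker ν
    rw [← hg] at this
    exact (Submodule.mem_span_range_iff_exists_fun R).mp this
  choose c hc using hc
  have hf : ∀ i, f i = ∑ j, g j i • (mkPS (fun ν => c ν j) : MvPowerSeries (Fin n) R) := by
    intro i
    ext ν
    have h2 := congrFun (hc ν) i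
    rw [Finset.sum_apply] at h2
    rw [map_sum, ← h2]
    refine Finset.sum_congr rfl fun j _ => ?_
    rw [Pi.smul_apply, smul_eq_mul, MvPowerSeries.coeff_smul, mul_comm, coeff_mkPS]
  have hgj : ∀ j, π (g j) = 0 := by
    intro j
    have : g j ∈ LinearMap.ker π := by
      rw [← hg]; exact Submodule.subset_span ⟨j, rfl⟩
    exact this
  calc ∑ i, (π (Pi.single i 1)) ⊗ₜ[R] f i
      = ∑ i, ∑ j, (π (Pi.single i 1)) ⊗ₜ[R]
          (g j i • (mkPS (fun ν => c ν j) : MvPowerSeries (Fin n) R)) := by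
        refine Finset.sum_congr rfl fun i _ => ?_
        rw [hf i, TensorProduct.tmul_sum]
    _ = ∑ j, ∑ i, (g j i • π (Pi.single i 1)) ⊗ₜ[R]
          (mkPS (fun ν => c ν j) : MvPowerSeries (Fin n) R) := by
        rw [Finset.sum_comm]
        refine Finset.sum_congr rfl fun j _ => Finset.sum_congr rfl fun i _ => ?_
        rw [TensorProduct.smul_tmul]
    _ = ∑ j, (π (g j)) ⊗ₜ[R] (mkPS (fun ν => c ν j) : MvPowerSeries (Fin n) R) := by
        refine Finset.sum_congr rfl fun j _ => ?_
        rw [← TensorProduct.sum_tmul, ← pi_apply_sum]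
    _ = 0 := by
        refine Finset.sum_eq_zero fun j _ => ?_
        rw [hgj, TensorProduct.zero_tmul]

theorem psBC_bijective [Module.Finite R D] [IsNoetherianRing R] :
    Function.Bijective (psBC R D n) :=
  ⟨psBC_injective R D n, psBC_surjective R D n⟩

end BC2



open MvPowerSeries TensorProduct IsLocalRing
open Groth.Agent.Lib.Helper23.FormalFibreCharP Groth.Agent.Lib.Helper23.CompleteGRing

section Base

variable {D₀ : Type u} [CommRing D₀] [IsDomain D₀] [IsRegularLocalRing D₀] (n : ℕ)
  (Q₀ : Ideal (MvPowerSeries (Fin n) D₀)) [Q₀.IsPrime]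
  (hQ : Q₀.comap (algebraMap D₀ (MvPowerSeries (Fin n) D₀)) = ⊥)

include hQ in
theorem isUnit_base (c : D₀) (hc : c ≠ 0) :
    IsUnit (algebraMap D₀ (Localization.AtPrime Q₀) c) := by
  rw [IsScalarTower.algebraMap_apply D₀ (MvPowerSeries (Fin n) D₀) (Localization.AtPrime Q₀)]
  apply IsLocalization.map_units (M := Q₀.primeCompl) (Localization.AtPrime Q₀) ⟨_, _⟩
  intro hmem
  have h2 : c ∈ Q₀.comap (algebraMap D₀ (MvPowerSeries (Fin n) D₀)) := hmem
  rw [hQ, Ideal.mem_bot] at h2
  exact hc h2

theorem isRegularLocalRing_base : IsRegularLocalRing (Localization.AtPrime Q₀) := by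
  haveI : IsRegularLocalRing (MvPowerSeries (Fin n) D₀) :=
    Groth.Agent.Lib.Helper18.CST.isRegularLocalRing_mvPowerSeries D₀ n
  haveI : IsRegularRing (MvPowerSeries (Fin n) D₀) :=
    Groth.Agent.Lib.Helper25.RegularSmooth.isRegularRing_of_isRegularLocalRing _
  infer_instance

include hQ in
theorem adic_base_charZero [CharZero D₀] :
    CAlgX.IsAdicFormallySmooth D₀ (Localization.AtPrime Q₀)
      (maximalIdeal (Localization.AtPrime Q₀)) := by
  haveI := isRegularLocalRing_base n Q₀
  haveI : IsNoetherianRing (Localization.AtPrime Q₀) := inferInstance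
  exact adic_of_regular_charZero (isUnit_base n Q₀ hQ) (isRegularLocalRing_base n Q₀)

end Base

section BaseP

variable (p : ℕ) [hp : Fact p.Prime] {k : Type u} [Field k] [hk : CharP k p] (d n : ℕ)
  (Q₀ : Ideal (MvPowerSeries (Fin n) (MvPowerSeries (Fin d) k))) [Q₀.IsPrime]
  (hQ : Q₀.comap (algebraMap (MvPowerSeries (Fin d) k)
    (MvPowerSeries (Fin n) (MvPowerSeries (Fin d) k))) = ⊥)

include p hp hk hQ in
theorem adic_base_charP :
    CAlgX.IsAdicFormallySmooth (MvPowerSeries (Fin d) k) (Localization.AtPrime Q₀)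
      (maximalIdeal (Localization.AtPrime Q₀)) := by
  haveI : IsDomain (MvPowerSeries (Fin d) k) := NoZeroDivisors.to_isDomain _
  haveI : IsRegularLocalRing (MvPowerSeries (Fin d) k) :=
    Groth.Agent.Lib.Helper1.ArtFunLib.isRegularLocalRing_mvPowerSeries k d
  haveI := isRegularLocalRing_base n Q₀
  haveI : Algebra.FormallyEtale (MvPowerSeries (Fin n) (MvPowerSeries (Fin d) k))
      (Localization.AtPrime Q₀) := Algebra.FormallyEtale.of_isLocalization Q₀.primeCompl
  refine adic_of_powerSeries p d (isUnit_base n Q₀ hQ) ?_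
  intro D₀
  obtain ⟨D₁, hD₁⟩ := exists_Dco n D₀
  obtain ⟨D₂, hD₂⟩ := exists_derivation_of_formallyEtale
    (A := MvPowerSeries (Fin n) (MvPowerSeries (Fin d) k)) (B := Localization.AtPrime Q₀) D₁
  have e1 : ∀ g : MvPowerSeries (Fin d) k,
      algebraMap (MvPowerSeries (Fin d) k) (Localization.AtPrime Q₀) g =
      algebraMap (MvPowerSeries (Fin n) (MvPowerSeries (Fin d) k)) (Localization.AtPrime Q₀)
        (C g) := by
    intro g
    rw [IsScalarTower.algebraMap_apply (MvPowerSeries (Fin d) k)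
      (MvPowerSeries (Fin n) (MvPowerSeries (Fin d) k)) (Localization.AtPrime Q₀),
      MvPowerSeries.algebraMap_apply, Algebra.algebraMap_self, RingHom.id_apply]
  refine ⟨D₂, fun f => ?_⟩
  rw [e1, hD₂, hD₁, e1]

end BaseP



open MvPowerSeries TensorProduct IsLocalRing
open Groth.Agent.Lib.Helper23.FormalFibreCharP Groth.Agent.Lib.Helper23.CompleteGRing

section Transport

/-- transport of adic formal smoothness of a localization along a ring isomorphism. -/
theorem adic_localization_of_ringEquiv {R T S' : Type u} [CommRing R] [CommRing T] [CommRing S']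
    [Algebra R T] [Algebra R S'] (e : T ≃+* S')
    (he : ∀ r, e (algebraMap R T r) = algebraMap R S' r) (Q : Ideal S') [Q.IsPrime]
    (h : CAlgX.IsAdicFormallySmooth R (Localization.AtPrime (Q.comap e))
      (maximalIdeal (Localization.AtPrime (Q.comap e)))) :
    CAlgX.IsAdicFormallySmooth R (Localization.AtPrime Q)
      (maximalIdeal (Localization.AtPrime Q)) := by
  let e₂ : Localization.AtPrime (Q.comap e) ≃+* Localization.AtPrime Q :=
    IsLocalization.ringEquivOfRingEquiv
      (Localization.AtPrime (Q.comap e)) (Localization.AtPrime Q) e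
      (e.map_primeCompl_comap_eq Q)
  refine adic_of_ringEquiv e₂ (fun r => ?_) _ _ (maximalIdeal_le_comap_ringEquiv _) h
  rw [IsScalarTower.algebraMap_apply R T (Localization.AtPrime (Q.comap e))]
  have h4 : e₂ (algebraMap T (Localization.AtPrime (Q.comap e))
      (algebraMap R T r)) = algebraMap _ (Localization.AtPrime Q) (e (algebraMap R T r)) :=
    IsLocalization.ringEquivOfRingEquiv_eq _ _
  rw [h4, he, ← IsScalarTower.algebraMap_apply R S' (Localization.AtPrime Q)]

end Transport

section Dom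

variable {D : Type u} [CommRing D] [IsDomain D] [IsLocalRing D] [IsNoetherianRing D]
  [IsAdicComplete (maximalIdeal D) D] (n : ℕ)

/-- reduction to the base case through a finite injective map from a power series ring. -/
theorem adic_dom_of_base {D₀ : Type u} [CommRing D₀] [IsNoetherianRing D₀]
    (f : D₀ →+* D) (hinj : Function.Injective f) (hfin : f.Finite)
    (Hbase : ∀ (Q₀ : Ideal (MvPowerSeries (Fin n) D₀)) [Q₀.IsPrime],
      Q₀.comap (algebraMap D₀ (MvPowerSeries (Fin n) D₀)) = ⊥ →
      CAlgX.IsAdicFormallySmooth D₀ (Localization.AtPrime Q₀)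
        (maximalIdeal (Localization.AtPrime Q₀)))
    (Q : Ideal (MvPowerSeries (Fin n) D)) [Q.IsPrime]
    (hQ : Q.comap (algebraMap D (MvPowerSeries (Fin n) D)) = ⊥) :
    CAlgX.IsAdicFormallySmooth D (Localization.AtPrime Q)
      (maximalIdeal (Localization.AtPrime Q)) := by
  letI := f.toAlgebra
  haveI : Module.Finite D₀ D := hfin
  let e : D ⊗[D₀] MvPowerSeries (Fin n) D₀ ≃ₐ[D] MvPowerSeries (Fin n) D :=
    AlgEquiv.ofBijective (psBC D₀ D n) (psBC_bijective D₀ D n)
  have he : ∀ x, e x = psBC D₀ D n x := fun x => rfl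
  refine adic_localization_of_ringEquiv (R := D) e.toRingEquiv (fun r => e.commutes r) Q ?_
  set Q' : Ideal (D ⊗[D₀] MvPowerSeries (Fin n) D₀) :=
    Q.comap e.toRingEquiv with hQ'
  haveI : Q'.IsPrime := Ideal.comap_isPrime _ Q
  set Q₀ : Ideal (MvPowerSeries (Fin n) D₀) :=
    Q'.comap ((Algebra.TensorProduct.includeRight :
      MvPowerSeries (Fin n) D₀ →ₐ[D₀] D ⊗[D₀] MvPowerSeries (Fin n) D₀) :
      MvPowerSeries (Fin n) D₀ →+* D ⊗[D₀] MvPowerSeries (Fin n) D₀) with hQ₀
  haveI : Q₀.IsPrime := Ideal.comap_isPrime _ Q'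
  have hQ₀b : Q₀.comap (algebraMap D₀ (MvPowerSeries (Fin n) D₀)) = ⊥ := by
    rw [eq_bot_iff]
    intro c hc
    have h1 : e ((1 : D) ⊗ₜ[D₀] (algebraMap D₀ (MvPowerSeries (Fin n) D₀) c)) ∈ Q := hc
    have h2 : e ((1 : D) ⊗ₜ[D₀] (algebraMap D₀ (MvPowerSeries (Fin n) D₀) c)) =
        algebraMap D (MvPowerSeries (Fin n) D) (f c) := by
      rw [he, psBC_tmul, map_one, one_mul, MvPowerSeries.algebraMap_apply,
        MvPowerSeries.algebraMap_apply, Algebra.algebraMap_self, RingHom.id_apply,
        Algebra.algebraMap_self, RingHom.id_apply, MvPowerSeries.map_C]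
      rfl
    rw [h2] at h1
    have h3 : f c ∈ Q.comap (algebraMap D (MvPowerSeries (Fin n) D)) := h1
    rw [hQ, Ideal.mem_bot] at h3
    rw [Ideal.mem_bot]
    exact hinj (by rw [h3, map_zero])
  exact Groth.Agent.Lib.Helper23.GeomRegular2.adic_tensor_atPrime (k := D₀)
    (S := MvPowerSeries (Fin n) D₀) (K := D) Q' Q₀ rfl (Hbase Q₀ hQ₀b)

/-- **generic fibre of `D → D[[T]]`** for a complete local domain `D`. -/
theorem adic_dom (Q : Ideal (MvPowerSeries (Fin n) D)) [Q.IsPrime]
    (hQ : Q.comap (algebraMap D (MvPowerSeries (Fin n) D)) = ⊥) :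
    CAlgX.IsAdicFormallySmooth D (Localization.AtPrime Q)
      (maximalIdeal (Localization.AtPrime Q)) := by
  obtain ⟨Λ, _, d, f, hΛ, hfinj, hffin, -⟩ := Groth.Agent.Lib.Helper18.CST.exists_finite_injective D
  rcases hΛ with hF | hC
  · letI := hF.toField
    haveI : IsDomain (MvPowerSeries (Fin d) Λ) := NoZeroDivisors.to_isDomain _
    haveI : IsRegularLocalRing (MvPowerSeries (Fin d) Λ) :=
      Groth.Agent.Lib.Helper1.ArtFunLib.isRegularLocalRing_mvPowerSeries Λ d
    obtain ⟨c, hc⟩ := CharP.exists Λ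
    rcases CharP.char_is_prime_or_zero Λ c with hcp | hc0
    · haveI : Fact c.Prime := ⟨hcp⟩
      exact adic_dom_of_base n f hfinj hffin
        (fun Q₀ _ hQ₀ => adic_base_charP c d n Q₀ hQ₀) Q hQ
    · subst hc0
      haveI : CharZero Λ := CharP.charP_to_charZero Λ
      haveI : CharZero (MvPowerSeries (Fin d) Λ) :=
        charZero_of_injective_algebraMap (algebraMap Λ (MvPowerSeries (Fin d) Λ)).injective
      exact adic_dom_of_base n f hfinj hffin
        (fun Q₀ _ hQ₀ => adic_base_charZero n Q₀ hQ₀) Q hQ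
  · have hC' : EGA41.IsCohenRingEGA Λ := Or.inr hC
    obtain ⟨hdom, hdvr, -⟩ := hC
    obtain ⟨c, -, -, hcz, -⟩ := Groth.Agent.Lib.Helper23.CohenRing.cohenRing_data hC'
    haveI := Groth.Agent.Lib.Helper18.CST.isRegularLocalRing_of_isCohenRingEGA hC'
    haveI : IsDomain (MvPowerSeries (Fin d) Λ) := NoZeroDivisors.to_isDomain _
    haveI : IsRegularLocalRing (MvPowerSeries (Fin d) Λ) :=
      Groth.Agent.Lib.Helper18.CST.isRegularLocalRing_mvPowerSeries Λ d
    haveI : CharZero (MvPowerSeries (Fin d) Λ) :=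
      charZero_of_injective_algebraMap (R := Λ) (A := MvPowerSeries (Fin d) Λ)
        (fun a b hab => MvPowerSeries.C_injective hab)
    exact adic_dom_of_base n f hfinj hffin
      (fun Q₀ _ hQ₀ => adic_base_charZero n Q₀ hQ₀) Q hQ

end Dom



open MvPowerSeries TensorProduct IsLocalRing
open Groth.Agent.Lib.Helper23.FormalFibreCharP Groth.Agent.Lib.Helper23.CompleteGRing

section Gen

variable {D : Type u} [CommRing D] [IsDomain D] [IsLocalRing D] [IsNoetherianRing D]
  [IsAdicComplete (maximalIdeal D) D] (n : ℕ)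
  (K : Type u) [Field K] [Algebra D K] [IsFractionRing D K]

theorem isNoetherianRing_generic : IsNoetherianRing (K ⊗[D] MvPowerSeries (Fin n) D) := by
  letI : Algebra (MvPowerSeries (Fin n) D) (K ⊗[D] MvPowerSeries (Fin n) D) :=
    Algebra.TensorProduct.rightAlgebra
  haveI := IsLocalization.tensorRight (S := MvPowerSeries (Fin n) D) K (nonZeroDivisors D)
  exact IsLocalization.isNoetherianRing
    (Algebra.algebraMapSubmonoid (MvPowerSeries (Fin n) D) (nonZeroDivisors D)) _ inferInstance

/-- the generic fibre of `D → D[[T]]` is geometrically regular (`D` a complete local domain). -/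
theorem geomRegular_generic :
    CAlg.IsGeometricallyRegular K (K ⊗[D] MvPowerSeries (Fin n) D) := by
  haveI := isNoetherianRing_generic (D := D) n K
  refine geomRegular_of_forall_adic (fun 𝔮 _ => ?_)
  let φ : MvPowerSeries (Fin n) D →+* K ⊗[D] MvPowerSeries (Fin n) D :=
    ((Algebra.TensorProduct.includeRight : MvPowerSeries (Fin n) D →ₐ[D]
      K ⊗[D] MvPowerSeries (Fin n) D) : MvPowerSeries (Fin n) D →+* _)
  haveI : (𝔮.comap φ).IsPrime := Ideal.comap_isPrime φ 𝔮
  have hq : (𝔮.comap φ).comap (algebraMap D (MvPowerSeries (Fin n) D)) = ⊥ := by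
    rw [eq_bot_iff]
    intro c hc
    rw [Ideal.mem_bot]
    by_contra hc0
    have h1 : (1 : K) ⊗ₜ[D] (algebraMap D (MvPowerSeries (Fin n) D) c) ∈ 𝔮 := hc
    have h2 : (1 : K) ⊗ₜ[D] (algebraMap D (MvPowerSeries (Fin n) D) c) =
        algebraMap K (K ⊗[D] MvPowerSeries (Fin n) D) (algebraMap D K c) := by
      rw [Algebra.TensorProduct.algebraMap_apply, Algebra.algebraMap_self, RingHom.id_apply,
        Algebra.algebraMap_eq_smul_one, Algebra.algebraMap_eq_smul_one, TensorProduct.tmul_smul,
        TensorProduct.smul_tmul']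
    rw [h2] at h1
    have h3 : algebraMap D K c ≠ 0 := by
      intro h0
      exact hc0 ((IsFractionRing.injective D K) (by rw [h0, map_zero]))
    have h4 : IsUnit (algebraMap K (K ⊗[D] MvPowerSeries (Fin n) D) (algebraMap D K c)) :=
      (IsUnit.mk0 _ h3).map _
    exact (Ideal.IsPrime.ne_top inferInstance) (Ideal.eq_top_of_isUnit_mem _ h1 h4)
  exact Groth.Agent.Lib.Helper23.GeomRegular2.adic_tensor_atPrime (k := D)
    (S := MvPowerSeries (Fin n) D) (K := K) 𝔮 (𝔮.comap φ) rfl
    (adic_dom n (𝔮.comap φ) hq)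

end Gen

section Transfer

/-- geometric regularity transfers along an isomorphism of algebras. -/
theorem geomRegular_of_algEquiv {k S S' : Type u} [Field k] [CommRing S] [CommRing S']
    [Algebra k S] [Algebra k S'] (e : S ≃ₐ[k] S') (h : CAlg.IsGeometricallyRegular k S) :
    CAlg.IsGeometricallyRegular k S' := by
  intro k' _ _ hfin
  haveI := h k' hfin
  exact IsRegularRing.of_ringEquiv
    (Algebra.TensorProduct.congr (AlgEquiv.refl : k' ≃ₐ[k] k') e).toRingEquiv

end Transfer



open MvPowerSeries TensorProduct IsLocalRing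

section G

variable (A : Type u) [CommRing A] [IsLocalRing A] [IsNoetherianRing A]
  [IsAdicComplete (maximalIdeal A) A] (n : ℕ)

/-- all fibres of `A → A[[T₁,…,Tₙ]]` are geometrically regular (`A` complete local). -/
theorem geomRegular_fiber_mvPowerSeries (p : Ideal A) [p.IsPrime] :
    CAlg.IsGeometricallyRegular p.ResidueField (p.Fiber (MvPowerSeries (Fin n) A)) := by
  haveI : Nontrivial (A ⧸ p) := Ideal.Quotient.nontrivial_iff.mpr (Ideal.IsPrime.ne_top inferInstance)
  haveI : IsLocalRing (A ⧸ p) :=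
    IsLocalRing.of_surjective' (Ideal.Quotient.mk p) Ideal.Quotient.mk_surjective
  haveI : IsAdicComplete (maximalIdeal (A ⧸ p)) (A ⧸ p) :=
    Groth.Agent.Lib.Helper9.SemiLocalProd.isAdicComplete_maximalIdeal_of_finite A (A ⧸ p)
  have h1 : CAlg.IsGeometricallyRegular p.ResidueField
      (p.ResidueField ⊗[A ⧸ p] MvPowerSeries (Fin n) (A ⧸ p)) :=
    geomRegular_generic (D := A ⧸ p) n p.ResidueField
  let e1 : p.ResidueField ⊗[A ⧸ p] ((A ⧸ p) ⊗[A] MvPowerSeries (Fin n) A) ≃ₐ[p.ResidueField]
      p.ResidueField ⊗[A] MvPowerSeries (Fin n) A :=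
    Algebra.TensorProduct.cancelBaseChange A (A ⧸ p) p.ResidueField p.ResidueField
      (MvPowerSeries (Fin n) A)
  let e2 : (A ⧸ p) ⊗[A] MvPowerSeries (Fin n) A ≃ₐ[A ⧸ p] MvPowerSeries (Fin n) (A ⧸ p) :=
    AlgEquiv.ofBijective (psBC A (A ⧸ p) n) (psBC_bijective A (A ⧸ p) n)
  let e3 : p.ResidueField ⊗[A ⧸ p] ((A ⧸ p) ⊗[A] MvPowerSeries (Fin n) A) ≃ₐ[p.ResidueField]
      p.ResidueField ⊗[A ⧸ p] MvPowerSeries (Fin n) (A ⧸ p) :=
    Algebra.TensorProduct.congr (AlgEquiv.refl : p.ResidueField ≃ₐ[p.ResidueField] p.ResidueField) e2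
  exact geomRegular_of_algEquiv (e3.symm.trans e1) h1

/-- **`A → E` is regular** when `A` is a complete Noetherian local ring and `E` is a flat
`A`-algebra isomorphic to a power series ring over `A`. -/
theorem isRegularHom_of_algEquiv_mvPowerSeries (E : Type u) [CommRing E] [Algebra A E]
    [Module.Flat A E] (e : MvPowerSeries (Fin n) A ≃ₐ[A] E) : CAlg.IsRegularHom A E := by
  haveI : IsNoetherianRing E := isNoetherianRing_of_ringEquiv _ e.toRingEquiv
  refine ⟨inferInstance, fun p _ => ⟨inferInstance, ?_⟩⟩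
  exact geomRegular_of_algEquiv
    (Algebra.TensorProduct.congr (AlgEquiv.refl : p.ResidueField ≃ₐ[p.ResidueField] p.ResidueField) e)
    (geomRegular_fiber_mvPowerSeries A n p)

end G

end Groth.Agent.Lib.Helper23.PSRegular
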