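import Mathlib
import Groth.Agent.Lib.Helper23.FlatFibreSmooth
import Groth.Agent.Lib.Helper25.CompleteDVR
import Groth.Agent.Lib.Helper9.SemiLocalProd
import Groth.Agent.Lib.Helper1.ArtFunPSSmooth
import Groth.Agent.Lib.Helper1.ArtFunTangentSurj
import Groth.Agent.Lib.Helper23.PSRegular
import Groth.Agent.Lib.Helper18.LocHom
import Groth.Agent.Lib.Helper23.GeomRegular2
import Groth.Agent.Lib.Helper18.PMor
import Groth.Agent.Lib.Helper23.CohenAlg
import Groth.Agent.Lib.Helper15.RigClosed

/-!
EGA IV 7.5.1 (complete case): flat local homomorphisms of complete Noetherian local rings with finite residue extension and geometrically regular closed fibre are regular. formallySmoothAdic_of_localization, formallySmoothAdic_of_geomRegular_closedFibre (EGA 0_IV 19.7.1 (a)=>(b) for local rings), lift_of_surjective, lift_localization_baseChange, finite_localization / isAdicComplete_localization / flat_localization / isLocalHom_localization / residue_surjective_localization (local rings of A' ⊗_A B at maximal ideals, A' finite over A, B complete), exists_algEquiv_mvPowerSeries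 (structure of formally smooth complete local algebras with trivial residue extension, via helper1's Schlessinger machinery), isRegularHom_baseChange_of_splits, isRegularHom_of_baseChange (descent of regularity along a finite base change surjective on Spec), exists_finite_gonflement, isRegularHom_of_closedFibre.
-/

set_option autoImplicit false
universe u


namespace Groth.Agent.Lib.Helper23.ResidueFiniteLoc


open IsLocalRing TensorProduct

section T

variable {A B : Type u} [CommRing A] [IsLocalRing A] [CommRing B] [IsLocalRing B] [Algebra A B]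
  [IsLocalHom (algebraMap A B)]

theorem isUnit_of_notMem_maximalIdeal {R : Type*} [CommRing R] [IsLocalRing R] {x : R}
    (hx : x ∉ maximalIdeal R) : IsUnit x := by
  by_contra h
  exact hx ((mem_maximalIdeal x).mpr h)

/-- transport of adic formal smoothness from the localizations at the maximal ideals back to the
local rings themselves. -/
theorem formallySmoothAdic_of_localization
    [Algebra (Localization.AtPrime (maximalIdeal A)) (Localization.AtPrime (maximalIdeal B))]
    [IsScalarTower A (Localization.AtPrime (maximalIdeal A)) (Localization.AtPrime (maximalIdeal B))]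
    (h : EGA41.IsFormallySmoothAdic (Localization.AtPrime (maximalIdeal A))
      (maximalIdeal (Localization.AtPrime (maximalIdeal A)))
      (Localization.AtPrime (maximalIdeal B)) (maximalIdeal (Localization.AtPrime (maximalIdeal B)))) :
    EGA41.IsFormallySmoothAdic A (maximalIdeal A) B (maximalIdeal B) := by
  intro C _ _ J hJ ⟨k, hk⟩ u ⟨k', hk'⟩
  -- `C` as an algebra over `A_m`
  have hu1 : ∀ y : (maximalIdeal A).primeCompl, IsUnit (algebraMap A C y) := fun y =>
    (isUnit_of_notMem_maximalIdeal y.2).map _
  letI : Algebra (Localization.AtPrime (maximalIdeal A)) C :=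
    (IsLocalization.lift (M := (maximalIdeal A).primeCompl)
      (S := Localization.AtPrime (maximalIdeal A)) hu1).toAlgebra
  haveI : IsScalarTower A (Localization.AtPrime (maximalIdeal A)) C :=
    IsScalarTower.of_algebraMap_eq (fun a => (IsLocalization.lift_eq hu1 a).symm)
  haveI : IsScalarTower A (Localization.AtPrime (maximalIdeal A)) (C ⧸ J) :=
    IsScalarTower.of_algebraMap_eq (fun a => by
      rw [IsScalarTower.algebraMap_apply (Localization.AtPrime (maximalIdeal A)) C (C ⧸ J),
        ← IsScalarTower.algebraMap_apply A (Localization.AtPrime (maximalIdeal A)) C,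
        ← IsScalarTower.algebraMap_apply A C (C ⧸ J)])
  -- extend `u`
  have hu2 : ∀ y : (maximalIdeal B).primeCompl, IsUnit ((u : B →+* C ⧸ J) y) := fun y =>
    (isUnit_of_notMem_maximalIdeal y.2).map _
  let ub0 : Localization.AtPrime (maximalIdeal B) →+* C ⧸ J :=
    IsLocalization.lift (M := (maximalIdeal B).primeCompl) hu2
  have hub0 : ∀ b : B, ub0 (algebraMap B _ b) = u b := fun b => IsLocalization.lift_eq hu2 b
  let ub : Localization.AtPrime (maximalIdeal B) →ₐ[Localization.AtPrime (maximalIdeal A)] C ⧸ J :=
    { ub0 with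
      commutes' := by
        intro x
        have : (ub0.comp (algebraMap (Localization.AtPrime (maximalIdeal A))
            (Localization.AtPrime (maximalIdeal B)))) =
            algebraMap (Localization.AtPrime (maximalIdeal A)) (C ⧸ J) := by
          apply IsLocalization.ringHom_ext (maximalIdeal A).primeCompl
          ext a
          rw [RingHom.comp_apply, RingHom.comp_apply, RingHom.comp_apply,
            ← IsScalarTower.algebraMap_apply A (Localization.AtPrime (maximalIdeal A))
              (Localization.AtPrime (maximalIdeal B)),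
            IsScalarTower.algebraMap_apply A B (Localization.AtPrime (maximalIdeal B)), hub0,
            ← IsScalarTower.algebraMap_apply A (Localization.AtPrime (maximalIdeal A)) (C ⧸ J)]
          exact u.commutes a
        exact RingHom.congr_fun this x }
  have hcont1 : ∃ k : ℕ, (maximalIdeal (Localization.AtPrime (maximalIdeal A)) ^ k).map
      (algebraMap (Localization.AtPrime (maximalIdeal A)) C) = ⊥ := by
    refine ⟨k, ?_⟩
    rw [← Localization.AtPrime.map_eq_maximalIdeal, ← Ideal.map_pow, Ideal.map_map,
      ← IsScalarTower.algebraMap_eq]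
    exact hk
  have hcont2 : ∃ k : ℕ, ∀ x ∈ maximalIdeal (Localization.AtPrime (maximalIdeal B)) ^ k,
      ub x = 0 := by
    refine ⟨k', fun x hx => ?_⟩
    rw [← Localization.AtPrime.map_eq_maximalIdeal, ← Ideal.map_pow] at hx
    have h1 : (maximalIdeal B ^ k').map (algebraMap B (Localization.AtPrime (maximalIdeal B))) ≤
        RingHom.ker ub0 := by
      rw [Ideal.map_le_iff_le_comap]
      intro b hb
      rw [Ideal.mem_comap, RingHom.mem_ker, hub0]
      exact hk' b hb
    exact h1 hx
  obtain ⟨vb, hvb⟩ := h C J hJ hcont1 ub hcont2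
  let v : B →ₐ[A] C :=
    { (vb : Localization.AtPrime (maximalIdeal B) →+* C).comp
        (algebraMap B (Localization.AtPrime (maximalIdeal B))) with
      commutes' := by
        intro a
        show vb (algebraMap B _ (algebraMap A B a)) = _
        rw [← IsScalarTower.algebraMap_apply A B (Localization.AtPrime (maximalIdeal B)),
          IsScalarTower.algebraMap_apply A (Localization.AtPrime (maximalIdeal A))
            (Localization.AtPrime (maximalIdeal B)), vb.commutes,
          ← IsScalarTower.algebraMap_apply A (Localization.AtPrime (maximalIdeal A)) C] }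
  refine ⟨v, ?_⟩
  ext b
  have h2 : (Ideal.Quotient.mkₐ (Localization.AtPrime (maximalIdeal A)) J)
      (vb (algebraMap B _ b)) = ub (algebraMap B _ b) :=
    AlgHom.congr_fun hvb (algebraMap B _ b)
  show (Ideal.Quotient.mk J) (vb (algebraMap B _ b)) = u b
  rw [← hub0 b]
  exact h2

end T

section P1

variable {A B : Type u} [CommRing A] [IsLocalRing A] [IsNoetherianRing A] [CommRing B]
  [IsLocalRing B] [IsNoetherianRing B] [Algebra A B] [IsLocalHom (algebraMap A B)]
  [Module.Flat A B]

/-- EGA 0_IV 19.7.1 (a) ⇒ (b) for local rings: a flat local homomorphism of Noetherian local rings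
whose closed fibre is geometrically regular is formally smooth for the adic topologies. -/
theorem formallySmoothAdic_of_geomRegular_closedFibre
    (h : CAlg.IsGeometricallyRegular (maximalIdeal A).ResidueField ((maximalIdeal A).Fiber B)) :
    EGA41.IsFormallySmoothAdic A (maximalIdeal A) B (maximalIdeal B) := by
  have hrq : (maximalIdeal B).comap (algebraMap A B) = maximalIdeal A :=
    ((local_hom_TFAE (algebraMap A B)).out 0 4).mp ‹_›
  haveI : (maximalIdeal B).LiesOver (maximalIdeal A) := ⟨hrq.symm⟩
  letI : Algebra (Localization.AtPrime (maximalIdeal A)) (Localization.AtPrime (maximalIdeal B)) :=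
    Localization.AtPrime.algebraOfLiesOver (maximalIdeal A) (maximalIdeal B)
  haveI : IsScalarTower A (Localization.AtPrime (maximalIdeal A))
      (Localization.AtPrime (maximalIdeal B)) := inferInstance
  exact formallySmoothAdic_of_localization
    (Groth.Agent.Lib.Helper23.FlatFibreSmooth.formallySmoothAdic_of_geomRegular_fibre
      (maximalIdeal A) (maximalIdeal B) hrq h)

end P1



open IsLocalRing TensorProduct

section Surj

variable {A B : Type u} [CommRing A] [CommRing B] [Algebra A B] {𝔞 : Ideal A} {𝔟 : Ideal B}

/-- the lifting property of adic formal smoothness, for surjections with nilpotent kernel. -/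
theorem lift_of_surjective (hfs : EGA41.IsFormallySmoothAdic A 𝔞 B 𝔟)
    {C Cb : Type u} [CommRing C] [CommRing Cb] [Algebra A C] [Algebra A Cb]
    (μ : C →ₐ[A] Cb) (hμ : Function.Surjective μ) (hnil : IsNilpotent (RingHom.ker (μ : C →+* Cb)))
    (hcont : ∃ k : ℕ, (𝔞 ^ k).map (algebraMap A C) = ⊥)
    (u : B →ₐ[A] Cb) (hu : ∃ k : ℕ, ∀ x ∈ 𝔟 ^ k, u x = 0) :
    ∃ v : B →ₐ[A] C, μ.comp v = u := by
  let e : (C ⧸ RingHom.ker (μ : C →+* Cb)) ≃ₐ[A] Cb := Ideal.quotientKerAlgEquivOfSurjective hμ
  have he : ∀ c : C, e (Ideal.Quotient.mk _ c) = μ c := fun c => rfl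
  obtain ⟨k, hk⟩ := hu
  obtain ⟨v, hv⟩ := hfs C (RingHom.ker (μ : C →+* Cb)) hnil hcont
    ((e.symm : Cb →ₐ[A] _).comp u) ⟨k, fun x hx => by
      rw [AlgHom.comp_apply, hk x hx, map_zero]⟩
  refine ⟨v, ?_⟩
  ext b
  have h1 := AlgHom.congr_fun hv b
  rw [AlgHom.comp_apply, AlgHom.comp_apply] at h1
  have h2 : e (Ideal.Quotient.mk _ (v b)) = e (e.symm (u b)) := congrArg e h1
  rw [he, AlgEquiv.apply_symm_apply] at h2
  exact h2

end Surj

section Nil

theorem isNilpotent_of_mem_maximalIdeal {C : Type*} [CommRing C] [IsLocalRing C] [IsArtinianRing C]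
    {x : C} (hx : x ∈ maximalIdeal C) : IsNilpotent x := by
  have := IsArtinianRing.isNilpotent_jacobson_bot (R := C)
  rw [IsLocalRing.jacobson_eq_maximalIdeal ⊥ bot_ne_top] at this
  obtain ⟨N, hN⟩ := this
  refine ⟨N, ?_⟩
  have : x ^ N ∈ maximalIdeal C ^ N := Ideal.pow_mem_pow hx N
  rw [hN] at this
  exact this

theorem exists_maximalIdeal_pow_eq_bot (C : Type*) [CommRing C] [IsLocalRing C] [IsArtinianRing C] :
    ∃ k : ℕ, maximalIdeal C ^ k = ⊥ := by
  have := IsArtinianRing.isNilpotent_jacobson_bot (R := C)
  rw [IsLocalRing.jacobson_eq_maximalIdeal ⊥ bot_ne_top] at this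
  exact this

end Nil



open IsLocalRing TensorProduct

section L

variable {A B : Type u} [CommRing A] [IsLocalRing A] [CommRing B] [IsLocalRing B] [Algebra A B]
  (A' : Type u) [CommRing A'] [IsLocalRing A'] [Algebra A A'] [IsLocalHom (algebraMap A A')]
  (n : Ideal (A' ⊗[A] B)) [n.IsPrime]

/-- **lifting property of a local ring of a base change**: if `B` is adic formally smooth over
`A` then the localization `E` of `A' ⊗_A B` at a prime `n` containing `𝔪_B` has the lifting
property with respect to surjections of Artinian local `A'`-algebras. -/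
theorem lift_localization_baseChange
    (hfs : EGA41.IsFormallySmoothAdic A (maximalIdeal A) B (maximalIdeal B))
    (hn : maximalIdeal B ≤ n.comap
      ((Algebra.TensorProduct.includeRight : B →ₐ[A] A' ⊗[A] B) : B →+* A' ⊗[A] B))
    (C Cb : Type u) [CommRing C] [CommRing Cb] [Algebra A' C] [Algebra A' Cb]
    [IsLocalRing C] [IsLocalRing Cb] [IsArtinianRing C] [IsArtinianRing Cb]
    (μ : C →ₐ[A'] Cb) (hμ : Function.Surjective μ) (hloc : IsLocalHom (algebraMap A' C))
    (φ : Localization.AtPrime n →ₐ[A'] Cb) (hφ : IsLocalHom φ.toRingHom) :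
    ∃ ψ : Localization.AtPrime n →ₐ[A'] C, μ.comp ψ = φ := by
  letI : Algebra A C := ((algebraMap A' C).comp (algebraMap A A')).toAlgebra
  haveI : IsScalarTower A A' C := IsScalarTower.of_algebraMap_eq (fun _ => rfl)
  letI : Algebra A Cb := ((algebraMap A' Cb).comp (algebraMap A A')).toAlgebra
  haveI : IsScalarTower A A' Cb := IsScalarTower.of_algebraMap_eq (fun _ => rfl)
  -- non-units of `C` are nilpotent
  have hnilC : ∀ x : C, ¬ IsUnit x → IsNilpotent x := fun x hx =>
    isNilpotent_of_mem_maximalIdeal ((mem_maximalIdeal x).mpr hx)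
  have hunit : ∀ x : C, IsUnit (μ x) → IsUnit x := by
    intro x hx
    by_contra hnx
    have h1 : IsNilpotent (μ x) := (hnilC x hnx).map μ
    exact h1.not_isUnit hx
  have hker : IsNilpotent (RingHom.ker (μ : C →+* Cb)) := by
    obtain ⟨k, hk⟩ := exists_maximalIdeal_pow_eq_bot C
    refine ⟨k, ?_⟩
    rw [Ideal.zero_eq_bot, eq_bot_iff, ← hk]
    apply Ideal.pow_right_mono
    intro x hx
    rw [mem_maximalIdeal, mem_nonunits_iff]
    intro hux
    have h0 : μ x = 0 := hx
    have := hux.map μ
    rw [h0] at this
    exact not_isUnit_zero this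
  -- continuity
  have hmA : (maximalIdeal A).map (algebraMap A C) ≤ maximalIdeal C := by
    rw [Ideal.map_le_iff_le_comap]
    intro a ha
    rw [Ideal.mem_comap, mem_maximalIdeal, mem_nonunits_iff]
    intro hu
    rw [IsScalarTower.algebraMap_apply A A' C] at hu
    have h1 : IsUnit (algebraMap A A' a) := hloc.map_nonunit _ hu
    have h2 : IsUnit a := IsLocalHom.map_nonunit a h1
    exact (mem_maximalIdeal a).mp ha h2
  have hcont : ∃ k : ℕ, (maximalIdeal A ^ k).map (algebraMap A C) = ⊥ := by
    obtain ⟨k, hk⟩ := exists_maximalIdeal_pow_eq_bot C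
    refine ⟨k, ?_⟩
    rw [eq_bot_iff, ← hk, Ideal.map_pow]
    exact Ideal.pow_right_mono hmA k
  -- the restriction of `φ` to `B`
  let ι : B →ₐ[A] Localization.AtPrime n :=
    ((IsScalarTower.toAlgHom A (A' ⊗[A] B) (Localization.AtPrime n))).comp
      (Algebra.TensorProduct.includeRight : B →ₐ[A] A' ⊗[A] B)
  have hι : ∀ b, ι b = algebraMap (A' ⊗[A] B) (Localization.AtPrime n) (1 ⊗ₜ b) := fun b => rfl
  let u : B →ₐ[A] Cb := (φ.restrictScalars A).comp ι
  have hu : ∃ k : ℕ, ∀ x ∈ maximalIdeal B ^ k, u x = 0 := by
    obtain ⟨k, hk⟩ := exists_maximalIdeal_pow_eq_bot Cb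
    refine ⟨k, fun x hx => ?_⟩
    have h1 : (maximalIdeal B ^ k).map (u : B →+* Cb) ≤ maximalIdeal Cb ^ k := by
      rw [Ideal.map_pow]
      apply Ideal.pow_right_mono
      rw [Ideal.map_le_iff_le_comap]
      intro b hb
      rw [Ideal.mem_comap, mem_maximalIdeal, mem_nonunits_iff]
      intro hub
      have h2 : IsUnit (ι b) := hφ.map_nonunit _ hub
      rw [hι] at h2
      have h3 : (1 : A') ⊗ₜ[A] b ∈ n := hn hb
      have h4 : algebraMap (A' ⊗[A] B) (Localization.AtPrime n) (1 ⊗ₜ b) ∈
          maximalIdeal (Localization.AtPrime n) :=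
        (IsLocalization.AtPrime.to_map_mem_maximal_iff _ n _).mpr h3
      exact (mem_maximalIdeal _).mp h4 h2
    have h5 : u x ∈ maximalIdeal Cb ^ k := h1 (Ideal.mem_map_of_mem _ hx)
    rwa [hk, Ideal.mem_bot] at h5
  obtain ⟨v, hv⟩ := lift_of_surjective hfs (μ.restrictScalars A) hμ hker hcont u hu
  -- the map on the tensor product
  let ψ₀ : A' ⊗[A] B →ₐ[A'] C :=
    Algebra.TensorProduct.lift (Algebra.ofId A' C) v (fun _ _ => Commute.all _ _)
  have hψ₀ : ∀ x : A' ⊗[A] B, μ (ψ₀ x) = φ (algebraMap _ _ x) := by
    intro x
    induction x using TensorProduct.induction_on with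
    | zero => simp
    | tmul a b =>
      rw [Algebra.TensorProduct.lift_tmul, map_mul]
      have h1 : μ (v b) = u b := AlgHom.congr_fun hv b
      have h2 : μ (Algebra.ofId A' C a) = algebraMap A' Cb a := μ.commutes a
      rw [h1, h2]
      show _ = φ _
      have h3 : (a ⊗ₜ[A] b : A' ⊗[A] B) = algebraMap A' (A' ⊗[A] B) a * (1 ⊗ₜ b) := by
        rw [Algebra.TensorProduct.algebraMap_apply, Algebra.TensorProduct.tmul_mul_tmul,
          Algebra.algebraMap_self, RingHom.id_apply, mul_one, one_mul]
      rw [h3, map_mul, map_mul, ← IsScalarTower.algebraMap_apply A' (A' ⊗[A] B)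
        (Localization.AtPrime n), φ.commutes]
      rfl
    | add x y hx hy => rw [map_add, map_add, map_add, map_add, hx, hy]
  have hunits : ∀ s : n.primeCompl, IsUnit ((ψ₀ : A' ⊗[A] B →+* C) s) := by
    intro s
    apply hunit
    show IsUnit (μ (ψ₀ s))
    rw [hψ₀]
    exact (IsLocalization.map_units (Localization.AtPrime n) s).map φ
  let ψr : Localization.AtPrime n →+* C := IsLocalization.lift (M := n.primeCompl) hunits
  have hψr : ∀ x, ψr (algebraMap _ _ x) = ψ₀ x := fun x => IsLocalization.lift_eq hunits x
  let ψ : Localization.AtPrime n →ₐ[A'] C :=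
    { ψr with
      commutes' := by
        intro a
        show ψr (algebraMap A' (Localization.AtPrime n) a) = _
        rw [IsScalarTower.algebraMap_apply A' (A' ⊗[A] B) (Localization.AtPrime n), hψr]
        exact ψ₀.commutes a }
  refine ⟨ψ, ?_⟩
  apply AlgHom.coe_ringHom_injective
  apply IsLocalization.ringHom_ext n.primeCompl
  refine RingHom.ext fun x => ?_
  show μ (ψr (algebraMap _ _ x)) = φ (algebraMap _ _ x)
  rw [hψr, hψ₀]

end L



open IsLocalRing TensorProduct

section E

variable {A B : Type u} [CommRing A] [IsLocalRing A] [CommRing B] [IsLocalRing B]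
  [IsNoetherianRing B] [IsAdicComplete (maximalIdeal B) B] [Algebra A B]
  [IsLocalHom (algebraMap A B)]
  (A' : Type u) [CommRing A'] [IsLocalRing A'] [Algebra A A'] [Module.Finite A A']
  (n : Ideal (A' ⊗[A] B)) [hn : n.IsMaximal]

attribute [local instance] Algebra.TensorProduct.rightAlgebra

theorem finite_right : Module.Finite B (A' ⊗[A] B) :=
  Module.Finite.equiv (Algebra.TensorProduct.commRight A B A').toLinearEquiv

include hn in
/-- a maximal ideal of `A' ⊗_A B` contains the image of `𝔪_B`. -/
theorem maximalIdeal_le_comap :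
    maximalIdeal B ≤ n.comap
      ((Algebra.TensorProduct.includeRight : B →ₐ[A] A' ⊗[A] B) : B →+* A' ⊗[A] B) := by
  haveI := finite_right (A := A) (B := B) A'
  haveI : Algebra.IsIntegral B (A' ⊗[A] B) := inferInstance
  have h1 : (n.comap (algebraMap B (A' ⊗[A] B))).IsMaximal :=
    Ideal.isMaximal_comap_of_isIntegral_of_isMaximal (R := B) n
  have h2 := IsLocalRing.eq_maximalIdeal h1
  exact le_of_eq h2.symm

include hn in
/-- the local rings of `A' ⊗_A B` at maximal ideals are finite over `B`. -/
theorem finite_localization : Module.Finite B (Localization.AtPrime n) := by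
  classical
  haveI := finite_right (A := A) (B := B) A'
  haveI : HenselianLocalRing B :=
    Groth.Agent.Lib.Helper25.henselianLocalRing_of_isAdicComplete B
  obtain ⟨ι, _, R, _, hloc, ⟨e⟩⟩ :=
    Groth.Agent.Lib.Helper4.exists_pi_isLocalRing_of_finite_of_henselian (R := B) (A' ⊗[A] B)
  haveI := hloc
  let φ : ∀ i, A' ⊗[A] B →+* R i := fun i => (Pi.evalRingHom R i).comp (e : _ →+* _)
  have hΦ : Function.Bijective (RingHom.pi φ) := by
    have : (RingHom.pi φ : A' ⊗[A] B → ∀ i, R i) = e := by
      funext x
      rfl
    rw [this]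
    exact e.bijective
  have hs : Function.Surjective (algebraMap (A' ⊗[A] B) (Localization.AtPrime n)) :=
    Groth.Agent.Lib.Helper9.SemiLocalProd.algebraMap_localization_surjective' (φ := φ) hΦ n
  exact Module.Finite.of_surjective
    (IsScalarTower.toAlgHom B (A' ⊗[A] B) (Localization.AtPrime n)).toLinearMap hs

include hn in
theorem isNoetherianRing_localization : IsNoetherianRing (Localization.AtPrime n) := by
  haveI := finite_localization (A := A) (B := B) A' n
  exact IsNoetherianRing.of_finite B _

include hn in
theorem isAdicComplete_localization :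
    IsAdicComplete (maximalIdeal (Localization.AtPrime n)) (Localization.AtPrime n) := by
  haveI := finite_localization (A := A) (B := B) A' n
  exact Groth.Agent.Lib.Helper9.SemiLocalProd.isAdicComplete_maximalIdeal_of_finite B
    (Localization.AtPrime n)

end E



open IsLocalRing TensorProduct

section E2

variable {A B : Type u} [CommRing A] [IsLocalRing A] [CommRing B] [IsLocalRing B]
  [IsNoetherianRing B] [IsAdicComplete (maximalIdeal B) B] [Algebra A B]
  [IsLocalHom (algebraMap A B)]
  (A' : Type u) [CommRing A'] [IsLocalRing A'] [Algebra A A'] [Module.Finite A A']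
  (n : Ideal (A' ⊗[A] B)) [hn : n.IsMaximal]

include hn in
theorem flat_localization [Module.Flat A B] : Module.Flat A' (Localization.AtPrime n) :=
  Module.Flat.trans A' (A' ⊗[A] B) (Localization.AtPrime n)

include hn in
theorem map_maximalIdeal_le (hmax : (maximalIdeal A).map (algebraMap A A') = maximalIdeal A') :
    (maximalIdeal A').map (algebraMap A' (A' ⊗[A] B)) ≤ n := by
  rw [← hmax, Ideal.map_map, Ideal.map_le_iff_le_comap]
  intro a ha
  have h1 : algebraMap A B a ∈ maximalIdeal B := by
    rw [mem_maximalIdeal, mem_nonunits_iff]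
    intro hu
    exact (mem_maximalIdeal a).mp ha (IsLocalHom.map_nonunit a hu)
  have h2 := maximalIdeal_le_comap (A := A) (B := B) A' n h1
  rw [Ideal.mem_comap]
  have h3 : ((algebraMap A' (A' ⊗[A] B)).comp (algebraMap A A')) a =
      (1 : A') ⊗ₜ[A] (algebraMap A B a) := by
    rw [RingHom.comp_apply, Algebra.TensorProduct.algebraMap_apply, Algebra.algebraMap_self,
      RingHom.id_apply, Algebra.algebraMap_eq_smul_one, Algebra.algebraMap_eq_smul_one,
      TensorProduct.smul_tmul]
  rw [h3]
  exact h2

include hn in
theorem isLocalHom_localization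
    (hmax : (maximalIdeal A).map (algebraMap A A') = maximalIdeal A') :
    IsLocalHom (algebraMap A' (Localization.AtPrime n)) := by
  refine ⟨fun a ha => ?_⟩
  by_contra hna
  have h1 : a ∈ maximalIdeal A' := (mem_maximalIdeal a).mpr hna
  have h2 : algebraMap A' (A' ⊗[A] B) a ∈ n :=
    map_maximalIdeal_le (A := A) (B := B) A' n hmax (Ideal.mem_map_of_mem _ h1)
  have h3 : algebraMap (A' ⊗[A] B) (Localization.AtPrime n) (algebraMap A' (A' ⊗[A] B) a) ∈
      maximalIdeal (Localization.AtPrime n) :=
    (IsLocalization.AtPrime.to_map_mem_maximal_iff _ n _).mpr h2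
  rw [← IsScalarTower.algebraMap_apply A' (A' ⊗[A] B) (Localization.AtPrime n)] at h3
  exact (mem_maximalIdeal _).mp h3 ha

include hn in
/-- the residue field of `(A' ⊗_A B)_n` is generated by `A'` when the residue field of `A'`
splits the minimal polynomials of the residue field of `B`. -/
theorem residue_surjective_localization
    [IsLocalHom (algebraMap A A')]
    [Algebra.IsIntegral (ResidueField A) (ResidueField B)]
    (hmax : (maximalIdeal A).map (algebraMap A A') = maximalIdeal A')
    (hN : ∀ y : ResidueField B, ((minpoly (ResidueField A) y).map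
      (algebraMap (ResidueField A) (ResidueField A'))).Splits) :
    Function.Surjective ((residue (Localization.AtPrime n)).comp
      (algebraMap A' (Localization.AtPrime n))) := by
  set E := Localization.AtPrime n with hE
  haveI hlocA' : IsLocalHom (algebraMap A' E) := isLocalHom_localization (A := A) (B := B) A' n hmax
  -- the map `B → E`
  let ιB : B →+* E := (algebraMap (A' ⊗[A] B) E).comp
    ((Algebra.TensorProduct.includeRight : B →ₐ[A] A' ⊗[A] B) : B →+* A' ⊗[A] B)
  haveI hlocB : IsLocalHom ιB := by
    refine ⟨fun b hb => ?_⟩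
    by_contra hnb
    have h1 : b ∈ maximalIdeal B := (mem_maximalIdeal b).mpr hnb
    have h2 := maximalIdeal_le_comap (A := A) (B := B) A' n h1
    have h3 : ιB b ∈ maximalIdeal E :=
      (IsLocalization.AtPrime.to_map_mem_maximal_iff _ n _).mpr h2
    exact (mem_maximalIdeal _).mp h3 hb
  let τ : ResidueField A' →+* ResidueField E := ResidueField.map (algebraMap A' E)
  let σ : ResidueField B →+* ResidueField E := ResidueField.map ιB
  have hcompat : σ.comp (algebraMap (ResidueField A) (ResidueField B)) =
      τ.comp (algebraMap (ResidueField A) (ResidueField A')) := by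
    apply Ideal.Quotient.ringHom_ext
    ext a
    show residue E (ιB (algebraMap A B a)) = residue E (algebraMap A' E (algebraMap A A' a))
    congr 1
    show algebraMap (A' ⊗[A] B) E ((1 : A') ⊗ₜ[A] (algebraMap A B a)) = _
    rw [IsScalarTower.algebraMap_apply A' (A' ⊗[A] B) E]
    congr 1
    rw [Algebra.TensorProduct.algebraMap_apply, Algebra.algebraMap_self,
      RingHom.id_apply, Algebra.algebraMap_eq_smul_one, Algebra.algebraMap_eq_smul_one,
      TensorProduct.smul_tmul]
  -- Claim 1
  have h1 : ∀ y : ResidueField B, σ y ∈ τ.range := by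
    intro y
    have hint : IsIntegral (ResidueField A) y := Algebra.IsIntegral.isIntegral y
    have hne : (minpoly (ResidueField A) y).map
        (algebraMap (ResidueField A) (ResidueField A')) ≠ 0 :=
      Polynomial.map_ne_zero (minpoly.ne_zero hint)
    refine Polynomial.Splits.mem_range_of_isRoot (hN y) hne (i := τ) ?_
    rw [Polynomial.IsRoot.def, Polynomial.map_map, ← hcompat, ← Polynomial.map_map,
      Polynomial.eval_map, Polynomial.eval₂_hom, Polynomial.eval_map_algebraMap, minpoly.aeval,
      map_zero]
  -- Claim 3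
  have h3 : ∀ x : A' ⊗[A] B, residue E (algebraMap (A' ⊗[A] B) E x) ∈ τ.range := by
    intro x
    induction x using TensorProduct.induction_on with
    | zero => rw [map_zero, map_zero]; exact zero_mem _
    | tmul a b =>
      have h4 : (a ⊗ₜ[A] b : A' ⊗[A] B) = algebraMap A' (A' ⊗[A] B) a * (1 ⊗ₜ b) := by
        rw [Algebra.TensorProduct.algebraMap_apply, Algebra.TensorProduct.tmul_mul_tmul,
          Algebra.algebraMap_self, RingHom.id_apply, mul_one, one_mul]
      rw [h4, map_mul, map_mul, ← IsScalarTower.algebraMap_apply A' (A' ⊗[A] B) E]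
      refine mul_mem ⟨residue A' a, rfl⟩ ?_
      exact h1 (residue B b)
    | add x y hx hy => rw [map_add, map_add]; exact add_mem hx hy
  intro y
  obtain ⟨xb, hxb⟩ := (IsLocalization.AtPrime.equivQuotMaximalIdeal n E).surjective y
  obtain ⟨x, rfl⟩ := Ideal.Quotient.mk_surjective xb
  rw [IsLocalization.AtPrime.equivQuotMaximalIdeal_apply_mk] at hxb
  obtain ⟨z, hz⟩ := h3 x
  obtain ⟨a, rfl⟩ := residue_surjective z
  exact ⟨a, hz.trans hxb⟩

end E2



open IsLocalRing TensorProduct CategoryTheory ArtFun ArtFun.Art MvPowerSeries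
open Groth.Agent.Lib.Helper1.ArtFunLib

section ST

variable (Λ : Type u) [CommRing Λ] [IsLocalRing Λ] [IsNoetherianRing Λ]
  [IsAdicComplete (maximalIdeal Λ) Λ]
  (E : Type u) [CommRing E] [IsLocalRing E] [IsNoetherianRing E]
  [IsAdicComplete (maximalIdeal E) E] [Algebra Λ E] [IsLocalHom (algebraMap Λ E)]

/-- **Structure of formally smooth complete local algebras with trivial residue extension**:
if `E` has the lifting property for surjections of Artinian local `Λ`-algebras and `Λ → E`
is surjective on residue fields, then `E` is a power series ring over `Λ`. -/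
theorem exists_algEquiv_mvPowerSeries
    (hres : Function.Surjective ((residue E).comp (algebraMap Λ E)))
    (hlift : ∀ (C Cb : Type u) [CommRing C] [CommRing Cb] [Algebra Λ C] [Algebra Λ Cb]
      [IsLocalRing C] [IsLocalRing Cb] [IsArtinianRing C] [IsArtinianRing Cb]
      (μ : C →ₐ[Λ] Cb), Function.Surjective μ → IsLocalHom (algebraMap Λ C) →
      ∀ φ : E →ₐ[Λ] Cb, IsLocalHom φ.toRingHom → ∃ ψ : E →ₐ[Λ] C, μ.comp ψ = φ) :
    ∃ (n : ℕ), Nonempty (MvPowerSeries (Fin n) Λ ≃ₐ[Λ] E) := by
  letI : Algebra Λ (ResidueField E) := ((residue E).comp (algebraMap Λ E)).toAlgebra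
  have hk : Function.Surjective (algebraMap Λ (ResidueField E)) := hres
  let resE : E →ₐ[Λ] ResidueField E := { residue E with commutes' := fun _ => rfl }
  let S : CRing Λ (ResidueField E) :=
    { carrier := E
      res := resE
      res_surjective := residue_surjective
      isAdicComplete := inferInstance }
  have hmaxΛ : ∀ a : Λ, a ∈ maximalIdeal Λ → algebraMap Λ (ResidueField E) a = 0 := by
    intro a ha
    show residue E (algebraMap Λ E a) = 0
    rw [residue_eq_zero_iff]
    rw [mem_maximalIdeal, mem_nonunits_iff] at ha ⊢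
    intro hu
    exact ha (IsLocalHom.map_nonunit a hu)
  have hsm : IsSmoothFunctor (hR S.carrier S.res) := by
    intro B A μ hμ φ
    have hlocC : IsLocalHom (algebraMap Λ B.carrier) := by
      refine ⟨fun a ha => ?_⟩
      by_contra hna
      have h1 : a ∈ maximalIdeal Λ := (mem_maximalIdeal a).mpr hna
      have h2 : B.res (algebraMap Λ B.carrier a) = 0 := by
        rw [AlgHom.commutes]; exact hmaxΛ a h1
      have h3 : algebraMap Λ B.carrier a ∈ maximalIdeal B.carrier :=
        (Art.mem_maximalIdeal_iff B _).mpr h2
      exact (mem_maximalIdeal _).mp h3 ha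
    have hlocφ : IsLocalHom φ.1.toRingHom := by
      refine ⟨fun x hx => ?_⟩
      by_contra hnx
      have h1 : x ∈ maximalIdeal E := (mem_maximalIdeal x).mpr hnx
      have h2 : A.res (φ.1 x) = 0 := by
        have := AlgHom.congr_fun φ.2 x
        rw [AlgHom.comp_apply] at this
        rw [this]
        exact (residue_eq_zero_iff x).mpr h1
      have h3 : φ.1 x ∈ maximalIdeal A.carrier := (Art.mem_maximalIdeal_iff A _).mpr h2
      exact (mem_maximalIdeal _).mp h3 hx
    obtain ⟨ψ, hψ⟩ := hlift B.carrier A.carrier μ.toAlgHom hμ hlocC φ.1 hlocφ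
    refine ⟨⟨ψ, ?_⟩, Subtype.ext hψ⟩
    rw [← μ.res_comp, AlgHom.comp_assoc, hψ, φ.2]
  let u : (baseCRing hk).carrier →ₐ[Λ] S.carrier := Algebra.ofId Λ S.carrier
  have hu : S.res.comp u = (baseCRing hk).res := algHom_self_ext _ _
  have hver : IsVersal ((Family.self (baseCRing hk).carrier (baseCRing hk).res).along u hu) := by
    intro B A μ hμ φ y hy
    obtain ⟨ψ, hψ⟩ := hsm μ hμ φ
    refine ⟨ψ, hψ, ?_⟩
    apply Subtype.ext
    exact algHom_self_ext _ _
  obtain ⟨n, v, -, hv⟩ := exists_ps_bijective_of_isVersal_along u hu hver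
  exact ⟨n, ⟨AlgEquiv.ofBijective v hv⟩⟩

end ST



open IsLocalRing TensorProduct

section BC

variable {A B : Type u} [CommRing A] [IsLocalRing A] [CommRing B] [IsLocalRing B]
  [IsNoetherianRing B] [IsAdicComplete (maximalIdeal B) B] [Algebra A B]
  [IsLocalHom (algebraMap A B)] [Module.Flat A B]
  (A' : Type u) [CommRing A'] [IsLocalRing A'] [IsNoetherianRing A']
  [IsAdicComplete (maximalIdeal A') A'] [Algebra A A'] [Module.Finite A A']
  [IsLocalHom (algebraMap A A')]

/-- after a finite base change `A → A'` making all residue field extensions trivial, a formally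
smooth complete local algebra becomes regular over the base. -/
theorem isRegularHom_baseChange_of_splits
    (hfs : EGA41.IsFormallySmoothAdic A (maximalIdeal A) B (maximalIdeal B))
    [Algebra.IsIntegral (ResidueField A) (ResidueField B)]
    (hmax : (maximalIdeal A).map (algebraMap A A') = maximalIdeal A')
    (hN : ∀ y : ResidueField B, ((minpoly (ResidueField A) y).map
      (algebraMap (ResidueField A) (ResidueField A'))).Splits) :
    CAlg.IsRegularHom A' (A' ⊗[A] B) := by
  haveI : IsNoetherianRing (A' ⊗[A] B) := by
    letI : Algebra B (A' ⊗[A] B) := Algebra.TensorProduct.rightAlgebra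
    haveI := finite_right (A := A) (B := B) A'
    exact IsNoetherianRing.of_finite B _
  refine Groth.Agent.Lib.Helper18.LocHom.isRegularHom_of_forall_maximal A' (A' ⊗[A] B)
    inferInstance (fun n hn => ?_)
  haveI := hn
  haveI := isNoetherianRing_localization (A := A) (B := B) A' n
  haveI := isAdicComplete_localization (A := A) (B := B) A' n
  haveI := flat_localization (A := A) (B := B) A' n
  haveI := isLocalHom_localization (A := A) (B := B) A' n hmax
  have hres := residue_surjective_localization (A := A) (B := B) A' n hmax hN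
  obtain ⟨m, ⟨e⟩⟩ := exists_algEquiv_mvPowerSeries A' (Localization.AtPrime n) hres
    (fun C Cb _ _ _ _ _ _ _ _ μ hμ hloc φ hφ =>
      lift_localization_baseChange A' n hfs (maximalIdeal_le_comap (A := A) (B := B) A' n)
        C Cb μ hμ hloc φ hφ)
  exact Groth.Agent.Lib.Helper23.PSRegular.isRegularHom_of_algEquiv_mvPowerSeries A' m
    (Localization.AtPrime n) e

end BC



open IsLocalRing TensorProduct
open Groth.Agent.Lib.Helper18.FibBridge

section Descent

variable (A B A' : Type u) [CommRing A] [CommRing B] [CommRing A'] [Algebra A B] [Algebra A A']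
  [IsNoetherianRing B] [Module.Flat A B] [Module.Finite A A']

/-- regularity of a ring map descends along a finite base change which is surjective on
spectra. -/
theorem isRegularHom_of_baseChange
    (hsurj : ∀ (p : Ideal A) [p.IsPrime], ∃ (p' : Ideal A') (_ : p'.IsPrime), p'.LiesOver p)
    (h : CAlg.IsRegularHom A' (A' ⊗[A] B)) : CAlg.IsRegularHom A B := by
  refine ⟨inferInstance, fun p _ => ⟨inferInstance, ?_⟩⟩
  obtain ⟨p', hp', hlo⟩ := hsurj p
  letI := Localization.AtPrime.algebraOfLiesOver p p'
  haveI : Module.Finite p.ResidueField p'.ResidueField := inferInstance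
  have h1 : CAlg.IsGeometricallyRegular p'.ResidueField (p'.Fiber (A' ⊗[A] B)) := (h.2 p').2
  let e1 : p'.ResidueField ⊗[A'] (A' ⊗[A] B) ≃ₐ[p'.ResidueField] p'.ResidueField ⊗[A] B :=
    Algebra.TensorProduct.cancelBaseChange A A' p'.ResidueField p'.ResidueField B
  let e2 : p'.ResidueField ⊗[p.ResidueField] (p.ResidueField ⊗[A] B) ≃ₐ[p'.ResidueField]
      p'.ResidueField ⊗[A] B :=
    Algebra.TensorProduct.cancelBaseChange A p.ResidueField p'.ResidueField p'.ResidueField B
  have h2 : CAlg.IsGeometricallyRegular p'.ResidueField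
      (p'.ResidueField ⊗[p.ResidueField] (p.Fiber B)) :=
    Groth.Agent.Lib.Helper23.PSRegular.geomRegular_of_algEquiv (e1.trans e2.symm) h1
  exact Groth.Agent.Lib.Helper23.GeomRegular2.geomRegular_of_baseChange p.ResidueField
    (p.Fiber B) p'.ResidueField h2

end Descent



open IsLocalRing TensorProduct

section Gonf

variable (A : Type u) [CommRing A] [IsLocalRing A] [IsNoetherianRing A]
  [IsAdicComplete (maximalIdeal A) A]

/-- a finite flat complete local `A`-algebra `A'` with `𝔪_A A' = 𝔪_{A'}` and prescribed finite
residue field extension. -/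
theorem exists_finite_gonflement (K' : Type u) [Field K'] [Algebra (ResidueField A) K']
    [Module.Finite (ResidueField A) K'] :
    ∃ (A' : Type u) (_ : CommRing A') (_ : Algebra A A') (_ : IsLocalRing A'),
      IsNoetherianRing A' ∧ IsAdicComplete (maximalIdeal A') A' ∧ IsLocalHom (algebraMap A A') ∧
      Module.Flat A A' ∧ Module.Finite A A' ∧
      (maximalIdeal A).map (algebraMap A A') = maximalIdeal A' ∧
      ∃ e' : ResidueField A' ≃+* K', ∀ a : A,
        e' (residue A' (algebraMap A A' a)) = algebraMap (ResidueField A) K' (residue A a) := by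
  obtain ⟨A', _, _, _, hnoeth, hcomp, hlh, hflat, e, he⟩ :=
    Groth.Agent.Lib.Helper23.CohenAlg.exists_complete_gonflement (A := A) K'
  have hmax := Groth.Agent.Lib.Helper23.Gonflement2.map_eq_maximalIdeal_of_equiv e
  refine ⟨A', inferInstance, inferInstance, inferInstance, hnoeth, hcomp, hlh, hflat, ?_, hmax,
    (Ideal.quotEquivOfEq hmax.symm).trans e, fun a => he a⟩
  -- finiteness
  haveI h1 : IsHausdorff ((maximalIdeal A).map (algebraMap A A')) A' := by
    rw [hmax]; infer_instance
  haveI : IsHausdorff (maximalIdeal A) A' :=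
    (IsHausdorff.map_algebraMap_iff (S := A') (M := A') (I := maximalIdeal A)).mp h1
  apply Groth.Agent.Lib.Helper15.finite_of_finite_quotient_of_isAdicComplete (maximalIdeal A) A'
  letI : Algebra A K' := ((algebraMap (ResidueField A) K').comp (residue A)).toAlgebra
  haveI : IsScalarTower A (ResidueField A) K' := IsScalarTower.of_algebraMap_eq (fun _ => rfl)
  haveI : Module.Finite A (ResidueField A) :=
    Module.Finite.of_surjective (Algebra.linearMap A (ResidueField A)) residue_surjective
  haveI : Module.Finite A K' := Module.Finite.trans (ResidueField A) K'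
  let ℓ : (A' ⧸ (maximalIdeal A).map (algebraMap A A')) →ₗ[A] K' :=
    { toFun := e
      map_add' := map_add e
      map_smul' := by
        intro a x
        obtain ⟨y, rfl⟩ := Ideal.Quotient.mk_surjective x
        rw [RingHom.id_apply, Algebra.smul_def, Algebra.smul_def, map_mul]
        congr 1
        exact he a }
  have hℓ : Function.Injective ℓ := e.injective
  haveI : Module.Finite A (A' ⧸ (maximalIdeal A).map (algebraMap A A')) :=
    Module.Finite.of_injective ℓ hℓ
  have hsub : (maximalIdeal A • ⊤ : Submodule A A') =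
      ((maximalIdeal A).map (algebraMap A A')).restrictScalars A := Ideal.smul_top_eq_map _
  rw [hsub]
  let f : A' ⧸ (maximalIdeal A).map (algebraMap A A') →ₗ[A]
      A' ⧸ ((maximalIdeal A).map (algebraMap A A')).restrictScalars A :=
    Submodule.liftQ (((maximalIdeal A).map (algebraMap A A')).restrictScalars A)
      (Submodule.mkQ _) (by
        intro a ha
        rw [LinearMap.mem_ker, Submodule.mkQ_apply, Submodule.Quotient.mk_eq_zero]
        exact ha)
  have hf : Function.Surjective f := by
    intro y
    obtain ⟨a, rfl⟩ := Submodule.Quotient.mk_surjective _ y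
    exact ⟨Ideal.Quotient.mk _ a, rfl⟩
  exact Module.Finite.of_surjective f hf

end Gonf



open IsLocalRing TensorProduct

section Main

variable (A B : Type u) [CommRing A] [CommRing B] [IsNoetherianRing A] [IsNoetherianRing B]
  [IsLocalRing A] [IsLocalRing B] [IsAdicComplete (maximalIdeal A) A]
  [IsAdicComplete (maximalIdeal B) B] [Algebra A B] [IsLocalHom (algebraMap A B)]
  [Module.Flat A B] [Module.Finite (ResidueField A) (ResidueField B)]

/-- **EGA IV 7.5.1, complete case**: a flat local homomorphism of complete Noetherian local rings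
with finite residue field extension and geometrically regular closed fibre is regular. -/
theorem isRegularHom_of_closedFibre
    (h : CAlg.IsGeometricallyRegular (maximalIdeal A).ResidueField
      ((maximalIdeal A).Fiber B)) : CAlg.IsRegularHom A B := by
  have hfs := formallySmoothAdic_of_geomRegular_closedFibre (A := A) (B := B) h
  -- the normal closure of the residue field extension
  haveI : Algebra.IsAlgebraic (ResidueField A) (ResidueField B) := Algebra.IsAlgebraic.of_finite _ _
  haveI : IsAlgClosure (ResidueField A) (AlgebraicClosure (ResidueField B)) :=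
    IsAlgClosure.ofAlgebraic (ResidueField A) (ResidueField B) (AlgebraicClosure (ResidueField B))
  let K' := IntermediateField.normalClosure (ResidueField A) (ResidueField B)
    (AlgebraicClosure (ResidueField B))
  haveI : Normal (ResidueField A) K' := inferInstance
  haveI : Module.Finite (ResidueField A) K' := inferInstance
  obtain ⟨A', _, _, _, hnoeth, hcomp, hlh, hflat, hfin, hmax, e', he'⟩ :=
    exists_finite_gonflement A K'
  haveI := hnoeth
  haveI := hcomp
  haveI := hlh
  haveI := hflat
  haveI := hfin
  -- splitting of the minimal polynomials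
  have hcompat : ((e'.symm : K' →+* ResidueField A')).comp (algebraMap (ResidueField A) K') =
      algebraMap (ResidueField A) (ResidueField A') := by
    apply Ideal.Quotient.ringHom_ext
    ext a
    show e'.symm (algebraMap (ResidueField A) K' (residue A a)) = _
    rw [← he' a, RingEquiv.symm_apply_apply]
    rfl
  have hN : ∀ y : ResidueField B, ((minpoly (ResidueField A) y).map
      (algebraMap (ResidueField A) (ResidueField A'))).Splits := by
    intro y
    have h1 := Normal.splits (inferInstance : Normal (ResidueField A) K')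
      (algebraMap (ResidueField B) K' y)
    rw [minpoly.algebraMap_eq (algebraMap (ResidueField B) K').injective] at h1
    have h2 := h1.map (e'.symm : K' →+* ResidueField A')
    rwa [Polynomial.map_map, hcompat] at h2
  haveI : Algebra.IsIntegral (ResidueField A) (ResidueField B) := inferInstance
  have h' : CAlg.IsRegularHom A' (A' ⊗[A] B) :=
    isRegularHom_baseChange_of_splits A' hfs hmax hN
  haveI : Module.FaithfullyFlat A A' := Module.FaithfullyFlat.of_flat_of_isLocalHom
  refine isRegularHom_of_baseChange A B A' (fun p _ => ?_) h'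
  obtain ⟨p', hp', hlo⟩ := Ideal.exists_isPrime_liesOver_of_faithfullyFlat (B := A') p
  exact ⟨p', hp', hlo⟩

end Main

end Groth.Agent.Lib.Helper23.ResidueFiniteLoc
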