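import Mathlib
import Groth.Agent.Lib.Helper23.ResidueFiniteLoc
import Groth.Agent.Lib.Helper18.CplFlat
import Groth.Agent.Lib.Helper18.PMor3

/-!
EGA IV 7.5.1 (general case, S4708): A → B flat local Noetherian, finite residue extension, A → Â regular, closed fibre of A → B̂ geometrically regular ⇒ A → B regular. isRegularHom_of_formallySmoothAdic (complete case with adic formal smoothness as hypothesis), formallySmoothAdic_cpl (A → E f.s. adic ⇒ Â → E f.s. adic), residue_isScalarTower, isRegularHom_of_cpl_closedFibre.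
-/

set_option autoImplicit false
universe u


namespace Groth.Agent.Lib.Helper23.CplRegular


open IsLocalRing TensorProduct Groth.Agent.Lib.Helper23.ResidueFiniteLoc

section Main

variable (A B : Type u) [CommRing A] [CommRing B] [IsNoetherianRing A] [IsNoetherianRing B]
  [IsLocalRing A] [IsLocalRing B] [IsAdicComplete (maximalIdeal A) A]
  [IsAdicComplete (maximalIdeal B) B] [Algebra A B] [IsLocalHom (algebraMap A B)]
  [Module.Flat A B] [Module.Finite (ResidueField A) (ResidueField B)]

/-- variant of `isRegularHom_of_closedFibre` with adic formal smoothness as hypothesis. -/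
theorem isRegularHom_of_formallySmoothAdic
    (hfs : EGA41.IsFormallySmoothAdic A (maximalIdeal A) B (maximalIdeal B)) :
    CAlg.IsRegularHom A B := by
  -- the normal closure of the residue field extension
  haveI : Algebra.IsAlgebraic (ResidueField A) (ResidueField B) := Algebra.IsAlgebraic.of_finite _ _
  haveI : IsAlgClosure (ResidueField A) (AlgebraicClosure (ResidueField B)) :=
    IsAlgClosure.ofAlgebraic (ResidueField A) (ResidueField B) (AlgebraicClosure (ResidueField B))
  let K' := IntermediateField.normalClosure (ResidueField A) (ResidueField B)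
    (AlgebraicClosure (ResidueField B))
  haveI : Normal (ResidueField A) K' := inferInstance
  haveI : Module.Finite (ResidueField A) K' := inferInstance
  obtain ⟨A', _, _, _, hnoeth, hcomp, hlh, hflat, hfin, hmax, e', he'⟩ :=
    exists_finite_gonflement A K'
  haveI := hnoeth
  haveI := hcomp
  haveI := hlh
  haveI := hflat
  haveI := hfin
  -- splitting of the minimal polynomials
  have hcompat : ((e'.symm : K' →+* ResidueField A')).comp (algebraMap (ResidueField A) K') =
      algebraMap (ResidueField A) (ResidueField A') := by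
    apply Ideal.Quotient.ringHom_ext
    ext a
    show e'.symm (algebraMap (ResidueField A) K' (residue A a)) = _
    rw [← he' a, RingEquiv.symm_apply_apply]
    rfl
  have hN : ∀ y : ResidueField B, ((minpoly (ResidueField A) y).map
      (algebraMap (ResidueField A) (ResidueField A'))).Splits := by
    intro y
    have h1 := Normal.splits (inferInstance : Normal (ResidueField A) K')
      (algebraMap (ResidueField B) K' y)
    rw [minpoly.algebraMap_eq (algebraMap (ResidueField B) K').injective] at h1
    have h2 := h1.map (e'.symm : K' →+* ResidueField A')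
    rwa [Polynomial.map_map, hcompat] at h2
  haveI : Algebra.IsIntegral (ResidueField A) (ResidueField B) := inferInstance
  have h' : CAlg.IsRegularHom A' (A' ⊗[A] B) :=
    isRegularHom_baseChange_of_splits A' hfs hmax hN
  haveI : Module.FaithfullyFlat A A' := Module.FaithfullyFlat.of_flat_of_isLocalHom
  refine isRegularHom_of_baseChange A B A' (fun p _ => ?_) h'
  obtain ⟨p', hp', hlo⟩ := Ideal.exists_isPrime_liesOver_of_faithfullyFlat (B := A') p
  exact ⟨p', hp', hlo⟩

end Main



open IsLocalRing TensorProduct Groth.Agent.Lib.Helper23.ResidueFiniteLoc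

section FS

variable (A : Type u) [CommRing A] [IsNoetherianRing A] [IsLocalRing A]
  (E : Type u) [CommRing E] [Algebra A E] [Algebra (EGA4.Cpl A) E] [IsScalarTower A (EGA4.Cpl A) E]

theorem exists_sub_mem_map_pow (k : ℕ) (x : EGA4.Cpl A) :
    ∃ a : A, x - algebraMap A (EGA4.Cpl A) a ∈
      ((maximalIdeal A) ^ k).map (algebraMap A (EGA4.Cpl A)) := by
  obtain ⟨a, ha⟩ := Groth.Agent.Lib.Helper21.exists_of_sub_mem_pow_smul_top (M := A)
    (maximalIdeal A) (maximalIdeal A).fg_of_isNoetherianRing k x
  refine ⟨a, ?_⟩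
  rw [Groth.Agent.Lib.Helper21.mem_map_iff_mem_smul_top]
  have := Submodule.neg_mem _ ha
  rw [neg_sub] at this
  exact this

theorem formallySmoothAdic_cpl (𝔟 : Ideal E)
    (h : EGA41.IsFormallySmoothAdic A (maximalIdeal A) E 𝔟) :
    EGA41.IsFormallySmoothAdic (EGA4.Cpl A) (maximalIdeal (EGA4.Cpl A)) E 𝔟 := by
  intro C _ _ J hJ ⟨k, hk⟩ u hu
  letI : Algebra A C := ((algebraMap (EGA4.Cpl A) C).comp (algebraMap A (EGA4.Cpl A))).toAlgebra
  haveI : IsScalarTower A (EGA4.Cpl A) C := IsScalarTower.of_algebraMap_eq (fun _ => rfl)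
  have hk' : ((maximalIdeal A) ^ k).map (algebraMap A C) = ⊥ := by
    rw [IsScalarTower.algebraMap_eq A (EGA4.Cpl A) C, ← Ideal.map_map, Ideal.map_pow,
      ← AdicCompletion.maximalIdeal_eq_map]
    exact hk
  obtain ⟨v, hv⟩ := h C J hJ ⟨k, hk'⟩ (u.restrictScalars A) hu
  have hcomm : ∀ x : EGA4.Cpl A, v (algebraMap (EGA4.Cpl A) E x) = algebraMap (EGA4.Cpl A) C x := by
    intro x
    obtain ⟨a, ha⟩ := exists_sub_mem_map_pow A k x
    have h1 : ∀ y ∈ ((maximalIdeal A) ^ k).map (algebraMap A (EGA4.Cpl A)),
        algebraMap (EGA4.Cpl A) C y = 0 := by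
      intro y hy
      have : algebraMap (EGA4.Cpl A) C y ∈
          (((maximalIdeal A) ^ k).map (algebraMap A (EGA4.Cpl A))).map
            (algebraMap (EGA4.Cpl A) C) := Ideal.mem_map_of_mem _ hy
      rw [Ideal.map_map, ← IsScalarTower.algebraMap_eq, hk'] at this
      exact this
    have h2 : ∀ y ∈ ((maximalIdeal A) ^ k).map (algebraMap A (EGA4.Cpl A)),
        v (algebraMap (EGA4.Cpl A) E y) = 0 := by
      intro y hy
      have : ((v : E →+* C).comp (algebraMap (EGA4.Cpl A) E)) y ∈
          (((maximalIdeal A) ^ k).map (algebraMap A (EGA4.Cpl A))).map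
            ((v : E →+* C).comp (algebraMap (EGA4.Cpl A) E)) := Ideal.mem_map_of_mem _ hy
      rw [Ideal.map_map] at this
      have hc : ((v : E →+* C).comp (algebraMap (EGA4.Cpl A) E)).comp
          (algebraMap A (EGA4.Cpl A)) = algebraMap A C := by
        apply RingHom.ext
        intro a
        show v (algebraMap (EGA4.Cpl A) E (algebraMap A (EGA4.Cpl A) a)) = _
        rw [← IsScalarTower.algebraMap_apply A (EGA4.Cpl A) E, AlgHom.commutes]
      rw [hc, hk'] at this
      exact this
    have hx : x = algebraMap A (EGA4.Cpl A) a + (x - algebraMap A (EGA4.Cpl A) a) := by ring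
    rw [hx, map_add, map_add, map_add, h1 _ ha, h2 _ ha,
      ← IsScalarTower.algebraMap_apply A (EGA4.Cpl A) E, AlgHom.commutes,
      ← IsScalarTower.algebraMap_apply A (EGA4.Cpl A) C]
  refine ⟨{ (v : E →+* C) with commutes' := hcomm }, ?_⟩
  apply AlgHom.ext
  intro e
  have := congrArg (fun w => w e) hv
  exact this

end FS



open IsLocalRing TensorProduct Groth.Agent.Lib.Helper23.ResidueFiniteLoc
open Groth.Agent.Lib.Helper18.CplFlat

section Res

/-- scalar tower of residue fields. -/
theorem residue_isScalarTower (R S T : Type u) [CommRing R] [CommRing S] [CommRing T]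
    [IsLocalRing R] [IsLocalRing S] [IsLocalRing T] [Algebra R S] [Algebra S T] [Algebra R T]
    [IsScalarTower R S T] [IsLocalHom (algebraMap R S)] [IsLocalHom (algebraMap S T)]
    [IsLocalHom (algebraMap R T)] :
    IsScalarTower (ResidueField R) (ResidueField S) (ResidueField T) := by
  refine IsScalarTower.of_algebraMap_eq (fun x => ?_)
  obtain ⟨r, rfl⟩ := residue_surjective x
  show residue T (algebraMap R T r) = residue T (algebraMap S T (algebraMap R S r))
  rw [← IsScalarTower.algebraMap_apply]

end Res

section Main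

variable (A B : Type u) [CommRing A] [CommRing B]
    [IsNoetherianRing A] [IsNoetherianRing B] [IsLocalRing A] [IsLocalRing B] [Algebra A B]
    [IsLocalHom (algebraMap A B)] [Module.Flat A B]
    [Module.Finite (ResidueField A) (ResidueField B)]

theorem isRegularHom_of_cpl_closedFibre
    (hA : CAlg.IsRegularHom A (EGA4.Cpl A))
    (h : CAlg.IsGeometricallyRegular (maximalIdeal A).ResidueField
      ((maximalIdeal A).Fiber (EGA4.Cpl B))) :
    CAlg.IsRegularHom A B := by
  haveI : IsNoetherianRing (EGA4.Cpl A) :=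
    Groth.Agent.Lib.Helper21.isNoetherianRing_adicCompletion_of_fg _
      (maximalIdeal A).fg_of_isNoetherianRing
  haveI : IsNoetherianRing (EGA4.Cpl B) :=
    Groth.Agent.Lib.Helper21.isNoetherianRing_adicCompletion_of_fg _
      (maximalIdeal B).fg_of_isNoetherianRing
  letI : Algebra (EGA4.Cpl A) (EGA4.Cpl B) := (cplMap A B).toAlgebra
  haveI : IsScalarTower A (EGA4.Cpl A) (EGA4.Cpl B) :=
    IsScalarTower.of_algebraMap_eq (fun a => (cplMap_of A B a).symm)
  haveI : IsLocalHom (algebraMap (EGA4.Cpl A) (EGA4.Cpl B)) := isLocalHom_cplMap A B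
  haveI : Module.Flat (EGA4.Cpl A) (EGA4.Cpl B) := flat_cplMap A B
  haveI : IsLocalHom (algebraMap A (EGA4.Cpl B)) := by
    rw [IsScalarTower.algebraMap_eq A B (EGA4.Cpl B)]
    exact RingHom.isLocalHom_comp _ _
  haveI : Module.Flat A (EGA4.Cpl B) := Module.Flat.trans A B (EGA4.Cpl B)
  have hfs0 := formallySmoothAdic_of_geomRegular_closedFibre (A := A) (B := EGA4.Cpl B) h
  have hfs := formallySmoothAdic_cpl A (EGA4.Cpl B) _ hfs0
  -- residue fields
  haveI : IsScalarTower (ResidueField A) (ResidueField B) (ResidueField (EGA4.Cpl B)) :=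
    residue_isScalarTower A B (EGA4.Cpl B)
  haveI : IsScalarTower (ResidueField A) (ResidueField (EGA4.Cpl A)) (ResidueField (EGA4.Cpl B)) :=
    residue_isScalarTower A (EGA4.Cpl A) (EGA4.Cpl B)
  haveI : Module.Finite (ResidueField B) (ResidueField (EGA4.Cpl B)) :=
    Module.Finite.of_surjective (Algebra.linearMap (ResidueField B) (ResidueField (EGA4.Cpl B)))
      (AdicCompletion.residueField_map_bijective B).2
  haveI : Module.Finite (ResidueField A) (ResidueField (EGA4.Cpl B)) :=
    Module.Finite.trans (ResidueField B) _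
  haveI : Module.Finite (ResidueField (EGA4.Cpl A)) (ResidueField (EGA4.Cpl B)) :=
    Module.Finite.of_restrictScalars_finite (ResidueField A) _ _
  have h1 := isRegularHom_of_formallySmoothAdic (EGA4.Cpl A) (EGA4.Cpl B) hfs
  have h2 := Groth.Agent.Lib.Helper18.PMor.isRegularHom_comp A (EGA4.Cpl A) (EGA4.Cpl B) hA h1
  haveI : Module.FaithfullyFlat B (EGA4.Cpl B) := Module.FaithfullyFlat.of_flat_of_isLocalHom
  exact Groth.Agent.Lib.Helper18.PMor.isRegularHom_of_comp_of_faithfullyFlat A B (EGA4.Cpl B) h2

end Main

end Groth.Agent.Lib.Helper23.CplRegular
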