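import Mathlib
import Groth.Agent.Lib.Helper15.RigClosed
import Groth.Agent.Lib.Helper28.ArtinLocalFinite
import Groth.Agent.Lib.Helper1.ArtFunPS
import Groth.Agent.Lib.Helper23.PSRegular
import Groth.Agent.Lib.Helper18.CST2
import Groth.Agent.Lib.Helper18.Miracle
import Groth.Agent.Lib.Helper16.RegSeqFlat
import Groth.Agent.S0392
import Groth.Agent.Lib.Helper18.PMor3
import Groth.Agent.Lib.Helper18.PMor4
import Groth.Agent.Lib.Helper18.FTCM
import Groth.Agent.Lib.Helper23.CplRegular
import Groth.Agent.Lib.Helper18.SkMod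
import Groth.Agent.Lib.Helper18.FibQuot

/-!
EGA IV 7.5.1 (Cohen-Macaulay case): formal fibres of a local noetherian algebra with CM formal fibres over base; power-series structure of complete local flat algebras, miracle flatness factorisation.
-/

set_option autoImplicit false
universe u v


namespace Groth.Agent.Lib.Helper23.CMFibres

open MvPolynomial IsLocalRing

section Eval

variable {R : Type u} [CommRing R] {k : Type v} [CommRing k] [Algebra k R] {d : ℕ} (x : Fin d → R)

/-- a polynomial all of whose monomials have degree `≥ n` evaluates into `I ^ n` -/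
theorem aeval_mem_pow (I : Ideal R) (hx : ∀ i, x i ∈ I) (n : ℕ) (P : MvPolynomial (Fin d) k)
    (hP : ∀ s : Fin d →₀ ℕ, s.degree < n → coeff s P = 0) : aeval x P ∈ I ^ n := by
  classical
  rw [aeval_def, eval₂_eq']
  refine Ideal.sum_mem _ fun s hs => ?_
  have hdeg : n ≤ s.degree := by
    by_contra h
    push Not at h
    exact (mem_support_iff.mp hs) (hP s h)
  refine Ideal.mul_mem_left _ _ ?_
  have h1 : ∏ i, x i ^ s i ∈ I ^ (∑ i, s i) := by
    rw [← Finset.prod_pow_eq_pow_sum]
    exact Ideal.prod_mem_prod (fun i _ => Ideal.pow_mem_pow (hx i) _)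
  rw [Finsupp.degree_eq_sum] at hdeg
  exact Ideal.pow_le_pow_right hdeg h1

variable (I : Ideal R) (hx : ∀ i, x i ∈ I)

/-- the truncated evaluation maps -/
noncomputable def fN (n : ℕ) : MvPowerSeries (Fin d) k →ₐ[k] R ⧸ I ^ n where
  toFun F := Ideal.Quotient.mk _ (aeval x (MvPowerSeries.truncTotal n F))
  map_one' := by
    rcases Nat.eq_zero_or_pos n with h | h
    · subst h
      have : Subsingleton (R ⧸ I ^ 0) := by
        rw [pow_zero, Ideal.one_eq_top]
        exact Ideal.Quotient.subsingleton_iff.mpr rfl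
      exact Subsingleton.elim _ _
    · rw [MvPowerSeries.truncTotal_one (by omega), map_one, map_one]
  map_mul' F G := by
    rw [← map_mul, ← map_mul, Ideal.Quotient.eq, ← map_sub]
    apply aeval_mem_pow x I hx
    intro s hs
    rw [coeff_sub, MvPowerSeries.coeff_truncTotal _ hs,
      MvPowerSeries.coeff_truncTotal_mul_truncTotal_eq_coeff_mul _ _ hs, sub_self]
  map_zero' := by
    rw [map_zero, map_zero, map_zero]
  map_add' F G := by
    rw [map_add, map_add, map_add]
  commutes' c := by
    rcases Nat.eq_zero_or_pos n with h | h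
    · subst h
      have : Subsingleton (R ⧸ I ^ 0) := by
        rw [pow_zero, Ideal.one_eq_top]
        exact Ideal.Quotient.subsingleton_iff.mpr rfl
      exact Subsingleton.elim _ _
    · have h1 : MvPowerSeries.truncTotal n (algebraMap k (MvPowerSeries (Fin d) k) c)
          = MvPolynomial.C c := by
        ext s
        rw [MvPowerSeries.coeff_truncTotal_eq_ite, MvPolynomial.coeff_C]
        rw [MvPowerSeries.algebraMap_apply, Algebra.algebraMap_self, RingHom.id_apply]
        classical
        rw [MvPowerSeries.coeff_C]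
        by_cases hs : s = 0
        · subst hs
          simp [h]
        · rw [if_neg hs, if_neg (Ne.symm hs)]
          simp
      rw [h1, aeval_C]
      rfl

theorem fN_apply (n : ℕ) (F : MvPowerSeries (Fin d) k) :
    fN x I hx n F = Ideal.Quotient.mk _ (aeval x (MvPowerSeries.truncTotal n F)) := rfl

theorem fN_compat {m n : ℕ} (hle : m ≤ n) :
    (Ideal.Quotient.factorₐ k (Ideal.pow_le_pow_right hle)).comp (fN x I hx n) = fN x I hx m := by
  ext F
  rw [AlgHom.comp_apply, fN_apply, fN_apply]
  rw [Ideal.Quotient.factorₐ_apply_mk, Ideal.Quotient.eq, ← map_sub]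
  apply aeval_mem_pow x I hx
  intro s hs
  rw [coeff_sub, MvPowerSeries.coeff_truncTotal _ hs,
    MvPowerSeries.coeff_truncTotal _ (lt_of_lt_of_le hs hle), sub_self]

end Eval

section Main

set_option linter.unusedSectionVars false

variable {R : Type u} [CommRing R] [IsLocalRing R] [IsNoetherianRing R]
  [IsAdicComplete (maximalIdeal R) R]
  (k : Type v) [CommRing k] [Algebra k R] {d : ℕ} (x : Fin d → R)
  (hx : ∀ i, x i ∈ maximalIdeal R)

/-- the evaluation map `k[[X]] → R` -/
noncomputable def Phi : MvPowerSeries (Fin d) k →ₐ[k] R :=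
  IsAdicComplete.liftAlgHom (maximalIdeal R) (fN (k := k) x (maximalIdeal R) hx)
    (fun hle => fN_compat x (maximalIdeal R) hx hle)

theorem mk_Phi (n : ℕ) (F : MvPowerSeries (Fin d) k) :
    Ideal.Quotient.mk (maximalIdeal R ^ n) (Phi k x hx F)
      = Ideal.Quotient.mk _ (aeval x (MvPowerSeries.truncTotal n F)) := by
  unfold Phi
  rw [IsAdicComplete.mk_liftAlgHom (maximalIdeal R) (fN (k := k) x (maximalIdeal R) hx)
    (fun hle => fN_compat x (maximalIdeal R) hx hle)]
  rfl

theorem truncTotal_X [Nontrivial k] (n : ℕ) (hn : 2 ≤ n) (i : Fin d) :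
    MvPowerSeries.truncTotal n (MvPowerSeries.X i : MvPowerSeries (Fin d) k) = X i := by
  classical
  ext s
  rw [MvPowerSeries.coeff_truncTotal_eq_ite, MvPowerSeries.coeff_X, MvPolynomial.coeff_X]
  by_cases hs : s = Finsupp.single i 1
  · subst hs
    have : (Finsupp.single i 1 : Fin d →₀ ℕ).degree < n := by
      rw [Finsupp.degree_single]; omega
    rw [if_pos this, if_pos rfl]
  · rw [if_neg hs, if_neg (Ne.symm hs)]
    simp

theorem Phi_X [Nontrivial k] (i : Fin d) :
    Phi k x hx (MvPowerSeries.X i : MvPowerSeries (Fin d) k) = x i := by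
  have hH : IsHausdorff (maximalIdeal R) R := inferInstance
  rw [← sub_eq_zero]
  apply hH.haus'
  intro n
  rw [smul_eq_mul, Ideal.mul_top, SModEq.zero]
  have h1 : Phi k x hx (MvPowerSeries.X i) - x i ∈ maximalIdeal R ^ (max n 2) := by
    rw [← Ideal.Quotient.eq, mk_Phi, truncTotal_X _ _ (le_max_right _ _), aeval_X]
  exact Ideal.pow_le_pow_right (le_max_left _ _) h1

end Main


open IsLocalRing

section sop

/-- lifting a system of parameters of `R ⧸ J`. -/
theorem exists_sop_lift (R : Type u) [CommRing R] [IsLocalRing R] [IsNoetherianRing R]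
    (J : Ideal R) (hJ : J ≤ maximalIdeal R) :
    ∃ (n : ℕ) (x : Fin n → R), (∀ i, x i ∈ maximalIdeal R) ∧
      maximalIdeal R ∈ (J ⊔ Ideal.span (Set.range x)).minimalPrimes ∧
      ringKrullDim (R ⧸ J) = (n : WithBot ℕ∞) := by
  classical
  haveI : Nontrivial (R ⧸ J) :=
    Ideal.Quotient.nontrivial_iff.mpr
      (fun h => (maximalIdeal.isMaximal R).ne_top (top_le_iff.mp (h ▸ hJ)))
  haveI hloc : IsLocalRing (R ⧸ J) :=
    IsLocalRing.of_surjective' (Ideal.Quotient.mk _) Ideal.Quotient.mk_surjective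
  have hmk : Function.Surjective (Ideal.Quotient.mk J) := Ideal.Quotient.mk_surjective
  obtain ⟨s, hsmin, hscard⟩ :=
    Ideal.exists_finset_card_eq_height_of_isNoetherianRing (maximalIdeal (R ⧸ J))
  obtain ⟨n, hn⟩ : ∃ n, n = s.card := ⟨_, rfl⟩
  let xb : Fin n → R ⧸ J := fun i => ((s.equivFin.symm (Fin.cast hn i) : s) : _)
  have hrange : Set.range xb = (s : Set (R ⧸ J)) := by
    ext b
    constructor
    · rintro ⟨i, rfl⟩
      exact (s.equivFin.symm (Fin.cast hn i)).2
    · intro hb
      refine ⟨Fin.cast hn.symm (s.equivFin ⟨b, hb⟩), ?_⟩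
      simp [xb]
  let x : Fin n → R := fun i => Function.surjInv hmk (xb i)
  have hxb : ∀ i, Ideal.Quotient.mk J (x i) = xb i :=
    fun i => Function.surjInv_eq hmk (xb i)
  have hcomapmax : (maximalIdeal (R ⧸ J)).comap (Ideal.Quotient.mk J) = maximalIdeal R :=
    IsLocalRing.eq_maximalIdeal (Ideal.comap_isMaximal_of_surjective _ hmk)
  have hmap : (Ideal.span (Set.range x)).map (Ideal.Quotient.mk J) =
      Ideal.span (s : Set (R ⧸ J)) := by
    rw [Ideal.map_span, ← hrange]
    congr 1
    ext b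
    constructor
    · rintro ⟨_, ⟨i, rfl⟩, rfl⟩
      exact ⟨i, (hxb i).symm⟩
    · rintro ⟨i, rfl⟩
      exact ⟨x i, ⟨i, rfl⟩, hxb i⟩
  have hcomap : (Ideal.span (s : Set (R ⧸ J))).comap (Ideal.Quotient.mk J) =
      J ⊔ Ideal.span (Set.range x) := by
    rw [← hmap, Ideal.comap_map_of_surjective _ hmk, ← RingHom.ker_eq_comap_bot,
      Ideal.mk_ker, sup_comm]
  have hmin : maximalIdeal R ∈ (J ⊔ Ideal.span (Set.range x)).minimalPrimes := by
    rw [← hcomap, ← hcomapmax]
    exact Ideal.minimalPrimes_comap_of_surjective hmk hsmin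
  refine ⟨n, x, fun i => ?_, hmin, ?_⟩
  · exact hmin.1.2 (Ideal.mem_sup_right (Ideal.subset_span ⟨i, rfl⟩))
  · rw [← IsLocalRing.maximalIdeal_height_eq_ringKrullDim, ← hscard, hn]
    rfl

end sop

section finite

variable {P R : Type u} [CommRing P] [IsLocalRing P] [IsNoetherianRing P]
  [hcP : IsAdicComplete (maximalIdeal P) P]
  [CommRing R] [IsLocalRing R] [IsNoetherianRing R] [Algebra P R]

/-- a quasi-finite local homomorphism from a complete local ring with finite residue field
extension is finite -/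
theorem finite_of_mem_minimalPrimes' [hres : Module.Finite P (R ⧸ maximalIdeal R)]
    (hmin : maximalIdeal R ∈ ((maximalIdeal P).map (algebraMap P R)).minimalPrimes) :
    Module.Finite P R := by
  set f := algebraMap P R with hf
  have hJle : (maximalIdeal P).map f ≤ maximalIdeal R := hmin.1.2
  haveI hH : IsHausdorff (maximalIdeal P) R := by
    refine ⟨fun a ha => ?_⟩
    have hA : IsHausdorff (maximalIdeal R) R := inferInstance
    apply hA.haus'
    intro m
    have h1 := ha m
    rw [SModEq.zero] at h1 ⊢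
    rw [Ideal.smul_top_eq_map, Submodule.restrictScalars_mem, Ideal.map_pow] at h1
    rw [smul_eq_mul, Ideal.mul_top]
    exact Ideal.pow_right_mono hJle m h1
  apply Groth.Agent.Lib.Helper15.finite_of_finite_quotient_of_isAdicComplete (maximalIdeal P)
  haveI hart : IsArtinianRing (R ⧸ (maximalIdeal P).map f) :=
    IsLocalRing.quotient_artinian_of_mem_minimalPrimes_of_isLocalRing _ hmin
  haveI : Nontrivial (R ⧸ (maximalIdeal P).map f) :=
    Ideal.Quotient.nontrivial_iff.mpr
      (fun h => (maximalIdeal.isMaximal R).ne_top (top_le_iff.mp (h ▸ hJle)))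
  haveI hloc : IsLocalRing (R ⧸ (maximalIdeal P).map f) :=
    IsLocalRing.of_surjective' (Ideal.Quotient.mk _) Ideal.Quotient.mk_surjective
  haveI hfinres : Module.Finite P ((R ⧸ (maximalIdeal P).map f) ⧸
      maximalIdeal (R ⧸ (maximalIdeal P).map f)) := by
    let g0 : R →ₐ[P] ((R ⧸ (maximalIdeal P).map f) ⧸
        maximalIdeal (R ⧸ (maximalIdeal P).map f)) :=
      (Ideal.Quotient.mkₐ P (maximalIdeal (R ⧸ (maximalIdeal P).map f))).comp
        (Ideal.Quotient.mkₐ P ((maximalIdeal P).map f))
    have hg0 : ∀ a : R, a ∈ maximalIdeal R → g0 a = 0 := by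
      intro a ha
      show Ideal.Quotient.mk _ (Ideal.Quotient.mk _ a) = 0
      rw [Ideal.Quotient.eq_zero_iff_mem, IsLocalRing.mem_maximalIdeal]
      intro hu
      have hlh : IsLocalHom (Ideal.Quotient.mk ((maximalIdeal P).map f)) :=
        IsLocalHom.of_surjective _ Ideal.Quotient.mk_surjective
      exact (IsLocalRing.mem_maximalIdeal _).mp ha (IsLocalHom.map_nonunit _ hu)
    let g : (R ⧸ maximalIdeal R) →ₐ[P] ((R ⧸ (maximalIdeal P).map f) ⧸
        maximalIdeal (R ⧸ (maximalIdeal P).map f)) :=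
      Ideal.Quotient.liftₐ (maximalIdeal R) g0 hg0
    have hgs : Function.Surjective g := by
      intro y
      obtain ⟨y', rfl⟩ := Ideal.Quotient.mk_surjective y
      obtain ⟨a, rfl⟩ := Ideal.Quotient.mk_surjective y'
      exact ⟨Ideal.Quotient.mk _ a, rfl⟩
    exact Module.Finite.of_surjective g.toLinearMap hgs
  haveI hfin₁ : Module.Finite P (R ⧸ (maximalIdeal P).map f) :=
    Groth.Agent.Lib.Helper28.finite_of_residue_finite
  have hsub : (maximalIdeal P • ⊤ : Submodule P R) =
      ((maximalIdeal P).map f).restrictScalars P := by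
    rw [Ideal.smul_top_eq_map]
  rw [hsub]
  let g : R ⧸ (maximalIdeal P).map f →ₗ[P] R ⧸ ((maximalIdeal P).map f).restrictScalars P :=
    Submodule.liftQ (((maximalIdeal P).map f).restrictScalars P)
      (Submodule.mkQ _) (by
        intro a ha
        rw [LinearMap.mem_ker, Submodule.mkQ_apply, Submodule.Quotient.mk_eq_zero]
        exact ha)
  have hg : Function.Surjective g := by
    intro y
    obtain ⟨a, rfl⟩ := Submodule.Quotient.mk_surjective _ y
    exact ⟨Ideal.Quotient.mk _ a, rfl⟩
  exact Module.Finite.of_surjective g hg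

end finite


open IsLocalRing Groth.Agent.Lib.Helper1.ArtFunLib

section Struct

variable (A B : Type u) [CommRing A] [CommRing B] [IsNoetherianRing A] [IsNoetherianRing B]
  [IsLocalRing A] [IsLocalRing B] [IsAdicComplete (maximalIdeal A) A]
  [IsAdicComplete (maximalIdeal B) B] [Algebra A B] [IsLocalHom (algebraMap A B)]
  [Module.Finite (ResidueField A) (ResidueField B)]

theorem finite_residue : Module.Finite A (B ⧸ maximalIdeal B) := by
  haveI : Module.Finite A (ResidueField A) :=
    Module.Finite.of_surjective (Algebra.linearMap A (ResidueField A)) residue_surjective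
  haveI : Module.Finite A (ResidueField B) := Module.Finite.trans (ResidueField A) (ResidueField B)
  exact (inferInstance : Module.Finite A (ResidueField B))

/-- `B` is finite over a power series ring `A[[T₁,…,Tₙ]]`, `n` the dimension of the closed fibre. -/
theorem exists_finite_powerSeries :
    ∃ (n : ℕ) (φ : MvPowerSeries (Fin n) A →ₐ[A] B),
      ringKrullDim (B ⧸ (maximalIdeal A).map (algebraMap A B)) = (n : WithBot ℕ∞) ∧
      maximalIdeal B ∈
        ((maximalIdeal (MvPowerSeries (Fin n) A)).map φ.toRingHom).minimalPrimes ∧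
      φ.toRingHom.Finite := by
  have hJ : (maximalIdeal A).map (algebraMap A B) ≤ maximalIdeal B :=
    ((local_hom_TFAE (algebraMap A B)).out 0 2).mp ‹_›
  obtain ⟨n, x, hx, hmin, hdim⟩ := exists_sop_lift B _ hJ
  set φ := Phi A x hx with hφ
  have hmapmax : (maximalIdeal (MvPowerSeries (Fin n) A)).map φ.toRingHom =
      (maximalIdeal A).map (algebraMap A B) ⊔ Ideal.span (Set.range x) := by
    rw [PS.maximalIdeal_eq_sup, Ideal.map_sup, Ideal.map_map, Ideal.map_span, ← Set.range_comp]
    have h1 : φ.toRingHom.comp (MvPowerSeries.C : A →+* MvPowerSeries (Fin n) A) =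
        algebraMap A B := by
      apply RingHom.ext
      intro a
      exact φ.commutes a
    have h2 : (⇑φ.toRingHom ∘ (MvPowerSeries.X : Fin n → MvPowerSeries (Fin n) A)) = x := by
      funext i
      exact Phi_X A x hx i
    rw [h1, h2]
  have hmin' : maximalIdeal B ∈
      ((maximalIdeal (MvPowerSeries (Fin n) A)).map φ.toRingHom).minimalPrimes := by
    rw [hmapmax]; exact hmin
  refine ⟨n, φ, hdim, hmin', ?_⟩
  letI : Algebra (MvPowerSeries (Fin n) A) B := φ.toRingHom.toAlgebra
  haveI : IsScalarTower A (MvPowerSeries (Fin n) A) B :=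
    IsScalarTower.of_algebraMap_eq (fun a => (φ.commutes a).symm)
  haveI : IsAdicComplete (maximalIdeal (MvPowerSeries (Fin n) A)) (MvPowerSeries (Fin n) A) :=
    PS.isAdicComplete_mvPowerSeries
  haveI := finite_residue A B
  haveI : Module.Finite (MvPowerSeries (Fin n) A) (B ⧸ maximalIdeal B) :=
    Module.Finite.of_restrictScalars_finite A _ _
  show Module.Finite (MvPowerSeries (Fin n) A) B
  exact finite_of_mem_minimalPrimes' hmin'

end Struct


open IsLocalRing TensorProduct Groth.Agent.Lib.Helper1.ArtFunLib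

section RegQuot

variable (A : Type u) [CommRing A] [IsNoetherianRing A] [IsLocalRing A] (n : ℕ)

/-- `A[[T]] / 𝔪_A A[[T]] ≃ k[[T]]`. -/
noncomputable def quotEquivPS :
    (MvPowerSeries (Fin n) A ⧸ (maximalIdeal A).map (algebraMap A (MvPowerSeries (Fin n) A))) ≃+*
      MvPowerSeries (Fin n) (ResidueField A) :=
  haveI : Module.Finite A (ResidueField A) :=
    Module.Finite.of_surjective (Algebra.linearMap A (ResidueField A)) residue_surjective
  ((Algebra.TensorProduct.quotIdealMapEquivTensorQuot (MvPowerSeries (Fin n) A)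
      (maximalIdeal A)).toRingEquiv.trans
    (Algebra.TensorProduct.comm A (MvPowerSeries (Fin n) A) (ResidueField A)).toRingEquiv).trans
    (AlgEquiv.ofBijective (Groth.Agent.Lib.Helper23.PSRegular.psBC A (ResidueField A) n)
      (Groth.Agent.Lib.Helper23.PSRegular.psBC_bijective A (ResidueField A) n)).toRingEquiv

theorem ringKrullDim_ps_field (k : Type u) [Field k] :
    IsRegularLocalRing (MvPowerSeries (Fin n) k) ∧
      ringKrullDim (MvPowerSeries (Fin n) k) = (n : WithBot ℕ∞) := by
  haveI hk : IsRegularLocalRing k := inferInstance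
  have hreg := Groth.Agent.Lib.Helper18.CST.isRegularLocalRing_mvPowerSeries k n
  refine ⟨hreg, le_antisymm ?_ ?_⟩
  · rw [← hreg.spanFinrank_maximalIdeal]
    have h1 := Groth.Agent.Lib.Helper18.CST.spanFinrank_maximalIdeal_mvPowerSeries_le k n
    have h2 : (maximalIdeal k).spanFinrank = 0 := by
      rw [IsLocalRing.maximalIdeal_eq_bot]
      simp
    rw [h2, zero_add] at h1
    exact_mod_cast h1
  · have h1 := Groth.Agent.Lib.Helper18.CST.add_le_ringKrullDim_mvPowerSeries k n
    rw [ringKrullDim_eq_zero_of_field, zero_add] at h1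
    exact h1

theorem isRegularLocalRing_quot :
    IsRegularLocalRing
      (MvPowerSeries (Fin n) A ⧸ (maximalIdeal A).map (algebraMap A (MvPowerSeries (Fin n) A))) ∧
    ringKrullDim
      (MvPowerSeries (Fin n) A ⧸ (maximalIdeal A).map (algebraMap A (MvPowerSeries (Fin n) A))) =
        (n : WithBot ℕ∞) := by
  obtain ⟨h1, h2⟩ := ringKrullDim_ps_field n (ResidueField A)
  refine ⟨IsRegularLocalRing.of_ringEquiv (quotEquivPS A n).symm, ?_⟩
  rw [ringKrullDim_eq_of_ringEquiv (quotEquivPS A n), h2]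

end RegQuot


open IsLocalRing TensorProduct

section Flat

variable (A B : Type u) [CommRing A] [CommRing B] [IsNoetherianRing A] [IsNoetherianRing B]
  [IsLocalRing A] [IsLocalRing B] [Algebra A B] [IsLocalHom (algebraMap A B)] [Module.Flat A B]
  (n : ℕ) [Algebra (MvPowerSeries (Fin n) A) B] [IsScalarTower A (MvPowerSeries (Fin n) A) B]
  [Module.Finite (MvPowerSeries (Fin n) A) B]

theorem isLocalHom_algebraMap_ps : IsLocalHom (algebraMap A (MvPowerSeries (Fin n) A)) := by
  refine ⟨fun a ha => ?_⟩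
  have h := MvPowerSeries.isUnit_iff_constantCoeff.mp ha
  rwa [MvPowerSeries.algebraMap_apply, MvPowerSeries.constantCoeff_C, Algebra.algebraMap_self,
    RingHom.id_apply] at h

theorem flat_powerSeries
    (hdim : ringKrullDim (B ⧸ (maximalIdeal A).map (algebraMap A B)) = (n : WithBot ℕ∞))
    (hmin : maximalIdeal B ∈ ((maximalIdeal (MvPowerSeries (Fin n) A)).map
      (algebraMap (MvPowerSeries (Fin n) A) B)).minimalPrimes)
    (hCM : LocCoh.IsCohenMacaulayLocalRing (B ⧸ (maximalIdeal A).map (algebraMap A B))) :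
    Module.Flat A (MvPowerSeries (Fin n) A) ∧ Module.Flat (MvPowerSeries (Fin n) A) B := by
  haveI hlocAC : IsLocalHom (algebraMap A (MvPowerSeries (Fin n) A)) :=
    isLocalHom_algebraMap_ps A n
  have hle : (maximalIdeal (MvPowerSeries (Fin n) A)).map
      (algebraMap (MvPowerSeries (Fin n) A) B) ≤ maximalIdeal B := hmin.1.2
  haveI hlocCB : IsLocalHom (algebraMap (MvPowerSeries (Fin n) A) B) :=
    ((local_hom_TFAE (algebraMap (MvPowerSeries (Fin n) A) B)).out 0 2).mpr hle
  set JC : Ideal (MvPowerSeries (Fin n) A) :=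
    (maximalIdeal A).map (algebraMap A (MvPowerSeries (Fin n) A)) with hJC
  set J' : Ideal B := JC.map (algebraMap (MvPowerSeries (Fin n) A) B) with hJ'def
  have hJ' : J' = (maximalIdeal A).map (algebraMap A B) := by
    rw [hJ'def, hJC, Ideal.map_map, ← IsScalarTower.algebraMap_eq]
  have hJCle : JC ≤ maximalIdeal (MvPowerSeries (Fin n) A) :=
    ((local_hom_TFAE (algebraMap A (MvPowerSeries (Fin n) A))).out 0 2).mp hlocAC
  have hJ'le : J' ≤ maximalIdeal B := (Ideal.map_mono hJCle).trans hle
  haveI : Nontrivial (MvPowerSeries (Fin n) A ⧸ JC) := Ideal.Quotient.nontrivial_iff.mpr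
    (fun h => (maximalIdeal.isMaximal _).ne_top (top_le_iff.mp (h ▸ hJCle)))
  haveI : IsLocalRing (MvPowerSeries (Fin n) A ⧸ JC) :=
    IsLocalRing.of_surjective' (Ideal.Quotient.mk JC) Ideal.Quotient.mk_surjective
  haveI : Nontrivial (B ⧸ J') := Ideal.Quotient.nontrivial_iff.mpr
    (fun h => (maximalIdeal.isMaximal _).ne_top (top_le_iff.mp (h ▸ hJ'le)))
  haveI : IsLocalRing (B ⧸ J') :=
    IsLocalRing.of_surjective' (Ideal.Quotient.mk J') Ideal.Quotient.mk_surjective
  letI alg : Algebra (MvPowerSeries (Fin n) A ⧸ JC) (B ⧸ J') :=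
    Ideal.Quotient.algebraQuotientOfLEComap Ideal.le_comap_map
  haveI : IsScalarTower (MvPowerSeries (Fin n) A) (MvPowerSeries (Fin n) A ⧸ JC) (B ⧸ J') := by
    refine ⟨fun c r s => ?_⟩
    obtain ⟨r, rfl⟩ := Ideal.Quotient.mk_surjective r
    obtain ⟨s, rfl⟩ := Ideal.Quotient.mk_surjective s
    show Ideal.Quotient.mk J' ((c * r) • s) = Ideal.Quotient.mk J' (c • r • s)
    rw [mul_smul]
  haveI hloc0 : IsLocalHom (algebraMap (MvPowerSeries (Fin n) A ⧸ JC) (B ⧸ J')) := by
    refine ⟨fun a ha => ?_⟩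
    obtain ⟨c, rfl⟩ := Ideal.Quotient.mk_surjective a
    have h1 : IsUnit (Ideal.Quotient.mk J' (algebraMap (MvPowerSeries (Fin n) A) B c)) := ha
    haveI : IsLocalHom (Ideal.Quotient.mk J') :=
      IsLocalHom.of_surjective _ Ideal.Quotient.mk_surjective
    have h2 : IsUnit (algebraMap (MvPowerSeries (Fin n) A) B c) := isUnit_of_map_unit _ _ h1
    have h3 : IsUnit c := isUnit_of_map_unit (algebraMap (MvPowerSeries (Fin n) A) B) c h2
    exact h3.map _
  obtain ⟨hreg, hdimR⟩ := isRegularLocalRing_quot A n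
  haveI := hreg
  have hCM' : LocCoh.IsCohenMacaulayLocalRing (B ⧸ J') := by
    rw [hJ']; exact hCM
  haveI := hCM'
  -- the dimension of the closed fibre of R₀ → S₀
  have hdim0 : ringKrullDim ((B ⧸ J') ⧸ (maximalIdeal (MvPowerSeries (Fin n) A ⧸ JC)).map
      (algebraMap (MvPowerSeries (Fin n) A ⧸ JC) (B ⧸ J'))) = 0 := by
    set I₀ := (maximalIdeal (MvPowerSeries (Fin n) A ⧸ JC)).map
      (algebraMap (MvPowerSeries (Fin n) A ⧸ JC) (B ⧸ J')) with hI₀
    have hI₀le : I₀ ≤ maximalIdeal (B ⧸ J') :=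
      ((local_hom_TFAE (algebraMap (MvPowerSeries (Fin n) A ⧸ JC) (B ⧸ J'))).out 0 2).mp hloc0
    haveI : Nontrivial ((B ⧸ J') ⧸ I₀) := Ideal.Quotient.nontrivial_iff.mpr
      (fun h => (maximalIdeal.isMaximal _).ne_top (top_le_iff.mp (h ▸ hI₀le)))
    haveI hart : IsArtinianRing (B ⧸ (maximalIdeal (MvPowerSeries (Fin n) A)).map
        (algebraMap (MvPowerSeries (Fin n) A) B)) :=
      IsLocalRing.quotient_artinian_of_mem_minimalPrimes_of_isLocalRing _ hmin
    let π : B →+* (B ⧸ J') ⧸ I₀ := (Ideal.Quotient.mk I₀).comp (Ideal.Quotient.mk J')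
    have hπ : ∀ b ∈ (maximalIdeal (MvPowerSeries (Fin n) A)).map
        (algebraMap (MvPowerSeries (Fin n) A) B), π b = 0 := by
      intro b hb
      have hb' : b ∈ RingHom.ker π := by
        revert b
        show (maximalIdeal (MvPowerSeries (Fin n) A)).map
          (algebraMap (MvPowerSeries (Fin n) A) B) ≤ RingHom.ker π
        rw [Ideal.map_le_iff_le_comap]
        intro c hc
        rw [Ideal.mem_comap, RingHom.mem_ker]
        show Ideal.Quotient.mk I₀ (Ideal.Quotient.mk J' (algebraMap _ B c)) = 0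
        rw [Ideal.Quotient.eq_zero_iff_mem]
        have h1 : Ideal.Quotient.mk J' (algebraMap (MvPowerSeries (Fin n) A) B c) =
            algebraMap (MvPowerSeries (Fin n) A ⧸ JC) (B ⧸ J') (Ideal.Quotient.mk JC c) := rfl
        rw [h1]
        apply Ideal.mem_map_of_mem
        rw [IsLocalRing.mem_maximalIdeal]
        intro hu
        haveI : IsLocalHom (Ideal.Quotient.mk JC) :=
          IsLocalHom.of_surjective _ Ideal.Quotient.mk_surjective
        exact (IsLocalRing.mem_maximalIdeal _).mp hc (isUnit_of_map_unit _ _ hu)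
      exact hb'
    let π' := Ideal.Quotient.lift _ π hπ
    have hπ's : Function.Surjective π' := by
      intro y
      obtain ⟨y', rfl⟩ := Ideal.Quotient.mk_surjective y
      obtain ⟨b, rfl⟩ := Ideal.Quotient.mk_surjective y'
      exact ⟨Ideal.Quotient.mk _ b, rfl⟩
    haveI : IsArtinianRing ((B ⧸ J') ⧸ I₀) := hπ's.isArtinianRing
    exact ringKrullDimZero_iff_ringKrullDim_eq_zero.mp inferInstance
  have hdimS : ringKrullDim (B ⧸ J') = (n : WithBot ℕ∞) := by
    rw [← hdim]
    exact ringKrullDim_eq_of_ringEquiv (Ideal.quotEquivOfEq hJ')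
  have hdim' : ringKrullDim (B ⧸ J') = ringKrullDim (MvPowerSeries (Fin n) A ⧸ JC) +
      ringKrullDim ((B ⧸ J') ⧸ (maximalIdeal (MvPowerSeries (Fin n) A ⧸ JC)).map
        (algebraMap (MvPowerSeries (Fin n) A ⧸ JC) (B ⧸ J'))) := by
    rw [hdim0, hdimS, hdimR, add_zero]
  have hflat0 : Module.Flat (MvPowerSeries (Fin n) A ⧸ JC) (B ⧸ J') :=
    Groth.Agent.Lib.Helper18.CM.miracle_flatness hdim'
  -- transfer to the tensor product
  have hsurj : Function.Surjective
      (algebraMap (MvPowerSeries (Fin n) A) (MvPowerSeries (Fin n) A ⧸ JC)) :=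
    Ideal.Quotient.mk_surjective
  let g : B →ₗ[MvPowerSeries (Fin n) A] (B ⧸ J') :=
    (Ideal.Quotient.mkₐ (MvPowerSeries (Fin n) A) J').toLinearMap
  have hg : Function.Surjective g := Ideal.Quotient.mk_surjective
  have hker : LinearMap.ker g =
      RingHom.ker (algebraMap (MvPowerSeries (Fin n) A) (MvPowerSeries (Fin n) A ⧸ JC)) •
        (⊤ : Submodule (MvPowerSeries (Fin n) A) B) := by
    have h1 : RingHom.ker (algebraMap (MvPowerSeries (Fin n) A)
        (MvPowerSeries (Fin n) A ⧸ JC)) = JC := Ideal.mk_ker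
    rw [h1, Ideal.smul_top_eq_map]
    ext b
    rw [LinearMap.mem_ker, Submodule.restrictScalars_mem]
    exact Ideal.Quotient.eq_zero_iff_mem
  let e := Groth.Agent.Lib.Helper16.RegSeqFlat.tensorEquivOfSurjective hsurj g hg hker
  have hflat1 : Module.Flat (MvPowerSeries (Fin n) A ⧸ JC)
      ((MvPowerSeries (Fin n) A ⧸ JC) ⊗[MvPowerSeries (Fin n) A] B) :=
    Module.Flat.of_linearEquiv e
  exact Groth.Agent.S0392.result (R := A) (S := MvPowerSeries (Fin n) A) (S' := B) (M := B) hflat1

end Flat


open IsLocalRing TensorProduct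

section Fib

variable (A B : Type u) [CommRing A] [CommRing B] [IsNoetherianRing A] [IsNoetherianRing B]
  [IsLocalRing A] [IsLocalRing B] [IsAdicComplete (maximalIdeal A) A]
  [IsAdicComplete (maximalIdeal B) B] [Algebra A B] [IsLocalHom (algebraMap A B)]
  [Module.Flat A B] [Module.Finite (ResidueField A) (ResidueField B)]

/-- EGA IV 7.5.1, Cohen–Macaulay case, complete rings. -/
theorem cm_fibres_complete
    (hCM : LocCoh.IsCohenMacaulayLocalRing (B ⧸ (maximalIdeal A).map (algebraMap A B)))
    (p : Ideal A) [p.IsPrime] : LocCoh.IsCohenMacaulayRing (p.Fiber B) := by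
  obtain ⟨n, φ, hdim, hmin, hfin⟩ := exists_finite_powerSeries A B
  letI : Algebra (MvPowerSeries (Fin n) A) B := φ.toRingHom.toAlgebra
  haveI : IsScalarTower A (MvPowerSeries (Fin n) A) B :=
    IsScalarTower.of_algebraMap_eq (fun a => (φ.commutes a).symm)
  haveI : Module.Finite (MvPowerSeries (Fin n) A) B := hfin
  obtain ⟨hAC, hCB⟩ := flat_powerSeries A B n hdim hmin hCM
  have hfibAC : ∀ (q : Ideal A) [q.IsPrime],
      LocCoh.IsCohenMacaulayRing (q.Fiber (MvPowerSeries (Fin n) A)) := by
    intro q _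
    have h1 := Groth.Agent.Lib.Helper23.PSRegular.geomRegular_fiber_mvPowerSeries A n q
    have h2 := Groth.Agent.Lib.Helper18.PMor.isRegularRing_of_isGeometricallyRegular h1
    exact Groth.Agent.Lib.Helper18.PMor.isCohenMacaulayRing_of_isRegularRing h2
  have hfibCB : ∀ (q : Ideal (MvPowerSeries (Fin n) A)) [q.IsPrime],
      LocCoh.IsCohenMacaulayRing (q.Fiber B) := by
    intro q _
    haveI : Module.Finite q.ResidueField (q.Fiber B) := inferInstance
    haveI : IsArtinianRing (q.Fiber B) := IsArtinianRing.of_finite q.ResidueField (q.Fiber B)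
    haveI : IsNoetherianRing (q.Fiber B) := inferInstance
    exact Groth.Agent.Lib.Helper18.FTCM.isCohenMacaulayRing_of_krullDimLE_zero (q.Fiber B)
  exact Groth.Agent.Lib.Helper18.PMor.isCohenMacaulayRing_fiber_comp A (MvPowerSeries (Fin n) A) B
    hfibAC hfibCB p

end Fib


open IsLocalRing TensorProduct Groth.Agent.Lib.Helper18.CplFlat
open Groth.Agent.Lib.Helper23.CplRegular

section Closed

variable (A B : Type u) [CommRing A] [CommRing B] [IsLocalRing A] [IsLocalRing B]
  [IsNoetherianRing B] [Algebra A B] [IsLocalHom (algebraMap A B)]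

/-- Cohen–Macaulay closed fibre ring ⇒ the local ring `B / 𝔪_A B` is Cohen–Macaulay. -/
theorem cmLocal_quotient (h : LocCoh.IsCohenMacaulayRing ((maximalIdeal A).Fiber B)) :
    LocCoh.IsCohenMacaulayLocalRing (B ⧸ (maximalIdeal A).map (algebraMap A B)) := by
  have hcomap : (maximalIdeal B).comap (algebraMap A B) = maximalIdeal A :=
    ((local_hom_TFAE (algebraMap A B)).out 0 4).mp ‹_›
  haveI hl := Groth.Agent.Lib.Helper18.SkMod.isLocalRing_fibLocRing A B (maximalIdeal B)
  have h1 := (Groth.Agent.Lib.Helper18.FibBridge.isCohenMacaulayRing_fiber_iff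
    (maximalIdeal A)).mp h (maximalIdeal B) hcomap
  haveI hCM : LocCoh.IsCohenMacaulayLocalRing (EGA4.FibLocRing A B (maximalIdeal B)) :=
    { supportDim_eq_depth := by rw [Module.supportDim_self_eq_ringKrullDim]; exact h1 }
  -- B ≃ B_𝔪
  let e₀ : B ≃ₐ[B] Localization.AtPrime (maximalIdeal B) :=
    IsLocalization.atUnits B (maximalIdeal B).primeCompl (fun x hx => by
      by_contra hnu
      exact hx ((IsLocalRing.mem_maximalIdeal x).mpr hnu))
  have hIJ : ((maximalIdeal B).comap (algebraMap A B)).map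
      (algebraMap A (Localization.AtPrime (maximalIdeal B))) =
      ((maximalIdeal A).map (algebraMap A B)).map (e₀.toRingEquiv : B →+* _) := by
    rw [hcomap, Ideal.map_map]
    congr 1
  let e := Ideal.quotientEquiv ((maximalIdeal A).map (algebraMap A B))
    (((maximalIdeal B).comap (algebraMap A B)).map
      (algebraMap A (Localization.AtPrime (maximalIdeal B)))) e₀.toRingEquiv hIJ
  exact Groth.Agent.Lib.Helper18.FibQuot.isCohenMacaulayLocalRing_of_ringEquiv e.symm

end Closed

section Main

variable (A B : Type u) [CommRing A] [CommRing B]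
    [IsNoetherianRing A] [IsNoetherianRing B] [IsLocalRing A] [IsLocalRing B] [Algebra A B]
    [IsLocalHom (algebraMap A B)] [Module.Flat A B]
    [Module.Finite (ResidueField A) (ResidueField B)]

theorem cm_fibres (hA : EGA4.HasCMFormalFibres A)
    (h : LocCoh.IsCohenMacaulayRing ((maximalIdeal A).Fiber (EGA4.Cpl B)))
    (p : Ideal A) [p.IsPrime] : LocCoh.IsCohenMacaulayRing (p.Fiber B) := by
  haveI : IsNoetherianRing (EGA4.Cpl A) :=
    Groth.Agent.Lib.Helper21.isNoetherianRing_adicCompletion_of_fg _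
      (maximalIdeal A).fg_of_isNoetherianRing
  haveI : IsNoetherianRing (EGA4.Cpl B) :=
    Groth.Agent.Lib.Helper21.isNoetherianRing_adicCompletion_of_fg _
      (maximalIdeal B).fg_of_isNoetherianRing
  letI : Algebra (EGA4.Cpl A) (EGA4.Cpl B) := (cplMap A B).toAlgebra
  haveI : IsScalarTower A (EGA4.Cpl A) (EGA4.Cpl B) :=
    IsScalarTower.of_algebraMap_eq (fun a => (cplMap_of A B a).symm)
  haveI : IsLocalHom (algebraMap (EGA4.Cpl A) (EGA4.Cpl B)) := isLocalHom_cplMap A B
  haveI : Module.Flat (EGA4.Cpl A) (EGA4.Cpl B) := flat_cplMap A B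
  haveI : IsLocalHom (algebraMap A (EGA4.Cpl B)) := by
    rw [IsScalarTower.algebraMap_eq A B (EGA4.Cpl B)]
    exact RingHom.isLocalHom_comp _ _
  haveI : Module.Flat A (EGA4.Cpl B) := Module.Flat.trans A B (EGA4.Cpl B)
  haveI : IsScalarTower (ResidueField A) (ResidueField B) (ResidueField (EGA4.Cpl B)) :=
    residue_isScalarTower A B (EGA4.Cpl B)
  haveI : IsScalarTower (ResidueField A) (ResidueField (EGA4.Cpl A)) (ResidueField (EGA4.Cpl B)) :=
    residue_isScalarTower A (EGA4.Cpl A) (EGA4.Cpl B)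
  haveI : Module.Finite (ResidueField B) (ResidueField (EGA4.Cpl B)) :=
    Module.Finite.of_surjective (Algebra.linearMap (ResidueField B) (ResidueField (EGA4.Cpl B)))
      (AdicCompletion.residueField_map_bijective B).2
  haveI : Module.Finite (ResidueField A) (ResidueField (EGA4.Cpl B)) :=
    Module.Finite.trans (ResidueField B) _
  haveI : Module.Finite (ResidueField (EGA4.Cpl A)) (ResidueField (EGA4.Cpl B)) :=
    Module.Finite.of_restrictScalars_finite (ResidueField A) _ _
  -- closed fibre
  have h1 := cmLocal_quotient A (EGA4.Cpl B) h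
  have hideal : (maximalIdeal A).map (algebraMap A (EGA4.Cpl B)) =
      (maximalIdeal (EGA4.Cpl A)).map (algebraMap (EGA4.Cpl A) (EGA4.Cpl B)) := by
    rw [AdicCompletion.maximalIdeal_eq_map, Ideal.map_map, ← IsScalarTower.algebraMap_eq]
  have h2 : LocCoh.IsCohenMacaulayLocalRing (EGA4.Cpl B ⧸
      (maximalIdeal (EGA4.Cpl A)).map (algebraMap (EGA4.Cpl A) (EGA4.Cpl B))) := by
    rw [← hideal]; exact h1
  have hBC : ∀ (q : Ideal (EGA4.Cpl A)) [q.IsPrime],
      LocCoh.IsCohenMacaulayRing (q.Fiber (EGA4.Cpl B)) :=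
    fun q _ => cm_fibres_complete (EGA4.Cpl A) (EGA4.Cpl B) h2 q
  have hAC : ∀ (q : Ideal A) [q.IsPrime], LocCoh.IsCohenMacaulayRing (q.Fiber (EGA4.Cpl B)) :=
    fun q _ => Groth.Agent.Lib.Helper18.PMor.isCohenMacaulayRing_fiber_comp A (EGA4.Cpl A)
      (EGA4.Cpl B) hA hBC q
  haveI : Module.FaithfullyFlat B (EGA4.Cpl B) := Module.FaithfullyFlat.of_flat_of_isLocalHom
  exact Groth.Agent.Lib.Helper18.PMor.isCohenMacaulayRing_fiber_of_comp_of_faithfullyFlat A B
    (EGA4.Cpl B) hAC p

end Main


open IsLocalRing TensorProduct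

section Final

variable (A B : Type u) [CommRing A] [CommRing B]
    [IsNoetherianRing A] [IsNoetherianRing B] [IsLocalRing A] [IsLocalRing B] [Algebra A B]
    [IsLocalHom (algebraMap A B)] [Module.Flat A B]
    [Module.Finite (ResidueField A) (ResidueField B)]

theorem cm_tensor_of_finite (k K F : Type u) [Field k] [Field K] [Algebra k K] [Module.Finite k K]
    [CommRing F] [Algebra k F] (hF : LocCoh.IsCohenMacaulayRing F) :
    LocCoh.IsCohenMacaulayRing (K ⊗[k] F) := by
  haveI := hF
  haveI : LocCoh.IsCohenMacaulayRing (F ⊗[k] K) :=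
    Groth.Agent.Lib.Helper18.FTCM.isCohenMacaulayRing_of_finite_flat F (F ⊗[k] K)
  exact Groth.Agent.Lib.Helper18.FibQuot.isCohenMacaulayRing_of_ringEquiv
    (Algebra.TensorProduct.comm k F K).toRingEquiv

theorem main (hA : EGA4.HasCMFormalFibres A)
    (h : ∀ (k' : Type u) [Field k'] [Algebra (maximalIdeal A).ResidueField k'],
      Module.Finite (maximalIdeal A).ResidueField k' →
        LocCoh.IsCohenMacaulayRing (k' ⊗[(maximalIdeal A).ResidueField]
          ((maximalIdeal A).Fiber (EGA4.Cpl B))))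
    (p : Ideal A) [p.IsPrime] (K : Type u) [Field K] [Algebra p.ResidueField K]
    (hK : Module.Finite p.ResidueField K) :
    LocCoh.IsCohenMacaulayRing (K ⊗[p.ResidueField] (p.Fiber B)) := by
  have h0 := h (maximalIdeal A).ResidueField (Module.Finite.self _)
  haveI := h0
  have hF : LocCoh.IsCohenMacaulayRing ((maximalIdeal A).Fiber (EGA4.Cpl B)) :=
    Groth.Agent.Lib.Helper18.FibQuot.isCohenMacaulayRing_of_ringEquiv
      (R := (maximalIdeal A).ResidueField ⊗[(maximalIdeal A).ResidueField]
        ((maximalIdeal A).Fiber (EGA4.Cpl B)))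
      (Algebra.TensorProduct.lid (maximalIdeal A).ResidueField
        ((maximalIdeal A).Fiber (EGA4.Cpl B))).toRingEquiv
  have h1 := cm_fibres A B hA hF p
  exact cm_tensor_of_finite p.ResidueField K (p.Fiber B) h1

end Final

end Groth.Agent.Lib.Helper23.CMFibres
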