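import Mathlib
import Groth.Agent.Lib.Helper14.FPFib2
import Groth.Agent.Lib.Helper12.FlatFib2
import Groth.Agent.Lib.Helper14.FPFib4
import Groth.Agent.Lib.Helper18.FlG
import Groth.Agent.Lib.Helper21.FibDim3

/-!
helper23: lower semicontinuity of fibre dimension for flat morphisms of finite presentation (EGA IV 14.2 / Stacks 0D4H), no Noetherian hypotheses. Ring level: map_C_eq_ker, isPrime_map_C, comap_C_map_C, aeval_map_mk, comap_eq_map_C_of_algebraicIndependent, algebraicIndependent_of_comap_eq_map_C, le_trdeg_of_comap_eq_map_C, exists_algHom_comap_eq_map_C (prime q over p with trdeg n lies over the generic point p[t] of the fibre of A^n for a suitable A[t_1..t_n] -> B), flat_stalkMap_of_comap_eq_map_C (fibre criterion: A -> B flat f.p., then Spec B -> A^n_A is flat at such q), exists_open_le_trdeg (ring-level lower semicontinuity), exists_open_forall_exists_le_trdeg (scheme level).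
-/

set_option autoImplicit false
universe u
set_option linter.style.haveILetI false
open AlgebraicGeometry CategoryTheory Limits
open AlgebraicGeometry CategoryTheory Limits TopologicalSpace

namespace Groth.Agent.Lib.Helper23.FibDimLSC


open MvPolynomial

section Ring

variable {A B : Type u} [CommRing A] [CommRing B] [Algebra A B] {n : ℕ}

/-- the kernel of reduction of coefficients modulo `p` -/
theorem map_C_eq_ker (p : Ideal A) :
    p.map (C : A →+* MvPolynomial (Fin n) A) =
      RingHom.ker (MvPolynomial.map (σ := Fin n) (Ideal.Quotient.mk p)) := by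
  rw [MvPolynomial.ker_map, Ideal.mk_ker]

theorem isPrime_map_C (p : Ideal A) [p.IsPrime] :
    (p.map (C : A →+* MvPolynomial (Fin n) A)).IsPrime := by
  rw [map_C_eq_ker]
  exact RingHom.ker_isPrime _

theorem comap_C_map_C (p : Ideal A) :
    (p.map (C : A →+* MvPolynomial (Fin n) A)).comap (C : A →+* MvPolynomial (Fin n) A) = p := by
  ext a
  rw [Ideal.mem_comap, MvPolynomial.mem_map_C_iff]
  constructor
  · intro h
    have := h 0
    simpa using this
  · intro ha m
    classical
    rw [coeff_C]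
    split_ifs
    · exact ha
    · exact zero_mem _

variable (π : MvPolynomial (Fin n) A →ₐ[A] B) (p : Ideal A) (q : Ideal B) [q.LiesOver p]

/-- compatibility of evaluation modulo the primes -/
theorem aeval_map_mk (G : MvPolynomial (Fin n) A) :
    MvPolynomial.aeval (R := A ⧸ p) (fun i : Fin n => Ideal.Quotient.mk q (π (X i)))
        (MvPolynomial.map (Ideal.Quotient.mk p) G) = Ideal.Quotient.mk q (π G) := by
  have h : ((MvPolynomial.aeval (R := A ⧸ p)
        (fun i : Fin n => Ideal.Quotient.mk q (π (X i)))).toRingHom.comp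
        (MvPolynomial.map (Ideal.Quotient.mk p))) =
      (Ideal.Quotient.mk q).comp π.toRingHom := by
    apply MvPolynomial.ringHom_ext
    · intro a
      simp only [RingHom.comp_apply, MvPolynomial.map_C, AlgHom.toRingHom_eq_coe, RingHom.coe_coe,
        MvPolynomial.aeval_C]
      rw [Ideal.Quotient.algebraMap_mk_of_liesOver]
      congr 1
      have : (C a : MvPolynomial (Fin n) A) = algebraMap A _ a := rfl
      rw [this, π.commutes]
    · intro i
      simp
  exact congrFun (congrArg DFunLike.coe h) G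

/-- If the images of the variables are algebraically independent modulo `q`, the prime `q` lies
over the generic point of the fibre of the affine space. -/
theorem comap_eq_map_C_of_algebraicIndependent
    (h : AlgebraicIndependent (A ⧸ p) (fun i : Fin n => Ideal.Quotient.mk q (π (X i)))) :
    q.comap π.toRingHom = p.map C := by
  ext G
  rw [Ideal.mem_comap, map_C_eq_ker, RingHom.mem_ker]
  constructor
  · intro hG
    have h1 := aeval_map_mk π p q G
    have hG' : π G ∈ q := hG
    rw [Ideal.Quotient.eq_zero_iff_mem.mpr hG'] at h1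
    have h2 : MvPolynomial.aeval (R := A ⧸ p) (fun i : Fin n => Ideal.Quotient.mk q (π (X i)))
        (MvPolynomial.map (Ideal.Quotient.mk p) G) =
        MvPolynomial.aeval (R := A ⧸ p) (fun i : Fin n => Ideal.Quotient.mk q (π (X i))) 0 := by
      rw [h1, map_zero]
    exact h h2
  · intro hG
    have h1 := aeval_map_mk π p q G
    rw [hG, map_zero] at h1
    exact Ideal.Quotient.eq_zero_iff_mem.mp h1.symm

/-- Conversely. -/
theorem algebraicIndependent_of_comap_eq_map_C (h : q.comap π.toRingHom = p.map C) :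
    AlgebraicIndependent (A ⧸ p) (fun i : Fin n => Ideal.Quotient.mk q (π (X i))) := by
  rw [algebraicIndependent_iff_injective_aeval, injective_iff_map_eq_zero]
  intro G' hG'
  obtain ⟨G, rfl⟩ := MvPolynomial.map_surjective (Ideal.Quotient.mk p)
    Ideal.Quotient.mk_surjective G'
  rw [aeval_map_mk π p q G, Ideal.Quotient.eq_zero_iff_mem] at hG'
  have : G ∈ q.comap π.toRingHom := hG'
  rw [h, map_C_eq_ker, RingHom.mem_ker] at this
  exact this

theorem le_trdeg_of_comap_eq_map_C [Nontrivial (A ⧸ p)] (h : q.comap π.toRingHom = p.map C) :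
    (n : Cardinal.{u}) ≤ Algebra.trdeg (A ⧸ p) (B ⧸ q) := by
  have h1 := (algebraicIndependent_of_comap_eq_map_C π p q h).lift_cardinalMk_le_trdeg
  simpa using h1

end Ring

/-- A prime with residual transcendence degree `n` lies over the generic point of the fibre of a
suitable map to the affine `n`-space. -/
theorem exists_algHom_comap_eq_map_C (A B : Type u) [CommRing A] [CommRing B] [Algebra A B]
    (p : Ideal A) [p.IsPrime] (q : Ideal B) [q.IsPrime] [q.LiesOver p] (n : ℕ)
    (hq : Algebra.trdeg (A ⧸ p) (B ⧸ q) = n) :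
    ∃ π : MvPolynomial (Fin n) A →ₐ[A] B, q.comap π.toRingHom = p.map C := by
  obtain ⟨ι, x, hx⟩ := exists_isTranscendenceBasis' (A ⧸ p) (B ⧸ q)
  have hcard : Cardinal.mk ι = n := by rw [hx.cardinalMk_eq_trdeg, hq]
  obtain ⟨e⟩ : Nonempty (Fin n ≃ ι) := by
    have : Cardinal.mk (ULift.{u} (Fin n)) = Cardinal.mk ι := by simp [hcard]
    obtain ⟨e'⟩ := Cardinal.eq.mp this
    exact ⟨Equiv.ulift.symm.trans e'⟩
  have hy : AlgebraicIndependent (A ⧸ p) (x ∘ e) := hx.1.comp e e.injective
  choose b hb using fun i : Fin n => Ideal.Quotient.mk_surjective (I := q) ((x ∘ e) i)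
  let π : MvPolynomial (Fin n) A →ₐ[A] B := MvPolynomial.aeval b
  refine ⟨π, comap_eq_map_C_of_algebraicIndependent π p q ?_⟩
  have : (fun i : Fin n => Ideal.Quotient.mk q (π (X i))) = x ∘ e := by
    funext i
    simp [π, hb i]
  rw [this]
  exact hy



open Groth.Agent.Lib.Helper14.AS Groth.Agent.Lib.Helper12.H12FlatFib

attribute [local instance] MvPolynomial.algebraMvPolynomial in
/-- **Fibre criterion at the generic point of the fibre of the affine space.** -/
theorem flat_stalkMap_of_comap_eq_map_C (A B : Type u) [CommRing A] [CommRing B] [Algebra A B]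
    [Module.Flat A B] [Algebra.FinitePresentation A B] (n : ℕ)
    (π : MvPolynomial (Fin n) A →ₐ[A] B) (x : Spec (CommRingCat.of B))
    (hx : x.asIdeal.comap π.toRingHom =
      (x.asIdeal.comap (algebraMap A B)).map MvPolynomial.C) :
    ((Spec.map (CommRingCat.ofHom π.toRingHom)).stalkMap x).hom.Flat := by
  let R₀ : CommRingCat.{u} := CommRingCat.of A
  let A₀ : CommRingCat.{u} := CommRingCat.of (MvPolynomial (Fin n) A)
  let B₀ : CommRingCat.{u} := CommRingCat.of B
  let f : R₀ ⟶ A₀ := CommRingCat.ofHom (algebraMap A (MvPolynomial (Fin n) A))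
  let g : A₀ ⟶ B₀ := CommRingCat.ofHom π.toRingHom
  have hfg : f ≫ g = CommRingCat.ofHom (algebraMap A B) := by
    ext a
    simp only [f, g, CommRingCat.hom_comp, CommRingCat.hom_ofHom, RingHom.comp_apply]
    exact π.commutes a
  have hf : f.hom.FinitePresentation := by
    change (algebraMap A (MvPolynomial (Fin n) A)).FinitePresentation
    rw [RingHom.finitePresentation_algebraMap]
    infer_instance
  have hfgfp : (f ≫ g).hom.FinitePresentation := by
    rw [hfg]
    change (algebraMap A B).FinitePresentation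
    rw [RingHom.finitePresentation_algebraMap]
    infer_instance
  let w : Spec R₀ := (Spec.map g ≫ Spec.map f) x
  let κ : Type u := (Spec R₀).residueField w
  let ev : R₀ ⟶ CommRingCat.of κ := Spec.preimage ((Spec R₀).fromSpecResidueField w)
  have hev : Spec.map ev = (Spec R₀).fromSpecResidueField w := Spec.map_preimage _
  letI algκ : Algebra A κ := ev.hom.toAlgebra
  have hpush := CommRingCat.isPushout_of_isPushout A (MvPolynomial (Fin n) A) κ
    (MvPolynomial (Fin n) κ)
  let inl : A₀ ⟶ CommRingCat.of (MvPolynomial (Fin n) κ) :=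
    CommRingCat.ofHom (algebraMap (MvPolynomial (Fin n) A) (MvPolynomial (Fin n) κ))
  let inr : CommRingCat.of κ ⟶ CommRingCat.of (MvPolynomial (Fin n) κ) :=
    CommRingCat.ofHom (algebraMap κ (MvPolynomial (Fin n) κ))
  have sqV0 : IsPullback (Spec.map inl) (Spec.map inr) (Spec.map f) (Spec.map ev) :=
    isPullback_SpecMap_of_isPushout f ev inl inr hpush
  let Vw : Scheme.{u} := Spec (CommRingCat.of (MvPolynomial (Fin n) κ))
  let iV : Vw ⟶ Spec A₀ := Spec.map inl
  let πV : Vw ⟶ Spec ((Spec R₀).residueField w) := Spec.map inr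
  have sqV : IsPullback iV πV (Spec.map f) ((Spec R₀).fromSpecResidueField w) := by
    rw [← hev]
    exact sqV0
  let Uw : Scheme.{u} := pullback (Spec.map g ≫ Spec.map f) ((Spec R₀).fromSpecResidueField w)
  let iU : Uw ⟶ Spec B₀ := pullback.fst _ _
  let πU : Uw ⟶ Spec ((Spec R₀).residueField w) := pullback.snd _ _
  have sqU : IsPullback iU πU (Spec.map g ≫ Spec.map f) ((Spec R₀).fromSpecResidueField w) :=
    IsPullback.of_hasPullback _ _
  let φ : Uw ⟶ Vw := sqV.lift (iU ≫ Spec.map g) πU (by
    rw [Category.assoc]; exact sqU.w)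
  have h1 : φ ≫ iV = iU ≫ Spec.map g := sqV.lift_fst _ _ _
  have h2 : φ ≫ πV = πU := sqV.lift_snd _ _ _
  obtain ⟨t, ht⟩ := exists_fst_eq (Spec.map g ≫ Spec.map f) x
  -- flatness of the composite
  have hflat : Flat (Spec.map g ≫ Spec.map f) := by
    rw [← Spec.map_comp, hfg]
    rw [HasRingHomProperty.Spec_iff (P := @Flat)]
    change (algebraMap A B).Flat
    rw [RingHom.flat_algebraMap_iff]
    infer_instance
  have hfl : ((Spec.map g ≫ Spec.map f).stalkMap (iU t)).hom.Flat := Flat.stalkMap _ _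
  -- the fibre map hits the generic point
  haveI : IsDomain (MvPolynomial (Fin n) κ) := inferInstance
  haveI : IsIntegral Vw := inferInstanceAs (IsIntegral (Spec (CommRingCat.of (MvPolynomial (Fin n) κ))))
  have hgen : φ t = genericPoint Vw := by
    set γ := genericPoint Vw with hγ
    have hsp : γ ⤳ φ t := genericPoint_specializes _
    have hsp' : iV γ ⤳ iV (φ t) := hsp.map iV.continuous
    have hz : iV (φ t) = Spec.map g x := by
      rw [← Scheme.Hom.comp_apply, h1, Scheme.Hom.comp_apply]
      exact congrArg _ ht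
    have hzI : (iV (φ t)).asIdeal = (x.asIdeal.comap (algebraMap A B)).map MvPolynomial.C := by
      rw [hz, ← hx]
      rfl
    have hγw : (Spec.map f) (iV γ) = w := by
      rw [← Scheme.Hom.comp_apply, sqV.w, Scheme.Hom.comp_apply]
      exact Scheme.fromSpecResidueField_apply _ _
    have hwI : w.asIdeal = x.asIdeal.comap (algebraMap A B) := by
      change ((x.asIdeal.comap g.hom).comap f.hom) = _
      rw [Ideal.comap_comap]
      congr 1
      ext a
      simp only [f, g, CommRingCat.hom_ofHom, RingHom.comp_apply]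
      exact π.commutes a
    have hle : (iV (φ t)).asIdeal ≤ (iV γ).asIdeal := by
      rw [hzI, Ideal.map_le_iff_le_comap, ← hwI, ← hγw]
      exact le_rfl
    have hsp2 : iV (φ t) ⤳ iV γ := (PrimeSpectrum.le_iff_specializes _ _).mp hle
    have heq : iV (φ t) = iV γ := (hsp2.antisymm hsp').eq
    have hpre : IsPreimmersion iV := by
      have h0 : IsPreimmersion ((Spec R₀).fromSpecResidueField w) := inferInstance
      exact MorphismProperty.of_isPullback (P := @IsPreimmersion) sqV.flip h0
    exact iV.isEmbedding.injective heq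
  have hφ : (φ.stalkMap t).hom.Flat := flat_stalkMap_of_genericPoint φ t hgen
  have key := flat_of_fibre_flat_Spec_fp f g hf hfgfp w iU πU iV πV sqU sqV φ h1 h2 t hfl hφ
  exact flat_stalkMap_pt (Spec.map g) ht key.2



open Groth.Agent.Lib.Helper14.AS Groth.Agent.Lib.Helper18.Fl

/-- **Ring-level lower semicontinuity.**  For a flat algebra of finite presentation and a prime
`q` over `p` with residual transcendence degree `n`, all primes `p₁` in a principal open
neighbourhood of `p` have a prime above them with residual transcendence degree at least `n`. -/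
theorem exists_open_le_trdeg (A B : Type u) [CommRing A] [CommRing B] [Algebra A B]
    [Module.Flat A B] [Algebra.FinitePresentation A B]
    (p : Ideal A) [p.IsPrime] (q : Ideal B) [q.IsPrime] [q.LiesOver p] (n : ℕ)
    (hq : Algebra.trdeg (A ⧸ p) (B ⧸ q) = n) :
    ∃ a : A, a ∉ p ∧ ∀ (p₁ : Ideal A) [p₁.IsPrime], a ∉ p₁ →
      ∃ (q₁ : Ideal B) (_ : q₁.IsPrime) (_ : q₁.LiesOver p₁),
        (n : Cardinal.{u}) ≤ Algebra.trdeg (A ⧸ p₁) (B ⧸ q₁) := by
  classical
  obtain ⟨π, hπ⟩ := exists_algHom_comap_eq_map_C A B p q n hq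
  let P := MvPolynomial (Fin n) A
  let x : Spec (CommRingCat.of B) := ⟨q, inferInstance⟩
  have hpq : q.comap (algebraMap A B) = p := (q.over_def p).symm
  have hx : x.asIdeal.comap π.toRingHom =
      (x.asIdeal.comap (algebraMap A B)).map MvPolynomial.C := by
    change q.comap π.toRingHom = (q.comap (algebraMap A B)).map MvPolynomial.C
    rw [hpq, hπ]
  have hflx := flat_stalkMap_of_comap_eq_map_C A B n π x hx
  let g : Spec (CommRingCat.of B) ⟶ Spec (CommRingCat.of P) :=
    Spec.map (CommRingCat.ofHom π.toRingHom)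
  haveI hlfp : LocallyOfFinitePresentation g := by
    rw [HasRingHomProperty.Spec_iff (P := @LocallyOfFinitePresentation)]
    change π.toRingHom.FinitePresentation
    refine RingHom.FinitePresentation.of_comp_finiteType (algebraMap A P) ?_ ?_
    · have : π.toRingHom.comp (algebraMap A P) = algebraMap A B := π.comp_algebraMap
      rw [this, RingHom.finitePresentation_algebraMap]
      infer_instance
    · rw [RingHom.finiteType_algebraMap]
      infer_instance
  have hO : IsOpen {y : Spec (CommRingCat.of B) | (g.stalkMap y).hom.Flat} :=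
    isOpen_flatLocus_scheme g
  let O : (Spec (CommRingCat.of B)).Opens := ⟨_, hO⟩
  have hxO : x ∈ O := hflx
  haveI : Flat (O.ι ≫ g) := by
    rw [Flat.iff_flat_stalkMap]
    intro y
    rw [flat_stalkMap_comp_openImm_left O.ι g _ rfl y]
    exact y.2
  have hopen : IsOpenMap (O.ι ≫ g) := (O.ι ≫ g).isOpenMap
  have hIm : IsOpen (Set.range (O.ι ≫ g)) := hopen.isOpen_range
  have hgx : g x ∈ Set.range (O.ι ≫ g) := ⟨⟨x, hxO⟩, rfl⟩
  -- a basic open neighbourhood
  obtain ⟨_, ⟨_, ⟨F, rfl⟩, rfl⟩, hxF, hFsub⟩ :=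
    PrimeSpectrum.isBasis_basic_opens.exists_subset_of_mem_open hgx hIm
  have hgxI : (g x).asIdeal = p.map MvPolynomial.C := by
    change q.comap π.toRingHom = _
    exact hπ
  have hF : F ∉ p.map (MvPolynomial.C : A →+* P) := by
    rw [← hgxI]
    exact hxF
  rw [MvPolynomial.mem_map_C_iff] at hF
  push_neg at hF
  obtain ⟨m, hm⟩ := hF
  refine ⟨F.coeff m, hm, ?_⟩
  intro p₁ hp₁ ha
  haveI hp₁' : (p₁.map (MvPolynomial.C : A →+* P)).IsPrime := isPrime_map_C p₁
  let v : PrimeSpectrum P := ⟨p₁.map MvPolynomial.C, hp₁'⟩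
  have hvF : v ∈ (PrimeSpectrum.basicOpen F : Set (PrimeSpectrum P)) := by
    change F ∉ p₁.map MvPolynomial.C
    rw [MvPolynomial.mem_map_C_iff]
    push_neg
    exact ⟨m, ha⟩
  obtain ⟨y, hy⟩ := hFsub hvF
  let q₁ : Ideal B := (O.ι y).asIdeal
  have hq₁prime : q₁.IsPrime := (O.ι y).isPrime
  have hq₁ : q₁.comap π.toRingHom = p₁.map MvPolynomial.C := by
    have := congrArg PrimeSpectrum.asIdeal hy
    exact this
  have hover : q₁.LiesOver p₁ := by
    refine ⟨?_⟩
    have h1 : (q₁.comap π.toRingHom).comap (MvPolynomial.C : A →+* P) = p₁ := by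
      rw [hq₁, comap_C_map_C]
    have h2 : π.toRingHom.comp (MvPolynomial.C : A →+* P) = algebraMap A B := π.comp_algebraMap
    rw [Ideal.comap_comap, h2] at h1
    exact h1.symm
  refine ⟨q₁, hq₁prime, hover, ?_⟩
  exact le_trdeg_of_comap_eq_map_C π p₁ q₁ hq₁



open Groth.Agent.Lib.Helper21.FibDim Groth.Agent.Lib.Helper21.ChartPt Groth.Agent.Lib.Helper21.NagDvr

/-- **Scheme-level lower semicontinuity**: near the image of a point with residual transcendence
degree `n`, every fibre contains a point of residual transcendence degree at least `n`. -/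
theorem exists_open_forall_exists_le_trdeg {X S : Scheme.{u}} (f : X ⟶ S) [Flat f]
    [LocallyOfFinitePresentation f] (ξ : X) (n : ℕ)
    (htr : @Algebra.trdeg (S.residueField (f ξ)) (X.residueField ξ) _ _
      (f.residueFieldMap ξ).hom.toAlgebra = n) :
    ∃ N : S.Opens, f ξ ∈ N ∧ ∀ s ∈ N, ∃ x : X, f x = s ∧
      (n : Cardinal.{u}) ≤ @Algebra.trdeg (S.residueField (f x)) (X.residueField x) _ _
        (f.residueFieldMap x).hom.toAlgebra := by
  obtain ⟨V, hV, hfxV, -⟩ := Opens.isBasis_iff_nbhd.mp S.isBasis_affineOpens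
    (show f ξ ∈ (⊤ : S.Opens) from trivial)
  have hV : IsAffineOpen V := hV
  obtain ⟨U, hU, hxU, hUle⟩ := Opens.isBasis_iff_nbhd.mp X.isBasis_affineOpens
    (show ξ ∈ f ⁻¹ᵁ V from hfxV)
  have hU : IsAffineOpen U := hU
  have e : U ≤ f ⁻¹ᵁ V := hUle
  letI alg : Algebra Γ(S, V) Γ(X, U) := (f.appLE V U e).hom.toAlgebra
  haveI hflat : Module.Flat Γ(S, V) Γ(X, U) := f.flat_appLE hV hU e
  haveI hfp : Algebra.FinitePresentation Γ(S, V) Γ(X, U) := f.finitePresentation_appLE hV hU e
  let p : Ideal Γ(S, V) := (hV.primeIdealOf ⟨f ξ, hfxV⟩).asIdeal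
  let q : Ideal Γ(X, U) := (hU.primeIdealOf ⟨ξ, hxU⟩).asIdeal
  haveI hp : p.IsPrime := (hV.primeIdealOf ⟨f ξ, hfxV⟩).2
  haveI hq : q.IsPrime := (hU.primeIdealOf ⟨ξ, hxU⟩).2
  have hcomap : ∀ (y : X) (hy : y ∈ U), (hU.primeIdealOf ⟨y, hy⟩).asIdeal.comap
      (algebraMap Γ(S, V) Γ(X, U)) = (hV.primeIdealOf ⟨f y, e hy⟩).asIdeal := fun y hy =>
    congrArg PrimeSpectrum.asIdeal (IsAffineOpen.comap_primeIdealOf_appLE V hV U hU e hy)
  haveI hqp : q.LiesOver p := ⟨(hcomap ξ hxU).symm⟩
  have hq' : Algebra.trdeg (Γ(S, V) ⧸ p) (Γ(X, U) ⧸ q) = n := by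
    rw [← trdeg_residueField_eq_trdeg_quotient f hU hV e rfl ξ hxU p q rfl rfl]
    exact htr
  obtain ⟨a, hap, ha⟩ := exists_open_le_trdeg Γ(S, V) Γ(X, U) p q n hq'
  refine ⟨S.basicOpen a, (mem_basicOpen_iff_notMem_primeIdealOf hV a ⟨f ξ, hfxV⟩).mpr hap, ?_⟩
  intro s hs
  have hsV : s ∈ V := S.basicOpen_le a hs
  let p₁ : Ideal Γ(S, V) := (hV.primeIdealOf ⟨s, hsV⟩).asIdeal
  haveI hp₁ : p₁.IsPrime := (hV.primeIdealOf ⟨s, hsV⟩).2
  have hap₁ : a ∉ p₁ := (mem_basicOpen_iff_notMem_primeIdealOf hV a ⟨s, hsV⟩).mp hs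
  obtain ⟨q₁, hq₁, hq₁p₁, hle⟩ := ha p₁ hap₁
  obtain ⟨⟨y, hyU⟩, hy⟩ := exists_primeIdealOf_eq hU ⟨q₁, hq₁⟩
  have hy' : (hU.primeIdealOf ⟨y, hyU⟩).asIdeal = q₁ := congrArg PrimeSpectrum.asIdeal hy
  have hpy : p₁ = (hV.primeIdealOf ⟨f y, e hyU⟩).asIdeal := by
    rw [← hcomap y hyU, hy']
    exact hq₁p₁.over
  have hfy : f y = s := by
    have h1 : hV.primeIdealOf ⟨f y, e hyU⟩ = hV.primeIdealOf ⟨s, hsV⟩ :=
      PrimeSpectrum.ext hpy.symm
    have h2 := primeIdealOf_injective hV h1
    exact congrArg Subtype.val h2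
  refine ⟨y, hfy, ?_⟩
  rw [trdeg_residueField_eq_trdeg_quotient f hU hV e rfl y hyU p₁ q₁ hy'.symm hpy]
  exact hle

end Groth.Agent.Lib.Helper23.FibDimLSC
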