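import Mathlib
import Groth.Agent.Lib.Helper18.Miracle
import Groth.Agent.Lib.Helper10.RegularNormal
import Groth.Agent.Lib.Helper21.RegularLocal
import Groth.Agent.Lib.Helper23.SyntF1
import Groth.Agent.Lib.Helper11.WatFin
import Groth.Agent.Lib.Helper9.AssGen2
import Groth.Agent.Lib.Helper21.MinFin3

/-!
S10881: finite morphism of regular schemes with componentwise dominance is flat (miracle flatness).
isLocalization_subalgebra: local S is the localization of a subalgebra D at m_S cap D when every element of S is a fraction d/s, s in D a unit of S.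
dims_of_integral_subalgebra: R,S regular local, R -> S injective local, D integral over R with S = D_n: dim S = dim R and dim S/m_R S = 0 (going-down, regular => normal).
flat_of_ess_integral: ... hence S flat over R (Helper18 miracle_flatness).
maximalIdeal_eq_bot_of_closure_mem_irreducibleComponents: stalk at generic point of irreducible component, if a domain, is a field.
stalkMap_injective: stalk maps injective when Y has domain stalks and components of X dominate components of Y.
-/




namespace Groth.Agent.Lib.Helper23.MiracleFinReg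

section

universe u
open IsLocalRing

section alg
variable (R S : Type u) [CommRing R] [CommRing S] [IsLocalRing R] [IsLocalRing S]
  [Algebra R S] [IsLocalHom (algebraMap R S)]
  (D : Subalgebra R S)

/-- `S` is the localization of the subalgebra `D` at the contraction of its maximal ideal, as soon
as every element of `S` is a fraction of elements of `D` with invertible denominator. -/
theorem isLocalization_subalgebra
    (hsurj : ∀ z : S, ∃ b s : D, IsUnit (s : S) ∧ z * (s : S) = (b : S)) :
    IsLocalization.AtPrime S ((maximalIdeal S).comap (algebraMap D S)) := by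
  rw [IsLocalization.AtPrime, isLocalization_iff]
  refine ⟨?_, ?_, ?_⟩
  · rintro ⟨y, hy⟩
    have : algebraMap D S y ∉ maximalIdeal S := fun h => hy h
    rw [IsLocalRing.mem_maximalIdeal, mem_nonunits_iff, not_not] at this
    exact this
  · intro z
    obtain ⟨b, s, hs, hz⟩ := hsurj z
    refine ⟨⟨b, ⟨s, ?_⟩⟩, hz⟩
    intro h
    have h1 : (s : S) ∈ maximalIdeal S := h
    rw [IsLocalRing.mem_maximalIdeal, mem_nonunits_iff] at h1
    exact h1 hs
  · intro x y hxy
    refine ⟨1, ?_⟩
    have : x = y := Subtype.ext hxy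
    rw [this]

end alg

end

section

universe u
open IsLocalRing

section alg
variable (R S : Type u) [CommRing R] [CommRing S] [IsRegularLocalRing R] [IsRegularLocalRing S]
  [Algebra R S] [IsLocalHom (algebraMap R S)]
  (D : Subalgebra R S)

/-- the core dimension computations -/
theorem dims_of_integral_subalgebra (hinj : Function.Injective (algebraMap R S))
    [Algebra.IsIntegral R D]
    (hsurj : ∀ z : S, ∃ b s : D, IsUnit (s : S) ∧ z * (s : S) = (b : S)) :
    ringKrullDim S = ringKrullDim R ∧
      ringKrullDim (S ⧸ (maximalIdeal R).map (algebraMap R S)) = 0 := by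
  haveI : IsDomain R := Groth.Agent.Lib.Helper21.isDomain_of_isRegularLocalRing R
  haveI : IsDomain S := Groth.Agent.Lib.Helper21.isDomain_of_isRegularLocalRing S
  haveI : IsIntegrallyClosed R :=
    Groth.Agent.Lib.Helper10.RegularNormal.isIntegrallyClosed_of_isRegularLocalRing R
  haveI hloc : IsLocalization.AtPrime S ((maximalIdeal S).comap (algebraMap D S)) :=
    isLocalization_subalgebra R S D hsurj
  haveI : FaithfulSMul R D := by
    rw [faithfulSMul_iff_algebraMap_injective]
    intro a b hab
    apply hinj
    have := congrArg (algebraMap D S) hab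
    rwa [← IsScalarTower.algebraMap_apply, ← IsScalarTower.algebraMap_apply] at this
  set n₀ : Ideal D := (maximalIdeal S).comap (algebraMap D S) with hn₀
  haveI : n₀.IsPrime := Ideal.comap_isPrime _ _
  have hcm : n₀.comap (algebraMap R D) = maximalIdeal R := by
    rw [hn₀, Ideal.comap_comap, ← IsScalarTower.algebraMap_eq]
    exact ((IsLocalRing.local_hom_TFAE (algebraMap R S)).out 0 4).1
      (by infer_instance : IsLocalHom (algebraMap R S))
  refine ⟨?_, ?_⟩
  · rw [IsLocalization.AtPrime.ringKrullDim_eq_height n₀ S,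
      ← IsLocalRing.maximalIdeal_height_eq_ringKrullDim (R := R), ← hcm,
      Groth.Agent.Lib.Helper11.Wat.height_comap_eq_of_goingDown (A := R) (R := D) n₀]
  · set I := (maximalIdeal R).map (algebraMap R S) with hI
    have hIle : I ≤ maximalIdeal S := IsLocalRing.map_maximalIdeal_le _
    have key : ∀ Q : Ideal S, Q.IsPrime → I ≤ Q → Q = maximalIdeal S := by
      intro Q hQ hIQ
      set Q₀ : Ideal D := Q.comap (algebraMap D S) with hQ₀
      haveI : Q₀.IsPrime := Ideal.comap_isPrime _ _
      have h1 : Q₀.comap (algebraMap R D) = maximalIdeal R := by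
        rw [hQ₀, Ideal.comap_comap, ← IsScalarTower.algebraMap_eq]
        refine ((IsLocalRing.maximalIdeal.isMaximal R).eq_of_le
          (Ideal.comap_ne_top _ hQ.ne_top) ?_).symm
        rw [← Ideal.map_le_iff_le_comap]
        exact hIQ
      have h2 : Q₀.IsMaximal :=
        Ideal.isMaximal_of_isIntegral_of_isMaximal_comap (R := R) Q₀
          (h1 ▸ IsLocalRing.maximalIdeal.isMaximal R)
      have h3 : Q₀ ≤ n₀ := Ideal.comap_mono (IsLocalRing.le_maximalIdeal hQ.ne_top)
      have h4 : Q₀ = n₀ := h2.eq_of_le (Ideal.IsPrime.ne_top inferInstance) h3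
      rw [← IsLocalization.map_comap n₀.primeCompl S Q,
        ← IsLocalization.map_comap n₀.primeCompl S (maximalIdeal S)]
      change Ideal.map _ Q₀ = Ideal.map _ n₀
      rw [h4]
    rw [ringKrullDim_quotient]
    have hne : Nonempty (PrimeSpectrum.zeroLocus (R := S) (I : Set S)) :=
      ⟨⟨IsLocalRing.closedPoint S, hIle⟩⟩
    have hsub : Subsingleton (PrimeSpectrum.zeroLocus (R := S) (I : Set S)) := by
      constructor
      rintro ⟨a, ha⟩ ⟨b, hb⟩
      apply Subtype.ext
      apply PrimeSpectrum.ext
      rw [key a.asIdeal a.isPrime ha, key b.asIdeal b.isPrime hb]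
    exact le_antisymm Order.krullDim_nonpos_of_subsingleton Order.krullDim_nonneg

end alg

end

section

universe u
open IsLocalRing AlgebraicGeometry CategoryTheory

/-- algebraic core: flatness of an injective, essentially integral local homomorphism of regular
local rings -/
theorem flat_of_ess_integral (R S : Type u) [CommRing R] [CommRing S] [IsRegularLocalRing R]
    [IsRegularLocalRing S] [Algebra R S] [IsLocalHom (algebraMap R S)]
    (hinj : Function.Injective (algebraMap R S))
    (B : Type u) [CommRing B] (g : B →+* S) (hint : ∀ b, IsIntegral R (g b))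
    (hsurj : ∀ z : S, ∃ b s : B, IsUnit (g s) ∧ z * g s = g b) : Module.Flat R S := by
  let D := Algebra.adjoin R (Set.range g)
  haveI : Algebra.IsIntegral R D :=
    Algebra.IsIntegral.adjoin (by rintro _ ⟨b, rfl⟩; exact hint b)
  have hs : ∀ z : S, ∃ b s : D, IsUnit (s : S) ∧ z * (s : S) = (b : S) := by
    intro z
    obtain ⟨b, s, hs, hz⟩ := hsurj z
    exact ⟨⟨g b, Algebra.subset_adjoin ⟨b, rfl⟩⟩, ⟨g s, Algebra.subset_adjoin ⟨s, rfl⟩⟩, hs, hz⟩
  obtain ⟨h1, h2⟩ := dims_of_integral_subalgebra R S D hinj hs
  haveI := Groth.Agent.Lib.Helper23.SyntF.cmLocal_of_regular S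
  exact Groth.Agent.Lib.Helper18.CM.miracle_flatness (by rw [h1, h2, add_zero])

variable {X Y : Scheme.{u}}

/-- the local ring at the generic point of an irreducible component, if a domain, is a field -/
theorem maximalIdeal_eq_bot_of_closure_mem_irreducibleComponents (ζ : Y)
    (hζ : closure {ζ} ∈ irreducibleComponents Y) [IsDomain (Y.presheaf.stalk ζ)] :
    maximalIdeal (Y.presheaf.stalk ζ) = ⊥ := by
  set p : PrimeSpectrum (Y.presheaf.stalk ζ) := ⟨⊥, Ideal.isPrime_bot⟩ with hp
  have h1 : Y.fromSpecStalk ζ p ⤳ ζ := by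
    have : Y.fromSpecStalk ζ p ∈ Set.range (Y.fromSpecStalk ζ) := ⟨p, rfl⟩
    rw [Scheme.range_fromSpecStalk] at this
    exact this
  have h2 : Y.fromSpecStalk ζ p = ζ :=
    Groth.Agent.Lib.Helper21.MinFin.eq_of_specializes_of_mem_irreducibleComponents hζ h1
  have h3 : p = closedPoint (Y.presheaf.stalk ζ) := by
    apply (Y.fromSpecStalk ζ).isEmbedding.injective
    rw [h2, Scheme.fromSpecStalk_closedPoint]
  have := congrArg PrimeSpectrum.asIdeal h3
  exact this.symm

theorem stalkMap_injective (f : X ⟶ Y)
    (hYd : ∀ y : Y, IsDomain (Y.presheaf.stalk y))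
    (hdom : ∀ Z ∈ irreducibleComponents (X : Type u),
      closure (f.base '' Z) ∈ irreducibleComponents (Y : Type u)) (x : X) :
    Function.Injective (f.stalkMap x).hom := by
  obtain ⟨η, hη⟩ := QuasiSober.sober (isIrreducible_irreducibleComponent (x := x))
    isClosed_irreducibleComponent
  have hηx : η ⤳ x := by
    rw [specializes_iff_mem_closure, hη.def]
    exact mem_irreducibleComponent
  have hζ : closure {f.base η} ∈ irreducibleComponents (Y : Type u) := by
    have h1 := hη.image f.base.hom.continuous
    rw [h1.def]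
    exact hdom _ (irreducibleComponent_mem_irreducibleComponents x)
  haveI := hYd (f.base η)
  haveI := hYd (f.base x)
  have hK := maximalIdeal_eq_bot_of_closure_mem_irreducibleComponents (f.base η) hζ
  have hinjη : Function.Injective (f.stalkMap η).hom := by
    rw [RingHom.injective_iff_ker_eq_bot, ← le_bot_iff, ← hK]
    apply IsLocalRing.le_maximalIdeal
    exact RingHom.ker_ne_top _
  rw [injective_iff_map_eq_zero]
  intro r hr
  have h2 := Scheme.Hom.stalkSpecializes_stalkMap_apply f η x hηx r
  rw [hr, map_zero] at h2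
  have h3 := (injective_iff_map_eq_zero _).1 hinjη _ h2
  exact (injective_iff_map_eq_zero _).1
    (Groth.Agent.Lib.Helper9.AssGen.stalkSpecializes_injective_of_isDomain
      (f.base.hom.map_specializes hηx)) _ h3


end

section

universe u
open IsLocalRing AlgebraicGeometry CategoryTheory

theorem t10881 {X Y : Scheme.{u}} (f : X ⟶ Y) [IsFinite f]
    [IsLocallyNoetherian X] [IsLocallyNoetherian Y]
    (hX : ∀ x : X, IsRegularLocalRing (X.presheaf.stalk x))
    (hY : ∀ y : Y, IsRegularLocalRing (Y.presheaf.stalk y))
    (hdom : ∀ Z ∈ irreducibleComponents (X : Type u), closure (f.base '' Z) ∈ irreducibleComponents (Y : Type u)) :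
    Flat f := by
  apply Flat.of_stalkMap
  intro x
  obtain ⟨_, ⟨V, hV : IsAffineOpen V, rfl⟩, hyV, -⟩ :=
    Y.isBasis_affineOpens.exists_subset_of_mem_open (Set.mem_univ (f.base x)) isOpen_univ
  have hU : IsAffineOpen (f ⁻¹ᵁ V) := hV.preimage f
  have hxU : x ∈ f ⁻¹ᵁ V := hyV
  haveI := hX x
  haveI := hY (f.base x)
  letI : Algebra (Y.presheaf.stalk (f.base x)) (X.presheaf.stalk x) :=
    (f.stalkMap x).hom.toAlgebra
  haveI : IsLocalHom (algebraMap (Y.presheaf.stalk (f.base x)) (X.presheaf.stalk x)) :=
    inferInstanceAs (IsLocalHom (f.stalkMap x).hom)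
  change Module.Flat (Y.presheaf.stalk (f.base x)) (X.presheaf.stalk x)
  refine flat_of_ess_integral _ _
    (stalkMap_injective f (fun y => Groth.Agent.Lib.Helper21.isDomain_of_isRegularLocalRing _) hdom x)
    Γ(X, f ⁻¹ᵁ V) (X.presheaf.germ (f ⁻¹ᵁ V) x hxU).hom ?_ ?_
  · intro b
    obtain ⟨p, hpm, hp⟩ := (IsIntegralHom.isIntegral_app f V hV) b
    refine ⟨p.map (Y.presheaf.germ V (f.base x) hyV).hom, hpm.map _, ?_⟩
    rw [Polynomial.eval₂_map]
    have hcomp : (algebraMap (Y.presheaf.stalk (f.base x)) (X.presheaf.stalk x)).comp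
        (Y.presheaf.germ V (f.base x) hyV).hom =
        (X.presheaf.germ (f ⁻¹ᵁ V) x hxU).hom.comp (f.app V).hom := by
      ext a
      exact Scheme.Hom.germ_stalkMap_apply f V x hyV a
    rw [hcomp, ← Polynomial.hom_eval₂, hp, map_zero]
  · intro z
    letI : Algebra Γ(X, f ⁻¹ᵁ V) (X.presheaf.stalk x) :=
      TopCat.Presheaf.algebra_section_stalk X.presheaf ⟨x, hxU⟩
    haveI hloc := hU.isLocalization_stalk ⟨x, hxU⟩
    obtain ⟨⟨b, s⟩, hbs⟩ := IsLocalization.surj (hU.primeIdealOf ⟨x, hxU⟩).asIdeal.primeCompl z
    exact ⟨b, s.1, IsLocalization.map_units (X.presheaf.stalk x) s, hbs⟩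


end
end Groth.Agent.Lib.Helper23.MiracleFinReg
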