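import Mathlib
import Groth.Agent.Lib.Helper23.CMMor1
import Groth.Agent.Lib.Helper14.GorBCSch
import Groth.Prelude.Def_MoreMor
import Groth.Agent.S1405

/-!
Cohen-Macaulay morphisms at a point (MoreMor.IsCMAt): cm_fiber_stalk_iff, isCMAt_iff, cm_CF_comp_iff, cm_CF_baseChange_iff(') , cmAt_baseChange, cmAt_comp, cmAt_of_comp, cmAt_of_flat_of_cm, cmLocus_baseChange, cm_iff_of_fppf_baseChange.
-/

set_option autoImplicit false
set_option linter.style.haveILetI false
set_option linter.unusedSectionVars false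
universe u


namespace Groth.Agent.Lib.Helper23.CMMor


open IsLocalRing TensorProduct Groth.Agent.Lib.Helper18.CM Groth.Agent.Lib.Helper18.FibQuot
open Groth.Agent.Lib.Helper16.GorMor Groth.Agent.Lib.Helper16 Groth.Agent.Lib.Helper14.AS
open CategoryTheory CategoryTheory.Limits AlgebraicGeometry
open Groth.Agent.Lib.Helper10.FibreProductStalk

section scheme

variable {X Y Z : Scheme.{u}} (f : X ⟶ Y) (g : Y ⟶ Z)

theorem cm_CF_congr {x x' : X} (h : x' = x) :
    LocCoh.IsCohenMacaulayLocalRing (CF f x') ↔ LocCoh.IsCohenMacaulayLocalRing (CF f x) := by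
  subst h
  rfl

/-- the local ring of the fibre at `x` is CM iff the closed fibre ring of the stalk map is -/
theorem cm_fiber_stalk_iff (x : X) :
    LocCoh.IsCohenMacaulayLocalRing ((f.fiber (f x)).presheaf.stalk (f.asFiber x)) ↔
      LocCoh.IsCohenMacaulayLocalRing (CF f x) := by
  obtain ⟨hs, hk⟩ := Groth.Agent.S9501.result f (f x) (f.asFiber x)
  rw [← cm_CF_congr f (f.fiberι_asFiber x)]
  have e : CF f ((f.fiberι (f x)) (f.asFiber x)) ≃+*
      (f.fiber (f x)).presheaf.stalk (f.asFiber x) :=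
    (Ideal.quotEquivOfEq hk.symm).trans (RingHom.quotientKerEquivOfSurjective hs)
  exact (cm_of_ringEquiv_iff e).symm

theorem isCMAt_iff (x : X) :
    MoreMor.IsCMAt f x ↔
      ((f.stalkMap x).hom.Flat ∧ LocCoh.IsCohenMacaulayLocalRing (CF f x)) := by
  unfold MoreMor.IsCMAt
  rw [cm_fiber_stalk_iff]

/-- closed fibre rings of stalk maps of a composite, `f` flat at `x` -/
theorem cm_CF_comp_iff (x : X) [h1 : IsNoetherianRing (CF f x)]
    [h2 : IsNoetherianRing (CF g (f x))] [h3 : IsNoetherianRing (CF (f ≫ g) x)]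
    (hf : (f.stalkMap x).hom.Flat) :
    LocCoh.IsCohenMacaulayLocalRing (CF (f ≫ g) x) ↔
      (LocCoh.IsCohenMacaulayLocalRing (CF g (f x)) ∧
        LocCoh.IsCohenMacaulayLocalRing (CF f x)) := by
  have hc : ((f ≫ g).stalkMap x).hom = (f.stalkMap x).hom.comp (g.stalkMap (f x)).hom := by
    rw [Scheme.Hom.stalkMap_comp]
    rfl
  have h3' : IsNoetherianRing (X.presheaf.stalk x ⧸ Ideal.map
      ((f.stalkMap x).hom.comp (g.stalkMap (f x)).hom)
      (maximalIdeal (Z.presheaf.stalk (g (f x))))) := by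
    rw [← hc]
    exact h3
  have h := cm_closedFibre_comp (g.stalkMap (f x)).hom (f.stalkMap x).hom hf
  rw [← h]
  exact cm_congr_ideal (by rw [hc]; rfl)

end scheme



open IsLocalRing TensorProduct Groth.Agent.Lib.Helper18.CM Groth.Agent.Lib.Helper18.FibQuot
open Groth.Agent.Lib.Helper16.GorMor Groth.Agent.Lib.Helper16 Groth.Agent.Lib.Helper14.AS
open CategoryTheory CategoryTheory.Limits AlgebraicGeometry
open Groth.Agent.Lib.Helper10.FibreProductStalk

section sch

variable {X S X' S' : Scheme.{u}} {f : X ⟶ S} {f' : X' ⟶ S'} {g' : X' ⟶ X} {g : S' ⟶ S}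

set_option backward.isDefEq.respectTransparency.types false in
/-- closed fibre rings of stalk maps under base change: common core -/
theorem cm_CF_baseChange_iff_aux (hc : IsPullback g' f' f g) (x' : X')
    [IsNoetherianRing (CF f (g' x'))]
    (hess : (baseStalkMap hc x').hom.EssFiniteType ∨ (f.stalkMap (g' x')).hom.EssFiniteType) :
    LocCoh.IsCohenMacaulayLocalRing (CF f (g' x')) ↔
      LocCoh.IsCohenMacaulayLocalRing (CF f' x') := by
  letI : Algebra (S.presheaf.stalk (f.base (g'.base x'))) (X.presheaf.stalk (g'.base x')) :=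
    (f.stalkMap (g'.base x')).hom.toAlgebra
  letI : Algebra (S.presheaf.stalk (f.base (g'.base x'))) (S'.presheaf.stalk (f'.base x')) :=
    (baseStalkMap hc x').hom.toAlgebra
  letI : Algebra (X.presheaf.stalk (g'.base x')) (X'.presheaf.stalk x') :=
    (g'.stalkMap x').hom.toAlgebra
  letI : Algebra (S'.presheaf.stalk (f'.base x')) (X'.presheaf.stalk x') :=
    (f'.stalkMap x').hom.toAlgebra
  letI : Algebra (S.presheaf.stalk (f.base (g'.base x'))) (X'.presheaf.stalk x') :=
    (f.stalkMap (g'.base x') ≫ g'.stalkMap x').hom.toAlgebra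
  have : IsScalarTower (S.presheaf.stalk (f.base (g'.base x'))) (X.presheaf.stalk (g'.base x'))
      (X'.presheaf.stalk x') := IsScalarTower.of_algebraMap_eq fun a => rfl
  have : IsScalarTower (S.presheaf.stalk (f.base (g'.base x'))) (S'.presheaf.stalk (f'.base x'))
      (X'.presheaf.stalk x') := by
    refine IsScalarTower.of_algebraMap_eq fun a => ?_
    change (f.stalkMap (g'.base x') ≫ g'.stalkMap x').hom a =
      (baseStalkMap hc x' ≫ f'.stalkMap x').hom a
    rw [stalkMap_comp_eq hc x']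
  haveI : IsLocalHom (algebraMap (S.presheaf.stalk (f.base (g'.base x')))
      (S'.presheaf.stalk (f'.base x'))) := isLocalHom_baseStalkMap hc x'
  haveI : IsLocalHom (algebraMap (S.presheaf.stalk (f.base (g'.base x')))
      (X.presheaf.stalk (g'.base x'))) :=
    inferInstanceAs (IsLocalHom (f.stalkMap (g'.base x')).hom)
  haveI : IsNoetherianRing (CFa (S.presheaf.stalk (f.base (g'.base x')))
      (X.presheaf.stalk (g'.base x'))) := ‹IsNoetherianRing (CF f (g' x'))›
  let φ := (Algebra.TensorProduct.productMap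
      (IsScalarTower.toAlgHom (S.presheaf.stalk (f.base (g'.base x')))
        (S'.presheaf.stalk (f'.base x')) (X'.presheaf.stalk x'))
      (IsScalarTower.toAlgHom (S.presheaf.stalk (f.base (g'.base x')))
        (X.presheaf.stalk (g'.base x')) (X'.presheaf.stalk x'))).toRingHom
  have hφ1 : ∀ a, φ (a ⊗ₜ 1) = (f'.stalkMap x').hom a := fun a => by simp [φ]; rfl
  have hφ2 : ∀ b, φ (1 ⊗ₜ b) = (g'.stalkMap x').hom b := fun b => by simp [φ]; rfl
  have hloc := isLocalization_stalk_pullback hc x' φ hφ1 hφ2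
  rcases hess with hess | hess
  · haveI : Algebra.EssFiniteType (S.presheaf.stalk (f.base (g'.base x')))
        (S'.presheaf.stalk (f'.base x')) := hess
    exact cm_cf_iff (f'.stalkMap x').hom (g'.stalkMap x').hom φ hφ1 hφ2 hloc
  · haveI : Algebra.EssFiniteType (S.presheaf.stalk (f.base (g'.base x')))
        (X.presheaf.stalk (g'.base x')) := hess
    exact cm_cf_iff' (f'.stalkMap x').hom (g'.stalkMap x').hom φ hφ1 hφ2 hloc

theorem cm_CF_baseChange_iff (hc : IsPullback g' f' f g) [LocallyOfFiniteType g] (x' : X')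
    [IsNoetherianRing (CF f (g' x'))] :
    LocCoh.IsCohenMacaulayLocalRing (CF f (g' x')) ↔
      LocCoh.IsCohenMacaulayLocalRing (CF f' x') :=
  cm_CF_baseChange_iff_aux hc x' (Or.inl (essFiniteType_baseStalkMap hc x'))

theorem cm_CF_baseChange_iff' (hc : IsPullback g' f' f g) [LocallyOfFiniteType f] (x' : X')
    [IsNoetherianRing (CF f (g' x'))] :
    LocCoh.IsCohenMacaulayLocalRing (CF f (g' x')) ↔
      LocCoh.IsCohenMacaulayLocalRing (CF f' x') :=
  cm_CF_baseChange_iff_aux hc x' (Or.inr (LocallyOfFiniteType.stalkMap f (g' x')))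

theorem cmAt_baseChange (hc : IsPullback g' f' f g)
    (hfibf : ∀ y, IsLocallyNoetherian (f.fiber y))
    [LocallyOfFiniteType g] (x' : X') :
    (MoreMor.IsCMAt f (g' x') → MoreMor.IsCMAt f' x') ∧
    ((f.stalkMap (g' x')).hom.Flat → MoreMor.IsCMAt f' x' → MoreMor.IsCMAt f (g' x')) ∧
    ((g.stalkMap (f' x')).hom.Flat → MoreMor.IsCMAt f' x' → MoreMor.IsCMAt f (g' x')) := by
  haveI := hfibf (f (g' x'))
  haveI := isNoetherianRing_CF f (g' x')
  have key := cm_CF_baseChange_iff hc x'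
  simp only [isCMAt_iff]
  refine ⟨fun h => ⟨flat_stalkMap_baseChange hc x' h.1, key.mp h.2⟩,
    fun hfl h => ⟨hfl, key.mpr h.2⟩,
    fun hg h => ⟨flat_stalkMap_of_baseChange_of_flat hc x' hg h.1, key.mpr h.2⟩⟩

end sch



open IsLocalRing TensorProduct Groth.Agent.Lib.Helper18.CM Groth.Agent.Lib.Helper18.FibQuot
open Groth.Agent.Lib.Helper16.GorMor Groth.Agent.Lib.Helper16 Groth.Agent.Lib.Helper14.AS
open CategoryTheory CategoryTheory.Limits AlgebraicGeometry
open Groth.Agent.Lib.Helper10.FibreProductStalk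

section comp

variable {X Y Z : Scheme.{u}} (f : X ⟶ Y) (g : Y ⟶ Z)

theorem stalkMap_comp_hom (x : X) :
    ((f ≫ g).stalkMap x).hom = (f.stalkMap x).hom.comp (g.stalkMap (f x)).hom := by
  rw [Scheme.Hom.stalkMap_comp]
  rfl

theorem cmAt_comp (x : X) (hN : IsLocallyNoetherian ((f ≫ g).fiber (g (f x))))
    (hf : MoreMor.IsCMAt f x) (hg : MoreMor.IsCMAt g (f x)) : MoreMor.IsCMAt (f ≫ g) x := by
  rw [isCMAt_iff] at hf hg ⊢
  haveI h1 : IsNoetherianRing (CF f x) := by haveI := hf.2; infer_instance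
  haveI h2 : IsNoetherianRing (CF g (f x)) := by haveI := hg.2; infer_instance
  haveI : IsLocallyNoetherian ((f ≫ g).fiber ((f ≫ g) x)) := hN
  haveI h3 : IsNoetherianRing (CF (f ≫ g) x) := isNoetherianRing_CF (f ≫ g) x
  refine ⟨?_, (cm_CF_comp_iff f g x hf.1).mpr ⟨hg.2, hf.2⟩⟩
  rw [stalkMap_comp_hom]
  exact RingHom.Flat.comp hg.1 hf.1

theorem cmAt_of_comp (x : X) (hNf : IsLocallyNoetherian (f.fiber (f x)))
    (hNg : IsLocallyNoetherian (g.fiber (g (f x))))
    (h : MoreMor.IsCMAt (f ≫ g) x) (hfl : (f.stalkMap x).hom.Flat) :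
    MoreMor.IsCMAt f x ∧ MoreMor.IsCMAt g (f x) := by
  rw [isCMAt_iff] at h
  rw [isCMAt_iff, isCMAt_iff]
  haveI h1 : IsNoetherianRing (CF f x) := isNoetherianRing_CF f x
  haveI h2 : IsNoetherianRing (CF g (f x)) := isNoetherianRing_CF g (f x)
  haveI h3 : IsNoetherianRing (CF (f ≫ g) x) := by haveI := h.2; infer_instance
  have key := (cm_CF_comp_iff f g x hfl).mp h.2
  refine ⟨⟨hfl, key.2⟩, ?_, key.1⟩
  have hfl' := h.1
  rw [stalkMap_comp_hom] at hfl'
  exact flat_of_comp_of_flat_local (g.stalkMap (f x)).hom (f.stalkMap x).hom hfl hfl'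

theorem cmAt_of_flat_of_cm [IsLocallyNoetherian X] [IsLocallyNoetherian Y] [Flat f]
    (hX : ∀ x : X, LocCoh.IsCohenMacaulayLocalRing ↑(X.presheaf.stalk x)) (x : X) :
    MoreMor.IsCMAt f x ∧ LocCoh.IsCohenMacaulayLocalRing ↑(Y.presheaf.stalk (f x)) := by
  rw [isCMAt_iff]
  have hfl : (f.stalkMap x).hom.Flat := Flat.stalkMap f x
  letI : Algebra (Y.presheaf.stalk (f x)) (X.presheaf.stalk x) := (f.stalkMap x).hom.toAlgebra
  haveI : Module.Flat (Y.presheaf.stalk (f x)) (X.presheaf.stalk x) := hfl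
  haveI : IsLocalHom (algebraMap (Y.presheaf.stalk (f x)) (X.presheaf.stalk x)) :=
    inferInstanceAs (IsLocalHom (f.stalkMap x).hom)
  have h := (cm_flat_abstract (Y.presheaf.stalk (f x)) (X.presheaf.stalk x) (CF f x)
    (Ideal.Quotient.mk _) Ideal.Quotient.mk_surjective (by rw [Ideal.mk_ker]; rfl)).mp (hX x)
  exact ⟨⟨hfl, h.2⟩, h.1⟩

end comp



open IsLocalRing TensorProduct Groth.Agent.Lib.Helper18.CM Groth.Agent.Lib.Helper18.FibQuot
open Groth.Agent.Lib.Helper16.GorMor Groth.Agent.Lib.Helper16 Groth.Agent.Lib.Helper14.AS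
open CategoryTheory CategoryTheory.Limits AlgebraicGeometry
open Groth.Agent.Lib.Helper10.FibreProductStalk

section bc

variable {X S X' S' : Scheme.{u}} {f : X ⟶ S} {f' : X' ⟶ S'} {g' : X' ⟶ X} {g : S' ⟶ S}

theorem isLocallyNoetherian_fiber_of_lft (f : X ⟶ S) [LocallyOfFiniteType f] (s : S) :
    IsLocallyNoetherian (f.fiber s) := by
  haveI : LocallyOfFiniteType (f.fiberToSpecResidueField s) :=
    inferInstanceAs (LocallyOfFiniteType (Limits.pullback.snd f (S.fromSpecResidueField s)))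
  exact LocallyOfFiniteType.isLocallyNoetherian (f.fiberToSpecResidueField s)

theorem cmLocus_baseChange (f : X ⟶ S) [Flat f] [LocallyOfFinitePresentation f]
    (f' : X' ⟶ S') (g' : X' ⟶ X) (g : S' ⟶ S) (hc : IsPullback g' f' f g) :
    {x' : ↑X' | MoreMor.IsCMAt f' x'} = g' ⁻¹' {x : ↑X | MoreMor.IsCMAt f x} := by
  ext x'
  simp only [Set.mem_setOf_eq, Set.mem_preimage]
  haveI : Flat f' := MorphismProperty.of_isPullback hc inferInstance
  haveI := isLocallyNoetherian_fiber_of_lft f (f (g' x'))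
  haveI := isNoetherianRing_CF f (g' x')
  rw [isCMAt_iff, isCMAt_iff, cm_CF_baseChange_iff' hc x']
  exact ⟨fun h => ⟨Flat.stalkMap f _, h.2⟩, fun h => ⟨Flat.stalkMap f' _, h.2⟩⟩

theorem cm_iff_of_fppf_baseChange (f : X ⟶ S) (f' : X' ⟶ S') (g' : X' ⟶ X) (g : S' ⟶ S)
    [Flat g] [LocallyOfFinitePresentation g] [Surjective g]
    (hc : IsPullback g' f' f g) :
    ((∀ y : S, IsLocallyNoetherian (f.fiber y)) ∧ ∀ x : X, MoreMor.IsCMAt f x) ↔
      (∀ y' : S', IsLocallyNoetherian (f'.fiber y')) ∧ ∀ x' : X', MoreMor.IsCMAt f' x' := by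
  have hN := Groth.Agent.S1405.result f f' g' g hc
  constructor
  · rintro ⟨h1, h2⟩
    exact ⟨hN.mp h1, fun x' => (cmAt_baseChange hc h1 x').1 (h2 _)⟩
  · rintro ⟨h1, h2⟩
    have h1' := hN.mpr h1
    refine ⟨h1', fun x => ?_⟩
    haveI : Surjective g' := MorphismProperty.of_isPullback hc.flip inferInstance
    obtain ⟨x', rfl⟩ := g'.surjective x
    exact (cmAt_baseChange hc h1' x').2.2 (Flat.stalkMap g _) (h2 x')

end bc

end Groth.Agent.Lib.Helper23.CMMor
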