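import Mathlib
import Groth.Prelude.Def_Flat
import Groth.Agent.Lib.Helper21.ChartPt6
import Groth.Agent.Lib.Helper21.ChartPt2
import Groth.Agent.Lib.Helper21.DimTr
import Groth.Agent.Lib.Helper21.ChartPt5
import Groth.Agent.Lib.Helper16.SyntStr1
import Groth.Agent.Lib.Helper18.FTCM
import Groth.Agent.Lib.Helper18.Miracle
import Groth.Agent.Lib.Helper18.FlatLocal
import Groth.Agent.Lib.Helper23.SyntF1

/-!
Pieces for miracle flatness over a polynomial ring (Stacks 00R4-style):
* localDim_primeSpectrum: S f.t. over a field k, q prime: FlatMor.localDim (PrimeSpectrum S) q = dim S/q + ht q.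
* dim_quotient_eq: P → S quasi-finite, both f.t. over k: dim S/q = dim P/(q ∩ P).
* fibre_dim_zero: closed fibre of A_p → B_q has dimension 0 for quasi-finite A → B.
* isCohenMacaulayLocalRing_of_ring: CM ring + local ⇒ CM local ring.
-/

set_option autoImplicit false
universe u
open AlgebraicGeometry CategoryTheory
open IsLocalRing

namespace Groth.Agent.Lib.Helper23.MiracleQF


open Groth.Agent.Lib.Helper21.ChartPt

/-- Local dimension of `Spec S` at `q`, for `S` of finite type over a field: `dim S/q + ht q`. -/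
theorem localDim_primeSpectrum (k S : Type u) [Field k] [CommRing S] [Algebra k S]
    [Algebra.FiniteType k S] (q : Ideal S) [hq : q.IsPrime] (a b : ℕ)
    (ha : ringKrullDim (S ⧸ q) = a) (hb : q.height = b) :
    FlatMor.localDim (PrimeSpectrum S) ⟨q, hq⟩ = ((a + b : ℕ) : WithBot ℕ∞) := by
  let X : Scheme.{u} := Spec (CommRingCat.of S)
  letI : X.Over (Spec (CommRingCat.of k)) := ⟨Spec.map (CommRingCat.ofHom (algebraMap k S))⟩
  haveI : LocallyOfFiniteType (X ↘ Spec (CommRingCat.of k)) := by
    show LocallyOfFiniteType (Spec.map (CommRingCat.ofHom (algebraMap k S)))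
    rw [HasRingHomProperty.Spec_iff (P := @LocallyOfFiniteType)]
    exact (RingHom.finiteType_algebraMap).mpr inferInstance
  let x : X := ⟨q, hq⟩
  have hU : IsAffineOpen (⊤ : X.Opens) := isAffineOpen_top X
  have hxU : x ∈ (⊤ : X.Opens) := trivial
  set 𝔮 := (hU.primeIdealOf ⟨x, hxU⟩) with h𝔮
  have h1 : hU.fromSpec 𝔮 = x := hU.fromSpec_primeIdealOf ⟨x, hxU⟩
  rw [IsAffineOpen.fromSpec_top, Scheme.isoSpec_Spec_inv] at h1
  let e : S ≃+* Γ(X, ⊤) := (Scheme.ΓSpecIso (CommRingCat.of S)).symm.commRingCatIsoToRingEquiv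
  have h2 : 𝔮.asIdeal.comap e.toRingHom = q := by
    have := congrArg PrimeSpectrum.asIdeal h1
    exact this
  have h3 : 𝔮.asIdeal = q.comap e.symm.toRingHom := by
    rw [← h2, Ideal.comap_comap]
    have : (e.toRingHom.comp e.symm.toRingHom) = RingHom.id _ := by
      ext y; simp
    rw [this, Ideal.comap_id]
  have hb' : ringKrullDim (X.presheaf.stalk x) = b := by
    rw [ringKrullDim_stalk_eq_height hU x hxU, ← h𝔮, h3]
    have := RingEquiv.height_comap e.symm q
    rw [show (q.comap e.symm.toRingHom) = Ideal.comap e.symm q from rfl, this, hb]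
    rfl
  obtain ⟨s, hs1, hs2⟩ := exists_nat_trdeg_eq_and_dim_quotient k X hU x hxU
  have ha' : ringKrullDim (Γ(X, ⊤) ⧸ 𝔮.asIdeal) = a := by
    rw [← ha]
    refine ringKrullDim_eq_of_ringEquiv (Ideal.quotientEquiv _ _ e.symm ?_)
    rw [h3]
    exact (Ideal.map_comap_of_surjective _ e.symm.surjective q).symm
  have hsa : s = a := by
    rw [← h𝔮, ha'] at hs2
    exact_mod_cast hs2.symm
  have := localDim_eq_add k X x a b (hsa ▸ hs1) hb'
  exact this



open Groth.Agent.Lib.Helper21

theorem dim_quotient_eq (k P S : Type u) [Field k] [CommRing P] [CommRing S] [Algebra k P]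
    [Algebra k S] [Algebra P S] [IsScalarTower k P S] [Algebra.FiniteType k P]
    [Algebra.FiniteType k S] [Algebra.QuasiFinite P S] (q : Ideal S) [q.IsPrime] :
    ringKrullDim (S ⧸ q) = ringKrullDim (P ⧸ q.under P) := by
  set p := q.under P with hp
  letI := Localization.AtPrime.algebraOfLiesOver p q
  haveI : Algebra.FiniteType k (S ⧸ q) :=
    Algebra.FiniteType.of_surjective (Ideal.Quotient.mkₐ k q) (Ideal.Quotient.mkₐ_surjective k q)
  haveI : Algebra.FiniteType k (P ⧸ p) :=
    Algebra.FiniteType.of_surjective (Ideal.Quotient.mkₐ k p) (Ideal.Quotient.mkₐ_surjective k p)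
  obtain ⟨s, hs1, hs2⟩ := DimTr.exists_nat_trdeg_eq_and_dim_eq k (S ⧸ q) q.ResidueField
  obtain ⟨t, ht1, ht2⟩ := DimTr.exists_nat_trdeg_eq_and_dim_eq k (P ⧸ p) p.ResidueField
  haveI : Module.Finite p.ResidueField q.ResidueField := inferInstance
  haveI : Algebra.IsAlgebraic p.ResidueField q.ResidueField := inferInstance
  have h0 : Algebra.trdeg p.ResidueField q.ResidueField = 0 := trdeg_eq_zero
  have h1 := trdeg_add_eq k p.ResidueField (A := q.ResidueField)
  rw [h0, add_zero, hs1, ht1] at h1
  have : t = s := by exact_mod_cast h1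
  rw [hs2, ht2, this]



open Groth.Agent.Lib.Helper21.ChartPt

/-- closed fibre of `A_p → B_q` for quasi-finite `A → B` has dimension zero -/
theorem fibre_dim_zero {A B : Type u} [CommRing A] [CommRing B] [Algebra A B]
    [Algebra.QuasiFinite A B] (p : Ideal A) [p.IsPrime] (q : Ideal B) [q.IsPrime] [q.LiesOver p]
    [Algebra (Localization.AtPrime p) (Localization.AtPrime q)]
    [Localization.AtPrime.IsLiesOverAlgebra p q] :
    ringKrullDim (Localization.AtPrime q ⧸ (maximalIdeal (Localization.AtPrime p)).map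
      (algebraMap (Localization.AtPrime p) (Localization.AtPrime q))) = 0 := by
  obtain ⟨Q, hQ, ⟨e⟩⟩ := Groth.Agent.Lib.Helper16.SyntStr.exists_fiber_equiv p q
  have h1 : ringKrullDim (EGA4.FibRing (Localization.AtPrime p) (Localization.AtPrime q)) =
      ringKrullDim (Localization.AtPrime Q) := (ringKrullDim_eq_of_ringEquiv e).symm
  show ringKrullDim (EGA4.FibRing (Localization.AtPrime p) (Localization.AtPrime q)) = 0
  rw [h1, IsLocalization.AtPrime.ringKrullDim_eq_height Q (Localization.AtPrime Q)]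
  have : Q.height = 0 :=
    Ideal.height_eq_zero_iff.mpr (Ideal.mem_minimalPrimes_of_krullDimLE_zero Q)
  rw [this]
  rfl

/-- a Cohen–Macaulay ring which is local is a Cohen–Macaulay local ring -/
theorem isCohenMacaulayLocalRing_of_ring (R : Type u) [CommRing R] [IsLocalRing R]
    [h : LocCoh.IsCohenMacaulayRing R] : LocCoh.IsCohenMacaulayLocalRing R := by
  have h1 := h.isCohenMacaulayLocalRing_localization (maximalIdeal R)
  have H : (maximalIdeal R).primeCompl ≤ IsUnit.submonoid R := by
    intro x hx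
    by_contra hcon
    exact hx ((IsLocalRing.mem_maximalIdeal x).mpr hcon)
  let e : R ≃ₐ[R] Localization.AtPrime (maximalIdeal R) :=
    IsLocalization.atUnits R (maximalIdeal R).primeCompl H
  exact Groth.Agent.Lib.Helper18.FibQuot.isCohenMacaulayLocalRing_of_ringEquiv e.symm.toRingEquiv

end Groth.Agent.Lib.Helper23.MiracleQF
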