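import Mathlib
import Groth.Agent.Lib.Helper1.ArtFunPS
import Groth.Agent.Lib.Helper18.CST2
import Groth.Agent.Lib.Helper12.RegularSeqQuot
import Groth.Agent.Lib.Helper21.AdicNoetherian
import Groth.Agent.Lib.Helper21.RegularLocal
import Groth.Prelude.Def_EGA41
import Groth.Agent.Lib.Helper18.Miracle
import Groth.Agent.Lib.Helper6.CMChart1
import Groth.Agent.Lib.Helper25.RegularSmooth
import Groth.Agent.Lib.Helper23.CohenRing
import Groth.Prelude.Def_CAlg
import Groth.Agent.Lib.Helper18.CST1

/-!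
# Cohen factorizations of local homomorphisms of complete local rings

* `evalC I v x hx : MvPowerSeries σ W →+* S`: evaluation of power series (finitely many variables) in an
  `I`-adically complete ring `S` along ANY ring hom `v : W →+* S` at elements `x i ∈ I`
  (`evalC_C`, `evalC_X`, `mk_evalC`); `ringHom_ext_of_mem`: ring homs `W[[X]] → S` (`S` `I`-adically separated)
  sending the variables into `I` are determined by constants and variables.
* `ringKrullDim_mvPowerSeries`: `dim W[[X_1..X_n]] = dim W + n` for `W` regular local.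
* `regular_quot`, `dim_quot_le`: `W[[X_1..X_{m+n}]]/(π, X_{m+1},…,X_{m+n})` is regular local of dim ≤ m when `𝔪_W = (π)`.
* `core`: Cohen factorization `Λ[[x]] → Λ'[[y,x]]` flat with regular closed fibre over `A → B`.
-/

set_option autoImplicit false
set_option linter.unusedSectionVars false
universe u
set_option linter.style.haveILetI false


namespace Groth.Agent.Lib.Helper23.CohenFact


open MvPowerSeries Groth.Agent.Lib.Helper1.ArtFunLib

section Eval

variable {σ : Type*} [Finite σ] {W S : Type*} [CommRing W] [CommRing S] (I : Ideal S)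

theorem eq_of_forall_mk_eq [IsHausdorff I S] {a b : S}
    (h : ∀ n, Ideal.Quotient.mk (I ^ n) a = Ideal.Quotient.mk (I ^ n) b) : a = b := by
  rw [← sub_eq_zero]
  apply IsHausdorff.haus' (I := I)
  intro n
  rw [SModEq.zero, smul_eq_mul, Ideal.mul_top, ← Ideal.Quotient.eq]
  exact h n

theorem span_mk_pow_eq_bot (x : σ → S) (hx : ∀ i, x i ∈ I) (n : ℕ) :
    Ideal.span (Set.range fun i => Ideal.Quotient.mk (I ^ n) (x i)) ^ n = ⊥ := by
  have h1 : Ideal.span (Set.range fun i => Ideal.Quotient.mk (I ^ n) (x i)) ≤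
      I.map (Ideal.Quotient.mk (I ^ n)) := by
    rw [Ideal.span_le]
    rintro _ ⟨i, rfl⟩
    exact Ideal.mem_map_of_mem _ (hx i)
  rw [eq_bot_iff]
  refine le_trans (Ideal.pow_right_mono h1 n) ?_
  rw [← Ideal.map_pow, Ideal.map_quotient_self]

/-- ring homs out of a power series ring into an `I`-adically separated ring, sending the
variables into `I`, are determined by their values on constants and variables -/
theorem ringHom_ext_of_mem [IsHausdorff I S] (φ ψ : MvPowerSeries σ W →+* S)
    (hφ : ∀ i, φ (X i) ∈ I) (hψ : ∀ i, ψ (X i) ∈ I)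
    (hC : ∀ r, φ (C r) = ψ (C r)) (hX : ∀ i, φ (X i) = ψ (X i)) : φ = ψ := by
  ext g
  apply eq_of_forall_mk_eq I
  intro n
  have h : (Ideal.Quotient.mk (I ^ n)).comp φ = (Ideal.Quotient.mk (I ^ n)).comp ψ := by
    apply PS.ringHom_ext_of_kills _ _ n
    · apply PS.kills_of_pow_eq_bot
      exact span_mk_pow_eq_bot I (fun i => φ (X i)) hφ n
    · apply PS.kills_of_pow_eq_bot
      exact span_mk_pow_eq_bot I (fun i => ψ (X i)) hψ n
    · intro r
      simp only [RingHom.comp_apply, hC]
    · intro i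
      simp only [RingHom.comp_apply, hX]
  exact congrArg (fun χ : MvPowerSeries σ W →+* S ⧸ I ^ n => χ g) h

variable [IsAdicComplete I S] (v : W →+* S) (x : σ → S) (hx : ∀ i, x i ∈ I)

/-- level maps -/
noncomputable def evalLevel (n : ℕ) : MvPowerSeries σ W →+* S ⧸ I ^ n :=
  letI : Algebra W (S ⧸ I ^ n) := ((Ideal.Quotient.mk (I ^ n)).comp v).toAlgebra
  PS.evalNil (R := W) (A := S ⧸ I ^ n) (fun i => Ideal.Quotient.mk (I ^ n) (x i)) n
    (span_mk_pow_eq_bot I x hx n)

theorem evalLevel_C (n : ℕ) (r : W) :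
    evalLevel I v x hx n (C r) = Ideal.Quotient.mk (I ^ n) (v r) := by
  letI : Algebra W (S ⧸ I ^ n) := ((Ideal.Quotient.mk (I ^ n)).comp v).toAlgebra
  exact PS.evalNil_C (R := W) (A := S ⧸ I ^ n) _ n _ r

theorem evalLevel_X (n : ℕ) (i : σ) :
    evalLevel I v x hx n (X i) = Ideal.Quotient.mk (I ^ n) (x i) := by
  letI : Algebra W (S ⧸ I ^ n) := ((Ideal.Quotient.mk (I ^ n)).comp v).toAlgebra
  exact PS.evalNil_X (R := W) (A := S ⧸ I ^ n) _ n _ i

theorem evalLevel_kills (n : ℕ) :
    ∀ g ∈ Ideal.span (Set.range (X : σ → MvPowerSeries σ W)) ^ n, evalLevel I v x hx n g = 0 := by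
  apply PS.kills_of_pow_eq_bot
  have : (fun i => evalLevel I v x hx n (X i)) = fun i => Ideal.Quotient.mk (I ^ n) (x i) := by
    funext i
    exact evalLevel_X I v x hx n i
  rw [this]
  exact span_mk_pow_eq_bot I x hx n

theorem evalLevel_compat {m n : ℕ} (hle : m ≤ n) :
    (Ideal.Quotient.factorPow I hle).comp (evalLevel I v x hx n) = evalLevel I v x hx m := by
  apply PS.ringHom_ext_of_kills _ _ n
  · intro g hg
    rw [RingHom.comp_apply, evalLevel_kills I v x hx n g hg, map_zero]
  · intro g hg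
    exact evalLevel_kills I v x hx m g (Ideal.pow_le_pow_right hle hg)
  · intro r
    rw [RingHom.comp_apply, evalLevel_C, evalLevel_C]
    rfl
  · intro i
    rw [RingHom.comp_apply, evalLevel_X, evalLevel_X]
    rfl

/-- **evaluation of power series** in a complete ring -/
noncomputable def evalC : MvPowerSeries σ W →+* S :=
  IsAdicComplete.liftRingHom I (evalLevel I v x hx) (fun hle => evalLevel_compat I v x hx hle)

theorem mk_evalC (n : ℕ) (g : MvPowerSeries σ W) :
    Ideal.Quotient.mk (I ^ n) (evalC I v x hx g) = evalLevel I v x hx n g :=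
  IsAdicComplete.mk_liftRingHom I _ _ n g

theorem evalC_C (r : W) : evalC I v x hx (C r) = v r := by
  apply eq_of_forall_mk_eq I
  intro n
  rw [mk_evalC, evalLevel_C]

theorem evalC_X (i : σ) : evalC I v x hx (X i) = x i := by
  apply eq_of_forall_mk_eq I
  intro n
  rw [mk_evalC, evalLevel_X]

end Eval



open MvPowerSeries IsLocalRing Groth.Agent.Lib.Helper1.ArtFunLib

section Reg

variable (W : Type u) [CommRing W] [hW : IsRegularLocalRing W]

theorem ringKrullDim_mvPowerSeries (n : ℕ) :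
    ringKrullDim (MvPowerSeries (Fin n) W) = ringKrullDim W + (n : WithBot ℕ∞) := by
  haveI := Groth.Agent.Lib.Helper18.CST.isRegularLocalRing_mvPowerSeries W n
  apply le_antisymm
  · rw [← IsRegularLocalRing.spanFinrank_maximalIdeal (R := MvPowerSeries (Fin n) W),
      ← hW.spanFinrank_maximalIdeal]
    exact_mod_cast Groth.Agent.Lib.Helper18.CST.spanFinrank_maximalIdeal_mvPowerSeries_le W n
  · exact Groth.Agent.Lib.Helper18.CST.add_le_ringKrullDim_mvPowerSeries W n

variable {W}

theorem mem_maximalIdeal_iff_constantCoeff {σ : Type*} (g : MvPowerSeries σ W) :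
    g ∈ maximalIdeal (MvPowerSeries σ W) ↔ constantCoeff g ∈ maximalIdeal W := by
  rw [mem_maximalIdeal, mem_maximalIdeal, mem_nonunits_iff, mem_nonunits_iff,
    MvPowerSeries.isUnit_iff_constantCoeff]

variable (m n : ℕ)

/-- the last `n` variables -/
noncomputable def lastX : Fin n → MvPowerSeries (Fin (m + n)) W := fun i => X (Fin.natAdd m i)

theorem indep_lastX (a : Fin n → MvPowerSeries (Fin (m + n)) W)
    (h : ∑ j, a j * lastX m n j ∈ maximalIdeal (MvPowerSeries (Fin (m + n)) W) ^ 2) :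
    ∀ j, a j ∈ maximalIdeal (MvPowerSeries (Fin (m + n)) W) := by
  classical
  intro j
  rw [mem_maximalIdeal_iff_constantCoeff]
  rw [PS.maximalIdeal_pow_eq_filt, PS.mem_filt] at h
  have h1 := h (Finsupp.single (Fin.natAdd m j) 1)
  rw [Finsupp.degree_single, map_sum] at h1
  have h2 : ∀ i, coeff (Finsupp.single (Fin.natAdd m j) 1) (a i * lastX m n i) =
      if i = j then constantCoeff (a j) else 0 := by
    intro i
    rw [lastX, X_def, coeff_mul_monomial]
    by_cases hij : i = j
    · subst hij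
      rw [if_pos le_rfl, if_pos rfl, tsub_self, mul_one, coeff_zero_eq_constantCoeff_apply]
    · rw [if_neg hij, if_neg]
      intro hle
      have := hle (Fin.natAdd m i)
      rw [Finsupp.single_eq_same, Finsupp.single_apply, if_neg] at this
      · omega
      · intro h3
        exact hij (Fin.natAdd_injective n m h3).symm
  simp only [h2, Finset.sum_ite_eq', Finset.mem_univ, if_true] at h1
  simpa using h1

theorem lastX_mem (i : Fin n) :
    lastX m n i ∈ maximalIdeal (MvPowerSeries (Fin (m + n)) W) := PS.X_mem_maximalIdeal _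

theorem constantCoeff_eq_zero_of_mem_span_lastX (g : MvPowerSeries (Fin (m + n)) W)
    (hg : g ∈ Ideal.span (Set.range (lastX (W := W) m n))) : constantCoeff g = 0 := by
  have hle : Ideal.span (Set.range (lastX (W := W) m n)) ≤
      RingHom.ker (constantCoeff (σ := Fin (m + n)) (R := W)) := by
    rw [Ideal.span_le]
    rintro _ ⟨i, rfl⟩
    rw [SetLike.mem_coe, RingHom.mem_ker, lastX, constantCoeff_X]
  exact hle hg

end Reg



open MvPowerSeries IsLocalRing Groth.Agent.Lib.Helper1.ArtFunLib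

section Reg2

variable {W : Type u} [CommRing W] [hW : IsRegularLocalRing W] (m n : ℕ)

/-- the ideal `(π, X_{m+1}, …, X_{m+n})` -/
noncomputable def JJ (π : W) : Ideal (MvPowerSeries (Fin (m + n)) W) :=
  Ideal.span {C π} ⊔ Ideal.span (Set.range (lastX (W := W) m n))

theorem pi_eq_zero_of_mem_sq (π : W) (hπ : maximalIdeal W = Ideal.span {π})
    (h : π ∈ maximalIdeal W ^ 2) : π = 0 := by
  rw [hπ, Ideal.span_singleton_pow, Ideal.mem_span_singleton'] at h
  obtain ⟨c, hc⟩ := h
  have hm : c * π ∈ maximalIdeal W := by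
    rw [hπ]
    exact Ideal.mul_mem_left _ _ (Ideal.subset_span rfl)
  have hu : IsUnit (1 - c * π) := by
    have := (mem_maximalIdeal _).mp hm
    rw [mem_nonunits_iff] at this
    rcases IsLocalRing.isUnit_or_isUnit_one_sub_self (c * π) with h1 | h1
    · exact absurd h1 this
    · exact h1
  have h0 : π * (1 - c * π) = 0 := by
    have h1 : π * (1 - c * π) = π - c * π ^ 2 := by ring
    rw [h1, hc, sub_self]
  exact (hu.mul_left_eq_zero).mp h0

theorem regular_quot (π : W) (hπ : maximalIdeal W = Ideal.span {π}) :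
    IsRegularLocalRing (MvPowerSeries (Fin (m + n)) W ⧸ JJ m n π) := by
  haveI := Groth.Agent.Lib.Helper18.CST.isRegularLocalRing_mvPowerSeries W (m + n)
  set K₁ : Ideal (MvPowerSeries (Fin (m + n)) W) := Ideal.span (Set.range (lastX (W := W) m n))
    with hK₁
  have hreg1 : IsRegularLocalRing (MvPowerSeries (Fin (m + n)) W ⧸ K₁) :=
    (Groth.Agent.Lib.Helper12.isRegularLocalRing_quotient_and_isRegular_of_indep n
      (MvPowerSeries (Fin (m + n)) W) (lastX m n) (lastX_mem m n) (indep_lastX m n)).1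
  by_cases h0 : π = 0
  · have hJ : K₁ = JJ m n π := by
      rw [JJ, h0, map_zero, Ideal.span_singleton_eq_bot.mpr rfl, bot_sup_eq]
    exact IsRegularLocalRing.of_ringEquiv (Ideal.quotEquivOfEq hJ)
  · set x : MvPowerSeries (Fin (m + n)) W ⧸ K₁ := Ideal.Quotient.mk K₁ (C π) with hx
    have hmax := Groth.Agent.Lib.Helper21.maximalIdeal_quotient_eq_map K₁
    have hCπ : (C π : MvPowerSeries (Fin (m + n)) W) ∈ maximalIdeal _ := by
      rw [mem_maximalIdeal_iff_constantCoeff, constantCoeff_C, hπ]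
      exact Ideal.subset_span rfl
    have hxm : x ∈ maximalIdeal (MvPowerSeries (Fin (m + n)) W ⧸ K₁) := by
      rw [hmax]
      exact Ideal.mem_map_of_mem _ hCπ
    have hx2 : x ∉ maximalIdeal (MvPowerSeries (Fin (m + n)) W ⧸ K₁) ^ 2 := by
      intro hmem
      rw [hmax, ← Ideal.map_pow,
        Ideal.mem_map_iff_of_surjective _ Ideal.Quotient.mk_surjective] at hmem
      obtain ⟨g, hg, hgx⟩ := hmem
      rw [hx, Ideal.Quotient.eq] at hgx
      have h1 := constantCoeff_eq_zero_of_mem_span_lastX m n _ hgx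
      rw [map_sub, constantCoeff_C, sub_eq_zero] at h1
      rw [PS.maximalIdeal_pow_eq_filt, PS.mem_filt] at hg
      have h2 := hg 0
      rw [map_zero, Nat.sub_zero, coeff_zero_eq_constantCoeff_apply, h1] at h2
      exact h0 (pi_eq_zero_of_mem_sq π hπ h2)
    have hreg2 : IsRegularLocalRing ((MvPowerSeries (Fin (m + n)) W ⧸ K₁) ⧸ Ideal.span {x}) :=
      Groth.Agent.Lib.Helper12.isRegularLocalRing_quotient_singleton hxm hx2
    have hmap : (Ideal.span {C π} : Ideal (MvPowerSeries (Fin (m + n)) W)).map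
        (Ideal.Quotient.mk K₁) = Ideal.span {x} := by
      rw [Ideal.map_span, Set.image_singleton]
    have hJ : K₁ ⊔ Ideal.span {C π} = JJ m n π := by
      rw [JJ, sup_comm]
    let e : ((MvPowerSeries (Fin (m + n)) W ⧸ K₁) ⧸ Ideal.span {x}) ≃+*
        (MvPowerSeries (Fin (m + n)) W ⧸ JJ m n π) :=
      ((Ideal.quotEquivOfEq hmap.symm).trans
        (DoubleQuot.quotQuotEquivQuotSup K₁ (Ideal.span {C π}))).trans (Ideal.quotEquivOfEq hJ)
    exact @IsRegularLocalRing.of_ringEquiv _ _ hreg2 _ _ e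

theorem JJ_le (π : W) (hπ : maximalIdeal W = Ideal.span {π}) :
    JJ m n π ≤ maximalIdeal (MvPowerSeries (Fin (m + n)) W) := by
  rw [JJ]
  apply sup_le
  · rw [Ideal.span_le, Set.singleton_subset_iff, SetLike.mem_coe,
      mem_maximalIdeal_iff_constantCoeff, constantCoeff_C, hπ]
    exact Ideal.subset_span rfl
  · rw [Ideal.span_le]
    rintro _ ⟨i, rfl⟩
    exact lastX_mem m n i

theorem dim_quot_le (π : W) (hπ : maximalIdeal W = Ideal.span {π}) :
    ringKrullDim (MvPowerSeries (Fin (m + n)) W ⧸ JJ m n π) ≤ (m : WithBot ℕ∞) := by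
  classical
  haveI := regular_quot m n π hπ
  have hmax := Groth.Agent.Lib.Helper21.maximalIdeal_quotient_eq_map (JJ m n π)
  let firstX : Fin m → MvPowerSeries (Fin (m + n)) W := fun j => X (Fin.castAdd n j)
  have hrange : Set.range (X : Fin (m + n) → MvPowerSeries (Fin (m + n)) W) =
      Set.range firstX ∪ Set.range (lastX (W := W) m n) := by
    ext g
    constructor
    · rintro ⟨k, rfl⟩
      induction k using Fin.addCases with
      | left j => exact Or.inl ⟨j, rfl⟩
      | right i => exact Or.inr ⟨i, rfl⟩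
    · rintro (⟨j, rfl⟩ | ⟨i, rfl⟩)
      · exact ⟨_, rfl⟩
      · exact ⟨_, rfl⟩
  have h1 : maximalIdeal (MvPowerSeries (Fin (m + n)) W ⧸ JJ m n π) =
      Ideal.span (Set.range fun j => Ideal.Quotient.mk (JJ m n π) (firstX j)) := by
    rw [hmax, PS.maximalIdeal_eq_sup, hπ, Ideal.map_span, Set.image_singleton, hrange,
      Ideal.span_union, Ideal.map_sup, Ideal.map_sup]
    have e1 : Ideal.map (Ideal.Quotient.mk (JJ m n π)) (Ideal.span {C π}) = ⊥ :=
      Ideal.map_mk_eq_bot_of_le le_sup_left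
    have e2 : Ideal.map (Ideal.Quotient.mk (JJ m n π))
        (Ideal.span (Set.range (lastX (W := W) m n))) = ⊥ :=
      Ideal.map_mk_eq_bot_of_le le_sup_right
    rw [e1, e2, bot_sup_eq, sup_bot_eq, Ideal.map_span, ← Set.range_comp]
    rfl
  refine le_trans (ringKrullDim_le_spanFinrank_maximalIdeal _) ?_
  rw [h1]
  have h2 : (Set.range fun j => Ideal.Quotient.mk (JJ m n π) (firstX j)) =
      ((Finset.univ.image fun j => Ideal.Quotient.mk (JJ m n π) (firstX j) : Finset _) : Set _) := by
    rw [Finset.coe_image, Finset.coe_univ, Set.image_univ]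
  rw [h2]
  have h3 := Submodule.spanFinrank_span_le_ncard_of_finite (R := MvPowerSeries (Fin (m + n)) W ⧸ JJ m n π)
    (Finset.finite_toSet (Finset.univ.image fun j => Ideal.Quotient.mk (JJ m n π) (firstX j)))
  rw [Set.ncard_coe_finset] at h3
  have h4 : (Finset.univ.image fun j => Ideal.Quotient.mk (JJ m n π) (firstX j)).card ≤ m :=
    le_trans Finset.card_image_le (by rw [Finset.card_univ, Fintype.card_fin])
  exact_mod_cast le_trans h3 h4

end Reg2



open MvPowerSeries IsLocalRing Groth.Agent.Lib.Helper1.ArtFunLib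

section Core

variable {A B : Type u} [CommRing A] [CommRing B] [IsLocalRing A] [IsLocalRing B]
  [IsNoetherianRing A] [IsNoetherianRing B]
  [IsAdicComplete (maximalIdeal A) A] [IsAdicComplete (maximalIdeal B) B]
  [Algebra A B] [IsLocalHom (algebraMap A B)]

theorem X_mem_span_range {σ : Type*} {W : Type*} [CommRing W] (i : σ) :
    (X i : MvPowerSeries σ W) ∈ Ideal.span (Set.range (X : σ → MvPowerSeries σ W)) :=
  Ideal.subset_span ⟨i, rfl⟩

theorem core (Λ Λ' : Type u) [CommRing Λ] [CommRing Λ'] [IsLocalRing Λ] [IsLocalRing Λ']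
    (hΛ : EGA41.IsCohenRingEGA Λ) (hΛ' : EGA41.IsCohenRingEGA Λ')
    [IsNoetherianRing Λ] [IsNoetherianRing Λ']
    [IsAdicComplete (maximalIdeal Λ) Λ] [IsAdicComplete (maximalIdeal Λ') Λ']
    (lam : Λ →+* A) [IsLocalHom lam] (hlam : Function.Surjective ((residue A).comp lam))
    (lam' : Λ' →+* B) [IsLocalHom lam'] (hlam' : Function.Surjective ((residue B).comp lam'))
    (p : ℕ) (hp : maximalIdeal Λ = Ideal.span {(p : Λ)})
    (hp' : maximalIdeal Λ' = Ideal.span {(p : Λ')})
    (hdim : ringKrullDim Λ = ringKrullDim Λ') :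
    ∃ (n m : ℕ) (ρ : MvPowerSeries (Fin n) Λ →+* A) (σ : MvPowerSeries (Fin m) Λ' →+* B)
      (τ : MvPowerSeries (Fin n) Λ →+* MvPowerSeries (Fin m) Λ'),
      Function.Surjective ρ ∧ Function.Surjective σ ∧
      σ.comp τ = (algebraMap A B).comp ρ ∧ τ.Flat ∧
      IsRegularRing (MvPowerSeries (Fin m) Λ' ⧸
        (maximalIdeal (MvPowerSeries (Fin n) Λ)).map τ) := by
  haveI hregΛ : IsRegularLocalRing Λ :=
    Groth.Agent.Lib.Helper18.CST.isRegularLocalRing_of_isCohenRingEGA hΛ
  haveI hregΛ' : IsRegularLocalRing Λ' :=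
    Groth.Agent.Lib.Helper18.CST.isRegularLocalRing_of_isCohenRingEGA hΛ'
  -- presentations
  obtain ⟨n, ρ, hρ, hρC⟩ := Groth.Agent.Lib.Helper18.CST.exists_surjective_mvPowerSeries lam hlam
  obtain ⟨m₀, f₀, hf₀, hf₀C⟩ :=
    Groth.Agent.Lib.Helper18.CST.exists_surjective_mvPowerSeries lam' hlam'
  haveI : IsLocalHom ρ := IsLocalHom.of_surjective ρ hρ
  haveI : IsLocalHom f₀ := IsLocalHom.of_surjective f₀ hf₀
  let φ : A →+* B := algebraMap A B
  let a : Fin n → A := fun i => ρ (X i)
  have ha : ∀ i, a i ∈ maximalIdeal A := fun i =>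
    map_nonunit ρ _ (PS.X_mem_maximalIdeal i)
  let b : Fin m₀ → B := fun j => f₀ (X j)
  have hb : ∀ j, b j ∈ maximalIdeal B := fun j =>
    map_nonunit f₀ _ (PS.X_mem_maximalIdeal j)
  let c : Fin (m₀ + n) → B := fun k => Fin.addCases (fun j => b j) (fun i => φ (a i)) k
  have hc : ∀ k, c k ∈ maximalIdeal B := by
    intro k
    induction k using Fin.addCases with
    | left j =>
      simp only [c, Fin.addCases_left]
      exact hb j
    | right i =>
      simp only [c, Fin.addCases_right]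
      exact map_nonunit φ _ (ha i)
  -- σ
  let σ : MvPowerSeries (Fin (m₀ + n)) Λ' →+* B := evalC (maximalIdeal B) lam' c hc
  have hσC : ∀ l, σ (C l) = lam' l := evalC_C _ _ _ _
  have hσX : ∀ k, σ (X k) = c k := evalC_X _ _ _ _
  -- surjectivity of σ
  let ι : MvPowerSeries (Fin m₀) Λ' →+* MvPowerSeries (Fin (m₀ + n)) Λ' :=
    evalC (Ideal.span (Set.range (X : Fin (m₀ + n) → MvPowerSeries (Fin (m₀ + n)) Λ')))
      (C : Λ' →+* MvPowerSeries (Fin (m₀ + n)) Λ') (fun j => X (Fin.castAdd n j))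
      (fun j => X_mem_span_range _)
  have hι : σ.comp ι = f₀ := by
    apply ringHom_ext_of_mem (maximalIdeal B)
    · intro j
      rw [RingHom.comp_apply, evalC_X, hσX]
      exact hc _
    · exact hb
    · intro l
      rw [RingHom.comp_apply, evalC_C, hσC, hf₀C]
    · intro j
      rw [RingHom.comp_apply, evalC_X, hσX]
      simp only [c, Fin.addCases_left]
      rfl
  have hσ : Function.Surjective σ := by
    intro y
    obtain ⟨x, rfl⟩ := hf₀ y
    exact ⟨ι x, by rw [← hι]; rfl⟩
  -- the lift θ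
  haveI : IsAdicComplete (maximalIdeal (MvPowerSeries (Fin (m₀ + n)) Λ'))
      (MvPowerSeries (Fin (m₀ + n)) Λ') := PS.isAdicComplete_mvPowerSeries
  let e : (MvPowerSeries (Fin (m₀ + n)) Λ' ⧸ RingHom.ker σ) ≃+* B :=
    RingHom.quotientKerEquivOfSurjective hσ
  haveI : IsLocalRing (MvPowerSeries (Fin (m₀ + n)) Λ' ⧸ RingHom.ker σ) :=
    e.symm.isLocalRing
  let u : Λ →+* (MvPowerSeries (Fin (m₀ + n)) Λ' ⧸ RingHom.ker σ) :=
    (e.symm : B →+* _).comp (φ.comp lam)
  haveI : IsLocalHom u := by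
    constructor
    intro x hx
    have h1 : IsUnit (e (u x)) := hx.map e
    have h2 : e (u x) = φ (lam x) := e.apply_symm_apply _
    rw [h2] at h1
    exact isUnit_of_map_unit lam x (isUnit_of_map_unit φ _ h1)
  obtain ⟨θ, hθloc, hθ⟩ := Groth.Agent.Lib.Helper23.CohenRing.t2456main hΛ (RingHom.ker σ)
    (RingHom.ker_ne_top σ) u
  have hσθ : ∀ l, σ (θ l) = φ (lam l) := by
    intro l
    have h1 : Ideal.Quotient.mk (RingHom.ker σ) (θ l) = u l := congrArg (fun g => g l) hθ
    have h2 : e (Ideal.Quotient.mk (RingHom.ker σ) (θ l)) = σ (θ l) :=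
      RingHom.quotientKerEquivOfSurjective_apply_mk hσ (θ l)
    rw [← h2, h1]
    exact e.apply_symm_apply _
  -- τ
  let τ : MvPowerSeries (Fin n) Λ →+* MvPowerSeries (Fin (m₀ + n)) Λ' :=
    evalC (Ideal.span (Set.range (X : Fin (m₀ + n) → MvPowerSeries (Fin (m₀ + n)) Λ')))
      θ (lastX m₀ n) (fun i => X_mem_span_range _)
  have hτC : ∀ l, τ (C l) = θ l := evalC_C _ _ _ _
  have hτX : ∀ i, τ (X i) = lastX m₀ n i := evalC_X _ _ _ _
  have hcomm : σ.comp τ = φ.comp ρ := by
    apply ringHom_ext_of_mem (maximalIdeal B)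
    · intro i
      rw [RingHom.comp_apply, hτX, lastX, hσX]
      exact hc _
    · intro i
      exact map_nonunit φ _ (ha i)
    · intro l
      rw [RingHom.comp_apply, RingHom.comp_apply, hτC, hσθ, hρC]
    · intro i
      rw [RingHom.comp_apply, RingHom.comp_apply, hτX, lastX, hσX]
      simp only [c, Fin.addCases_right]
      rfl
  -- the extended ideal
  have hJ : (maximalIdeal (MvPowerSeries (Fin n) Λ)).map τ = JJ m₀ n (p : Λ') := by
    rw [PS.maximalIdeal_eq_sup, hp, Ideal.map_span, Set.image_singleton, Ideal.map_sup,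
      Ideal.map_span, Set.image_singleton, Ideal.map_span, ← Set.range_comp, JJ]
    congr 1
    · rw [hτC, map_natCast, map_natCast]
    · congr 1
      ext g
      constructor
      · rintro ⟨i, rfl⟩
        exact ⟨i, (hτX i).symm⟩
      · rintro ⟨i, rfl⟩
        exact ⟨i, hτX i⟩
  haveI hreg := regular_quot m₀ n (p : Λ') hp'
  refine ⟨n, m₀ + n, ρ, σ, τ, hρ, hσ, hcomm, ?_, ?_⟩
  · -- flatness
    letI : Algebra (MvPowerSeries (Fin n) Λ) (MvPowerSeries (Fin (m₀ + n)) Λ') := τ.toAlgebra
    haveI : IsLocalHom (algebraMap (MvPowerSeries (Fin n) Λ) (MvPowerSeries (Fin (m₀ + n)) Λ')) := by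
      change IsLocalHom τ
      refine ((IsLocalRing.local_hom_TFAE τ).out 0 2).mpr ?_
      rw [hJ]
      exact JJ_le m₀ n _ hp'
    haveI := Groth.Agent.Lib.Helper18.CST.isRegularLocalRing_mvPowerSeries Λ n
    haveI := Groth.Agent.Lib.Helper18.CST.isRegularLocalRing_mvPowerSeries Λ' (m₀ + n)
    haveI := Groth.Agent.Lib.Helper6.CMChart.isCohenMacaulayLocalRing_of_isRegularLocalRing
      (MvPowerSeries (Fin (m₀ + n)) Λ')
    change Module.Flat (MvPowerSeries (Fin n) Λ) (MvPowerSeries (Fin (m₀ + n)) Λ')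
    apply Groth.Agent.Lib.Helper18.CM.miracle_flatness
    apply le_antisymm Groth.Agent.Lib.Helper18.CM.ringKrullDim_le_add_fibre
    have h1 : (maximalIdeal (MvPowerSeries (Fin n) Λ)).map
        (algebraMap (MvPowerSeries (Fin n) Λ) (MvPowerSeries (Fin (m₀ + n)) Λ')) =
        JJ m₀ n (p : Λ') := hJ
    rw [h1, ringKrullDim_mvPowerSeries Λ n, ringKrullDim_mvPowerSeries Λ' (m₀ + n), hdim]
    have h2 := dim_quot_le m₀ n (p : Λ') hp'
    calc ringKrullDim Λ' + (n : WithBot ℕ∞) +
          ringKrullDim (MvPowerSeries (Fin (m₀ + n)) Λ' ⧸ JJ m₀ n (p : Λ'))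
        ≤ ringKrullDim Λ' + (n : WithBot ℕ∞) + (m₀ : WithBot ℕ∞) := by gcongr
      _ = ringKrullDim Λ' + ((m₀ + n : ℕ) : WithBot ℕ∞) := by
          rw [Nat.cast_add, add_assoc, add_comm (n : WithBot ℕ∞)]
  · rw [hJ]
    exact Groth.Agent.Lib.Helper25.RegularSmooth.isRegularRing_of_isRegularLocalRing _

end Core



open MvPowerSeries IsLocalRing

section Chars

variable {A : Type u} [CommRing A] [IsLocalRing A]

theorem charZero_residue_of_field {Λ : Type u} [CommRing Λ] (hF : IsField Λ) [CharZero Λ]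
    (lam : Λ →+* A) : CharZero (ResidueField A) := by
  letI := hF.toField
  exact charZero_of_injective_ringHom ((residue A).comp lam).injective

theorem not_charZero_residue_of_cohen {Λ : Type u} [CommRing Λ] [IsLocalRing Λ]
    (hC : CAlg.IsCohenRing Λ) (lam : Λ →+* A) [IsLocalHom lam] :
    ¬ CharZero (ResidueField A) := by
  intro hcz
  obtain ⟨_, _, _, p, hprime, hmaxeq⟩ := hC
  have h1 : (p : Λ) ∈ maximalIdeal Λ := by
    rw [hmaxeq]
    exact Ideal.subset_span rfl
  have h2 : lam (p : Λ) ∈ maximalIdeal A := map_nonunit lam _ h1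
  have h3 : residue A (lam (p : Λ)) = 0 := (residue_eq_zero_iff _).mpr h2
  rw [map_natCast, map_natCast] at h3
  exact hprime.ne_zero (Nat.cast_eq_zero.mp h3)

theorem natCast_mem_of_residue {Λ : Type u} [CommRing Λ] [IsLocalRing Λ]
    (lam : Λ →+* A) [IsLocalHom lam] (q : ℕ) (hq : (q : ResidueField A) = 0) :
    (q : Λ) ∈ maximalIdeal Λ := by
  rw [mem_maximalIdeal, mem_nonunits_iff]
  intro hu
  have h1 : IsUnit (residue A (lam (q : Λ))) := (hu.map lam).map (residue A)
  rw [map_natCast, map_natCast, hq] at h1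
  exact not_isUnit_zero h1

end Chars

end Groth.Agent.Lib.Helper23.CohenFact
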