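import Mathlib
import Groth.Agent.Lib.Helper9.FlatCrit
import Groth.Agent.Lib.Helper23.FieldSep3
import Groth.Agent.Lib.Helper23.Gonflement
import Groth.Agent.Lib.Helper21.RegularLocal
import Groth.Agent.Lib.Helper9.FlatCrit2
import Groth.Prelude.Def_Found
import Groth.Agent.Lib.Helper23.GeomRegular2
import Groth.Agent.Lib.Helper18.FibBridge

/-!
helper23: formally smooth homomorphisms of Noetherian rings are flat (EGA 0_IV 19.7.1 for the discrete topologies) and regular. flat_of_injective_mod (A with nilpotent maximal ideal m, v : M -> N linear with N flat and M/mM -> N/mN injective => M flat), lTensor_injective_of_torsion / lTensor_injective_of_pow (such v is universally injective), one_tmul_eq_zero_iff, isLocalHom_of_isNilpotent, flat_of_formallySmooth_of_isNilpotent(_local) (Artinian base: lift B -> Frac(B/mB) to the gonflement of A with that residue field), flat_of_formallySmooth_local (local criterion), flat_of_formallySmooth_of_isLocalRing, flat_of_formallySmooth (A, B Noetherian, B formally smooth over A => flat), geomRegular_of_formallySmooth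 (Noetherian formally smooth over a field => geometrically regular).
-/

set_option autoImplicit false


namespace Groth.Agent.Lib.Helper23.FSmoothFlat

open TensorProduct Function

universe u v w

section Star

variable {A : Type u} [CommRing A] (m : Ideal A) [hm : m.IsMaximal]
  {M : Type v} {N : Type w} [AddCommGroup M] [Module A M] [AddCommGroup N] [Module A N]
  (v : M →ₗ[A] N)

/-- the image of `Q ⊗ mM → Q ⊗ M` vanishes when `mQ = 0`. -/
theorem lTensor_subtype_eq_zero (Q : Type*) [AddCommGroup Q] [Module A Q]
    (hQ : ∀ a ∈ m, ∀ q : Q, a • q = 0) (y : Q ⊗[A] (m • ⊤ : Submodule A M)) :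
    ((m • ⊤ : Submodule A M).subtype.lTensor Q) y = 0 := by
  induction y using TensorProduct.induction_on with
  | zero => simp
  | add x y hx hy => rw [map_add, hx, hy, add_zero]
  | tmul q z =>
    obtain ⟨z, hz⟩ := z
    rw [LinearMap.lTensor_tmul]
    change q ⊗ₜ[A] z = 0
    refine Submodule.smul_induction_on hz (fun a ha x _ => ?_) (fun x y hx hy => ?_)
    · rw [← TensorProduct.smul_tmul, hQ a ha q, TensorProduct.zero_tmul]
    · rw [TensorProduct.tmul_add, hx, hy, add_zero]

/-- existence of a retraction modulo `m`. -/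
theorem exists_retraction
    (hv : ∀ x : M, v x ∈ (m • ⊤ : Submodule A N) → x ∈ (m • ⊤ : Submodule A M)) :
    ∃ r : N →ₗ[A] (M ⧸ (m • ⊤ : Submodule A M)),
      r ∘ₗ v = (m • ⊤ : Submodule A M).mkQ := by
  letI : Field (A ⧸ m) := Ideal.Quotient.field m
  let pM : Submodule A M := m • ⊤
  let pN : Submodule A N := m • ⊤
  have hle : pM ≤ pN.comap v := by
    rw [Submodule.smul_le]
    intro a ha x _
    rw [Submodule.mem_comap, map_smul]
    exact Submodule.smul_mem_smul ha trivial
  let vbar : (M ⧸ pM) →ₗ[A] (N ⧸ pN) := pM.mapQ pN v hle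
  have hinj : Injective vbar := by
    rw [injective_iff_map_eq_zero]
    intro x hx
    obtain ⟨x, rfl⟩ := Submodule.mkQ_surjective _ x
    have h1 : v x ∈ pN := by
      rw [← Submodule.Quotient.mk_eq_zero]
      exact hx
    exact (Submodule.Quotient.mk_eq_zero _).mpr (hv x h1)
  let vk : (M ⧸ pM) →ₗ[A ⧸ m] (N ⧸ pN) :=
    LinearMap.extendScalarsOfSurjective Ideal.Quotient.mk_surjective vbar
  have hk : LinearMap.ker vk = ⊥ := by
    rw [LinearMap.ker_eq_bot]
    exact hinj
  obtain ⟨g, hg⟩ := vk.exists_leftInverse_of_injective hk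
  refine ⟨(g.restrictScalars A) ∘ₗ pN.mkQ, ?_⟩
  ext x
  have := congrArg (fun f => f (pM.mkQ x)) hg
  exact this

theorem lTensor_injective_of_torsion
    (hv : ∀ x : M, v x ∈ (m • ⊤ : Submodule A N) → x ∈ (m • ⊤ : Submodule A M))
    (Q : Type*) [AddCommGroup Q] [Module A Q] (hQ : ∀ a ∈ m, ∀ q : Q, a • q = 0) :
    Injective (v.lTensor Q) := by
  obtain ⟨r, hr⟩ := exists_retraction m v hv
  rw [injective_iff_map_eq_zero]
  intro x hx
  have h1 : ((m • ⊤ : Submodule A M).mkQ.lTensor Q) x = 0 := by
    rw [← hr, LinearMap.lTensor_comp, LinearMap.comp_apply, hx, map_zero]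
  have hex := lTensor_exact Q (LinearMap.exact_subtype_mkQ (m • ⊤ : Submodule A M))
    (Submodule.mkQ_surjective _)
  obtain ⟨y, rfl⟩ := (hex x).mp h1
  exact lTensor_subtype_eq_zero m Q hQ y

theorem lTensor_injective_of_pow [Module.Flat A N]
    (hv : ∀ x : M, v x ∈ (m • ⊤ : Submodule A N) → x ∈ (m • ⊤ : Submodule A M)) (j : ℕ) :
    ∀ (Q : Type u) [AddCommGroup Q] [Module A Q],
      (∀ a ∈ m ^ j, ∀ q : Q, a • q = 0) → Injective (v.lTensor Q) := by
  induction j with
  | zero =>
    intro Q _ _ hQ
    have hsub : ∀ q : Q, q = 0 := fun q => by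
      have := hQ 1 (by simp) q
      rwa [one_smul] at this
    have hz : ∀ x : Q ⊗[A] M, x = 0 := by
      intro x
      induction x using TensorProduct.induction_on with
      | zero => rfl
      | add x y hx hy => rw [hx, hy, add_zero]
      | tmul q z => rw [hsub q, TensorProduct.zero_tmul]
    intro x y _
    rw [hz x, hz y]
  | succ j ih =>
    intro Q _ _ hQ
    let Q' : Submodule A Q := m • ⊤
    have hQ' : ∀ a ∈ m ^ j, ∀ q : Q', a • q = 0 := by
      rintro a ha ⟨q, hq⟩
      apply Subtype.ext
      change a • q = 0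
      refine Submodule.smul_induction_on hq (fun b hb x _ => ?_) (fun x y hx hy => ?_)
      · rw [smul_smul]
        exact hQ _ (by rw [pow_succ]; exact Ideal.mul_mem_mul ha hb) x
      · rw [smul_add, hx, hy, add_zero]
    have hQ'' : ∀ a ∈ m, ∀ q : Q ⧸ Q', a • q = 0 := by
      intro a ha q
      obtain ⟨q, rfl⟩ := Submodule.mkQ_surjective _ q
      rw [← map_smul]
      exact (Submodule.Quotient.mk_eq_zero _).mpr (Submodule.smul_mem_smul ha trivial)
    have ih' := ih Q' hQ'
    have h1 := lTensor_injective_of_torsion m v hv (Q ⧸ Q') hQ''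
    have hex := rTensor_exact M (LinearMap.exact_subtype_mkQ Q') (Submodule.mkQ_surjective _)
    have hinj : Injective (Q'.subtype.rTensor N) :=
      Module.Flat.rTensor_preserves_injective_linearMap _ Q'.injective_subtype
    rw [injective_iff_map_eq_zero]
    intro x hx
    have h2 : (v.lTensor (Q ⧸ Q')) ((Q'.mkQ.rTensor M) x) = 0 := by
      have : (v.lTensor (Q ⧸ Q')) ∘ₗ (Q'.mkQ.rTensor M) = (Q'.mkQ.rTensor N) ∘ₗ (v.lTensor Q) := by
        rw [LinearMap.lTensor_comp_rTensor, LinearMap.rTensor_comp_lTensor]
      have h3 := congrArg (fun f => f x) this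
      simp only [LinearMap.comp_apply] at h3
      rw [h3, hx, map_zero]
    have h3 := h1 (h2.trans (map_zero _).symm)
    obtain ⟨y, rfl⟩ := (hex x).mp h3
    have h4 : (Q'.subtype.rTensor N) ((v.lTensor Q') y) = 0 := by
      have : (Q'.subtype.rTensor N) ∘ₗ (v.lTensor Q') = (v.lTensor Q) ∘ₗ (Q'.subtype.rTensor M) := by
        rw [LinearMap.lTensor_comp_rTensor, LinearMap.rTensor_comp_lTensor]
      have h5 := congrArg (fun f => f y) this
      simp only [LinearMap.comp_apply] at h5
      rw [h5, hx]
    have h5 := hinj (h4.trans (map_zero _).symm)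
    rw [ih' (h5.trans (map_zero _).symm), map_zero]

/-- (★) -/
theorem flat_of_injective_mod (hnil : IsNilpotent m) [Module.Flat A N]
    (hv : ∀ x : M, v x ∈ (m • ⊤ : Submodule A N) → x ∈ (m • ⊤ : Submodule A M)) :
    Module.Flat A M := by
  obtain ⟨j, hj⟩ := hnil
  letI : Field (A ⧸ m) := Ideal.Quotient.field m
  refine Groth.Agent.Lib.Helper9.flat_of_isNilpotent_of_rTensor_injective m ⟨j, hj⟩ ?_
  have h1 : Injective (v.lTensor m) := by
    refine lTensor_injective_of_pow m v hv (j + 1) m ?_
    intro a ha q
    apply Subtype.ext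
    change a * (q : A) = 0
    have : a * (q : A) ∈ m ^ (j + 1) * m := Ideal.mul_mem_mul ha q.2
    rw [pow_succ, hj] at this
    simpa using this
  have h2 : Injective (m.subtype.rTensor N) :=
    Module.Flat.rTensor_preserves_injective_linearMap _ m.injective_subtype
  have h3 : (m.subtype.rTensor N) ∘ₗ (v.lTensor m) = (v.lTensor A) ∘ₗ (m.subtype.rTensor M) := by
    rw [LinearMap.lTensor_comp_rTensor, LinearMap.rTensor_comp_lTensor]
  have h4 : Injective ((v.lTensor A) ∘ₗ (m.subtype.rTensor M)) := by
    rw [← h3]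
    exact h2.comp h1
  exact Function.Injective.of_comp h4

end Star


open TensorProduct Function IsLocalRing


section Artin

variable (A B : Type u) [CommRing A] [IsLocalRing A] [CommRing B] [Algebra A B]

theorem one_tmul_eq_zero_iff (b : B) :
    ((1 : ResidueField A) ⊗ₜ[A] b = 0) ↔ b ∈ (maximalIdeal A • ⊤ : Submodule A B) := by
  have h := TensorProduct.quotTensorEquivQuotSMul_mk_tmul (M := B) (maximalIdeal A) 1 b
  rw [one_smul] at h
  constructor
  · intro h0
    rw [← Submodule.Quotient.mk_eq_zero, ← h]
    have : (Ideal.Quotient.mk (maximalIdeal A) 1 ⊗ₜ[A] b : (A ⧸ maximalIdeal A) ⊗[A] B) = 0 := h0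
    rw [this, map_zero]
  · intro hb
    have h1 := (Submodule.Quotient.mk_eq_zero _).mpr hb
    rw [← h] at h1
    exact (LinearEquiv.map_eq_zero_iff _).mp h1

theorem isLocalHom_of_isNilpotent [Nontrivial B] (hnil : IsNilpotent (maximalIdeal A)) :
    IsLocalHom (algebraMap A B) := by
  refine ⟨fun a ha => ?_⟩
  by_contra hna
  have h1 : a ∈ maximalIdeal A := (IsLocalRing.mem_maximalIdeal a).mpr hna
  obtain ⟨j, hj⟩ := hnil
  have h2 : a ^ j = 0 := by
    have : a ^ j ∈ maximalIdeal A ^ j := Ideal.pow_mem_pow h1 j
    rw [hj] at this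
    simpa using this
  have h3 : (algebraMap A B a) ^ j = 0 := by rw [← map_pow, h2, map_zero]
  exact (ha.pow j).ne_zero h3

theorem flat_of_formallySmooth_of_isNilpotent_local [IsLocalRing B] [IsNoetherianRing B]
    [Algebra.FormallySmooth A B] (hnil : IsNilpotent (maximalIdeal A)) : Module.Flat A B := by
  haveI hloc : IsLocalHom (algebraMap A B) := isLocalHom_of_isNilpotent A B hnil
  have hsurj : Function.Surjective
      (Algebra.TensorProduct.includeRight : B →ₐ[A] (ResidueField A) ⊗[A] B) :=
    Algebra.TensorProduct.includeRight_surjective _ IsLocalRing.residue_surjective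
  have hle : ∀ b : B, b ∈ (maximalIdeal A • ⊤ : Submodule A B) → b ∈ maximalIdeal B := by
    intro b hb
    refine Submodule.smul_induction_on hb (fun a ha x _ => ?_) (fun x y hx hy => add_mem hx hy)
    rw [Algebra.smul_def]
    refine Ideal.mul_mem_right _ _ ?_
    rw [IsLocalRing.mem_maximalIdeal] at ha ⊢
    exact fun h => ha (hloc.map_nonunit a h)
  haveI : Nontrivial ((ResidueField A) ⊗[A] B) := by
    refine ⟨⟨1, 0, fun h => ?_⟩⟩
    have h1 : ((1 : ResidueField A) ⊗ₜ[A] (1 : B) = 0) := h
    have h2 := hle 1 ((one_tmul_eq_zero_iff A B 1).mp h1)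
    exact (IsLocalRing.mem_maximalIdeal _).mp h2 isUnit_one
  haveI : IsLocalRing ((ResidueField A) ⊗[A] B) :=
    IsLocalRing.of_surjective' (Algebra.TensorProduct.includeRight : B →ₐ[A] _).toRingHom hsurj
  haveI : IsNoetherianRing ((ResidueField A) ⊗[A] B) :=
    isNoetherianRing_of_surjective B _
      (Algebra.TensorProduct.includeRight : B →ₐ[A] (ResidueField A) ⊗[A] B).toRingHom hsurj
  haveI hreg : IsRegularLocalRing ((ResidueField A) ⊗[A] B) :=
    Groth.Agent.Lib.Helper23.FieldSep.isRegularLocalRing_of_formallySmooth_field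
      (ResidueField A) ((ResidueField A) ⊗[A] B)
  haveI : IsDomain ((ResidueField A) ⊗[A] B) :=
    Groth.Agent.Lib.Helper21.isDomain_of_isRegularLocalRing _
  obtain ⟨C, _, _, hflat, hlocC, hlhC, e, he⟩ :=
    Groth.Agent.Lib.Helper23.Gonflement.exists_gonflement A
      (FractionRing ((ResidueField A) ⊗[A] B))
  have hI : IsNilpotent ((maximalIdeal A).map (algebraMap A C)) := by
    obtain ⟨j, hj⟩ := hnil
    refine ⟨j, ?_⟩
    rw [← Ideal.map_pow, hj]
    exact Ideal.map_bot
  let g₀ : B →+* C ⧸ (maximalIdeal A).map (algebraMap A C) :=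
    e.symm.toRingHom.comp ((algebraMap ((ResidueField A) ⊗[A] B)
      (FractionRing ((ResidueField A) ⊗[A] B))).comp
      (Algebra.TensorProduct.includeRight : B →ₐ[A] (ResidueField A) ⊗[A] B).toRingHom)
  let g : B →ₐ[A] C ⧸ (maximalIdeal A).map (algebraMap A C) :=
    { g₀ with
      commutes' := fun a => by
        change e.symm (algebraMap ((ResidueField A) ⊗[A] B) (FractionRing ((ResidueField A) ⊗[A] B))
          ((1 : ResidueField A) ⊗ₜ[A] (algebraMap A B a))) = _
        rw [RingEquiv.symm_apply_eq]
        have h1 : algebraMap A (C ⧸ (maximalIdeal A).map (algebraMap A C)) a =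
            Ideal.Quotient.mk _ (algebraMap A C a) := rfl
        rw [h1, he a]
        have h2 : ((1 : ResidueField A) ⊗ₜ[A] (algebraMap A B a) : (ResidueField A) ⊗[A] B) =
            algebraMap (ResidueField A) ((ResidueField A) ⊗[A] B) (residue A a) := by
          rw [Algebra.TensorProduct.algebraMap_apply, Algebra.algebraMap_eq_smul_one a,
            TensorProduct.tmul_smul, TensorProduct.smul_tmul', Algebra.smul_def, mul_one]
          rfl
        rw [h2, ← IsScalarTower.algebraMap_apply] }
  let l := Algebra.FormallySmooth.lift _ hI g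
  have hl : ∀ b, Ideal.Quotient.mk _ (l b) = g b := Algebra.FormallySmooth.mk_lift _ hI g
  refine flat_of_injective_mod (maximalIdeal A) l.toLinearMap hnil ?_
  intro b hb
  rw [Ideal.smul_top_eq_map] at hb
  have h1 : l b ∈ (maximalIdeal A).map (algebraMap A C) := hb
  have h2 : g b = 0 := by rw [← hl, Ideal.Quotient.eq_zero_iff_mem]; exact h1
  have h3 : algebraMap ((ResidueField A) ⊗[A] B) (FractionRing ((ResidueField A) ⊗[A] B))
      ((1 : ResidueField A) ⊗ₜ[A] b) = 0 := by
    have : e.symm (algebraMap ((ResidueField A) ⊗[A] B) (FractionRing ((ResidueField A) ⊗[A] B))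
      ((1 : ResidueField A) ⊗ₜ[A] b)) = 0 := h2
    exact (RingEquiv.map_eq_zero_iff _).mp this
  have h4 : ((1 : ResidueField A) ⊗ₜ[A] b : (ResidueField A) ⊗[A] B) = 0 :=
    (IsFractionRing.injective ((ResidueField A) ⊗[A] B)
      (FractionRing ((ResidueField A) ⊗[A] B))) (h3.trans (map_zero _).symm)
  exact (one_tmul_eq_zero_iff A B b).mp h4

end Artin


open TensorProduct Function IsLocalRing


section Artin2

variable (A B : Type u) [CommRing A] [IsLocalRing A] [CommRing B] [Algebra A B]

theorem flat_of_formallySmooth_of_isNilpotent [IsNoetherianRing B]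
    [Algebra.FormallySmooth A B] (hnil : IsNilpotent (maximalIdeal A)) : Module.Flat A B := by
  refine Module.flat_of_isLocalized_maximal B B (fun P _ => Localization.AtPrime P)
    (fun P _ => Algebra.linearMap B (Localization.AtPrime P)) ?_
  intro P hP
  haveI : IsNoetherianRing (Localization.AtPrime P) :=
    IsLocalization.isNoetherianRing P.primeCompl _ inferInstance
  exact flat_of_formallySmooth_of_isNilpotent_local A (Localization.AtPrime P) hnil

end Artin2

section Local

variable (A B : Type u) [CommRing A] [IsLocalRing A] [IsNoetherianRing A] [CommRing B] [Algebra A B]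
  [IsLocalRing B] [IsNoetherianRing B]

theorem flat_of_formallySmooth_local [Algebra.FormallySmooth A B] [IsLocalHom (algebraMap A B)] :
    Module.Flat A B := by
  refine Groth.Agent.Lib.Helper9.flat_of_injOnTorsion_pow (S := B) (maximalIdeal A) ?_ ?_
  · rw [IsLocalRing.jacobson_eq_maximalIdeal ⊥ bot_ne_top]
    exact IsLocalRing.map_maximalIdeal_le (algebraMap A B)
  · intro n hn
    have hne : maximalIdeal A ^ n ≠ ⊤ := by
      intro h
      have : maximalIdeal A ^ n ≤ maximalIdeal A := Ideal.pow_le_self hn.ne'
      rw [h] at this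
      exact (IsLocalRing.maximalIdeal.isMaximal A).ne_top (top_le_iff.mp this)
    haveI : Nontrivial (A ⧸ maximalIdeal A ^ n) := Ideal.Quotient.nontrivial_iff.mpr hne
    haveI : IsLocalRing (A ⧸ maximalIdeal A ^ n) :=
      IsLocalRing.of_surjective' (Ideal.Quotient.mk (maximalIdeal A ^ n))
        Ideal.Quotient.mk_surjective
    have hnil : IsNilpotent (maximalIdeal (A ⧸ maximalIdeal A ^ n)) := by
      have h1 : maximalIdeal (A ⧸ maximalIdeal A ^ n) =
          (maximalIdeal A).map (Ideal.Quotient.mk (maximalIdeal A ^ n)) :=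
        (IsLocalRing.map_maximalIdeal_of_surjective _ Ideal.Quotient.mk_surjective).symm
      refine ⟨n, ?_⟩
      rw [h1, ← Ideal.map_pow, Ideal.map_quotient_self]
      rfl
    haveI : IsNoetherianRing ((A ⧸ maximalIdeal A ^ n) ⊗[A] B) :=
      isNoetherianRing_of_surjective B _
        (Algebra.TensorProduct.includeRight : B →ₐ[A] (A ⧸ maximalIdeal A ^ n) ⊗[A] B).toRingHom
        (Algebra.TensorProduct.includeRight_surjective _ Ideal.Quotient.mk_surjective)
    haveI : Module.Flat (A ⧸ maximalIdeal A ^ n) ((A ⧸ maximalIdeal A ^ n) ⊗[A] B) :=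
      flat_of_formallySmooth_of_isNilpotent _ _ hnil
    exact Groth.Agent.Lib.Helper9.injOnTorsion_of_flat

end Local


open TensorProduct Function IsLocalRing CAlg


section Global

variable (A B : Type u) [CommRing A] [IsNoetherianRing A] [CommRing B] [Algebra A B]
  [IsNoetherianRing B]

theorem flat_of_formallySmooth_of_isLocalRing [IsLocalRing B] [Algebra.FormallySmooth A B] :
    Module.Flat A B := by
  let p : Ideal A := (maximalIdeal B).comap (algebraMap A B)
  haveI : p.IsPrime := Ideal.comap_isPrime _ _
  have hu : ∀ y : p.primeCompl, IsUnit (algebraMap A B y) := by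
    intro y
    have h1 : algebraMap A B y ∉ maximalIdeal B := y.2
    rw [IsLocalRing.mem_maximalIdeal, mem_nonunits_iff, not_not] at h1
    exact h1
  letI : Algebra (Localization.AtPrime p) B := (IsLocalization.lift hu).toAlgebra
  haveI : IsScalarTower A (Localization.AtPrime p) B :=
    IsScalarTower.of_algebraMap_eq (fun a => (IsLocalization.lift_eq hu a).symm)
  haveI : Algebra.FormallySmooth (Localization.AtPrime p) B :=
    Algebra.FormallySmooth.localization_base p.primeCompl
  haveI : IsNoetherianRing (Localization.AtPrime p) :=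
    IsLocalization.isNoetherianRing p.primeCompl _ inferInstance
  haveI : IsLocalHom (algebraMap (Localization.AtPrime p) B) := by
    refine ((IsLocalRing.local_hom_TFAE _).out 2 0).mp ?_
    rw [← Localization.AtPrime.map_eq_maximalIdeal, Ideal.map_map,
      ← IsScalarTower.algebraMap_eq]
    exact Ideal.map_comap_le
  haveI := flat_of_formallySmooth_local (Localization.AtPrime p) B
  exact Module.Flat.trans A (Localization.AtPrime p) B

theorem flat_of_formallySmooth [Algebra.FormallySmooth A B] : Module.Flat A B := by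
  refine Module.flat_of_isLocalized_maximal B B (fun P _ => Localization.AtPrime P)
    (fun P _ => Algebra.linearMap B (Localization.AtPrime P)) ?_
  intro P hP
  haveI : IsNoetherianRing (Localization.AtPrime P) :=
    IsLocalization.isNoetherianRing P.primeCompl _ inferInstance
  exact flat_of_formallySmooth_of_isLocalRing A (Localization.AtPrime P)

end Global

theorem geomRegular_of_formallySmooth (k F : Type u) [Field k] [CommRing F] [Algebra k F]
    [IsNoetherianRing F] [Algebra.FormallySmooth k F] : CAlg.IsGeometricallyRegular k F := by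
  intro k' _ _ hfin
  haveI : Algebra.EssFiniteType k k' := inferInstance
  haveI : IsNoetherianRing (k' ⊗[k] F) :=
    Groth.Agent.Lib.Helper23.GeomRegular2.isNoetherianRing_tensor_of_essFiniteType k'
  exact Groth.Agent.Lib.Helper23.FieldSep.isRegularRing_of_formallySmooth_field k' (k' ⊗[k] F)

end Groth.Agent.Lib.Helper23.FSmoothFlat
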