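import Mathlib
import Groth.Prelude.Def_EGA41
import Groth.Agent.Lib.Helper23.CohenRingExist
import Groth.Agent.Lib.Helper23.CohenRing
import Groth.Agent.Lib.Helper23.CohenEq
import Groth.Agent.Lib.Helper1.ArtFunPS

/-!
Flat lifting of a complete regular local ring over a Cohen ring: W_K[[T]] with W → W_K[[T]] (helper23; EGA 0_IV 19.7.2).
-/

set_option autoImplicit false
universe u


namespace Groth.Agent.Lib.Helper23.FlatLiftCohen


open IsLocalRing Function

section PS

variable {σ : Type*} {R S : Type*} [CommRing R] [CommRing S] (f : R →+* S)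

theorem map_surjective (hf : Surjective f) :
    Surjective (MvPowerSeries.map (σ := σ) f) := by
  intro G
  choose g hg using fun d => hf (MvPowerSeries.coeff d G)
  refine ⟨fun d => g d, ?_⟩
  ext d
  rw [MvPowerSeries.coeff_map]
  exact hg d

theorem ker_map_eq_span (p : R) (hker : RingHom.ker f = Ideal.span {p}) :
    RingHom.ker (MvPowerSeries.map (σ := σ) f) = Ideal.span {MvPowerSeries.C (σ := σ) p} := by
  apply le_antisymm
  · intro F hF
    have h1 : ∀ d, ∃ g : R, g * p = MvPowerSeries.coeff d F := by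
      intro d
      have h2 : MvPowerSeries.coeff d F ∈ RingHom.ker f := by
        rw [RingHom.mem_ker, ← MvPowerSeries.coeff_map, (RingHom.mem_ker).mp hF, map_zero]
      rw [hker] at h2
      exact Ideal.mem_span_singleton'.mp h2
    choose g hg using h1
    rw [Ideal.mem_span_singleton']
    refine ⟨fun d => g d, ?_⟩
    ext d
    rw [mul_comm, MvPowerSeries.coeff_C_mul, mul_comm]
    exact hg d
  · rw [Ideal.span_le, Set.singleton_subset_iff]
    have h3 : p ∈ RingHom.ker f := by rw [hker]; exact Ideal.subset_span rfl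
    show MvPowerSeries.map f (MvPowerSeries.C p) = 0
    rw [MvPowerSeries.map_C, (RingHom.mem_ker).mp h3, map_zero]

end PS

/-- a Cohen ring with residue field of characteristic `p`. -/
theorem exists_cohenRing_charP (K : Type u) [Field K] (p : ℕ) (hp : p.Prime) [CharP K p] :
    ∃ (V : Type u) (_ : CommRing V) (_ : IsLocalRing V) (_ : IsDomain V), IsNoetherianRing V ∧
      IsAdicComplete (maximalIdeal V) V ∧ maximalIdeal V = Ideal.span {(p : V)} ∧ (p : V) ≠ 0 ∧
      ∃ s : V →+* K, Surjective s ∧ RingHom.ker s = Ideal.span {(p : V)} := by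
  obtain ⟨V, _, _, hV, hVn, hVc, ⟨e⟩⟩ :=
    Groth.Agent.Lib.Helper23.CohenRingExist.exists_cohenRing K
  let s : V →+* K := (e : ResidueField V →+* K).comp (residue V)
  have hs : Surjective s := e.surjective.comp residue_surjective
  have hker : RingHom.ker s = maximalIdeal V := by
    rw [RingHom.ker_comp_of_injective _ e.injective]
    exact IsLocalRing.ker_residue
  have hsp : s (p : V) = 0 := by rw [map_natCast]; exact CharP.cast_eq_zero K p
  have hpm : (p : V) ∈ maximalIdeal V := by rw [← hker]; exact hsp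
  rcases hV with ⟨hF, hchar⟩ | ⟨hdom, hdvr, -, q, hq, hmax⟩
  · exfalso
    have h0 : maximalIdeal V = ⊥ := (IsLocalRing.isField_iff_maximalIdeal_eq).mp hF
    rw [h0, Ideal.mem_bot] at hpm
    exact hp.ne_zero (by exact_mod_cast hpm)
  · have hqp : q = p := by
      have h1 : (q : V) ∈ maximalIdeal V := by rw [hmax]; exact Ideal.subset_span rfl
      rw [← hker, RingHom.mem_ker, map_natCast] at h1
      have h2 : p ∣ q := (CharP.cast_eq_zero_iff K p q).mp h1
      exact ((Nat.prime_dvd_prime_iff_eq hp hq).mp h2).symm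
    subst hqp
    refine ⟨V, inferInstance, inferInstance, hdom, hVn, hVc, hmax, ?_, s, hs, by rw [hker, hmax]⟩
    intro h0
    rw [h0, Ideal.span_singleton_zero] at hmax
    exact IsDiscreteValuationRing.not_isField V ((IsLocalRing.isField_iff_maximalIdeal_eq).mpr hmax)



open IsLocalRing Function

variable {W B₀ : Type u} [CommRing W] [IsLocalRing W]
  [CommRing B₀] [IsRegularLocalRing B₀] [IsAdicComplete (maximalIdeal B₀) B₀]

/-- field case -/
theorem exists_flat_lift_field (hF : IsField W) (τ : W →+* B₀) :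
    ∃ (𝔅 : Type u) (_ : CommRing 𝔅) (_ : Algebra W 𝔅) (π : 𝔅 →+* B₀), Module.Flat W 𝔅 ∧
      Surjective π ∧ RingHom.ker π = (maximalIdeal W).map (algebraMap W 𝔅) ∧
      ∀ w, π (algebraMap W 𝔅 w) = τ w := by
  letI : Algebra W B₀ := τ.toAlgebra
  refine ⟨B₀, inferInstance, inferInstance, RingHom.id B₀, ?_, surjective_id, ?_, fun w => rfl⟩
  · letI := hF.toField
    infer_instance
  · have h0 : maximalIdeal W = ⊥ := (IsLocalRing.isField_iff_maximalIdeal_eq).mp hF
    rw [h0, Ideal.map_bot]
    ext x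
    simp [RingHom.mem_ker]

set_option maxHeartbeats 1000000 in
/-- Cohen ring case -/
theorem exists_flat_lift_cohen (hW : EGA41.IsCohenRingEGA W) (hC : CAlg.IsCohenRing W)
    (τ : W →+* B₀) (hτ : RingHom.ker τ = maximalIdeal W) :
    ∃ (𝔅 : Type u) (_ : CommRing 𝔅) (_ : Algebra W 𝔅) (π : 𝔅 →+* B₀), Module.Flat W 𝔅 ∧
      Surjective π ∧ RingHom.ker π = (maximalIdeal W).map (algebraMap W 𝔅) ∧
      ∀ w, π (algebraMap W 𝔅 w) = τ w := by
  obtain ⟨hdom, hdvr, -, p, hp, hmax⟩ := hC
  have hpW : (p : W) ∈ maximalIdeal W := by rw [hmax]; exact Ideal.subset_span rfl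
  have hpB : (p : B₀) = 0 := by
    rw [← hτ, RingHom.mem_ker, map_natCast] at hpW
    exact hpW
  haveI : CharP (ResidueField B₀) p := by
    rw [CharP.charP_iff_prime_eq_zero hp]
    have := congrArg (residue B₀) hpB
    rwa [map_natCast, map_zero] at this
  -- a coefficient field of `B₀`
  let φ : ResidueField W →+* B₀ := Ideal.Quotient.lift (maximalIdeal W) τ (fun a ha => by
    rw [← hτ] at ha; exact ha)
  obtain ⟨u, hu⟩ := Groth.Agent.Lib.Helper23.CohenEq.exists_section_of_field B₀ (ResidueField W) φ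
  obtain ⟨n, e, -⟩ := Groth.Agent.Lib.Helper23.CohenEq.exists_ringEquiv_powerSeries_of_regular B₀ u hu
  obtain ⟨V, _, _, hVdom, hVn, hVc, hVmax, hVp, s, hs, hsker⟩ :=
    exists_cohenRing_charP (ResidueField B₀) p hp
  let π : MvPowerSeries (Fin n) V →+* B₀ :=
    (e : MvPowerSeries (Fin n) (ResidueField B₀) →+* B₀).comp (MvPowerSeries.map s)
  have hπ : Surjective π := e.surjective.comp (map_surjective s hs)
  have hkerπ : RingHom.ker π = Ideal.span {(p : MvPowerSeries (Fin n) V)} := by
    rw [RingHom.ker_comp_of_injective _ e.injective, ker_map_eq_span s (p : V) hsker, map_natCast]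
  haveI : IsAdicComplete (maximalIdeal (MvPowerSeries (Fin n) V)) (MvPowerSeries (Fin n) V) :=
    Groth.Agent.Lib.Helper1.ArtFunLib.PS.isAdicComplete_mvPowerSeries
  have hJ : RingHom.ker π ≠ ⊤ := RingHom.ker_ne_top π
  haveI : Nontrivial (MvPowerSeries (Fin n) V ⧸ RingHom.ker π) :=
    Ideal.Quotient.nontrivial_iff.mpr hJ
  haveI : IsLocalRing (MvPowerSeries (Fin n) V ⧸ RingHom.ker π) :=
    IsLocalRing.of_surjective' (Ideal.Quotient.mk (RingHom.ker π)) Ideal.Quotient.mk_surjective
  let E := RingHom.quotientKerEquivOfSurjective hπ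
  let τ' : W →+* MvPowerSeries (Fin n) V ⧸ RingHom.ker π :=
    (E.symm : B₀ →+* MvPowerSeries (Fin n) V ⧸ RingHom.ker π).comp τ
  haveI : IsLocalHom τ' := by
    refine ⟨fun w hw => ?_⟩
    have h1 : IsUnit (τ w) := by
      have h2 := hw.map (E : MvPowerSeries (Fin n) V ⧸ RingHom.ker π →+* B₀)
      have h3 : (E : MvPowerSeries (Fin n) V ⧸ RingHom.ker π →+* B₀) (τ' w) = τ w :=
        E.apply_symm_apply (τ w)
      rwa [h3] at h2
    by_contra hnw
    have h4 : w ∈ RingHom.ker τ := by rw [hτ]; exact (IsLocalRing.mem_maximalIdeal w).mpr hnw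
    rw [(RingHom.mem_ker).mp h4] at h1
    exact not_isUnit_zero h1
  obtain ⟨v, hvloc, hv⟩ := Groth.Agent.Lib.Helper23.CohenRing.t2456main hW (RingHom.ker π) hJ τ'
  have hπv : ∀ w, π (v w) = τ w := by
    intro w
    have h5 : Ideal.Quotient.mk (RingHom.ker π) (v w) = τ' w := congrArg (fun f => f w) hv
    have h6 := congrArg E h5
    have h7 : E (τ' w) = τ w := E.apply_symm_apply (τ w)
    rw [h7] at h6
    rw [← h6]
    rfl
  letI : Algebra W (MvPowerSeries (Fin n) V) := v.toAlgebra
  haveI : IsDomain (MvPowerSeries (Fin n) V) := NoZeroDivisors.to_isDomain _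
  have hpne : (p : MvPowerSeries (Fin n) V) ≠ 0 := by
    intro h0
    apply hVp
    apply MvPowerSeries.C_injective (σ := Fin n)
    rw [map_natCast, map_zero]
    exact h0
  have hirr : Irreducible (p : W) := (IsDiscreteValuationRing.irreducible_iff_uniformizer _).mpr hmax
  have hvinj : Injective (algebraMap W (MvPowerSeries (Fin n) V)) := by
    rw [injective_iff_map_eq_zero]
    intro w hw
    by_contra hne
    obtain ⟨k, c, hc⟩ := IsDiscreteValuationRing.eq_unit_mul_pow_irreducible hne hirr
    have h8 : v w = v (c : W) * (p : MvPowerSeries (Fin n) V) ^ k := by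
      rw [hc, map_mul, map_pow, map_natCast]
    have h9 : v w = 0 := hw
    rw [h9] at h8
    have h10 : IsUnit (v (c : W)) := c.isUnit.map v
    rcases mul_eq_zero.mp h8.symm with h11 | h11
    · rw [h11] at h10
      exact not_isUnit_zero h10
    · exact pow_ne_zero k hpne h11
  haveI : Module.IsTorsionFree W (MvPowerSeries (Fin n) V) :=
    (Module.isTorsionFree_iff_algebraMap_injective).mpr hvinj
  refine ⟨MvPowerSeries (Fin n) V, inferInstance, inferInstance, π, inferInstance, hπ, ?_, hπv⟩
  rw [hkerπ, hmax, Ideal.map_span, Set.image_singleton]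
  congr 2
  show (p : MvPowerSeries (Fin n) V) = v (p : W)
  rw [map_natCast]

/-- **Flat lifting over a Cohen ring**: a complete regular local ring `B₀` receiving a map
`τ : W → B₀` from a Cohen ring with kernel `𝔪_W` is the reduction mod `𝔪_W` of a flat
Noetherian `W`-algebra. -/
theorem exists_flat_lift (hW : EGA41.IsCohenRingEGA W)
    (τ : W →+* B₀) (hτ : RingHom.ker τ = maximalIdeal W) :
    ∃ (𝔅 : Type u) (_ : CommRing 𝔅) (_ : Algebra W 𝔅) (π : 𝔅 →+* B₀), Module.Flat W 𝔅 ∧
      Surjective π ∧ RingHom.ker π = (maximalIdeal W).map (algebraMap W 𝔅) ∧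
      ∀ w, π (algebraMap W 𝔅 w) = τ w := by
  rcases hW with ⟨hF, -⟩ | hC
  · exact exists_flat_lift_field hF τ
  · exact exists_flat_lift_cohen (Or.inr hC) hC τ hτ

end Groth.Agent.Lib.Helper23.FlatLiftCohen
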