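import Mathlib
import Groth.Agent.Lib.Helper18.CST1
import Groth.Agent.Lib.Helper23.FlatLiftCohen
import Groth.Agent.Lib.Helper23.FlatLiftTensor

/-!
EGA 0_IV 19.7.2: existence of a flat complete Noetherian local A-algebra with prescribed complete regular closed fibre (helper23).
-/

set_option autoImplicit false
universe u


namespace Groth.Agent.Lib.Helper23.FlatLift


open IsLocalRing TensorProduct Function

/-- the fibre `k ⊗_A B` of an `A`-algebra `B` along a surjection `A → k` with kernel `m` is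
`B / mB`, given as a surjection `ε : B → B₀` with kernel `mB`. -/
theorem nonempty_fibre_algEquiv {A : Type u} [CommRing A] (m : Ideal A) {k : Type u} [CommRing k]
    [Algebra A k] (hk : Surjective (algebraMap A k)) (hker : RingHom.ker (algebraMap A k) = m)
    {B B₀ : Type u} [CommRing B] [Algebra A B] [CommRing B₀] [Algebra k B₀] (ε : B →+* B₀)
    (hε : Surjective ε) (hkerε : RingHom.ker ε = m.map (algebraMap A B))
    (hcompat : ∀ a, ε (algebraMap A B a) = algebraMap k B₀ (algebraMap A k a)) :
    Nonempty (k ⊗[A] B ≃ₐ[k] B₀) := by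
  letI : Algebra A B₀ := ((algebraMap k B₀).comp (algebraMap A k)).toAlgebra
  haveI : IsScalarTower A k B₀ := IsScalarTower.of_algebraMap_eq (fun a => rfl)
  let εₐ : B →ₐ[A] B₀ := ⟨ε, hcompat⟩
  let Ψ : k ⊗[A] B →ₐ[k] B₀ :=
    Algebra.TensorProduct.lift (Algebra.ofId k B₀) εₐ (fun _ _ => Commute.all _ _)
  have hΨ : ∀ (x : k) (b : B), Ψ (x ⊗ₜ b) = algebraMap k B₀ x * ε b := fun x b => by
    simp [Ψ, εₐ, Algebra.ofId_apply]
  have hzero : ∀ b : B, b ∈ m.map (algebraMap A B) → (1 : k) ⊗ₜ[A] b = 0 := by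
    intro b hb
    have hb' : b ∈ (m • ⊤ : Submodule A B) := by
      have := Ideal.smul_top_eq_map (R := A) (S := B) m
      rw [this]
      exact hb
    refine Submodule.smul_induction_on hb' (fun a ha x _ => ?_) (fun x y hx hy => ?_)
    · rw [← TensorProduct.smul_tmul, Algebra.smul_def, mul_one]
      have : algebraMap A k a = 0 := by rw [← RingHom.mem_ker, hker]; exact ha
      rw [this, TensorProduct.zero_tmul]
    · rw [TensorProduct.tmul_add, hx, hy, add_zero]
  have hsurjR : Surjective (Algebra.TensorProduct.includeRight : B →ₐ[A] k ⊗[A] B) :=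
    Algebra.TensorProduct.includeRight_surjective _ hk
  refine ⟨AlgEquiv.ofBijective Ψ ⟨?_, ?_⟩⟩
  · rw [injective_iff_map_eq_zero]
    intro z hz
    obtain ⟨b, rfl⟩ := hsurjR z
    rw [Algebra.TensorProduct.includeRight_apply, hΨ, map_one, one_mul] at hz
    rw [Algebra.TensorProduct.includeRight_apply]
    apply hzero
    rw [← hkerε]
    exact hz
  · intro y
    obtain ⟨b, rfl⟩ := hε y
    exact ⟨1 ⊗ₜ b, by rw [hΨ, map_one, one_mul]⟩



open IsLocalRing TensorProduct Function

set_option maxHeartbeats 1000000 in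
/-- **EGA 0_IV 19.7.2 (regular fibre form)**: a complete regular local ring `B₀` which is an
algebra over the residue field of a Noetherian local ring `A` lifts to a flat complete Noetherian
local `A`-algebra. -/
theorem exists_flat_complete_local {A : Type u} [CommRing A] [IsLocalRing A] [IsNoetherianRing A]
    (B₀ : Type u) [CommRing B₀] [IsRegularLocalRing B₀] [IsAdicComplete (maximalIdeal B₀) B₀]
    (θ₀ : A →+* B₀) (hθ₀ : maximalIdeal A ≤ RingHom.ker θ₀) :
    ∃ (B : Type u) (_ : CommRing B) (_ : IsLocalRing B) (_ : IsNoetherianRing B) (_ : Algebra A B)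
      (_ : IsLocalHom (algebraMap A B)) (ε : B →+* B₀),
      IsAdicComplete (maximalIdeal B) B ∧ Module.Flat A B ∧ Surjective ε ∧
      RingHom.ker ε = (maximalIdeal A).map (algebraMap A B) ∧
      ∀ a, ε (algebraMap A B a) = θ₀ a := by
  set m := maximalIdeal A with hm
  have hfg : m.FG := IsNoetherian.noetherian m
  letI : Field (A ⧸ m) := Ideal.Quotient.field m
  let θb : A ⧸ m →+* B₀ := Ideal.Quotient.lift m θ₀ hθ₀
  have hθb : Injective θb := RingHom.injective θb
  let θ : AdicCompletion m A →+* B₀ := θb.comp (AdicCompletion.evalOneₐ m).toRingHom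
  have hkerθ : RingHom.ker θ = m.map (algebraMap A (AdicCompletion m A)) := by
    rw [← AdicCompletion.ker_evalOneₐ_eq_map m hfg]
    exact RingHom.ker_comp_of_injective _ hθb
  have hθalg : ∀ a, θ (algebraMap A (AdicCompletion m A) a) = θ₀ a := by
    intro a
    have h5 : (AdicCompletion.evalOneₐ m).toRingHom (algebraMap A (AdicCompletion m A) a) =
        Ideal.Quotient.mk m a := (AdicCompletion.evalOneₐ m).commutes a
    have h6 : ∀ z, θ z = θb ((AdicCompletion.evalOneₐ m).toRingHom z) := fun z => rfl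
    rw [h6, h5]
    rfl
  -- the Cohen ring
  obtain ⟨W, _, _, v, hW, hWn, hWc, hvloc, hvs⟩ :=
    Groth.Agent.Lib.Helper18.CST.exists_cohenRing_hom (AdicCompletion m A)
  letI : Algebra W (AdicCompletion m A) := v.toAlgebra
  have hmax' : maximalIdeal (AdicCompletion m A) = m.map (algebraMap A (AdicCompletion m A)) :=
    AdicCompletion.maximalIdeal_eq_map
  have h2 : ∀ a' : AdicCompletion m A, ∃ w : W,
      a' - algebraMap W (AdicCompletion m A) w ∈ RingHom.ker θ := by
    intro a'
    obtain ⟨w, hw⟩ := hvs (residue _ a')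
    refine ⟨w, ?_⟩
    rw [hkerθ, ← hmax', ← IsLocalRing.ker_residue, RingHom.mem_ker, map_sub]
    have : residue (AdicCompletion m A) (algebraMap W (AdicCompletion m A) w) =
        residue (AdicCompletion m A) a' := hw
    rw [this, sub_self]
  let τ : W →+* B₀ := θ.comp (algebraMap W (AdicCompletion m A))
  have hτ : RingHom.ker τ = maximalIdeal W := by
    ext w
    rw [RingHom.mem_ker]
    have h7 : τ w = θ (v w) := rfl
    rw [h7, ← RingHom.mem_ker, hkerθ, ← hmax']
    have h8 := ((IsLocalRing.local_hom_TFAE v).out 0 4).mp hvloc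
    rw [← h8]
    rfl
  obtain ⟨𝔅, _, _, π, hflat, hπ, hkerπ, hπalg⟩ := Groth.Agent.Lib.Helper23.FlatLiftCohen.exists_flat_lift hW τ hτ
  have h3' : RingHom.ker π =
      (RingHom.ker (θ.comp (algebraMap W (AdicCompletion m A)))).map (algebraMap W 𝔅) := by
    rw [hkerπ, ← hτ]
  obtain ⟨B, hB1, hB2, hB3, hB4, hB5, ε, h1, h2', h3, h4, h5⟩ :=
    Groth.Agent.Lib.Helper23.FlatLiftTensor.exists_flat_complete (A := A) θ π hkerθ h2 hπ h3' hπalg
  exact ⟨B, hB1, hB2, hB3, hB4, hB5, ε, h1, h2', h3, h4, fun a => (h5 a).trans (hθalg a)⟩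

end Groth.Agent.Lib.Helper23.FlatLift
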