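import Mathlib
import Groth.Agent.Lib.Helper23.FSmoothFlat
import Groth.Agent.Lib.Helper9.FlatCrit2
import Groth.Agent.Lib.Helper23.FlatLift
import Groth.Agent.Lib.Helper23.GeomRegular
import Groth.Agent.Lib.Helper21.RegularLocal
import Groth.Agent.S7134
import Groth.Agent.S2462
import Groth.Agent.S4537
import Groth.Agent.S0548
import Groth.Agent.Lib.Helper23.KeyLemma3

/-!
EGA 0_IV 19.7.1 (helper23): a local homomorphism of Noetherian local rings formally smooth for the adic topology is flat with geometrically regular closed fibre. flat_of_injective_mod_local, isRegularLocalRing_quotient_of_adic, flat_of_adic, fibre_isLocalRing, geomRegular_fibre_of_adic.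
-/

set_option autoImplicit false
universe u


namespace Groth.Agent.Lib.Helper23.AdicSmoothFlat


open IsLocalRing TensorProduct Function

section Crit

variable {A : Type u} [CommRing A] [IsLocalRing A] [IsNoetherianRing A] {B : Type u} [CommRing B]
  [IsLocalRing B] [IsNoetherianRing B] [Algebra A B] [IsLocalHom (algebraMap A B)]
  {C : Type u} [AddCommGroup C] [Module A C] [Module.Flat A C]

/-- **Flatness by comparison** (EGA 0_IV 19.7.1.x): a Noetherian local `A`-algebra `B` (local
homomorphism) with a linear map `v` to a flat module `C` such that `B/𝔪B → C/𝔪C` is injective is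
flat. -/
theorem flat_of_injective_mod_local (v : B →ₗ[A] C)
    (hv : ∀ x : B, v x ∈ (maximalIdeal A • ⊤ : Submodule A C) →
      x ∈ (maximalIdeal A • ⊤ : Submodule A B)) : Module.Flat A B := by
  refine Groth.Agent.Lib.Helper9.flat_of_injOnTorsion_pow (S := B) (maximalIdeal A) ?_ ?_
  · rw [IsLocalRing.jacobson_eq_maximalIdeal ⊥ bot_ne_top]
    exact IsLocalRing.map_maximalIdeal_le (algebraMap A B)
  · intro n hn P Q _ _ _ _ hP hQ j hj
    rw [LinearMap.lTensor_inj_iff_rTensor_inj]
    have hP' : ∀ a ∈ maximalIdeal A ^ n, ∀ q : P, a • q = 0 := fun a ha q =>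
      hP (x := q) (a := ⟨a, ha⟩)
    have hQ' : ∀ a ∈ maximalIdeal A ^ n, ∀ q : Q, a • q = 0 := fun a ha q =>
      hQ (x := q) (a := ⟨a, ha⟩)
    have h1 := Groth.Agent.Lib.Helper23.FSmoothFlat.lTensor_injective_of_pow (maximalIdeal A) v hv n
      P hP'
    have h2 : Injective (j.rTensor C) := Module.Flat.rTensor_preserves_injective_linearMap j hj
    have h3 : (v.lTensor Q) ∘ₗ (j.rTensor B) = (j.rTensor C) ∘ₗ (v.lTensor P) := by
      ext p b
      simp
    have h4 : Injective ((v.lTensor Q) ∘ₗ (j.rTensor B)) := by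
      rw [h3]
      exact h2.comp h1
    exact Injective.of_comp h4

end Crit



open IsLocalRing TensorProduct Function

section Flat

variable {A B : Type u} [CommRing A] [CommRing B] [IsLocalRing A] [IsLocalRing B]
  [IsNoetherianRing A] [IsNoetherianRing B] [Algebra A B] [IsLocalHom (algebraMap A B)]

/-- the closed fibre `B/𝔪_A B` of an adically formally smooth local homomorphism is a regular
local ring. -/
theorem isRegularLocalRing_quotient_of_adic
    (h : CAlgX.IsAdicFormallySmooth A B (maximalIdeal B))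
    [IsLocalRing (B ⧸ (maximalIdeal A).map (algebraMap A B))] :
    IsRegularLocalRing (B ⧸ (maximalIdeal A).map (algebraMap A B)) := by
  letI : Field (A ⧸ maximalIdeal A) := Ideal.Quotient.field _
  have h1 := Groth.Agent.S7134.adic_quotient (maximalIdeal A) (maximalIdeal B) h
  have hreg : IsRegularRing (B ⧸ (maximalIdeal A).map (algebraMap A B)) := by
    refine Groth.Agent.Lib.Helper23.GeomRegular.isRegularRing_of_adic _ ?_ h1
    intro M hM
    rw [IsLocalRing.eq_maximalIdeal hM, Groth.Agent.Lib.Helper21.maximalIdeal_quotient_eq_map]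
  exact IsRegularLocalRing.of_isRegularRing_of_isLocalRing _

set_option maxHeartbeats 1000000 in
/-- **EGA 0_IV 19.7.1 (b) ⇒ flat**: a local homomorphism of Noetherian local rings which is
formally smooth for the adic topology is flat. -/
theorem flat_of_adic (h : CAlgX.IsAdicFormallySmooth A B (maximalIdeal B)) : Module.Flat A B := by
  set I := (maximalIdeal A).map (algebraMap A B) with hI
  have hIle : I ≤ maximalIdeal B := map_maximalIdeal_le (algebraMap A B)
  haveI : IsLocalRing (B ⧸ I) :=
    Groth.Agent.Lib.Helper21.isLocalRing_quotient_of_le_maximalIdeal hIle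
  haveI : IsRegularLocalRing (B ⧸ I) := isRegularLocalRing_quotient_of_adic h
  haveI : IsRegularLocalRing (AdicCompletion (maximalIdeal (B ⧸ I)) (B ⧸ I)) :=
    (Groth.Agent.S0548.result (B ⧸ I)).mp inferInstance
  let ι : B ⧸ I →+* AdicCompletion (maximalIdeal (B ⧸ I)) (B ⧸ I) := algebraMap _ _
  have hι : Injective ι := AdicCompletion.of_injective (maximalIdeal (B ⧸ I)) (B ⧸ I)
  have hιmax : ∀ y ∈ maximalIdeal (B ⧸ I),
      ι y ∈ maximalIdeal (AdicCompletion (maximalIdeal (B ⧸ I)) (B ⧸ I)) := by
    intro y hy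
    rw [AdicCompletion.maximalIdeal_eq_map]
    exact Ideal.mem_map_of_mem _ hy
  let θ₀ : A →+* AdicCompletion (maximalIdeal (B ⧸ I)) (B ⧸ I) :=
    ι.comp ((Ideal.Quotient.mk I).comp (algebraMap A B))
  have hθ₀ : maximalIdeal A ≤ RingHom.ker θ₀ := fun a ha => by
    rw [RingHom.mem_ker]
    show ι (Ideal.Quotient.mk I (algebraMap A B a)) = 0
    rw [Ideal.Quotient.eq_zero_iff_mem.mpr (Ideal.mem_map_of_mem _ ha), map_zero]
  obtain ⟨C, _, _, _, _, _, ε, hCc, hCflat, hε, hkerε, hεalg⟩ :=
    Groth.Agent.Lib.Helper23.FlatLift.exists_flat_complete_local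
      (AdicCompletion (maximalIdeal (B ⧸ I)) (B ⧸ I)) θ₀ hθ₀
  have hfs : EGA41.IsFormallySmoothAdic A ⊥ B (maximalIdeal B) :=
    (Groth.Agent.S4537.result _).mp h
  have hJ : RingHom.ker ε ≠ ⊤ := RingHom.ker_ne_top ε
  let E : C ⧸ RingHom.ker ε ≃+* AdicCompletion (maximalIdeal (B ⧸ I)) (B ⧸ I) :=
    RingHom.quotientKerEquivOfSurjective hε
  have hE : ∀ c, E (Ideal.Quotient.mk _ c) = ε c := fun c => rfl
  have hEsymm : ∀ c, E.symm (ε c) = Ideal.Quotient.mk _ c := fun c => by
    rw [← hE, RingEquiv.symm_apply_apply]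
  let u : B →ₐ[A] C ⧸ RingHom.ker ε :=
    { toRingHom := (E.symm : _ →+* C ⧸ RingHom.ker ε).comp (ι.comp (Ideal.Quotient.mk I))
      commutes' := fun a => by
        show E.symm (ι (Ideal.Quotient.mk I (algebraMap A B a))) = _
        have : ι (Ideal.Quotient.mk I (algebraMap A B a)) = ε (algebraMap A C a) := (hεalg a).symm
        rw [this, hEsymm]
        rfl }
  have hu1 : ∀ b, u b = E.symm (ι (Ideal.Quotient.mk I b)) := fun b => rfl
  have hu : (maximalIdeal B).map u.toRingHom ≤
      (maximalIdeal C).map (Ideal.Quotient.mk (RingHom.ker ε)) := by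
    rw [Ideal.map_le_iff_le_comap]
    intro b hb
    rw [Ideal.mem_comap]
    show u b ∈ _
    obtain ⟨c, hc⟩ := hε (ι (Ideal.Quotient.mk I b))
    rw [hu1, ← hc, hEsymm]
    apply Ideal.mem_map_of_mem
    rw [IsLocalRing.mem_maximalIdeal, mem_nonunits_iff]
    intro hcu
    have h1 := hcu.map ε
    rw [hc] at h1
    have h2 : ι (Ideal.Quotient.mk I b) ∈
        maximalIdeal (AdicCompletion (maximalIdeal (B ⧸ I)) (B ⧸ I)) := by
      apply hιmax
      rw [Groth.Agent.Lib.Helper21.maximalIdeal_quotient_eq_map]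
      exact Ideal.mem_map_of_mem _ hb
    exact (IsLocalRing.mem_maximalIdeal _).mp h2 h1
  obtain ⟨v, -, hv⟩ := Groth.Agent.S2462.result (⊥ : Ideal A) (maximalIdeal B) hfs (C := C)
    (by rw [Ideal.map_bot]; exact bot_le) (RingHom.ker ε) hJ u hu
  have hεv : ∀ x, ε (v x) = ι (Ideal.Quotient.mk I x) := by
    intro x
    have h3 : Ideal.Quotient.mk (RingHom.ker ε) (v x) = u x := AlgHom.congr_fun hv x
    rw [← hE, h3, hu1, RingEquiv.apply_symm_apply]
  refine flat_of_injective_mod_local v.toLinearMap (fun x hx => ?_)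
  have h4 : v x ∈ (maximalIdeal A).map (algebraMap A C) := by
    have := Ideal.smul_top_eq_map (R := A) (S := C) (maximalIdeal A)
    rw [this] at hx
    exact hx
  rw [← hkerε, RingHom.mem_ker, hεv] at h4
  have h5 : Ideal.Quotient.mk I x = 0 := hι (by rw [h4, map_zero])
  have h6 : x ∈ I := Ideal.Quotient.eq_zero_iff_mem.mp h5
  have := Ideal.smul_top_eq_map (R := A) (S := B) (maximalIdeal A)
  rw [this]
  exact h6

end Flat



open IsLocalRing TensorProduct Function

section Fibre

variable {A B : Type u} [CommRing A] [CommRing B] [IsLocalRing A] [IsLocalRing B]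
  [IsNoetherianRing B] [Algebra A B] [IsLocalHom (algebraMap A B)]

/-- the fibre `κ(𝔪_A) ⊗_A B` is a Noetherian local ring, with maximal ideal generated by
`𝔪_B`. -/
theorem fibre_isLocalRing :
    ∃ (_ : IsLocalRing ((maximalIdeal A).Fiber B)), IsNoetherianRing ((maximalIdeal A).Fiber B) ∧
      (maximalIdeal B).map (Algebra.TensorProduct.includeRight :
        B →ₐ[A] (maximalIdeal A).ResidueField ⊗[A] B) = maximalIdeal ((maximalIdeal A).Fiber B) := by
  set I := (maximalIdeal A).map (algebraMap A B) with hI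
  have hIle : I ≤ maximalIdeal B := map_maximalIdeal_le (algebraMap A B)
  haveI : IsLocalRing (B ⧸ I) :=
    Groth.Agent.Lib.Helper21.isLocalRing_quotient_of_le_maximalIdeal hIle
  have hsurj : Surjective (Algebra.TensorProduct.includeRight :
      B →ₐ[A] (maximalIdeal A).ResidueField ⊗[A] B) :=
    Algebra.TensorProduct.includeRight_surjective _
      (Ideal.algebraMap_residueField_surjective (maximalIdeal A))
  let e : A ⧸ maximalIdeal A ≃+* (maximalIdeal A).ResidueField :=
    RingEquiv.ofBijective (algebraMap (A ⧸ maximalIdeal A) (maximalIdeal A).ResidueField)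
      (Ideal.bijective_algebraMap_quotient_residueField (maximalIdeal A))
  letI : Algebra (maximalIdeal A).ResidueField (B ⧸ I) :=
    ((algebraMap (A ⧸ maximalIdeal A) (B ⧸ I)).comp
      (e.symm : (maximalIdeal A).ResidueField →+* A ⧸ maximalIdeal A)).toAlgebra
  have hcompat : ∀ a, Ideal.Quotient.mk I (algebraMap A B a) =
      algebraMap (maximalIdeal A).ResidueField (B ⧸ I)
        (algebraMap A (maximalIdeal A).ResidueField a) := by
    intro a
    have h1 : algebraMap A (maximalIdeal A).ResidueField a = e (Ideal.Quotient.mk _ a) := by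
      rw [IsScalarTower.algebraMap_apply A (A ⧸ maximalIdeal A) (maximalIdeal A).ResidueField]
      rfl
    show _ = algebraMap (A ⧸ maximalIdeal A) (B ⧸ I) (e.symm _)
    rw [h1, RingEquiv.symm_apply_apply]
    rfl
  obtain ⟨Φ⟩ := Groth.Agent.Lib.Helper23.FlatLift.nonempty_fibre_algEquiv (maximalIdeal A)
    (Ideal.algebraMap_residueField_surjective (maximalIdeal A))
    (Ideal.ker_algebraMap_residueField (maximalIdeal A)) (Ideal.Quotient.mk I)
    Ideal.Quotient.mk_surjective (by rw [Ideal.mk_ker]) hcompat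
  haveI : Nontrivial ((maximalIdeal A).Fiber B) := Φ.toEquiv.nontrivial
  haveI hloc : IsLocalRing ((maximalIdeal A).Fiber B) :=
    IsLocalRing.of_surjective' (Algebra.TensorProduct.includeRight :
      B →ₐ[A] (maximalIdeal A).ResidueField ⊗[A] B).toRingHom hsurj
  refine ⟨hloc, ?_, ?_⟩
  · exact isNoetherianRing_of_surjective B _ (Algebra.TensorProduct.includeRight :
      B →ₐ[A] (maximalIdeal A).ResidueField ⊗[A] B).toRingHom hsurj
  · exact map_maximalIdeal_of_surjective (Algebra.TensorProduct.includeRight :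
      B →ₐ[A] (maximalIdeal A).ResidueField ⊗[A] B).toRingHom hsurj

/-- **EGA 0_IV 19.7.1 (b) ⇒ fibre**: the closed fibre of an adically formally smooth local
homomorphism is geometrically regular. -/
theorem geomRegular_fibre_of_adic (h : CAlgX.IsAdicFormallySmooth A B (maximalIdeal B)) :
    CAlg.IsGeometricallyRegular (maximalIdeal A).ResidueField ((maximalIdeal A).Fiber B) := by
  obtain ⟨hloc, hN, hmax⟩ := fibre_isLocalRing (A := A) (B := B)
  have hF := Groth.Agent.Lib.Helper23.KeyLemma3.isAdicFormallySmooth_baseChange A B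
    (maximalIdeal A).ResidueField (maximalIdeal B) h
  rw [hmax] at hF
  exact (Groth.Agent.Lib.Helper23.GeomRegular.geomRegular_iff_adic).mpr hF

end Fibre

end Groth.Agent.Lib.Helper23.AdicSmoothFlat
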