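import Mathlib
import Groth.Prelude.Def_EGA41
import Groth.Agent.Lib.Helper23.PBasisField
import Groth.Agent.Lib.Helper23.PBasisDer

/-!
EGA 0_IV 21.8.? (S4549): existence of a cofinite admissible subfield. exists_finset_supported, derivation_eq_zero_of_mem_adjoin, derOfVanish, coField (k₀(K^p)(x_i : i ∉ J) for a p-basis), finite_coField, main.
-/

set_option autoImplicit false
universe u


namespace Groth.Agent.Lib.Helper23.Admissible

open EGA41 TensorProduct Groth.Agent.Lib.Helper23.PBasisField Groth.Agent.Lib.Helper23.PBasisDer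

/-- a finitely generated submodule of a free module is supported on finitely many basis vectors. -/
theorem exists_finset_supported {R M ι : Type*} [CommRing R] [AddCommGroup M] [Module R M]
    (b : Module.Basis ι R M) (N : Submodule R M) (hN : N.FG) :
    ∃ J : Finset ι, ∀ ω ∈ N, b.repr ω ∈ Finsupp.supported R R (J : Set ι) := by
  classical
  obtain ⟨s, hs⟩ := hN
  refine ⟨s.biUnion (fun ω => (b.repr ω).support), ?_⟩
  intro ω hω
  rw [← hs] at hω
  have : Submodule.span R (s : Set M) ≤
      (Finsupp.supported R R ((s.biUnion (fun ω => (b.repr ω).support) : Finset ι) : Set ι)).comap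
        b.repr.toLinearMap := by
    rw [Submodule.span_le]
    intro m hm
    rw [SetLike.mem_coe, Submodule.mem_comap, Finsupp.mem_supported]
    intro i hi
    rw [Finset.mem_coe, Finset.mem_biUnion]
    exact ⟨m, hm, hi⟩
  exact this hω

section Der

variable (p : ℕ) [Fact p.Prime] {k₀ K : Type u} [Field k₀] [Field K] [Algebra k₀ K] [CharP K p]

omit [Fact p.Prime] in
/-- a `k₀`-derivation vanishing on a set `S` vanishes on `k₀(S)`. -/
theorem derivation_eq_zero_of_mem_adjoin (D : Derivation k₀ K K) (S : Set K)
    (hS : ∀ s ∈ S, D s = 0) (c : K) (hc : c ∈ IntermediateField.adjoin k₀ S) : D c = 0 := by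
  induction hc using IntermediateField.adjoin_induction with
  | mem x hx => exact hS x hx
  | algebraMap x => exact D.map_algebraMap x
  | add x y _ _ hx hy => rw [map_add, hx, hy, add_zero]
  | inv x _ hx => rw [Derivation.leibniz_inv, hx, smul_zero]
  | mul x y _ _ hx hy => rw [Derivation.leibniz, hx, hy, smul_zero, smul_zero, add_zero]

/-- a `k₀`-derivation vanishing on an intermediate field `k` is a `k`-derivation. -/
noncomputable def derOfVanish (k : IntermediateField k₀ K) (D : Derivation k₀ K K)
    (h : ∀ c ∈ k, D c = 0) : Derivation k K K :=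
  Derivation.mk' ({ D.toLinearMap.toAddMonoidHom with
      map_smul' := fun a b => by
        show D (a • b) = a • D b
        rw [Algebra.smul_def, Derivation.leibniz]
        have : D (algebraMap k K a) = 0 := h _ a.2
        rw [this, smul_zero, add_zero, algebraMap_smul] } : K →ₗ[k] K)
    (fun a b => D.leibniz a b)

omit [Fact p.Prime] [CharP K p] in
theorem derOfVanish_apply (k : IntermediateField k₀ K) (D : Derivation k₀ K K)
    (h : ∀ c ∈ k, D c = 0) (y : K) : derOfVanish k D h y = D y := rfl

end Der


open EGA41 TensorProduct Groth.Agent.Lib.Helper23.PBasisField Groth.Agent.Lib.Helper23.PBasisDer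

section Main

variable (p : ℕ) [Fact p.Prime] {k₀ K L : Type u} [Field k₀] [Field K] [Field L]
    [Algebra k₀ K] [Algebra K L] [Algebra k₀ L] [IsScalarTower k₀ K L] [CharP K p]

/-- the cofinite subfield attached to a p-basis `T` and a finite subset `J`. -/
noncomputable def coField (T : Set K) (J : Finset T) : IntermediateField k₀ K :=
  IntermediateField.adjoin k₀ (Set.range (fun y : K => y ^ p) ∪ Subtype.val '' {i : T | i ∉ J})

theorem pow_mem_coField (T : Set K) (J : Finset T) (y : K) : y ^ p ∈ coField (k₀ := k₀) p T J :=
  IntermediateField.subset_adjoin _ _ (Or.inl ⟨y, rfl⟩)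

theorem mem_coField_of_notMem (T : Set K) (J : Finset T) (i : T) (hi : i ∉ J) :
    (i : K) ∈ coField (k₀ := k₀) p T J :=
  IntermediateField.subset_adjoin _ _ (Or.inr ⟨i, hi, rfl⟩)

theorem pPower_le_coField (T : Set K) (J : Finset T) (c : K) (hc : c ∈ pPowerSubfield p k₀ K) :
    c ∈ coField (k₀ := k₀) p T J := by
  have h1 : pPowerSubalgebra p k₀ K ≤ (coField (k₀ := k₀) p T J).toSubalgebra := by
    unfold pPowerSubalgebra
    rw [Algebra.adjoin_le_iff]
    rintro _ ⟨y, rfl⟩
    exact pow_mem_coField p T J y
  exact h1 hc

theorem finite_coField (T : Set K) (hT : IsPBasis p k₀ (Subtype.val : T → K)) (J : Finset T) :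
    Module.Finite (coField (k₀ := k₀) p T J) K := by
  classical
  have hint : ∀ x ∈ (Subtype.val '' (J : Set T) : Set K),
      IsIntegral (coField (k₀ := k₀) p T J) x := by
    intro x _
    refine ⟨Polynomial.X ^ p - Polynomial.C ⟨x ^ p, pow_mem_coField p T J x⟩,
      Polynomial.monic_X_pow_sub_C _ (Fact.out : p.Prime).ne_zero, ?_⟩
    simp
  haveI : Finite (Subtype.val '' (J : Set T) : Set K) := (J.finite_toSet.image _).to_subtype
  have hfin := IntermediateField.finiteDimensional_adjoin (K := coField (k₀ := k₀) p T J) hint
  have htop : IntermediateField.adjoin (coField (k₀ := k₀) p T J)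
      (Subtype.val '' (J : Set T) : Set K) = ⊤ := by
    rw [eq_top_iff]
    intro y _
    have hgen := (isPGenerating_iff p k₀ (Subtype.val : T → K)).mp hT.2
    have hy : y ∈ IntermediateField.adjoin (pPowerSubfield p k₀ K)
        (Set.range (Subtype.val : T → K)) := by rw [hgen]; trivial
    induction hy using IntermediateField.adjoin_induction with
    | mem x hx =>
      obtain ⟨i, rfl⟩ := hx
      by_cases hi : i ∈ J
      · exact IntermediateField.subset_adjoin _ _ ⟨i, hi, rfl⟩
      · exact IntermediateField.algebraMap_mem _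
          (⟨(i : K), mem_coField_of_notMem p T J i hi⟩ : coField (k₀ := k₀) p T J)
    | algebraMap x =>
      exact IntermediateField.algebraMap_mem _
        (⟨(x : K), pPower_le_coField p T J x.1 x.2⟩ : coField (k₀ := k₀) p T J)
    | add x y _ _ hx hy => exact add_mem (hx trivial) (hy trivial)
    | inv x _ hx => exact inv_mem (hx trivial)
    | mul x y _ _ hx hy => exact mul_mem (hx trivial) (hy trivial)
  rw [htop] at hfin
  exact Module.Finite.equiv (IntermediateField.topEquiv (F := coField (k₀ := k₀) p T J)
    (E := K)).toLinearEquiv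

end Main


open EGA41 TensorProduct Groth.Agent.Lib.Helper23.PBasisField Groth.Agent.Lib.Helper23.PBasisDer

section Main

variable (p : ℕ) [Fact p.Prime] {k₀ K L : Type u} [Field k₀] [Field K] [Field L]
    [Algebra k₀ K] [Algebra K L] [Algebra k₀ L] [IsScalarTower k₀ K L] [CharP K p]

theorem main [Module.Finite L (EGA41.imperfection k₀ K L)] :
    ∃ k : IntermediateField k₀ K, (∀ y : K, y ^ p ∈ k) ∧ Module.Finite k K ∧
      ∀ ω ∈ EGA41.imperfection k₀ K L,
        ((KaehlerDifferential.map k₀ k K K).restrictScalars K).baseChange L ω = 0 → ω = 0 := by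
  classical
  obtain ⟨T, hT⟩ := exists_isPBasis' p k₀ (K := K)
  obtain ⟨b, hb⟩ := exists_basis_kaehler p (Subtype.val : T → K) hT
  let bL := b.baseChange L
  have hfg : (EGA41.imperfection k₀ K L).FG := Module.Finite.iff_fg.mp inferInstance
  obtain ⟨J, hJ⟩ := exists_finset_supported bL (EGA41.imperfection k₀ K L) hfg
  refine ⟨coField p T J, pow_mem_coField p T J, finite_coField p T hT J, ?_⟩
  intro ω hω hzero
  have hsupp := hJ ω hω
  -- the coordinate functionals
  apply bL.repr.injective
  rw [map_zero]
  ext j
  rw [Finsupp.zero_apply]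
  by_cases hj : j ∈ J
  swap
  · by_contra hne
    have : j ∈ (bL.repr ω).support := Finsupp.mem_support_iff.mpr hne
    exact hj ((Finsupp.mem_supported _ _).mp hsupp this)
  obtain ⟨D, hD⟩ := exists_derivationA_of_pBasis p (Subtype.val : T → K) hT (L := K)
    (fun i => if i = j then 1 else 0)
  have hvan : ∀ c ∈ coField (k₀ := k₀) p T J, D c = 0 := by
    intro c hc
    refine derivation_eq_zero_of_mem_adjoin D _ ?_ c hc
    rintro s (⟨y, rfl⟩ | ⟨i, hi, rfl⟩)
    · exact derivation_eq_zero_of_mem_pPower p D _ (Algebra.subset_adjoin ⟨y, rfl⟩)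
    · rw [hD i, if_neg]
      rintro rfl
      exact hi hj
  let Dk := derOfVanish (coField (k₀ := k₀) p T J) D hvan
  let lam : L ⊗[K] Ω[K⁄(coField (k₀ := k₀) p T J)] →ₗ[L] L :=
    (TensorProduct.AlgebraTensorModule.rid K L L).toLinearMap ∘ₗ
      (Dk.liftKaehlerDifferential).baseChange L
  have hlam : ∀ ω' : L ⊗[K] Ω[K⁄k₀],
      lam (((KaehlerDifferential.map k₀ (coField (k₀ := k₀) p T J) K K).restrictScalars K).baseChange
        L ω') = bL.repr ω' j := by
    intro ω'
    induction ω' using TensorProduct.induction_on with
    | zero => simp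
    | add x y hx hy => rw [map_add, map_add, hx, hy, map_add, Finsupp.add_apply]
    | tmul l m =>
      rw [LinearMap.baseChange_tmul, Module.Basis.baseChange_repr_tmul]
      show (TensorProduct.AlgebraTensorModule.rid K L L)
        ((Dk.liftKaehlerDifferential).baseChange L (l ⊗ₜ[K] _)) = _
      rw [LinearMap.baseChange_tmul, TensorProduct.AlgebraTensorModule.rid_tmul]
      -- reduce to the basis
      have key : ∀ m : Ω[K⁄k₀], Dk.liftKaehlerDifferential
          (((KaehlerDifferential.map k₀ (coField (k₀ := k₀) p T J) K K).restrictScalars K) m) =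
          b.repr m j := by
        intro m
        have : (Dk.liftKaehlerDifferential ∘ₗ
            ((KaehlerDifferential.map k₀ (coField (k₀ := k₀) p T J) K K).restrictScalars K)) =
            (Finsupp.lapply j ∘ₗ b.repr.toLinearMap) := by
          apply b.ext
          intro i
          simp only [LinearMap.coe_comp, Function.comp_apply, LinearMap.coe_restrictScalars,
            LinearEquiv.coe_coe, Module.Basis.repr_self, Finsupp.lapply_apply]
          rw [hb i, KaehlerDifferential.map_D, Derivation.liftKaehlerDifferential_comp_D]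
          show D (algebraMap K K (i : K)) = _
          rw [Algebra.algebraMap_self, RingHom.id_apply, hD i, Finsupp.single_apply]
        exact congrArg (fun f => f m) this
      rw [key]
  rw [← hlam ω, hzero, map_zero]

end Main

end Groth.Agent.Lib.Helper23.Admissible
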