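import Mathlib
import Groth.Prelude.Def_EGA41
import Groth.Agent.Lib.Helper23.PBasisField
import Groth.Agent.Lib.Helper23.PBasisDer
import Groth.Agent.Lib.Helper23.Admissible
import Groth.Agent.Lib.Helper23.Cartier

/-!
EGA 0_IV 21.8.3–21.8.5 (S2475, S4545, S4546): decreasing filtered families of subfields and p-independence. Gen, PInd, inter_gen (intersection lemma), exists_pInd (a finite set p-free over the intersection is p-free over a member), G/G₀ (k'(K^p) as subfields), condA_iff, exists_derivation_of_pInd, Phi/lam, star (finitely generated submodules of L ⊗ Ω_{K/k₀} inject into L ⊗ Ω_{K/k_j} for large j), t2475 ((a) ⇔ (d)), exists_ext_pth_root, t4545 ((a) ⇔ (b)), Phi_eq_zero_of_le, exists_of_map_eq_zero, condD_ext, t4546.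
-/

set_option autoImplicit false
universe u


namespace Groth.Agent.Lib.Helper23.PFamily

open EGA41 Groth.Agent.Lib.Helper23.PBasisField

section FieldLevel

variable (p : ℕ) [Fact p.Prime] {K : Type u} [Field K] [CharP K p]

/-- the subfield generated by a subfield and a set. -/
def Gen (F₀ : Subfield K) (S : Set K) : Subfield K := Subfield.closure (↑F₀ ∪ S)

omit [Fact p.Prime] [CharP K p] in
theorem mem_adjoin_iff_gen (F₀ : Subfield K) (S : Set K) (x : K) :
    x ∈ IntermediateField.adjoin ↥F₀ S ↔ x ∈ Gen F₀ S := by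
  show x ∈ Subfield.closure (Set.range (algebraMap ↥F₀ K) ∪ S) ↔ _
  have : Set.range (algebraMap ↥F₀ K) = ↑F₀ := Subtype.range_coe
  rw [this]
  rfl

omit [Fact p.Prime] [CharP K p] in
theorem gen_mono {F₁ F₂ : Subfield K} (h : F₁ ≤ F₂) (S : Set K) : Gen F₁ S ≤ Gen F₂ S :=
  Subfield.closure_mono (Set.union_subset_union_left _ h)

omit [Fact p.Prime] [CharP K p] in
theorem le_gen (F₀ : Subfield K) (S : Set K) : F₀ ≤ Gen F₀ S :=
  fun _ hx => Subfield.subset_closure (Or.inl hx)

omit [Fact p.Prime] [CharP K p] in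
theorem subset_gen (F₀ : Subfield K) (S : Set K) : S ⊆ Gen F₀ S :=
  fun _ hx => Subfield.subset_closure (Or.inr hx)

/-- set-level p-independence over a subfield. -/
def PInd (F₀ : Subfield K) (T : Set K) : Prop := ∀ a ∈ T, a ∉ Gen F₀ (T \ {a})

omit [Fact p.Prime] [CharP K p] in
theorem pIndSet_iff (F₀ : Subfield K) (T : Set K) : PIndSet ↥F₀ T ↔ PInd F₀ T :=
  forall₂_congr (fun _ _ => not_congr (mem_adjoin_iff_gen F₀ _ _))

omit [Fact p.Prime] [CharP K p] in
theorem PInd.anti {F₁ F₂ : Subfield K} (h : F₁ ≤ F₂) {T : Set K} (hT : PInd F₂ T) : PInd F₁ T :=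
  fun a ha hmem => hT a ha (gen_mono h _ hmem)

omit [Fact p.Prime] [CharP K p] in
theorem PInd.subset {F₀ : Subfield K} {T T' : Set K} (h : T' ⊆ T) (hT : PInd F₀ T) : PInd F₀ T' :=
  fun a ha hmem => hT a (h ha) (Subfield.closure_mono
    (Set.union_subset_union_right _ (Set.diff_subset_diff_left h)) hmem)

variable {ι : Type*} [Preorder ι] [IsDirected ι (· ≤ ·)] [Nonempty ι] (F : ι → Subfield K)

omit [Nonempty ι] in
/-- the intersection lemma. -/
theorem inter_gen (hF : Antitone F) (hpow : ∀ i (y : K), y ^ p ∈ F i) (T' : Set K) (i₀ : ι)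
    (hT' : PInd (F i₀) T') (z : K) (hz : ∀ j, i₀ ≤ j → z ∈ Gen (F j) T') :
    z ∈ Gen (⨅ i, F i) T' := by
  classical
  have hpowj : ∀ j, ∀ y : K, y ^ p ∈ (algebraMap ↥(F j) K).range :=
    fun j y => ⟨⟨y ^ p, hpow j y⟩, rfl⟩
  have hli : LinearIndepOn ↥(F i₀) (pMonomial (id : K → K)) (redOn p T') :=
    (pIndSet_iff_linearIndepOn p (hpowj i₀) T').mp ((pIndSet_iff (F i₀) T').mpr hT')
  rw [linearIndepOn_iff] at hli
  -- expansions
  have hexp : ∀ j, i₀ ≤ j → ∃ l ∈ Finsupp.supported ↥(F i₀) ↥(F i₀) (redOn p T'),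
      Finsupp.linearCombination ↥(F i₀) (pMonomial (id : K → K)) l = z ∧
      ∀ e, ((l e : ↥(F i₀)) : K) ∈ F j := by
    intro j hj
    have h1 : z ∈ IntermediateField.adjoin ↥(F j) ((id : K → K) '' T') := by
      rw [Set.image_id]
      exact (mem_adjoin_iff_gen (F j) T' z).mpr (hz j hj)
    rw [mem_adjoin_iff p (hpowj j), Finsupp.mem_span_image_iff_linearCombination] at h1
    obtain ⟨l, hl, hlz⟩ := h1
    let incl : ↥(F j) → ↥(F i₀) := fun c => ⟨c.1, hF hj c.2⟩
    refine ⟨l.mapRange incl rfl, ?_, ?_, ?_⟩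
    · rw [Finsupp.mem_supported] at hl ⊢
      exact (Finset.coe_subset.mpr Finsupp.support_mapRange).trans hl
    · rw [← hlz, Finsupp.linearCombination_apply, Finsupp.linearCombination_apply,
        Finsupp.sum_mapRange_index (h := fun i (a : ↥(F i₀)) => a • pMonomial (id : K → K) i)
          (fun a => zero_smul _ _)]
      rfl
    · intro e
      rw [Finsupp.mapRange_apply]
      exact (l e).2
  obtain ⟨l₀, hl₀, hl₀z, -⟩ := hexp i₀ le_rfl
  have hcoef : ∀ e, ((l₀ e : ↥(F i₀)) : K) ∈ ⨅ i, F i := by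
    intro e
    rw [Subfield.mem_iInf]
    intro j
    obtain ⟨m, hm0, hmj⟩ := exists_ge_ge i₀ j
    obtain ⟨l, hl, hlz, hlm⟩ := hexp m hm0
    have : l = l₀ := by
      have h0 := hli (l - l₀) (sub_mem hl hl₀) (by rw [map_sub, hlz, hl₀z, sub_self])
      exact sub_eq_zero.mp h0
    rw [← this]
    exact hF hmj (hlm e)
  rw [← hl₀z, Finsupp.linearCombination_apply, Finsupp.sum]
  refine Subfield.sum_mem _ (fun e he => ?_)
  rw [Subfield.smul_def]
  refine mul_mem (le_gen _ _ (hcoef e)) ?_
  have he' : e ∈ redOn p T' := (Finsupp.mem_supported _ _).mp hl₀ he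
  exact pMonomial_mem_of_support (Gen (⨅ i, F i) T') id T' (fun i hi => subset_gen _ _ hi) e he'.2

end FieldLevel


open EGA41 Groth.Agent.Lib.Helper23.PBasisField

section FieldLevel

variable (p : ℕ) [Fact p.Prime] {K : Type u} [Field K] [CharP K p]
variable {ι : Type*} [Preorder ι] [IsDirected ι (· ≤ ·)] [Nonempty ι] (F : ι → Subfield K)

/-- a decreasing directed family of nonempty subsets of a finite set has a common element. -/
theorem exists_mem_all {α : Type*} [DecidableEq α] (A : ι → Finset α)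
    (hA : ∀ i j, i ≤ j → A j ⊆ A i) (hne : ∀ i, (A i).Nonempty) : ∃ a, ∀ i, a ∈ A i := by
  classical
  have hex : ∃ n, ∃ i, (A i).card = n := ⟨_, Classical.arbitrary ι, rfl⟩
  obtain ⟨i₁, hi₁⟩ := Nat.find_spec hex
  obtain ⟨a, ha⟩ := hne i₁
  refine ⟨a, fun j => ?_⟩
  obtain ⟨m, hm1, hmj⟩ := exists_ge_ge i₁ j
  have hsub : A m ⊆ A i₁ := hA _ _ hm1
  have hcard : (A i₁).card ≤ (A m).card := by
    rw [hi₁]
    exact Nat.find_min' hex ⟨m, rfl⟩
  have heq : A m = A i₁ := Finset.eq_of_subset_of_card_le hsub hcard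
  exact hA _ _ hmj (heq ▸ ha)

theorem exists_pInd_aux (hF : Antitone F) (hpow : ∀ i (y : K), y ^ p ∈ F i) :
    ∀ (n : ℕ) (T : Finset K), T.card = n → PInd (⨅ i, F i) (T : Set K) →
      ∃ i, PInd (F i) (T : Set K) := by
  classical
  intro n
  induction n with
  | zero =>
    intro T hT _
    rw [Finset.card_eq_zero] at hT
    subst hT
    exact ⟨Classical.arbitrary ι, fun a ha => absurd ha (by simp)⟩
  | succ n ih =>
    intro T hcard hT
    by_contra hcon
    push_neg at hcon
    have hbad : ∀ i, ∃ a ∈ T, a ∈ Gen (F i) ((T : Set K) \ {a}) := by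
      intro i
      have := hcon i
      unfold PInd at this
      push_neg at this
      obtain ⟨a, ha, hmem⟩ := this
      exact ⟨a, ha, hmem⟩
    let A : ι → Finset K := fun i => T.filter (fun a => a ∈ Gen (F i) ((T : Set K) \ {a}))
    have hA : ∀ i j, i ≤ j → A j ⊆ A i := by
      intro i j hij a ha
      rw [Finset.mem_filter] at ha ⊢
      exact ⟨ha.1, gen_mono (hF hij) _ ha.2⟩
    have hne : ∀ i, (A i).Nonempty := by
      intro i
      obtain ⟨a, ha, hmem⟩ := hbad i
      exact ⟨a, Finset.mem_filter.mpr ⟨ha, hmem⟩⟩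
    obtain ⟨a, ha⟩ := exists_mem_all A hA hne
    have haT : a ∈ T := (Finset.mem_filter.mp (ha (Classical.arbitrary ι))).1
    have hmem : ∀ j, a ∈ Gen (F j) ((T : Set K) \ {a}) := fun j => (Finset.mem_filter.mp (ha j)).2
    have hcoe : ((T.erase a : Finset K) : Set K) = (T : Set K) \ {a} := Finset.coe_erase a T
    have hcard' : (T.erase a).card = n := by
      rw [Finset.card_erase_of_mem haT, hcard]
      rfl
    have hsub : PInd (⨅ i, F i) ((T.erase a : Finset K) : Set K) :=
      hT.subset (by rw [hcoe]; exact Set.diff_subset)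
    obtain ⟨i₀, hi₀⟩ := ih (T.erase a) hcard' hsub
    rw [hcoe] at hi₀
    exact hT a haT (inter_gen p F hF hpow _ i₀ hi₀ a (fun j _ => hmem j))

/-- (c'): a finite set p-independent over the intersection is p-independent over some member
of the family (hence over all later ones). -/
theorem exists_pInd (hF : Antitone F) (hpow : ∀ i (y : K), y ^ p ∈ F i) (T : Finset K)
    (hT : PInd (⨅ i, F i) (T : Set K)) : ∃ i, ∀ j, i ≤ j → PInd (F j) (T : Set K) := by
  obtain ⟨i, hi⟩ := exists_pInd_aux p F hF hpow T.card T rfl hT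
  exact ⟨i, fun j hij => hi.anti (hF hij)⟩

end FieldLevel


open EGA41 TensorProduct Groth.Agent.Lib.Helper23.PBasisField Groth.Agent.Lib.Helper23.PBasisDer

section Bridge

variable (p : ℕ) [Fact p.Prime] {k₀ K : Type u} [Field k₀] [Field K] [Algebra k₀ K] [CharP K p]

/-- `k'(K^p)` as a subfield of `K`, for an intermediate field `k'`. -/
def G (k' : IntermediateField k₀ K) : Subfield K := pPowerSubfield p ↥k' K

variable (k₀) in
/-- `k₀(K^p)` as a subfield of `K`. -/
def G₀ : Subfield K := pPowerSubfield p k₀ K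

omit [CharP K p] in
theorem pow_mem_G (k' : IntermediateField k₀ K) (y : K) : y ^ p ∈ G p k' :=
  Algebra.subset_adjoin ⟨y, rfl⟩

omit [CharP K p] in
theorem mem_G_of_mem (k' : IntermediateField k₀ K) (c : K) (hc : c ∈ k') : c ∈ G p k' :=
  Subalgebra.algebraMap_mem (pPowerSubalgebra p ↥k' K) (⟨c, hc⟩ : ↥k')

omit [CharP K p] in
theorem mem_G_iff (k' : IntermediateField k₀ K) (c : K) :
    c ∈ G p k' ↔ c ∈ k' ⊔ IntermediateField.adjoin k₀ (Set.range fun y : K => y ^ p) := by
  constructor
  · have key : ∀ c ∈ Algebra.adjoin ↥k' (Set.range fun y : K => y ^ p),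
        c ∈ k' ⊔ IntermediateField.adjoin k₀ (Set.range fun y : K => y ^ p) := by
      intro c hc'
      induction hc' using Algebra.adjoin_induction with
      | mem x hx =>
        exact (le_sup_right : _ ≤ k' ⊔ _) (IntermediateField.subset_adjoin _ _ hx)
      | algebraMap a => exact (le_sup_left : k' ≤ k' ⊔ _) a.2
      | add x y _ _ hx hy => exact add_mem hx hy
      | mul x y _ _ hx hy => exact mul_mem hx hy
    exact fun hc => key c hc
  · intro hc
    let X : IntermediateField k₀ K := Subfield.toIntermediateField (G p k') (fun x =>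
      mem_G_of_mem p k' _ (k'.algebraMap_mem x))
    have hle : k' ⊔ IntermediateField.adjoin k₀ (Set.range fun y : K => y ^ p) ≤ X := by
      refine sup_le (fun a ha => mem_G_of_mem p k' a ha) ?_
      rw [IntermediateField.adjoin_le_iff]
      rintro _ ⟨y, rfl⟩
      exact pow_mem_G p k' y
    exact hle hc

omit [CharP K p] in
theorem mem_G₀_iff (c : K) :
    c ∈ G₀ p k₀ (K := K) ↔ c ∈ IntermediateField.adjoin k₀ (Set.range fun y : K => y ^ p) := by
  constructor
  · intro hc
    exact IntermediateField.algebra_adjoin_le_adjoin k₀ _ hc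
  · intro hc
    let X : IntermediateField k₀ K := Subfield.toIntermediateField (G₀ p k₀ (K := K)) (fun x =>
      Subalgebra.algebraMap_mem (pPowerSubalgebra p k₀ K) x)
    have hle : IntermediateField.adjoin k₀ (Set.range fun y : K => y ^ p) ≤ X := by
      rw [IntermediateField.adjoin_le_iff]
      rintro _ ⟨y, rfl⟩
      exact Algebra.subset_adjoin ⟨y, rfl⟩
    exact hle hc

omit [CharP K p] in
theorem G₀_le_G (k' : IntermediateField k₀ K) : G₀ p k₀ (K := K) ≤ G p k' := by
  intro c hc
  rw [mem_G₀_iff] at hc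
  rw [mem_G_iff]
  exact (le_sup_right : _ ≤ k' ⊔ _) hc

omit [CharP K p] in
theorem G_mono {k₁ k₂ : IntermediateField k₀ K} (h : k₁ ≤ k₂) : G p k₁ ≤ G p k₂ := by
  intro c hc
  rw [mem_G_iff] at hc ⊢
  exact sup_le_sup_right h _ hc

variable {ι : Type*} (k : ι → IntermediateField k₀ K)

omit [CharP K p] in
/-- condition (a) in terms of the subfields `G`. -/
theorem condA_iff :
    (⨅ i, k i ⊔ IntermediateField.adjoin k₀ (Set.range fun y : K => y ^ p)) =
        IntermediateField.adjoin k₀ (Set.range fun y : K => y ^ p) ↔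
      ∀ c : K, (∀ i, c ∈ G p (k i)) → c ∈ G₀ p k₀ (K := K) := by
  constructor
  · intro h c hc
    rw [mem_G₀_iff, ← h]
    have : c ∈ ((⨅ i, k i ⊔ IntermediateField.adjoin k₀ (Set.range fun y : K => y ^ p) :
        IntermediateField k₀ K) : Set K) := by
      rw [IntermediateField.coe_iInf, Set.mem_iInter]
      intro i
      exact (mem_G_iff p (k i) c).mp (hc i)
    exact this
  · intro h
    apply le_antisymm
    · intro c hc
      have hc' : c ∈ ((⨅ i, k i ⊔ IntermediateField.adjoin k₀ (Set.range fun y : K => y ^ p) :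
          IntermediateField k₀ K) : Set K) := hc
      rw [IntermediateField.coe_iInf, Set.mem_iInter] at hc'
      exact (mem_G₀_iff p c).mp (h c (fun i => (mem_G_iff p (k i) c).mpr (hc' i)))
    · exact le_iInf fun i => le_sup_right

omit [CharP K p] in
theorem iInf_G_eq (ha : ∀ c : K, (∀ i, c ∈ G p (k i)) → c ∈ G₀ p k₀ (K := K)) [Nonempty ι] :
    (⨅ i, G p (k i)) = G₀ p k₀ (K := K) := by
  apply le_antisymm
  · intro c hc
    rw [Subfield.mem_iInf] at hc
    exact ha c hc
  · exact le_iInf fun i => G₀_le_G p (k i)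

end Bridge

section KD

variable (p : ℕ) [Fact p.Prime] {K : Type u} [Field K] [CharP K p]

/-- a p-independent set admits "partial derivative" derivations. -/
theorem exists_derivation_of_pInd (k' : Type u) [Field k'] [Algebra k' K] (T : Set K)
    (hT : PIndSet (pPowerSubfield p k' K) T) (t₀ : K) (ht₀ : t₀ ∈ T) :
    ∃ D : Derivation k' K K, D t₀ = 1 ∧ ∀ t ∈ T, t ≠ t₀ → D t = 0 := by
  classical
  have hL : IsPIndependent p k' (Subtype.val : T → K) := (isPIndependent_val_iff p k' T).mpr hT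
  have hS : IsPGenerating p k' (Subtype.val : ↥(Set.univ : Set K) → K) :=
    (isPGenerating_val_iff p k' _).mpr (by
      rw [eq_top_iff]; intro m _; exact IntermediateField.subset_adjoin _ _ (Set.mem_univ m))
  obtain ⟨B, hTB, -, hB⟩ := exists_isPBasis p k' (Set.univ : Set K) T (Set.subset_univ _) hS hL
  obtain ⟨D, hD⟩ := exists_derivationA_of_pBasis p (Subtype.val : B → K) hB (L := K)
    (fun t => if t.1 = t₀ then 1 else 0)
  refine ⟨D, ?_, ?_⟩
  · have := hD ⟨t₀, hTB ht₀⟩
    simpa using this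
  · intro t ht hne
    have := hD ⟨t, hTB ht⟩
    simpa [hne] using this

end KD


open EGA41 TensorProduct Groth.Agent.Lib.Helper23.PBasisField Groth.Agent.Lib.Helper23.PBasisDer
open Groth.Agent.Lib.Helper23.Admissible

section Func

variable {k₀ K L : Type u} [Field k₀] [Field K] [Field L] [Algebra k₀ K] [Algebra K L]

/-- the comparison map `L ⊗ Ω_{K/k₀} → L ⊗ Ω_{K/k'}`. -/
noncomputable abbrev Phi (L : Type u) [Field L] [Algebra K L] (k' : IntermediateField k₀ K) :
    L ⊗[K] Ω[K⁄k₀] →ₗ[L] L ⊗[K] Ω[K⁄k'] :=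
  ((KaehlerDifferential.map k₀ k' K K).restrictScalars K).baseChange L

/-- the functional on `L ⊗ Ω_{K/k'}` attached to a `k'`-derivation of `K`. -/
noncomputable def lam (L : Type u) [Field L] [Algebra K L] {k' : IntermediateField k₀ K}
    (D : Derivation k' K K) : L ⊗[K] Ω[K⁄k'] →ₗ[L] L :=
  (TensorProduct.AlgebraTensorModule.rid K L L).toLinearMap ∘ₗ
    (D.liftKaehlerDifferential).baseChange L

theorem lam_Phi_tmul {k' : IntermediateField k₀ K} (D : Derivation k' K K) (l : L) (c : K) :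
    lam L D (Phi L k' (l ⊗ₜ[K] KaehlerDifferential.D k₀ K c)) = l * algebraMap K L (D c) := by
  unfold lam Phi
  rw [LinearMap.baseChange_tmul, LinearMap.coe_comp, Function.comp_apply,
    LinearMap.baseChange_tmul, LinearEquiv.coe_coe,
    TensorProduct.AlgebraTensorModule.rid_tmul, LinearMap.coe_restrictScalars,
    KaehlerDifferential.map_D, Derivation.liftKaehlerDifferential_comp_D,
    Algebra.algebraMap_self, RingHom.id_apply, Algebra.smul_def, mul_comm]

/-- `lam ∘ Phi` in coordinates. -/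
theorem lam_Phi_eq {k' : IntermediateField k₀ K} (D : Derivation k' K K) {B : Set K}
    (b : Module.Basis B K (Ω[K⁄k₀])) (hb : ∀ t, b t = KaehlerDifferential.D k₀ K t.1)
    (ω : L ⊗[K] Ω[K⁄k₀]) :
    lam L D (Phi L k' ω) =
      Finsupp.linearCombination L (fun t : B => algebraMap K L (D t.1)) ((b.baseChange L).repr ω) := by
  have : (lam L D ∘ₗ Phi L k') =
      (Finsupp.linearCombination L (fun t : B => algebraMap K L (D t.1))) ∘ₗ
        ((b.baseChange L).repr : L ⊗[K] Ω[K⁄k₀] →ₗ[L] (B →₀ L)) := by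
    apply (b.baseChange L).ext
    intro t
    rw [LinearMap.coe_comp, Function.comp_apply, LinearMap.coe_comp, Function.comp_apply,
      LinearEquiv.coe_coe, Module.Basis.repr_self, Module.Basis.baseChange_apply, hb t,
      lam_Phi_tmul, one_mul, Finsupp.linearCombination_single, one_smul]
  exact congrArg (fun f => f ω) this

end Func

section Star

variable (p : ℕ) [Fact p.Prime] {k₀ K : Type u} [Field k₀] [Field K] [Algebra k₀ K] [CharP K p]
  {ι : Type*} [Preorder ι] [IsDirected ι (· ≤ ·)] [Nonempty ι]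
  (k : ι → IntermediateField k₀ K)

/-- (★): under condition (a), every finitely generated submodule of `L ⊗ Ω_{K/k₀}` injects into
`L ⊗ Ω_{K/k_j}` for all large `j`. -/
theorem star (hk : Antitone k)
    (ha : ∀ c : K, (∀ i, c ∈ G p (k i)) → c ∈ G₀ p k₀ (K := K))
    (L : Type u) [Field L] [Algebra K L]
    (V : Submodule L (L ⊗[K] Ω[K⁄k₀])) (hV : V.FG) :
    ∃ i, ∀ j, i ≤ j → ∀ ω ∈ V, Phi L (k j) ω = 0 → ω = 0 := by
  classical
  obtain ⟨B, hB⟩ := exists_isPBasis' p k₀ (K := K)
  obtain ⟨b, hb⟩ := exists_basis_kaehler p (Subtype.val : B → K) hB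
  obtain ⟨J, hJ⟩ := exists_finset_supported (b.baseChange L) V hV
  let T : Finset K := J.image Subtype.val
  have hTB : (T : Set K) ⊆ B := by
    intro t ht
    rw [Finset.mem_coe, Finset.mem_image] at ht
    obtain ⟨s, _, rfl⟩ := ht
    exact s.2
  have hBind : PInd (G₀ p k₀ (K := K)) B :=
    (pIndSet_iff _ B).mp ((isPIndependent_val_iff p k₀ B).mp hB.1)
  have hT0 : PInd (⨅ i, G p (k i)) (T : Set K) := by
    rw [iInf_G_eq p k ha]
    exact hBind.subset hTB
  obtain ⟨i, hi⟩ := exists_pInd p (fun i => G p (k i)) (fun i j hij => G_mono p (hk hij))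
    (fun i y => pow_mem_G p (k i) y) T hT0
  refine ⟨i, fun j hij ω hω hzero => ?_⟩
  have hTj : PIndSet (pPowerSubfield p ↥(k j) K) (T : Set K) := (pIndSet_iff _ _).mpr (hi j hij)
  have hsupp := hJ ω hω
  apply (b.baseChange L).repr.injective
  rw [map_zero]
  ext t₀
  rw [Finsupp.zero_apply]
  by_cases ht₀ : t₀ ∈ J
  swap
  · by_contra hne
    exact ht₀ ((Finsupp.mem_supported _ _).mp hsupp (Finsupp.mem_support_iff.mpr hne))
  have ht₀T : t₀.1 ∈ (T : Set K) := by
    rw [Finset.mem_coe, Finset.mem_image]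
    exact ⟨t₀, ht₀, rfl⟩
  obtain ⟨D, hD1, hD0⟩ := exists_derivation_of_pInd p ↥(k j) (T : Set K) hTj t₀.1 ht₀T
  have h1 := lam_Phi_eq (L := L) D b hb ω
  rw [hzero, map_zero, Finsupp.linearCombination_apply, Finsupp.sum] at h1
  rw [Finset.sum_eq_single t₀] at h1
  · rw [hD1, map_one, smul_eq_mul, mul_one] at h1
    exact h1.symm
  · intro t ht hne
    have htJ : t ∈ J := (Finsupp.mem_supported _ _).mp hsupp ht
    have htT : t.1 ∈ (T : Set K) := by
      rw [Finset.mem_coe, Finset.mem_image]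
      exact ⟨t, htJ, rfl⟩
    rw [hD0 t.1 htT (fun h => hne (Subtype.ext h)), map_zero, smul_zero]
  · intro hnot
    rw [Finsupp.notMem_support_iff.mp hnot, zero_smul]

end Star


open EGA41 TensorProduct Groth.Agent.Lib.Helper23.PBasisField Groth.Agent.Lib.Helper23.PBasisDer
open Groth.Agent.Lib.Helper23.Admissible

section D

variable (p : ℕ) [Fact p.Prime] {k₀ K : Type u} [Field k₀] [Field K] [Algebra k₀ K] [CharP K p]
  {ι : Type*} [Preorder ι] [IsDirected ι (· ≤ ·)] [Nonempty ι]
  (k : ι → IntermediateField k₀ K)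

/-- elements outside `k₀(K^p)` have nonzero differential. -/
theorem D_ne_zero_of_notMem (c : K) (hc : c ∉ G₀ p k₀ (K := K)) :
    KaehlerDifferential.D k₀ K c ≠ 0 := by
  have hind : PInd (G₀ p k₀ (K := K)) ({c} : Set K) := by
    intro a ha
    rw [Set.mem_singleton_iff] at ha
    subst ha
    rw [Set.diff_self]
    intro hmem
    apply hc
    have : Gen (G₀ p k₀ (K := K)) (∅ : Set K) = G₀ p k₀ (K := K) := by
      unfold Gen
      rw [Set.union_empty, Subfield.closure_eq]
    rw [this] at hmem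
    exact hmem
  obtain ⟨D, hD1, -⟩ := exists_derivation_of_pInd p k₀ ({c} : Set K)
    ((pIndSet_iff _ _).mpr hind) c rfl
  intro h0
  have := Derivation.liftKaehlerDifferential_comp_D D c
  rw [h0, map_zero, hD1] at this
  exact zero_ne_one this

omit [CharP K p] in
/-- elements of `k'(K^p)` have zero differential over `k'`. -/
theorem D_eq_zero_of_mem [CharP K p] (k' : IntermediateField k₀ K) (c : K) (hc : c ∈ G p k') :
    KaehlerDifferential.D k' K c = 0 :=
  derivation_eq_zero_of_mem_pPower p (KaehlerDifferential.D k' K) c hc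

theorem condD_of_condA (hk : Antitone k)
    (ha : ∀ c : K, (∀ i, c ∈ G p (k i)) → c ∈ G₀ p k₀ (K := K))
    (ω : Ω[K⁄k₀]) (hω : ∀ i, KaehlerDifferential.map k₀ (k i) K K ω = 0) : ω = 0 := by
  obtain ⟨i, hi⟩ := star p k hk ha K (Submodule.span K {(1 : K) ⊗ₜ[K] ω})
    (Submodule.fg_span_singleton _)
  have h1 := hi i le_rfl ((1 : K) ⊗ₜ[K] ω) (Submodule.mem_span_singleton_self _) (by
    unfold Phi
    rw [LinearMap.baseChange_tmul, LinearMap.coe_restrictScalars, hω i, TensorProduct.tmul_zero])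
  have h2 := congrArg (TensorProduct.lid K (Ω[K⁄k₀])) h1
  rw [TensorProduct.lid_tmul, one_smul, map_zero] at h2
  exact h2

theorem condA_of_condD
    (hd : ∀ ω : Ω[K⁄k₀], (∀ i, KaehlerDifferential.map k₀ (k i) K K ω = 0) → ω = 0)
    (c : K) (hc : ∀ i, c ∈ G p (k i)) : c ∈ G₀ p k₀ (K := K) := by
  by_contra hcon
  apply D_ne_zero_of_notMem p c hcon
  apply hd
  intro i
  rw [KaehlerDifferential.map_D, Algebra.algebraMap_self, RingHom.id_apply]
  exact D_eq_zero_of_mem p (k i) c (hc i)

theorem t2475 (hk : Antitone k) :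
    (⨅ i, k i ⊔ IntermediateField.adjoin k₀ (Set.range fun y : K => y ^ p)) =
        IntermediateField.adjoin k₀ (Set.range fun y : K => y ^ p) ↔
      ∀ ω : Ω[K⁄k₀], (∀ i, KaehlerDifferential.map k₀ (k i) K K ω = 0) → ω = 0 := by
  rw [condA_iff]
  exact ⟨fun ha ω hω => condD_of_condA p k hk ha ω hω, fun hd c hc => condA_of_condD p k hd c hc⟩

end D


open EGA41 TensorProduct Groth.Agent.Lib.Helper23.PBasisField Groth.Agent.Lib.Helper23.PBasisDer
open Groth.Agent.Lib.Helper23.Admissible

section B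

variable (p : ℕ) [Fact p.Prime] {k₀ K : Type u} [Field k₀] [Field K] [Algebra k₀ K] [CharP K p]
  {ι : Type*} [Preorder ι] [IsDirected ι (· ≤ ·)] [Nonempty ι]
  (k : ι → IntermediateField k₀ K)

include p in
/-- for `c ∈ K` there is a finite extension `L` of `K` in which `c` becomes a `p`-th power, so that
`1 ⊗ dc` lies in the imperfection module. -/
theorem exists_ext_pth_root (c : K) :
    ∃ (L : Type u) (_ : Field L) (_ : Algebra K L) (_ : Algebra k₀ L) (_ : IsScalarTower k₀ K L),
      Module.Finite L (EGA41.imperfection k₀ K L) ∧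
        (1 : L) ⊗ₜ[K] KaehlerDifferential.D k₀ K c ∈ EGA41.imperfection k₀ K L := by
  have hp : p.Prime := Fact.out
  obtain ⟨γ, hγ⟩ := IsAlgClosed.exists_pow_nat_eq (algebraMap K (AlgebraicClosure K) c) hp.pos
  let L := ↥(IntermediateField.adjoin K {γ})
  letI : Algebra k₀ L := ((algebraMap K L).comp (algebraMap k₀ K)).toAlgebra
  haveI : IsScalarTower k₀ K L := IsScalarTower.of_algebraMap_eq (fun _ => rfl)
  have hint : IsIntegral K γ := Algebra.IsIntegral.isIntegral γ
  haveI : FiniteDimensional K L := IntermediateField.adjoin.finiteDimensional hint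
  haveI : Algebra.EssFiniteType K L := inferInstance
  refine ⟨L, inferInstance, inferInstance, inferInstance, inferInstance,
    (Groth.Agent.Lib.Helper23.Cartier.t4525main (k := k₀) (K := K) (L := L)).2.1, ?_⟩
  haveI : CharP L p := charP_of_injective_algebraMap (algebraMap K L).injective p
  let γL : L := ⟨γ, IntermediateField.mem_adjoin_simple_self K γ⟩
  have hγL : algebraMap K L c = γL ^ p := by
    apply Subtype.ext
    show algebraMap K (AlgebraicClosure K) c = γ ^ p
    exact hγ.symm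
  unfold EGA41.imperfection
  rw [LinearMap.mem_ker, KaehlerDifferential.mapBaseChange_tmul, one_smul,
    KaehlerDifferential.map_D, hγL, Derivation.leibniz_pow]
  have : (p : ℕ) • (γL ^ (p - 1) • KaehlerDifferential.D k₀ L γL) =
      ((p : ℕ) : L) • (γL ^ (p - 1) • KaehlerDifferential.D k₀ L γL) := by
    rw [Nat.cast_smul_eq_nsmul]
  rw [this, CharP.cast_eq_zero, zero_smul]

theorem condA_of_condB
    (hb : ∀ (L : Type u) [Field L] [Algebra K L] [Algebra k₀ L] [IsScalarTower k₀ K L],
        Module.Finite L (EGA41.imperfection k₀ K L) →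
          ∃ i, ∀ ω ∈ EGA41.imperfection k₀ K L,
            ((KaehlerDifferential.map k₀ (k i) K K).restrictScalars K).baseChange L ω = 0 → ω = 0)
    (c : K) (hc : ∀ i, c ∈ G p (k i)) : c ∈ G₀ p k₀ (K := K) := by
  by_contra hcon
  apply D_ne_zero_of_notMem p c hcon
  obtain ⟨L, _, _, _, _, hfin, hmem⟩ := exists_ext_pth_root p (k₀ := k₀) c
  obtain ⟨i, hi⟩ := hb L hfin
  have h0 := hi _ hmem (by
    rw [LinearMap.baseChange_tmul, LinearMap.coe_restrictScalars, KaehlerDifferential.map_D,
      Algebra.algebraMap_self, RingHom.id_apply, D_eq_zero_of_mem p (k i) c (hc i),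
      TensorProduct.tmul_zero])
  have hinj := Module.FaithfullyFlat.tensorProduct_mk_injective (A := K) (B := L) (Ω[K⁄k₀])
  apply hinj
  rw [map_zero]
  exact h0

theorem t4545 (hk : Antitone k) :
    (⨅ i, k i ⊔ IntermediateField.adjoin k₀ (Set.range fun y : K => y ^ p)) =
        IntermediateField.adjoin k₀ (Set.range fun y : K => y ^ p) ↔
      ∀ (L : Type u) [Field L] [Algebra K L] [Algebra k₀ L] [IsScalarTower k₀ K L],
        Module.Finite L (EGA41.imperfection k₀ K L) →
          ∃ i, ∀ ω ∈ EGA41.imperfection k₀ K L,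
            ((KaehlerDifferential.map k₀ (k i) K K).restrictScalars K).baseChange L ω = 0 →
              ω = 0 := by
  rw [condA_iff]
  constructor
  · intro ha L _ _ _ _ hfin
    obtain ⟨i, hi⟩ := star p k hk ha L (EGA41.imperfection k₀ K L) (Module.Finite.iff_fg.mp hfin)
    exact ⟨i, fun ω hω h0 => hi i le_rfl ω hω h0⟩
  · intro hb c hc
    exact condA_of_condB p k hb c hc

end B


open EGA41 TensorProduct Groth.Agent.Lib.Helper23.PBasisField Groth.Agent.Lib.Helper23.PBasisDer
open Groth.Agent.Lib.Helper23.Admissible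

section Mono

variable {k₀ K : Type u} [Field k₀] [Field K] [Algebra k₀ K]

/-- kernels of the comparison maps grow with the subfield. -/
theorem Phi_eq_zero_of_le (L : Type u) [Field L] [Algebra K L] {k₁ k₂ : IntermediateField k₀ K}
    (h : k₂ ≤ k₁) (η : L ⊗[K] Ω[K⁄k₀]) (hη : Phi L k₂ η = 0) : Phi L k₁ η = 0 := by
  letI : Algebra ↥k₂ ↥k₁ := (IntermediateField.inclusion h).toRingHom.toAlgebra
  haveI : IsScalarTower ↥k₂ ↥k₁ K := IsScalarTower.of_algebraMap_eq (fun _ => rfl)
  have hcomp : ((KaehlerDifferential.map k₀ k₁ K K).restrictScalars K) =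
      ((KaehlerDifferential.map k₂ k₁ K K).restrictScalars K) ∘ₗ
        ((KaehlerDifferential.map k₀ k₂ K K).restrictScalars K) := by
    apply Derivation.liftKaehlerDifferential_unique
    ext c
    simp
  unfold Phi at hη ⊢
  rw [hcomp, LinearMap.baseChange_comp, LinearMap.coe_comp, Function.comp_apply, hη, map_zero]

end Mono

section KerDesc

variable {k₀ K L : Type u} [Field k₀] [Field K] [Field L] [Algebra k₀ K] [Algebra K L]
  [Algebra k₀ L] [IsScalarTower k₀ K L]

/-- elements of `Ω_{L/k₀}` dying in `Ω_{L/k'_L}` come from the kernel of `Phi L k'`. -/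
theorem exists_of_map_eq_zero (k' : IntermediateField k₀ K) (ω : Ω[L⁄k₀])
    (hω : KaehlerDifferential.map k₀ (k'.map (IsScalarTower.toAlgHom k₀ K L)) L L ω = 0) :
    ∃ η : L ⊗[K] Ω[K⁄k₀], Phi L k' η = 0 ∧ KaehlerDifferential.mapBaseChange k₀ K L η = ω := by
  obtain ⟨ξ, rfl⟩ := (KaehlerDifferential.exact_mapBaseChange_map k₀
    (k'.map (IsScalarTower.toAlgHom k₀ K L)) L ω).mp hω
  have key : ∀ ζ : Ω[↥(k'.map (IsScalarTower.toAlgHom k₀ K L))⁄k₀], ∀ l : L,
      ∃ η : L ⊗[K] Ω[K⁄k₀], Phi L k' η = 0 ∧ KaehlerDifferential.mapBaseChange k₀ K L η =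
        KaehlerDifferential.mapBaseChange k₀ (k'.map (IsScalarTower.toAlgHom k₀ K L)) L
          (l ⊗ₜ ζ) := by
    intro ζ
    have hζ : ζ ∈ Submodule.span ↥(k'.map (IsScalarTower.toAlgHom k₀ K L))
        (Set.range (KaehlerDifferential.D k₀ ↥(k'.map (IsScalarTower.toAlgHom k₀ K L)))) := by
      rw [KaehlerDifferential.span_range_derivation]; trivial
    induction hζ using Submodule.span_induction with
    | mem x hx =>
      obtain ⟨c', rfl⟩ := hx
      intro l
      obtain ⟨c, hc, hcc'⟩ := c'.2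
      refine ⟨l ⊗ₜ[K] KaehlerDifferential.D k₀ K c, ?_, ?_⟩
      · unfold Phi
        rw [LinearMap.baseChange_tmul, LinearMap.coe_restrictScalars, KaehlerDifferential.map_D,
          Algebra.algebraMap_self, RingHom.id_apply]
        have : KaehlerDifferential.D (↥k') K c = 0 :=
          (KaehlerDifferential.D (↥k') K).map_algebraMap (⟨c, hc⟩ : ↥k')
        rw [this, TensorProduct.tmul_zero]
      · rw [KaehlerDifferential.mapBaseChange_tmul, KaehlerDifferential.mapBaseChange_tmul,
          KaehlerDifferential.map_D, KaehlerDifferential.map_D]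
        congr 2
    | zero =>
      intro l
      exact ⟨0, by simp, by simp⟩
    | add x y _ _ hx hy =>
      intro l
      obtain ⟨η₁, h1, h1'⟩ := hx l
      obtain ⟨η₂, h2, h2'⟩ := hy l
      exact ⟨η₁ + η₂, by rw [map_add, h1, h2, add_zero],
        by rw [map_add, h1', h2', TensorProduct.tmul_add, map_add]⟩
    | smul a x _ hx =>
      intro l
      obtain ⟨η, h1, h1'⟩ := hx (a • l)
      refine ⟨η, h1, ?_⟩
      rw [h1', TensorProduct.smul_tmul]
  clear hω
  induction ξ using TensorProduct.induction_on with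
  | zero => exact ⟨0, by simp, by simp⟩
  | tmul l ζ => exact key ζ l
  | add x y hx hy =>
    obtain ⟨η₁, h1, h1'⟩ := hx
    obtain ⟨η₂, h2, h2'⟩ := hy
    exact ⟨η₁ + η₂, by rw [map_add, h1, h2, add_zero], by rw [map_add, h1', h2', map_add]⟩

end KerDesc


open EGA41 TensorProduct Groth.Agent.Lib.Helper23.PBasisField Groth.Agent.Lib.Helper23.PBasisDer
open Groth.Agent.Lib.Helper23.Admissible

section Ext

variable (p : ℕ) [Fact p.Prime] {k₀ K L : Type u} [Field k₀] [Field K] [Field L]
  [Algebra k₀ K] [Algebra K L] [Algebra k₀ L] [IsScalarTower k₀ K L] [CharP K p] [CharP L p]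
  {ι : Type*} [Preorder ι] [IsDirected ι (· ≤ ·)] [Nonempty ι]
  (k : ι → IntermediateField k₀ K)

omit [CharP L p] in
theorem condD_ext (hk : Antitone k)
    (ha : ∀ c : K, (∀ i, c ∈ G p (k i)) → c ∈ G₀ p k₀ (K := K))
    [Module.Finite L (EGA41.imperfection k₀ K L)]
    (ω : Ω[L⁄k₀])
    (hω : ∀ i, KaehlerDifferential.map k₀ ((k i).map (IsScalarTower.toAlgHom k₀ K L)) L L ω = 0) :
    ω = 0 := by
  choose η hη1 hη2 using fun i => exists_of_map_eq_zero (k i) ω (hω i)
  obtain ⟨i₀, hi₀⟩ := star p k hk ha L (EGA41.imperfection k₀ K L)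
    (Module.Finite.iff_fg.mp inferInstance)
  have hconst : ∀ j, i₀ ≤ j → η j = η i₀ := by
    intro j hj
    have hmem : η j - η i₀ ∈ EGA41.imperfection k₀ K L := by
      unfold EGA41.imperfection
      rw [LinearMap.mem_ker, map_sub, hη2, hη2, sub_self]
    have hz : Phi L (k i₀) (η j - η i₀) = 0 := by
      rw [map_sub, hη1 i₀, Phi_eq_zero_of_le L (hk hj) (η j) (hη1 j), sub_zero]
    exact sub_eq_zero.mp (hi₀ i₀ le_rfl _ hmem hz)
  obtain ⟨i₁, hi₁⟩ := star p k hk ha L (Submodule.span L {η i₀}) (Submodule.fg_span_singleton _)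
  obtain ⟨j, hj0, hj1⟩ := exists_ge_ge i₀ i₁
  have h0 : η i₀ = 0 := by
    apply hi₁ j hj1 (η i₀) (Submodule.mem_span_singleton_self _)
    rw [← hconst j hj0]
    exact hη1 j
  rw [← hη2 i₀, h0, map_zero]

theorem t4546 (hk : Antitone k)
    (h : (⨅ i, k i ⊔ IntermediateField.adjoin k₀ (Set.range fun y : K => y ^ p)) =
      IntermediateField.adjoin k₀ (Set.range fun y : K => y ^ p))
    [Module.Finite L (EGA41.imperfection k₀ K L)] :
    (⨅ i, (k i).map (IsScalarTower.toAlgHom k₀ K L) ⊔
        IntermediateField.adjoin k₀ (Set.range fun y : L => y ^ p)) =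
      IntermediateField.adjoin k₀ (Set.range fun y : L => y ^ p) := by
  have ha := (condA_iff p k).mp h
  have hkL : Antitone (fun i => (k i).map (IsScalarTower.toAlgHom k₀ K L)) :=
    fun i j hij => IntermediateField.map_mono _ (hk hij)
  exact (t2475 p (fun i => (k i).map (IsScalarTower.toAlgHom k₀ K L)) hkL).mpr
    (fun ω hω => condD_ext p k hk ha ω hω)

end Ext

end Groth.Agent.Lib.Helper23.PFamily
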