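import Mathlib
import Groth.Agent.Lib.Helper23.FormalFibreCharP3

/-!
EGA 0_IV 21.8.8-type statement: for k of char p with p-basis B, the subrings G_i[[X^p]] (G_i = k^p(B minus i), i finite) of k[[X]] form a directed family of Noetherian subrings over which k[[X]] is finite free (basisRG, isNoetherianRing_RG), with intersection of fraction fields K^p (t4548main).
-/

set_option autoImplicit false
universe u


namespace Groth.Agent.Lib.Helper23.PowerSeriesCofinite


open MvPowerSeries EGA41 Groth.Agent.Lib.Helper23.PBasisField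
open Groth.Agent.Lib.Helper23.FormalFibreCharP

section A

variable (p : ℕ) [hp : Fact p.Prime] {k : Type u} [Field k] (n : ℕ)
  (G : Subfield k) {S : Type u} [Fintype S] (β : Module.Basis S ↥G k)

/-- the basis `β_s X^r` of `k[[X]]` over `G[[X^p]]`. -/
noncomputable def basisRG :
    Module.Basis (S × (Fin n → Fin p)) ↥(RG p n G) (MvPowerSeries (Fin n) k) := by
  classical
  refine Module.Basis.mk (v := fun sr : S × (Fin n → Fin p) =>
    (monomial (rhat p n sr.2) (β sr.1) : MvPowerSeries (Fin n) k)) ?_ ?_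
  · rw [Fintype.linearIndependent_iff]
    intro g hg sr
    have h1 : ∑ s : S, ∑ r : Fin n → Fin p,
        monomial (rhat p n r) (β s) * ((g (s, r) : ↥(RG p n G)) : MvPowerSeries (Fin n) k) = 0 := by
      rw [← hg, Fintype.sum_prod_type]
      refine Finset.sum_congr rfl fun s _ => Finset.sum_congr rfl fun r _ => ?_
      rw [Subring.smul_def, smul_eq_mul, mul_comm]
    have h2 := decomposition_unique p n G β (fun s r => ((g (s, r) : ↥(RG p n G)) :
      MvPowerSeries (Fin n) k)) (fun s r => (g (s, r)).2) h1 sr.1 sr.2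
    exact Subtype.ext h2
  · intro f _
    rw [decomposition p n G β f]
    refine Submodule.sum_mem _ fun s _ => Submodule.sum_mem _ fun r _ => ?_
    have h3 : monomial (rhat p n r) (β s) * comp p n G β f s r =
        (⟨comp p n G β f s r, comp_mem p n G β f s r⟩ : ↥(RG p n G)) •
          (monomial (rhat p n r) (β s) : MvPowerSeries (Fin n) k) := by
      rw [Subring.smul_def, smul_eq_mul, mul_comm]
    rw [h3]
    exact Submodule.smul_mem _ _ (Submodule.subset_span ⟨(s, r), rfl⟩)

theorem Xi_injective : Function.Injective (Xi p n G) := by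
  classical
  rw [injective_iff_map_eq_zero]
  intro g hg
  ext μ
  have h1 := congrArg (coeff (p • μ)) hg
  rw [coeff_Xi, map_zero] at h1
  have h2 : pdiv p n (p • μ) := fun j => by
    rw [Finsupp.smul_apply, smul_eq_mul]; exact dvd_mul_right _ _
  rw [if_pos h2] at h1
  have h3 : dv p n (p • μ) = μ := by
    ext j
    simp only [dv, Finsupp.mapRange_apply, Finsupp.smul_apply, smul_eq_mul]
    exact Nat.mul_div_cancel_left _ hp.out.pos
  rw [h3] at h1
  rw [map_zero]
  exact h1

theorem isNoetherianRing_RG : IsNoetherianRing ↥(RG p n G) := by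
  haveI : IsRegularLocalRing (MvPowerSeries (Fin n) ↥G) :=
    Groth.Agent.Lib.Helper1.ArtFunLib.isRegularLocalRing_mvPowerSeries ↥G n
  haveI : IsNoetherianRing (MvPowerSeries (Fin n) ↥G) := inferInstance
  have hbij : Function.Bijective (Xi p n G).rangeRestrict :=
    ⟨fun a b hab => Xi_injective p n G (by
        have := congrArg Subtype.val hab
        rwa [RingHom.coe_rangeRestrict, RingHom.coe_rangeRestrict] at this),
      RingHom.rangeRestrict_surjective _⟩
  exact isNoetherianRing_of_ringEquiv _ (RingEquiv.ofBijective _ hbij)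

end A



open MvPowerSeries EGA41 Groth.Agent.Lib.Helper23.PBasisField
open Groth.Agent.Lib.Helper23.FormalFibreCharP

theorem t4548main (p : ℕ) [hp : Fact p.Prime] (k : Type u) [Field k] [CharP k p]
    (r : ℕ) :
    ∃ (ι : Type u) (_ : Nonempty ι) (S : ι → Subring (MvPowerSeries (Fin r) k)),
      (∀ a b : ι, ∃ c, S c ≤ S a ⊓ S b) ∧
      (∀ i, IsNoetherianRing (S i) ∧ Module.Free (S i) (MvPowerSeries (Fin r) k) ∧ Module.Finite (S i) (MvPowerSeries (Fin r) k)) ∧
      ((⨅ i, Subfield.closure (algebraMap (MvPowerSeries (Fin r) k) (FractionRing (MvPowerSeries (Fin r) k)) '' (S i)) :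
          Set (FractionRing (MvPowerSeries (Fin r) k)))) =
        Set.range fun x : FractionRing (MvPowerSeries (Fin r) k) => x ^ p := by
  classical
  haveI : IsDomain (MvPowerSeries (Fin r) k) := NoZeroDivisors.to_isDomain _
  obtain ⟨𝔅, -, -, h𝔅, h𝔅top⟩ := exists_pIndSet_adjoin_eq_top (F := ↥(kp p k)) (K := k) p
    (hpow_kp p) ∅ Set.univ (Set.empty_subset _)
    (by intro a ha; exact absurd ha (Set.notMem_empty a))
    (by rw [eq_top_iff]; intro x _; exact IntermediateField.subset_adjoin _ _ (Set.mem_univ x))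
  refine ⟨{i : Finset k // (i : Set k) ⊆ 𝔅}, ⟨⟨∅, by simp⟩⟩,
    fun i => RG p r (kSub p 𝔅 (i.1 : Set k)), ?_, ?_, ?_⟩
  · intro a b
    refine ⟨⟨a.1 ∪ b.1, ?_⟩, le_inf (RG_mono p r (kSub_mono p 𝔅 ?_)) (RG_mono p r (kSub_mono p 𝔅 ?_))⟩
    · rw [Finset.coe_union]; exact Set.union_subset a.2 b.2
    · rw [Finset.coe_union]; exact Set.subset_union_left
    · rw [Finset.coe_union]; exact Set.subset_union_right
  · intro i
    obtain ⟨S, _, β, -⟩ := exists_basis_kSub p 𝔅 h𝔅 h𝔅top i.1 i.2
    exact ⟨isNoetherianRing_RG p r _, Module.Free.of_basis (basisRG p r _ β),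
      Module.Finite.of_basis (basisRG p r _ β)⟩
  · ext x
    rw [Set.iInf_eq_iInter, Set.mem_iInter]
    constructor
    · intro hx
      obtain ⟨y, hy⟩ := exists_pow_eq_of_forall_mem_FK p r 𝔅 h𝔅 h𝔅top
        (FractionRing (MvPowerSeries (Fin r) k)) x (fun i hi => hx ⟨i, hi⟩)
      exact ⟨y, hy⟩
    · rintro ⟨y, rfl⟩ i
      exact pow_mem_FK p r 𝔅 (FractionRing (MvPowerSeries (Fin r) k)) _ y

end Groth.Agent.Lib.Helper23.PowerSeriesCofinite
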