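import Mathlib
import Groth.Agent.Lib.Helper28.Chevalley
import Groth.Agent.Lib.Helper25.CompleteDVR
import Groth.Agent.Lib.Helper18.Nag6
import Groth.Agent.Lib.Helper9.SemiLocalProd
import Groth.Agent.Lib.Helper18.PMor4
import Groth.Agent.Lib.Helper23.CplRegular
import Groth.Agent.Lib.Helper18.PMor2
import Groth.Agent.Lib.Helper18.PMor3

/-!
EGA IV 7.5.1 for P = reduced (S4746): A → B flat local Noetherian, formal fibres of A geometrically reduced, closed fibre of A → B̂ geometrically reduced ⇒ all fibres of A → B geometrically reduced (no residue-finiteness needed). Key lemmas: isReduced_of_quotient_span_singleton (lift reducedness from B/(t), t regular in rad), isReduced_inf, isReduced_of_seq (Chevalley argument), infinite_height_one / exists_seq_primes (Noetherian local domain of dim ≥ 2 has a sequence of nonzero primes with zero intersection), isReduced_of_dimLEOne (normalization), isReduced_test (complete A, B flat Noetherian with 𝔪B ⊂ rad and geometrically reduced closed fibre ⇒ A₁ ⊗ B reduced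 for every finite domain A₁/A), isGeometricallyReduced_fiber_of_complete, compatibleSMul_cpl, main.
-/

set_option autoImplicit false
universe u


namespace Groth.Agent.Lib.Helper23.ReducedFibres

open IsLocalRing TensorProduct

section A1

variable {B : Type u} [CommRing B] [IsNoetherianRing B]

/-- lifting reducedness from the quotient by a regular element of the Jacobson radical. -/
theorem isReduced_of_quotient_span_singleton (t : B) (hreg : IsSMulRegular B t)
    (hjac : t ∈ Ideal.jacobson (⊥ : Ideal B)) (hred : IsReduced (B ⧸ Ideal.span {t})) :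
    IsReduced B := by
  have hN : nilradical B ≤ Ideal.span {t} • nilradical B := by
    intro x hx
    have hxn : IsNilpotent x := mem_nilradical.mp hx
    have h1 : IsNilpotent (Ideal.Quotient.mk (Ideal.span {t}) x) := hxn.map _
    have h2 : Ideal.Quotient.mk (Ideal.span {t}) x = 0 := hred.eq_zero _ h1
    rw [Ideal.Quotient.eq_zero_iff_mem, Ideal.mem_span_singleton'] at h2
    obtain ⟨y, hy⟩ := h2
    have hyn : IsNilpotent y := by
      obtain ⟨m, hm⟩ := hxn
      refine ⟨m, ?_⟩
      rw [← hy, mul_pow] at hm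
      have hreg' : IsSMulRegular B (t ^ m) := hreg.pow m
      apply hreg'
      show t ^ m • y ^ m = t ^ m • 0
      rw [smul_eq_mul, smul_eq_mul, mul_zero, mul_comm]
      exact hm
    rw [← hy, mul_comm]
    exact Submodule.smul_mem_smul (Ideal.mem_span_singleton_self t) (mem_nilradical.mpr hyn)
  have hbot : nilradical B = ⊥ :=
    Submodule.eq_bot_of_le_smul_of_le_jacobson_bot (Ideal.span {t}) (nilradical B)
      (IsNoetherian.noetherian _) hN
      ((Ideal.span_singleton_le_iff_mem _).mpr hjac)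
  exact nilradical_eq_bot_iff.mp hbot

/-- Krull intersection for ideals in the Jacobson radical. -/
theorem iInf_pow_eq_bot_of_le_jacobson (I : Ideal B) (h : I ≤ Ideal.jacobson ⊥) :
    ⨅ i : ℕ, I ^ i = ⊥ := by
  have := Ideal.iInf_pow_smul_eq_bot_of_le_jacobson (M := B) I h
  simpa using this

end A1


open IsLocalRing TensorProduct

section B

variable (A : Type u) [CommRing A] [IsLocalRing A]
  (B : Type u) [CommRing B] [IsNoetherianRing B] [Algebra A B]
  (A₁ : Type u) [CommRing A₁] [Algebra A A₁] [Module.Finite A A₁]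

theorem isNoetherianRing_tensor : IsNoetherianRing (A₁ ⊗[A] B) := by
  haveI : Module.Finite B (B ⊗[A] A₁) := inferInstance
  haveI : IsNoetherianRing (B ⊗[A] A₁) := IsNoetherianRing.of_finite B _
  exact isNoetherianRing_of_ringEquiv (B ⊗[A] A₁) (Algebra.TensorProduct.comm A B A₁).toRingEquiv

attribute [local instance] Algebra.TensorProduct.rightAlgebra in
theorem comap_includeRight_isMaximal (M : Ideal (A₁ ⊗[A] B)) [M.IsMaximal] :
    (M.comap ((Algebra.TensorProduct.includeRight : B →ₐ[A] A₁ ⊗[A] B) :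
      B →+* A₁ ⊗[A] B)).IsMaximal := by
  haveI : Module.Finite B (A₁ ⊗[A] B) :=
    Module.Finite.equiv (Algebra.TensorProduct.commRight A B A₁).toLinearEquiv
  haveI : Algebra.IsIntegral B (A₁ ⊗[A] B) := inferInstance
  exact Ideal.isMaximal_comap_of_isIntegral_of_isMaximal (R := B) M

variable [IsLocalRing A₁]

theorem map_maximalIdeal_le_jacobson
    (hrad : (maximalIdeal A).map (algebraMap A B) ≤ Ideal.jacobson ⊥) :
    (maximalIdeal A₁).map (algebraMap A₁ (A₁ ⊗[A] B)) ≤ Ideal.jacobson ⊥ := by
  refine le_sInf ?_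
  rintro M ⟨-, hM⟩
  haveI := hM
  have hM' := comap_includeRight_isMaximal A B A₁ M
  set M' := M.comap ((Algebra.TensorProduct.includeRight : B →ₐ[A] A₁ ⊗[A] B) :
      B →+* A₁ ⊗[A] B) with hM'def
  have h1 : (maximalIdeal A).map (algebraMap A B) ≤ M' :=
    hrad.trans (sInf_le ⟨bot_le, hM'⟩)
  set q := M.comap (algebraMap A₁ (A₁ ⊗[A] B)) with hq
  haveI : q.IsPrime := Ideal.comap_isPrime _ _
  have h2 : q.comap (algebraMap A A₁) = M'.comap (algebraMap A B) := by
    rw [hq, hM'def, Ideal.comap_comap, Ideal.comap_comap]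
    congr 1
    ext a
    simp only [RingHom.comp_apply, AlgHom.coe_toRingHom, Algebra.TensorProduct.includeRight_apply,
      Algebra.TensorProduct.algebraMap_apply, Algebra.algebraMap_self, RingHom.id_apply]
    rw [Algebra.algebraMap_eq_smul_one, Algebra.algebraMap_eq_smul_one, TensorProduct.smul_tmul]
  have h3 : maximalIdeal A ≤ M'.comap (algebraMap A B) := Ideal.map_le_iff_le_comap.mp h1
  have h4 : M'.comap (algebraMap A B) = maximalIdeal A := by
    have hne : M'.comap (algebraMap A B) ≠ ⊤ := by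
      rw [Ne, Ideal.comap_eq_top_iff]
      exact hM'.ne_top
    exact ((maximalIdeal.isMaximal A).eq_of_le hne h3).symm
  have h5 : (q.comap (algebraMap A A₁)).IsMaximal := by
    rw [h2, h4]; exact maximalIdeal.isMaximal A
  haveI : Algebra.IsIntegral A A₁ := inferInstance
  have h6 : q.IsMaximal := Ideal.isMaximal_of_isIntegral_of_isMaximal_comap q h5
  have h7 : q = maximalIdeal A₁ := IsLocalRing.eq_maximalIdeal h6
  rw [Ideal.map_le_iff_le_comap, ← h7]

end B


open IsLocalRing TensorProduct

section C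

variable (A : Type u) [CommRing A]
  (B : Type u) [CommRing B] [Algebra A B]
  (A₁ : Type u) [CommRing A₁] [Algebra A A₁]

/-- the base change of the quotient map. -/
noncomputable def quotMap (I : Ideal A₁) : A₁ ⊗[A] B →ₐ[A] (A₁ ⧸ I) ⊗[A] B :=
  Algebra.TensorProduct.map (Ideal.Quotient.mkₐ A I) (AlgHom.id A B)

theorem ker_quotMap (I : Ideal A₁) :
    RingHom.ker (quotMap A B A₁ I) = I.map (algebraMap A₁ (A₁ ⊗[A] B)) := by
  have h := Algebra.TensorProduct.rTensor_ker (R := A) (S := A) (C := B)
    (Ideal.Quotient.mkₐ A I) (Ideal.Quotient.mkₐ_surjective A I)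
  have h2 : RingHom.ker (Ideal.Quotient.mkₐ A I) = I := Ideal.Quotient.mkₐ_ker A I
  rw [h2] at h
  have h3 : I.map (Algebra.TensorProduct.includeLeft : A₁ →ₐ[A] A₁ ⊗[A] B) =
      I.map (algebraMap A₁ (A₁ ⊗[A] B)) := by
    show Ideal.span _ = Ideal.span _
    congr 1
  rw [← h3, ← h]
  rfl

theorem mem_map_of_isNilpotent (I : Ideal A₁) (hI : IsReduced ((A₁ ⧸ I) ⊗[A] B))
    (x : A₁ ⊗[A] B) (hx : IsNilpotent x) : x ∈ I.map (algebraMap A₁ (A₁ ⊗[A] B)) := by
  rw [← ker_quotMap, RingHom.mem_ker]
  exact hI.eq_zero _ (hx.map _)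

variable [Module.Flat A B]

theorem isReduced_inf (I J : Ideal A₁) (hI : IsReduced ((A₁ ⧸ I) ⊗[A] B))
    (hJ : IsReduced ((A₁ ⧸ J) ⊗[A] B)) : IsReduced ((A₁ ⧸ (I ⊓ J)) ⊗[A] B) := by
  set fI : A₁ ⧸ (I ⊓ J) →ₐ[A] A₁ ⧸ I := Ideal.Quotient.factorₐ A inf_le_left with hfI
  set fJ : A₁ ⧸ (I ⊓ J) →ₐ[A] A₁ ⧸ J := Ideal.Quotient.factorₐ A inf_le_right with hfJ
  set φI := Algebra.TensorProduct.map fI (AlgHom.id A B) with hφI
  set φJ := Algebra.TensorProduct.map fJ (AlgHom.id A B) with hφJ
  set g : A₁ ⧸ (I ⊓ J) →ₗ[A] (A₁ ⧸ I) × (A₁ ⧸ J) :=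
    LinearMap.prod fI.toLinearMap fJ.toLinearMap with hg
  have hginj : Function.Injective g := by
    rw [injective_iff_map_eq_zero]
    intro q hq
    obtain ⟨a, rfl⟩ := Ideal.Quotient.mk_surjective q
    have h1 : fI (Ideal.Quotient.mk _ a) = 0 := congrArg Prod.fst hq
    have h2 : fJ (Ideal.Quotient.mk _ a) = 0 := congrArg Prod.snd hq
    rw [hfI, Ideal.Quotient.factorₐ_apply_mk, Ideal.Quotient.eq_zero_iff_mem] at h1
    rw [hfJ, Ideal.Quotient.factorₐ_apply_mk, Ideal.Quotient.eq_zero_iff_mem] at h2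
    exact Ideal.Quotient.eq_zero_iff_mem.mpr ⟨h1, h2⟩
  have hinj := Module.Flat.rTensor_preserves_injective_linearMap (M := B) g hginj
  have key : ∀ x, TensorProduct.prodLeft A A (A₁ ⧸ I) (A₁ ⧸ J) B (g.rTensor B x) =
      (φI x, φJ x) := by
    intro x
    induction x using TensorProduct.induction_on with
    | zero => simp only [map_zero]; rfl
    | tmul q b =>
      simp only [LinearMap.rTensor_tmul, hg, hφI, hφJ, Algebra.TensorProduct.map_tmul,
        AlgHom.coe_id, id_eq]
      exact TensorProduct.prodLeft_tmul A A (A₁ ⧸ I) (A₁ ⧸ J) B (fI q) (fJ q) b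
    | add x y hx hy => simp only [map_add, hx, hy, Prod.mk_add_mk]
  refine ⟨fun x hx => ?_⟩
  have h1 : φI x = 0 := hI.eq_zero _ (hx.map _)
  have h2 : φJ x = 0 := hJ.eq_zero _ (hx.map _)
  have h3 := key x
  rw [h1, h2] at h3
  have h4 : g.rTensor B x = 0 := by
    have : (0 : (A₁ ⧸ I) ⊗[A] B × (A₁ ⧸ J) ⊗[A] B) = (0, 0) := rfl
    rw [← this] at h3
    exact (LinearEquiv.map_eq_zero_iff _).mp h3
  exact (injective_iff_map_eq_zero _).mp hinj x h4

end C

section D

variable (A : Type u) [CommRing A] [IsLocalRing A]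
  (B : Type u) [CommRing B] [IsNoetherianRing B] [Algebra A B] [Module.Flat A B]
  (A₁ : Type u) [CommRing A₁] [Algebra A A₁] [Module.Finite A A₁]
  [IsLocalRing A₁] [IsNoetherianRing A₁] [IsAdicComplete (maximalIdeal A₁) A₁]

/-- partial intersections. -/
def partInf {R : Type u} [CommRing R] (P : ℕ → Ideal R) : ℕ → Ideal R
  | 0 => P 0
  | (j + 1) => partInf P j ⊓ P (j + 1)

/-- Chevalley argument: a sequence of ideals with zero intersection with reduced quotient-fibres
gives reducedness. -/
theorem isReduced_of_seq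
    (hrad : (maximalIdeal A).map (algebraMap A B) ≤ Ideal.jacobson ⊥)
    (P : ℕ → Ideal A₁) (hP : ∀ i, IsReduced ((A₁ ⧸ P i) ⊗[A] B)) (hinf : ⨅ i, P i = ⊥) :
    IsReduced (A₁ ⊗[A] B) := by
  haveI := isNoetherianRing_tensor A B A₁
  -- partial intersections
  set I : ℕ → Ideal A₁ := partInf P with hIdef
  have hI0 : I 0 = P 0 := rfl
  have hIs : ∀ j, I (j + 1) = I j ⊓ P (j + 1) := fun j => rfl
  have hIanti : Antitone I := antitone_nat_of_succ_le (fun j => by rw [hIs]; exact inf_le_left)
  have hIle : ∀ j, I j ≤ P j := by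
    intro j
    cases j with
    | zero => exact le_of_eq hI0
    | succ j => rw [hIs]; exact inf_le_right
  have hIinf : ⨅ j, I j = ⊥ := by
    rw [eq_bot_iff, ← hinf]
    exact iInf_mono hIle
  have hIred : ∀ j, IsReduced ((A₁ ⧸ I j) ⊗[A] B) := by
    intro j
    induction j with
    | zero => rw [hI0]; exact hP 0
    | succ j ih => rw [hIs]; exact isReduced_inf A B A₁ _ _ ih (hP (j + 1))
  have hjac := map_maximalIdeal_le_jacobson A B A₁ hrad
  have hbot := iInf_pow_eq_bot_of_le_jacobson _ hjac
  refine ⟨fun x hx => ?_⟩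
  have hmem : x ∈ ⨅ n : ℕ, ((maximalIdeal A₁).map (algebraMap A₁ (A₁ ⊗[A] B))) ^ n := by
    rw [Submodule.mem_iInf]
    intro n
    obtain ⟨s, hs⟩ := Groth.Agent.Lib.Helper28.Chevalley.chevalley I hIanti hIinf n
    have h1 := mem_map_of_isNilpotent A B A₁ (I s) (hIred s) x hx
    have h2 := Ideal.map_mono (f := algebraMap A₁ (A₁ ⊗[A] B)) hs h1
    rwa [Ideal.map_pow] at h2
  rw [hbot] at hmem
  exact hmem

end D


open IsLocalRing

section HtOne

variable {R : Type u} [CommRing R] [IsNoetherianRing R] [IsDomain R]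

/-- a height one prime containing a nonzero element `a` is minimal over `(a)`. -/
theorem mem_minimalPrimes_of_height_one (a : R) (ha : a ≠ 0) (p : Ideal R) [p.IsPrime]
    (hp : p.height = 1) (hap : a ∈ p) : p ∈ (Ideal.span {a}).minimalPrimes := by
  have hle : Ideal.span {a} ≤ p := (Ideal.span_singleton_le_iff_mem _).mpr hap
  obtain ⟨q, hq, hqp⟩ := Ideal.exists_minimalPrimes_le hle
  haveI := hq.1.1
  have hq0 : q ≠ ⊥ := by
    intro h0
    have : a ∈ q := hq.1.2 (Ideal.mem_span_singleton_self a)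
    rw [h0] at this
    exact ha this
  rcases eq_or_lt_of_le hqp with h | h
  · rw [← h]; exact hq
  · exfalso
    have h1 : q.height < p.height := Ideal.height_strict_mono_of_isPrime_of_isPrime h
    rw [hp, ENat.lt_one_iff_eq_zero, Ideal.height_eq_zero_iff_eq_bot] at h1
    exact hq0 h1

theorem finite_height_one_containing (a : R) (ha : a ≠ 0) :
    {p : Ideal R | p.IsPrime ∧ p.height = 1 ∧ a ∈ p}.Finite := by
  refine (Ideal.finite_minimalPrimes_of_isNoetherianRing R (Ideal.span {a})).subset ?_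
  rintro p ⟨hp, hh, hap⟩
  exact mem_minimalPrimes_of_height_one a ha p hh hap

variable [IsLocalRing R]

/-- If some nonzero prime is not maximal, there are infinitely many height one primes. -/
theorem infinite_height_one (q₀ : Ideal R) [q₀.IsPrime] (h0 : q₀ ≠ ⊥)
    (hm : q₀ ≠ maximalIdeal R) : {p : Ideal R | p.IsPrime ∧ p.height = 1}.Infinite := by
  intro hfin
  classical
  have hq₀lt : q₀ < maximalIdeal R := lt_of_le_of_ne (le_maximalIdeal Ideal.IsPrime.ne_top') hm
  have hmne : maximalIdeal R ≠ ⊥ := by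
    intro h
    rw [h] at hq₀lt
    exact not_lt_bot hq₀lt
  have hmht : (maximalIdeal R).height ≠ 1 := by
    intro h1
    have h2 : q₀.height < (maximalIdeal R).height :=
      Ideal.height_strict_mono_of_isPrime_of_isPrime hq₀lt
    rw [h1, ENat.lt_one_iff_eq_zero, Ideal.height_eq_zero_iff_eq_bot] at h2
    exact h0 h2
  set s : Finset (Ideal R) := insert ⊥ hfin.toFinset with hs
  have hprime : ∀ i ∈ s, i ≠ (⊥ : Ideal R) → i ≠ (⊥ : Ideal R) → (id i : Ideal R).IsPrime := by
    intro i hi hi0 _
    rw [hs, Finset.mem_insert] at hi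
    rcases hi with hi | hi
    · exact absurd hi hi0
    · exact ((Set.Finite.mem_toFinset hfin).mp hi).1
  have hnot : ¬ ((maximalIdeal R : Set R) ⊆ ⋃ i ∈ (↑s : Set (Ideal R)), ((id i : Ideal R) : Set R)) := by
    rw [Ideal.subset_union_prime (⊥ : Ideal R) (⊥ : Ideal R) hprime]
    rintro ⟨i, hi, hle⟩
    rw [hs, Finset.mem_insert] at hi
    rcases hi with hi | hi
    · rw [hi] at hle
      exact hmne (le_bot_iff.mp hle)
    · obtain ⟨hip, hih⟩ := (Set.Finite.mem_toFinset hfin).mp hi
      have : i = maximalIdeal R :=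
        le_antisymm (le_maximalIdeal hip.ne_top) hle
      rw [this] at hih
      exact hmht hih
  rw [Set.not_subset] at hnot
  obtain ⟨a, ham, hanot⟩ := hnot
  have ha0 : a ≠ 0 := by
    intro h
    apply hanot
    refine Set.mem_biUnion (x := (⊥ : Ideal R)) ?_ ?_
    · simp [hs]
    · rw [h]; exact (⊥ : Ideal R).zero_mem
  have hle : Ideal.span {a} ≤ maximalIdeal R := (Ideal.span_singleton_le_iff_mem _).mpr ham
  obtain ⟨q, hq, -⟩ := Ideal.exists_minimalPrimes_le hle
  haveI := hq.1.1
  have haq : a ∈ q := hq.1.2 (Ideal.mem_span_singleton_self a)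
  have hq1 : q.height ≤ 1 := Ideal.height_le_one_of_isPrincipal_of_mem_minimalPrimes _ q hq
  have hq0 : q.height ≠ 0 := by
    rw [Ne, Ideal.height_eq_zero_iff_eq_bot]
    intro h
    rw [h] at haq
    exact ha0 haq
  have hq1' : q.height = 1 := le_antisymm hq1 (Order.one_le_iff_pos.mpr (pos_iff_ne_zero.mpr hq0))
  apply hanot
  refine Set.mem_biUnion (x := q) ?_ haq
  rw [hs]
  simp only [Finset.coe_insert, Set.mem_insert_iff, Finset.mem_coe, Set.Finite.mem_toFinset,
    Set.mem_setOf_eq]
  exact Or.inr ⟨hq.1.1, hq1'⟩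

/-- the sequence of nonzero primes with zero intersection. -/
theorem exists_seq_primes (q₀ : Ideal R) [q₀.IsPrime] (h0 : q₀ ≠ ⊥)
    (hm : q₀ ≠ maximalIdeal R) :
    ∃ P : ℕ → Ideal R, (∀ i, (P i).IsPrime ∧ P i ≠ ⊥) ∧ ⨅ i, P i = ⊥ := by
  have hinf := infinite_height_one q₀ h0 hm
  let e := hinf.natEmbedding
  refine ⟨fun i => (e i).1, fun i => ⟨(e i).2.1, Ideal.ne_bot_of_height_eq_one (e i).2.2⟩, ?_⟩
  rw [eq_bot_iff]
  intro a ha
  rw [Ideal.mem_bot]
  by_contra ha0
  rw [Submodule.mem_iInf] at ha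
  have hfin := finite_height_one_containing a ha0
  have hinj : Function.Injective (fun i => (e i).1) := fun i j hij =>
    e.injective (Subtype.ext hij)
  have hrange : Set.range (fun i => (e i).1) ⊆ {p : Ideal R | p.IsPrime ∧ p.height = 1 ∧ a ∈ p} := by
    rintro _ ⟨i, rfl⟩
    exact ⟨(e i).2.1, (e i).2.2, ha i⟩
  exact (Set.infinite_range_of_injective hinj) (hfin.subset hrange)

end HtOne


open IsLocalRing TensorProduct

section E

variable (A : Type u) [CommRing A] [IsLocalRing A]
  (B : Type u) [CommRing B] [IsNoetherianRing B] [Algebra A B] [Module.Flat A B]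

/-- DVR case. -/
theorem isReduced_of_principal
    (hrad : (maximalIdeal A).map (algebraMap A B) ≤ Ideal.jacobson ⊥)
    (H : ∀ (k' : Type u) [Field k'] [Algebra A k'] [Module.Finite A k'], IsReduced (k' ⊗[A] B))
    (V : Type u) [CommRing V] [IsDomain V] [IsLocalRing V] [Algebra A V] [Module.Finite A V]
    (hprin : (maximalIdeal V).IsPrincipal) (hne : maximalIdeal V ≠ ⊥) :
    IsReduced (V ⊗[A] B) := by
  haveI := isNoetherianRing_tensor A B V
  obtain ⟨t, ht⟩ := hprin.principal
  have ht' : maximalIdeal V = Ideal.span {t} := ht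
  have ht0 : t ≠ 0 := by
    rintro rfl
    apply hne
    rw [ht']
    exact Ideal.span_singleton_eq_bot.mpr rfl
  set τ : V ⊗[A] B := algebraMap V (V ⊗[A] B) t with hτ
  have hreg : IsSMulRegular (V ⊗[A] B) τ := by
    have h1 : IsSMulRegular (V ⊗[A] B) t :=
      Module.Flat.isSMulRegular_of_nonZeroDivisors (mem_nonZeroDivisors_of_ne_zero ht0)
    intro x y hxy
    apply h1
    simp only [smul_eq_mul, hτ] at hxy
    show t • x = t • y
    rw [Algebra.smul_def, Algebra.smul_def]
    exact hxy
  have hmap : Ideal.span {τ} = (maximalIdeal V).map (algebraMap V (V ⊗[A] B)) := by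
    rw [ht', Ideal.map_span, Set.image_singleton]
  have hjac : τ ∈ Ideal.jacobson (⊥ : Ideal (V ⊗[A] B)) := by
    apply map_maximalIdeal_le_jacobson A B V hrad
    rw [← hmap]
    exact Ideal.mem_span_singleton_self τ
  have hred : IsReduced ((V ⊗[A] B) ⧸ Ideal.span {τ}) := by
    letI : Field (V ⧸ maximalIdeal V) := Ideal.Quotient.field (maximalIdeal V)
    have h1 : IsReduced ((V ⧸ maximalIdeal V) ⊗[A] B) := H (V ⧸ maximalIdeal V)
    have hsurj : Function.Surjective (quotMap A B V (maximalIdeal V)) :=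
      Algebra.TensorProduct.map_surjective _ _ (Ideal.Quotient.mkₐ_surjective A _)
        Function.surjective_id
    have hker : RingHom.ker (quotMap A B V (maximalIdeal V)).toRingHom = Ideal.span {τ} := by
      rw [hmap, ← ker_quotMap]
      rfl
    let e1 := RingHom.quotientKerEquivOfSurjective (f := (quotMap A B V (maximalIdeal V)).toRingHom)
      hsurj
    let e2 := Ideal.quotEquivOfEq hker
    exact isReduced_of_injective (e2.symm.trans e1).toRingHom (e2.symm.trans e1).injective
  exact isReduced_of_quotient_span_singleton τ hreg hjac hred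

variable [IsNoetherianRing A] [IsAdicComplete (maximalIdeal A) A]

/-- one-dimensional case via normalization. -/
theorem isReduced_of_dimLEOne
    (hrad : (maximalIdeal A).map (algebraMap A B) ≤ Ideal.jacobson ⊥)
    (H : ∀ (k' : Type u) [Field k'] [Algebra A k'] [Module.Finite A k'], IsReduced (k' ⊗[A] B))
    (A₁ : Type u) [CommRing A₁] [IsDomain A₁] [IsLocalRing A₁] [Algebra A A₁] [Module.Finite A A₁]
    (hnf : ¬ IsField A₁)
    (hdim : ∀ q : Ideal A₁, q ≠ ⊥ → q.IsPrime → q = maximalIdeal A₁)
    (V : Type u) [CommRing V] [IsDomain V] [Algebra A₁ V] [Algebra A V] [IsScalarTower A A₁ V]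
    [Module.Finite A₁ V] [IsIntegrallyClosed V] (hinj : Function.Injective (algebraMap A₁ V)) :
    IsReduced (A₁ ⊗[A] B) := by
  haveI : Module.Finite A V := Module.Finite.trans A₁ V
  haveI : IsNoetherianRing V := IsNoetherianRing.of_finite A V
  haveI : HenselianLocalRing A := Groth.Agent.Lib.Helper25.henselianLocalRing_of_isAdicComplete A
  haveI : IsLocalRing V := by
    obtain ⟨M, hM⟩ := Ideal.exists_maximal V
    exact IsLocalRing.of_unique_max_ideal ⟨M, hM, fun M' hM' =>
      Groth.Agent.Lib.Helper25.maximal_unique_of_finite_of_henselian (A := A) V M' M hM' hM⟩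
  haveI : Algebra.IsIntegral A₁ V := inferInstance
  have hVnf : ¬ IsField V := fun h => hnf (isField_of_isIntegral_of_isField hinj h)
  have hne : maximalIdeal V ≠ ⊥ := fun h => hVnf (IsLocalRing.isField_iff_maximalIdeal_eq.mpr h)
  have hVdim : ∀ P : Ideal V, P ≠ ⊥ → P.IsPrime → P = maximalIdeal V := by
    intro P hP0 hPp
    have h1 : P.comap (algebraMap A₁ V) ≠ ⊥ := fun h => hP0 (Ideal.eq_bot_of_comap_eq_bot h)
    have h2 := hdim _ h1 (Ideal.comap_isPrime _ _)
    have h3 : (P.comap (algebraMap A₁ V)).IsMaximal := by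
      rw [h2]; exact maximalIdeal.isMaximal A₁
    exact IsLocalRing.eq_maximalIdeal (Ideal.isMaximal_of_isIntegral_of_isMaximal_comap P h3)
  have hprin : (maximalIdeal V).IsPrincipal :=
    ((tfae_of_isNoetherianRing_of_isLocalRing_of_isDomain V).out 3 4).mp
      (⟨inferInstance, hVdim⟩ : IsIntegrallyClosed V ∧
        ∀ P : Ideal V, P ≠ ⊥ → P.IsPrime → P = maximalIdeal V)
  have hV := isReduced_of_principal A B hrad H V hprin hne
  have hinj' : Function.Injective (Algebra.TensorProduct.map (IsScalarTower.toAlgHom A A₁ V)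
      (AlgHom.id A B)) :=
    Module.Flat.rTensor_preserves_injective_linearMap (IsScalarTower.toAlgHom A A₁ V).toLinearMap hinj
  exact isReduced_of_injective _ hinj'

end E


open IsLocalRing TensorProduct

section F

variable (A : Type u) [CommRing A] [IsLocalRing A] [IsNoetherianRing A]
  [IsAdicComplete (maximalIdeal A) A]
  (B : Type u) [CommRing B] [IsNoetherianRing B] [Algebra A B] [Module.Flat A B]

/-- a domain finite over a complete local ring is local. -/
theorem isLocalRing_of_finite_domain (A₁ : Type u) [CommRing A₁] [IsDomain A₁] [Algebra A A₁]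
    [Module.Finite A A₁] : IsLocalRing A₁ := by
  haveI : HenselianLocalRing A := Groth.Agent.Lib.Helper25.henselianLocalRing_of_isAdicComplete A
  obtain ⟨M, hM⟩ := Ideal.exists_maximal A₁
  exact IsLocalRing.of_unique_max_ideal ⟨M, hM, fun M' hM' =>
    Groth.Agent.Lib.Helper25.maximal_unique_of_finite_of_henselian (A := A) A₁ M' M hM' hM⟩

theorem isReduced_test_aux
    (hrad : (maximalIdeal A).map (algebraMap A B) ≤ Ideal.jacobson ⊥)
    (H : ∀ (k' : Type u) [Field k'] [Algebra A k'] [Module.Finite A k'], IsReduced (k' ⊗[A] B))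
    (P : Ideal A) :
    ∀ (A₁ : Type u) [CommRing A₁] [IsDomain A₁] [Algebra A A₁] [Module.Finite A A₁],
      RingHom.ker (algebraMap A A₁) = P → IsReduced (A₁ ⊗[A] B) := by
  induction P using WellFoundedGT.induction with
  | ind P ih =>
    intro A₁ _ _ _ _ hker
    haveI : IsNoetherianRing A₁ := IsNoetherianRing.of_finite A A₁
    haveI : IsLocalRing A₁ := isLocalRing_of_finite_domain A A₁
    haveI : IsAdicComplete (maximalIdeal A₁) A₁ :=
      Groth.Agent.Lib.Helper9.SemiLocalProd.isAdicComplete_maximalIdeal_of_finite A A₁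
    haveI : Algebra.IsIntegral A A₁ := inferInstance
    have IH' : ∀ p : Ideal A₁, p.IsPrime → p ≠ ⊥ → IsReduced ((A₁ ⧸ p) ⊗[A] B) := by
      intro p hp hp0
      haveI := hp
      obtain ⟨x, hxp, hx0⟩ := Submodule.exists_mem_ne_zero_of_ne_bot hp0
      have hlt : (⊥ : Ideal A₁).comap (algebraMap A A₁) < p.comap (algebraMap A A₁) :=
        Ideal.comap_lt_comap_of_integral_mem_sdiff (I := ⊥) (J := p) bot_le
          ⟨hxp, fun h => hx0 (by simpa using h)⟩ (Algebra.IsIntegral.isIntegral x)
      have hker' : RingHom.ker (algebraMap A (A₁ ⧸ p)) = p.comap (algebraMap A A₁) := by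
        ext a
        rw [RingHom.mem_ker, Ideal.mem_comap, ← Ideal.Quotient.eq_zero_iff_mem]
        rfl
      have hlt' : P < RingHom.ker (algebraMap A (A₁ ⧸ p)) := by
        rw [hker', ← hker]
        exact hlt
      exact ih _ hlt' (A₁ ⧸ p) rfl
    by_cases hfield : IsField A₁
    · letI := hfield.toField
      exact H A₁
    by_cases hdim : ∀ q : Ideal A₁, q ≠ ⊥ → q.IsPrime → q = maximalIdeal A₁
    · have hN1 : Module.Finite A₁ (integralClosure A₁ (FractionRing A₁)) :=
        Groth.Agent.Lib.Helper18.Nag.isN1_of_isN2 A₁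
          (Groth.Agent.Lib.Helper18.Nag.isN2_of_isAdicComplete_of_isDomain A₁)
      have hinj : Function.Injective
          (algebraMap A₁ (integralClosure A₁ (FractionRing A₁))) := by
        intro x y hxy
        have := congrArg Subtype.val hxy
        exact IsFractionRing.injective A₁ (FractionRing A₁) this
      haveI : IsIntegrallyClosed (integralClosure A₁ (FractionRing A₁)) :=
        integralClosure.isIntegrallyClosedOfFiniteExtension (FractionRing A₁)
      exact isReduced_of_dimLEOne A B hrad H A₁ hfield hdim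
        (integralClosure A₁ (FractionRing A₁)) hinj
    · push_neg at hdim
      obtain ⟨q₀, h0, hq₀, hm⟩ := hdim
      haveI := hq₀
      obtain ⟨Q, hQ, hinf⟩ := exists_seq_primes q₀ h0 hm
      exact isReduced_of_seq A B A₁ hrad Q (fun i => IH' (Q i) (hQ i).1 (hQ i).2) hinf

theorem isReduced_test
    (hrad : (maximalIdeal A).map (algebraMap A B) ≤ Ideal.jacobson ⊥)
    (H : ∀ (k' : Type u) [Field k'] [Algebra A k'] [Module.Finite A k'], IsReduced (k' ⊗[A] B))
    (A₁ : Type u) [CommRing A₁] [IsDomain A₁] [Algebra A A₁] [Module.Finite A A₁] :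
    IsReduced (A₁ ⊗[A] B) :=
  isReduced_test_aux A B hrad H _ A₁ rfl

end F


open IsLocalRing TensorProduct

section G

variable (A : Type u) [CommRing A] [IsLocalRing A] [IsNoetherianRing A]
  [IsAdicComplete (maximalIdeal A) A]
  (B : Type u) [CommRing B] [IsNoetherianRing B] [Algebra A B] [Module.Flat A B]

/-- common integral multiple. -/
theorem exists_integral_multiples (p : Ideal A) [p.IsPrime] (K' : Type u) [Field K']
    [Algebra p.ResidueField K'] [Module.Finite p.ResidueField K'] [Algebra A K']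
    [IsScalarTower A p.ResidueField K'] (s : Finset K') :
    ∃ a : A, algebraMap A K' a ≠ 0 ∧ ∀ z ∈ s, IsIntegral A (a • z) := by
  letI : Algebra (A ⧸ p) K' :=
    ((algebraMap p.ResidueField K').comp (algebraMap (A ⧸ p) p.ResidueField)).toAlgebra
  haveI : IsScalarTower (A ⧸ p) p.ResidueField K' := IsScalarTower.of_algebraMap_eq (fun _ => rfl)
  haveI : IsScalarTower A (A ⧸ p) K' := by
    refine IsScalarTower.of_algebraMap_eq (fun a => ?_)
    rw [IsScalarTower.algebraMap_apply A p.ResidueField K',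
      IsScalarTower.algebraMap_apply (A ⧸ p) p.ResidueField K',
      ← IsScalarTower.algebraMap_apply A (A ⧸ p) p.ResidueField]
  haveI : Algebra.IsAlgebraic (A ⧸ p) p.ResidueField :=
    IsLocalization.isAlgebraic p.ResidueField (nonZeroDivisors (A ⧸ p))
  haveI : Algebra.IsAlgebraic p.ResidueField K' := inferInstance
  haveI : Algebra.IsAlgebraic (A ⧸ p) K' := Algebra.IsAlgebraic.trans (A ⧸ p) p.ResidueField K'
  obtain ⟨y, hy0, hy⟩ := Algebra.IsAlgebraic.exists_integral_multiples (A ⧸ p) s
  obtain ⟨a, rfl⟩ := Ideal.Quotient.mk_surjective y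
  have hinj : Function.Injective (algebraMap (A ⧸ p) K') :=
    (algebraMap p.ResidueField K').injective.comp (IsFractionRing.injective (A ⧸ p) p.ResidueField)
  refine ⟨a, ?_, fun z hz => ?_⟩
  · rw [IsScalarTower.algebraMap_apply A (A ⧸ p) K']
    intro h
    exact hy0 (hinj (by rw [map_zero]; exact h))
  · have h1 := hy z hz
    have h2 : (Ideal.Quotient.mk p a) • z = a • z := by
      rw [Algebra.smul_def, Algebra.smul_def, IsScalarTower.algebraMap_apply A (A ⧸ p) K']
      rfl
    rw [h2] at h1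
    haveI : Algebra.IsIntegral A (A ⧸ p) := inferInstance
    exact isIntegral_trans (R := A) (A := A ⧸ p) _ h1

theorem isReduced_tensor_field
    (hrad : (maximalIdeal A).map (algebraMap A B) ≤ Ideal.jacobson ⊥)
    (H : ∀ (k' : Type u) [Field k'] [Algebra A k'] [Module.Finite A k'], IsReduced (k' ⊗[A] B))
    (p : Ideal A) [p.IsPrime] (K' : Type u) [Field K']
    [Algebra p.ResidueField K'] [Module.Finite p.ResidueField K'] [Algebra A K']
    [IsScalarTower A p.ResidueField K'] : IsReduced (K' ⊗[A] B) := by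
  classical
  refine ⟨fun x hx => ?_⟩
  obtain ⟨S, hS⟩ := TensorProduct.exists_finset x
  obtain ⟨a, ha0, ha⟩ := exists_integral_multiples A p K' (S.image Prod.fst)
  set s' : Set K' := (fun z => a • z) '' (↑(S.image Prod.fst) : Set K') with hs'
  have hs'fin : s'.Finite := (Finset.finite_toSet _).image _
  have hs'int : ∀ z ∈ s', IsIntegral A z := by
    rintro _ ⟨z, hz, rfl⟩
    exact ha z hz
  set A₁ : Subalgebra A K' := Algebra.adjoin A s' with hA₁
  haveI : Module.Finite A A₁ := Algebra.finite_adjoin_of_finite_of_isIntegral hs'fin hs'int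
  have hred : IsReduced (A₁ ⊗[A] B) := isReduced_test A B hrad H A₁
  set φ := Algebra.TensorProduct.map A₁.val (AlgHom.id A B) with hφ
  have hφinj : Function.Injective φ :=
    Module.Flat.rTensor_preserves_injective_linearMap A₁.val.toLinearMap Subtype.val_injective
  have hmem : a • x ∈ φ.range := by
    rw [hS, Finset.smul_sum]
    refine Subalgebra.sum_mem _ (fun i hi => ?_)
    rw [TensorProduct.smul_tmul']
    have hi' : a • i.1 ∈ A₁ := by
      apply Algebra.subset_adjoin
      refine ⟨i.1, ?_, rfl⟩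
      exact Finset.mem_coe.mpr (Finset.mem_image_of_mem Prod.fst hi)
    refine ⟨(⟨a • i.1, hi'⟩ : A₁) ⊗ₜ[A] i.2, ?_⟩
    simp [hφ]
  obtain ⟨y, hy⟩ := hmem
  have hnil : IsNilpotent (a • x) := by
    rw [Algebra.smul_def]
    exact Commute.isNilpotent_mul_left (Commute.all _ _) hx
  have hynil : IsNilpotent y := by
    rw [← hy] at hnil
    exact (IsNilpotent.map_iff hφinj).mp hnil
  have hy0 : y = 0 := hred.eq_zero _ hynil
  rw [hy0, map_zero] at hy
  have h1 : (algebraMap A K' a) • x = 0 := by
    rw [algebraMap_smul]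
    exact hy.symm
  rcases smul_eq_zero.mp h1 with h | h
  · exact absurd h ha0
  · exact h

theorem isGeometricallyReduced_fiber_of_complete
    (hrad : (maximalIdeal A).map (algebraMap A B) ≤ Ideal.jacobson ⊥)
    (H : ∀ (k' : Type u) [Field k'] [Algebra A k'] [Module.Finite A k'], IsReduced (k' ⊗[A] B))
    (p : Ideal A) [p.IsPrime] :
    Algebra.IsGeometricallyReduced p.ResidueField (p.Fiber B) := by
  apply Groth.Agent.Lib.Helper18.PMor.isGeometricallyReduced_of_forall_finite
  intro K' _ _ hfin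
  letI : Algebra A K' :=
    ((algebraMap p.ResidueField K').comp (algebraMap A p.ResidueField)).toAlgebra
  haveI : IsScalarTower A p.ResidueField K' := IsScalarTower.of_algebraMap_eq (fun _ => rfl)
  have h := isReduced_tensor_field A B hrad H p K'
  let e := Algebra.TensorProduct.cancelBaseChange A p.ResidueField K' K' B
  exact isReduced_of_injective e.toRingEquiv.toRingHom e.injective

end G


open IsLocalRing TensorProduct Groth.Agent.Lib.Helper18.CplFlat
open Groth.Agent.Lib.Helper23.CplRegular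

section H1

variable (A : Type u) [CommRing A] [IsNoetherianRing A] [IsLocalRing A]
  (k' : Type u) [Field k'] [Algebra (EGA4.Cpl A) k'] [Module.Finite (EGA4.Cpl A) k']
  [Algebra A k'] [IsScalarTower A (EGA4.Cpl A) k']

theorem ker_algebraMap_cpl_field :
    RingHom.ker (algebraMap (EGA4.Cpl A) k') = maximalIdeal (EGA4.Cpl A) := by
  haveI : (⊥ : Ideal k').IsMaximal := Ideal.bot_isMaximal
  haveI : Algebra.IsIntegral (EGA4.Cpl A) k' := inferInstance
  have h : ((⊥ : Ideal k').comap (algebraMap (EGA4.Cpl A) k')).IsMaximal :=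
    Ideal.isMaximal_comap_of_isIntegral_of_isMaximal (R := EGA4.Cpl A) (⊥ : Ideal k')
  exact IsLocalRing.eq_maximalIdeal h

theorem smul_eq_zero_of_mem_map (y : EGA4.Cpl A)
    (hy : y ∈ (maximalIdeal A).map (algebraMap A (EGA4.Cpl A))) (m : k') : y • m = 0 := by
  have h1 : y ∈ RingHom.ker (algebraMap (EGA4.Cpl A) k') := by
    rw [ker_algebraMap_cpl_field, AdicCompletion.maximalIdeal_eq_map]
    exact hy
  rw [Algebra.smul_def, (RingHom.mem_ker).mp h1, zero_mul]

theorem exists_smul_eq (c : EGA4.Cpl A) : ∃ a : A,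
    c - algebraMap A (EGA4.Cpl A) a ∈ (maximalIdeal A).map (algebraMap A (EGA4.Cpl A)) ∧
    ∀ m : k', c • m = a • m := by
  obtain ⟨a, ha⟩ := exists_sub_mem_map_pow A 1 c
  rw [pow_one] at ha
  refine ⟨a, ha, fun m => ?_⟩
  have h1 := smul_eq_zero_of_mem_map A k' _ ha m
  rw [sub_smul, sub_eq_zero] at h1
  rw [h1, algebraMap_smul]

theorem finite_of_finite_cpl : Module.Finite A k' := by
  obtain ⟨s, hs⟩ := Module.finite_def.mp (inferInstance : Module.Finite (EGA4.Cpl A) k')
  refine ⟨⟨s, ?_⟩⟩
  rw [eq_top_iff]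
  intro x hxtop
  clear hxtop
  have hx : x ∈ Submodule.span (EGA4.Cpl A) (s : Set k') := hs ▸ Submodule.mem_top
  induction hx using Submodule.span_induction with
  | mem x h => exact Submodule.subset_span h
  | zero => exact zero_mem _
  | add x y _ _ hx hy => exact add_mem hx hy
  | smul c x _ hx =>
    obtain ⟨a, -, ha⟩ := exists_smul_eq A k' c
    rw [ha]
    exact Submodule.smul_mem _ a hx

variable (E : Type u) [CommRing E] [Algebra A E] [Algebra (EGA4.Cpl A) E]
  [IsScalarTower A (EGA4.Cpl A) E]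

theorem compatibleSMul_cpl : TensorProduct.CompatibleSMul A (EGA4.Cpl A) k' E := by
  refine ⟨fun c m n => ?_⟩
  obtain ⟨a, hy, ha⟩ := exists_smul_eq A k' c
  have key : ∀ y ∈ (maximalIdeal A).map (algebraMap A (EGA4.Cpl A)), ∀ n : E,
      m ⊗ₜ[A] (y • n) = 0 := by
    intro y hy
    induction hy using Submodule.span_induction with
    | mem y h =>
      obtain ⟨c', hc', rfl⟩ := h
      intro n
      rw [algebraMap_smul, ← TensorProduct.smul_tmul, ← algebraMap_smul (EGA4.Cpl A) c' m,
        smul_eq_zero_of_mem_map A k' _ (Ideal.mem_map_of_mem _ hc'), TensorProduct.zero_tmul]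
    | zero => intro n; rw [zero_smul, TensorProduct.tmul_zero]
    | add x y _ _ hx hy => intro n; rw [add_smul, TensorProduct.tmul_add, hx, hy, add_zero]
    | smul r x _ hx =>
      intro n
      rw [smul_eq_mul, mul_comm, mul_smul]
      exact hx (r • n)
  have hc : c = algebraMap A (EGA4.Cpl A) a + (c - algebraMap A (EGA4.Cpl A) a) := by ring
  rw [ha]
  conv_rhs => rw [hc, add_smul, TensorProduct.tmul_add, key _ hy, add_zero, algebraMap_smul]
  exact TensorProduct.smul_tmul a m n

theorem isReduced_tensor_cpl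
    (h : Algebra.IsGeometricallyReduced (maximalIdeal A).ResidueField
      ((maximalIdeal A).Fiber E)) : IsReduced (k' ⊗[EGA4.Cpl A] E) := by
  haveI := compatibleSMul_cpl A k' E
  haveI := finite_of_finite_cpl A k'
  -- reduce to tensor over A
  suffices h' : IsReduced (k' ⊗[A] E) by
    let e := Algebra.TensorProduct.equivOfCompatibleSMul A (EGA4.Cpl A) k' k' E
    exact isReduced_of_injective e.toRingEquiv.toRingHom e.injective
  have h1 : maximalIdeal A ≤ RingHom.ker (algebraMap A k') := by
    intro c hc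
    rw [RingHom.mem_ker, ← mul_one (algebraMap A k' c), ← Algebra.smul_def,
      ← algebraMap_smul (EGA4.Cpl A) c (1 : k')]
    exact smul_eq_zero_of_mem_map A k' _ (Ideal.mem_map_of_mem _ hc) 1
  have h2 : (maximalIdeal A).primeCompl ≤ (IsUnit.submonoid k').comap (algebraMap A k') := by
    intro c hc
    have hcu : IsUnit c := by
      by_contra hnu
      exact hc ((IsLocalRing.mem_maximalIdeal c).mpr hnu)
    exact hcu.map (algebraMap A k')
  letI : Algebra (maximalIdeal A).ResidueField k' :=
    (Ideal.ResidueField.lift (maximalIdeal A) (algebraMap A k') h1 h2).toAlgebra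
  haveI : IsScalarTower A (maximalIdeal A).ResidueField k' :=
    IsScalarTower.of_algebraMap_eq
      (fun a => (Ideal.ResidueField.lift_algebraMap (maximalIdeal A) (algebraMap A k') h1 h2 a).symm)
  haveI : Module.Finite (maximalIdeal A).ResidueField k' :=
    Module.Finite.of_restrictScalars_finite A _ _
  haveI := h
  have h3 : IsReduced (k' ⊗[(maximalIdeal A).ResidueField] ((maximalIdeal A).Fiber E)) :=
    inferInstance
  let e := Algebra.TensorProduct.cancelBaseChange A (maximalIdeal A).ResidueField k' k' E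
  exact isReduced_of_injective e.symm.toRingEquiv.toRingHom e.symm.injective

end H1

section Main

variable (A B : Type u) [CommRing A] [CommRing B]
    [IsNoetherianRing A] [IsNoetherianRing B] [IsLocalRing A] [IsLocalRing B] [Algebra A B]
    [IsLocalHom (algebraMap A B)] [Module.Flat A B]

theorem main (hA : EGA4.HasGeomReducedFormalFibres A)
    (h : Algebra.IsGeometricallyReduced (maximalIdeal A).ResidueField
      ((maximalIdeal A).Fiber (EGA4.Cpl B))) (p : Ideal A) [p.IsPrime] :
    Algebra.IsGeometricallyReduced p.ResidueField (p.Fiber B) := by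
  haveI : IsNoetherianRing (EGA4.Cpl A) :=
    Groth.Agent.Lib.Helper21.isNoetherianRing_adicCompletion_of_fg _
      (maximalIdeal A).fg_of_isNoetherianRing
  haveI : IsNoetherianRing (EGA4.Cpl B) :=
    Groth.Agent.Lib.Helper21.isNoetherianRing_adicCompletion_of_fg _
      (maximalIdeal B).fg_of_isNoetherianRing
  letI : Algebra (EGA4.Cpl A) (EGA4.Cpl B) := (cplMap A B).toAlgebra
  haveI : IsScalarTower A (EGA4.Cpl A) (EGA4.Cpl B) :=
    IsScalarTower.of_algebraMap_eq (fun a => (cplMap_of A B a).symm)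
  haveI : IsLocalHom (algebraMap (EGA4.Cpl A) (EGA4.Cpl B)) := isLocalHom_cplMap A B
  haveI : Module.Flat (EGA4.Cpl A) (EGA4.Cpl B) := flat_cplMap A B
  haveI : Module.Flat A (EGA4.Cpl B) := Module.Flat.trans A B (EGA4.Cpl B)
  have hrad : (maximalIdeal (EGA4.Cpl A)).map (algebraMap (EGA4.Cpl A) (EGA4.Cpl B)) ≤
      Ideal.jacobson ⊥ := by
    rw [IsLocalRing.jacobson_eq_maximalIdeal ⊥ bot_ne_top]
    exact ((IsLocalRing.local_hom_TFAE (algebraMap (EGA4.Cpl A) (EGA4.Cpl B))).out 0 2).mp
      (isLocalHom_cplMap A B)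
  have H : ∀ (k' : Type u) [Field k'] [Algebra (EGA4.Cpl A) k'] [Module.Finite (EGA4.Cpl A) k'],
      IsReduced (k' ⊗[EGA4.Cpl A] (EGA4.Cpl B)) := by
    intro k' _ _ _
    letI : Algebra A k' :=
      ((algebraMap (EGA4.Cpl A) k').comp (algebraMap A (EGA4.Cpl A))).toAlgebra
    haveI : IsScalarTower A (EGA4.Cpl A) k' := IsScalarTower.of_algebraMap_eq (fun _ => rfl)
    exact isReduced_tensor_cpl A k' (EGA4.Cpl B) h
  have hBC : ∀ (q : Ideal (EGA4.Cpl A)) [q.IsPrime],
      Algebra.IsGeometricallyReduced q.ResidueField (q.Fiber (EGA4.Cpl B)) :=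
    fun q _ => isGeometricallyReduced_fiber_of_complete (EGA4.Cpl A) (EGA4.Cpl B) hrad H q
  have hAC := Groth.Agent.Lib.Helper18.PMor.isGeometricallyReduced_fiber_comp A (EGA4.Cpl A)
    (EGA4.Cpl B) hA hBC p
  haveI : Module.FaithfullyFlat B (EGA4.Cpl B) := Module.FaithfullyFlat.of_flat_of_isLocalHom
  exact Groth.Agent.Lib.Helper18.PMor.isGeometricallyReduced_fiber_of_comp_of_faithfullyFlat A B
    (EGA4.Cpl B) p hAC

end Main

end Groth.Agent.Lib.Helper23.ReducedFibres
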