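import Mathlib
import Groth.Agent.Lib.Helper23.CompleteGRing
import Groth.Agent.S4573
import Groth.Agent.Lib.Helper18.Exc
import Groth.Agent.S2622

/-!
Openness of the adic-formally-smooth locus over a field k with [k : k^p] finite for quotients of complete Noetherian local k-algebras (EGA 0_IV 22.7.2 openness part), via excellence of complete local rings: Kp k p (k^{1/p} modelled as k with Frobenius algebra structure), finite_Kp, embKp (exponent-one extensions embed in k^{1/p}), adic_of_isRegularRing_Kp (C Noetherian local k-algebra with k^{1/p} ⊗ C regular is adic formally smooth over k; via S4573 + faithfully flat descent), adic_of_forall_regLocus, main.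
-/

set_option autoImplicit false
universe u


namespace Groth.Agent.Lib.Helper23.AdicSmoothOpen

open IsLocalRing TensorProduct

/-- `k^{1/p}` modelled as `k` with the Frobenius algebra structure. -/
def Kp (k : Type u) (_p : ℕ) : Type u := k

noncomputable instance (k : Type u) [Field k] (p : ℕ) : Field (Kp k p) := inferInstanceAs (Field k)

/-- the identity ring isomorphism. -/
def Kp.toK (k : Type u) [Field k] (p : ℕ) : Kp k p ≃+* k := RingEquiv.refl k

noncomputable instance (k : Type u) [Field k] (p : ℕ) [ExpChar k p] : Algebra k (Kp k p) :=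
  ((Kp.toK k p).symm.toRingHom.comp (frobenius k p)).toAlgebra

section
variable (k : Type u) [Field k] (p : ℕ) [ExpChar k p]

lemma algebraMap_Kp (c : k) : algebraMap k (Kp k p) c = (Kp.toK k p).symm (c ^ p) := rfl

lemma toK_smul (c : k) (x : Kp k p) : Kp.toK k p (c • x) = c ^ p * Kp.toK k p x := by
  rw [Algebra.smul_def, map_mul, algebraMap_Kp, RingEquiv.apply_symm_apply]

theorem finite_Kp (hk : p = 1 ∨ Module.Finite (frobenius k p).fieldRange k) :
    Module.Finite k (Kp k p) := by
  classical
  rcases hk with h1 | hfin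
  · subst h1
    refine Module.Finite.of_surjective (Algebra.linearMap k (Kp k 1))
      (fun y => ⟨Kp.toK k 1 y, ?_⟩)
    show algebraMap k (Kp k 1) _ = y
    rw [algebraMap_Kp, pow_one, RingEquiv.symm_apply_apply]
  · obtain ⟨s, hs⟩ := hfin.fg_top
    refine ⟨⟨s.image (Kp.toK k p).symm, ?_⟩⟩
    rw [eq_top_iff]
    rintro x -
    have key : ∀ z : k, z ∈ Submodule.span (frobenius k p).fieldRange (s : Set k) →
        (Kp.toK k p).symm z ∈ Submodule.span k ((s.image (Kp.toK k p).symm : Finset (Kp k p)) :
          Set (Kp k p)) := by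
      intro z hz
      induction hz using Submodule.span_induction with
      | mem y hy =>
        refine Submodule.subset_span ?_
        rw [Finset.coe_image]
        exact Set.mem_image_of_mem _ hy
      | zero => rw [map_zero]; exact Submodule.zero_mem _
      | add y z _ _ hy hz => rw [map_add]; exact Submodule.add_mem _ hy hz
      | smul a y _ hy =>
        obtain ⟨c, hc⟩ := a.2
        have h2 : (Kp.toK k p).symm (a • y) = c • (Kp.toK k p).symm y := by
          apply (Kp.toK k p).injective
          rw [toK_smul, RingEquiv.apply_symm_apply, RingEquiv.apply_symm_apply]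
          show (a : k) * y = _
          rw [← hc]
          rfl
        rw [h2]
        exact Submodule.smul_mem _ _ hy
    have := key (Kp.toK k p x) (hs ▸ Submodule.mem_top)
    rwa [RingEquiv.symm_apply_apply] at this

lemma pow_mem_range_Kp (x : Kp k p) : x ^ p ∈ (algebraMap k (Kp k p)).range := by
  refine ⟨Kp.toK k p x, ?_⟩
  rw [algebraMap_Kp, map_pow, RingEquiv.symm_apply_apply]

end


open IsLocalRing TensorProduct

section embed
variable {k : Type u} [Field k] (p : ℕ) [ExpChar k p]
  (k' : Type u) [Field k'] [Algebra k k']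
  (hpow : ∀ x : k', x ^ p ∈ (algebraMap k k').range)

/-- the `k`-embedding `k' → k^{1/p}` of an extension of exponent one. -/
noncomputable def embKp : k' →+* Kp k p :=
  haveI : ExpChar k' p := expChar_of_injective_algebraMap (algebraMap k k').injective p
  { toFun := fun x => (Kp.toK k p).symm (hpow x).choose
    map_one' := by
      rw [← map_one (Kp.toK k p).symm]
      congr 1
      apply (algebraMap k k').injective
      rw [(hpow 1).choose_spec, one_pow, map_one]
    map_mul' := fun x y => by
      rw [← map_mul (Kp.toK k p).symm]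
      congr 1
      apply (algebraMap k k').injective
      rw [(hpow (x * y)).choose_spec, map_mul, (hpow x).choose_spec, (hpow y).choose_spec, mul_pow]
    map_zero' := by
      rw [← map_zero (Kp.toK k p).symm]
      congr 1
      apply (algebraMap k k').injective
      rw [(hpow 0).choose_spec, map_zero, zero_pow (expChar_pos k p).ne']
    map_add' := fun x y => by
      rw [← map_add (Kp.toK k p).symm]
      congr 1
      apply (algebraMap k k').injective
      rw [(hpow (x + y)).choose_spec, map_add, (hpow x).choose_spec, (hpow y).choose_spec,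
        add_pow_expChar] }

lemma embKp_algebraMap (c : k) : embKp p k' hpow (algebraMap k k' c) = algebraMap k (Kp k p) c := by
  show (Kp.toK k p).symm (hpow (algebraMap k k' c)).choose = _
  rw [algebraMap_Kp]
  congr 1
  apply (algebraMap k k').injective
  rw [(hpow _).choose_spec, map_pow]

end embed

section crit
variable {k : Type u} [Field k] (p : ℕ) [ExpChar k p]
  {C : Type u} [CommRing C] [IsLocalRing C] [IsNoetherianRing C] [Algebra k C]

/-- regularity of `k^{1/p} ⊗ C` implies adic formal smoothness of `C` over `k`. -/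
theorem adic_of_isRegularRing_Kp (h : IsRegularRing (Kp k p ⊗[k] C)) :
    CAlgX.IsAdicFormallySmooth k C (maximalIdeal C) := by
  rw [Groth.Agent.S4573.result (k := k) (A := C) p]
  intro k' _ _ hfin hpow
  letI : Algebra k' (Kp k p) := (embKp p k' hpow).toAlgebra
  haveI : IsScalarTower k k' (Kp k p) :=
    IsScalarTower.of_algebraMap_eq (fun c => (embKp_algebraMap p k' hpow c).symm)
  haveI : IsNoetherianRing (C ⊗[k] k') := IsNoetherianRing.of_finite C _
  haveI : IsNoetherianRing (k' ⊗[k] C) :=
    isNoetherianRing_of_ringEquiv _ (Algebra.TensorProduct.comm k C k').toRingEquiv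
  haveI : IsRegularRing (Kp k p ⊗[k'] (k' ⊗[k] C)) :=
    IsRegularRing.of_ringEquiv
      (Algebra.TensorProduct.cancelBaseChange k k' (Kp k p) (Kp k p) C).symm.toRingEquiv
  haveI : Module.FaithfullyFlat k' (Kp k p) := inferInstance
  haveI : Module.FaithfullyFlat (k' ⊗[k] C) ((k' ⊗[k] C) ⊗[k'] Kp k p) := inferInstance
  haveI : IsRegularRing ((k' ⊗[k] C) ⊗[k'] Kp k p) :=
    IsRegularRing.of_ringEquiv
      (Algebra.TensorProduct.comm k' (Kp k p) (k' ⊗[k] C)).toRingEquiv
  exact Groth.Agent.Lib.Helper23.GeomRegular2.isRegularRing_of_faithfullyFlat (k' ⊗[k] C)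
    ((k' ⊗[k] C) ⊗[k'] Kp k p)

end crit


open IsLocalRing TensorProduct

section glob
variable {k : Type u} [Field k] (p : ℕ) [ExpChar k p] [Module.Finite k (Kp k p)]
  {B : Type u} [CommRing B] [IsNoetherianRing B] [Algebra k B]

instance isNoetherianRing_Kp_tensor : IsNoetherianRing (Kp k p ⊗[k] B) := by
  haveI : IsNoetherianRing (B ⊗[k] Kp k p) := IsNoetherianRing.of_finite B _
  exact isNoetherianRing_of_ringEquiv _ (Algebra.TensorProduct.comm k B (Kp k p)).toRingEquiv

variable (n : Ideal B) [n.IsPrime]

theorem adic_of_forall_regLocus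
    (h : ∀ Q : PrimeSpectrum (Kp k p ⊗[k] B),
      Q.asIdeal.comap ((Algebra.TensorProduct.includeRight : B →ₐ[k] Kp k p ⊗[k] B) :
        B →+* Kp k p ⊗[k] B) ≤ n → Q ∈ EGA4.regLocus (Kp k p ⊗[k] B)) :
    CAlgX.IsAdicFormallySmooth k (Localization.AtPrime n)
      (maximalIdeal (Localization.AtPrime n)) := by
  haveI : IsNoetherianRing (Localization.AtPrime n) :=
    IsLocalization.isNoetherianRing n.primeCompl _ inferInstance
  apply adic_of_isRegularRing_Kp p
  let ψ : Kp k p ⊗[k] B →ₐ[Kp k p] Kp k p ⊗[k] Localization.AtPrime n :=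
    Algebra.TensorProduct.map (AlgHom.id _ _) (IsScalarTower.toAlgHom k B (Localization.AtPrime n))
  letI : Algebra (Kp k p ⊗[k] B) (Kp k p ⊗[k] Localization.AtPrime n) := ψ.toRingHom.toAlgebra
  haveI : IsScalarTower (Kp k p) (Kp k p ⊗[k] B) (Kp k p ⊗[k] Localization.AtPrime n) :=
    IsScalarTower.of_algebraMap_eq (fun x => (ψ.commutes x).symm)
  have H : (algebraMap (Kp k p ⊗[k] B) (Kp k p ⊗[k] Localization.AtPrime n)).comp
      (Algebra.TensorProduct.includeRight (R := k) (A := Kp k p) (B := B)).toRingHom =
      (Algebra.TensorProduct.includeRight (R := k) (A := Kp k p)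
        (B := Localization.AtPrime n)).toRingHom.comp (algebraMap B (Localization.AtPrime n)) := by
    ext b
    show ψ ((1 : Kp k p) ⊗ₜ[k] b) = (1 : Kp k p) ⊗ₜ[k] (algebraMap B (Localization.AtPrime n) b)
    simp [ψ]
  haveI := IsLocalization.tensorProduct_tensorProduct_right k (Kp k p) n.primeCompl
    (Localization.AtPrime n) H
  haveI : IsNoetherianRing (Kp k p ⊗[k] Localization.AtPrime n) := inferInstance
  rw [isRegularRing_iff]
  intro P _
  have h1 := Groth.Agent.Lib.Helper18.Exc.regLocus_eq_preimage_of_isLocalization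
    (B₀ := Kp k p ⊗[k] B) (B := Kp k p ⊗[k] Localization.AtPrime n)
    (n.primeCompl.map (Algebra.TensorProduct.includeRight (R := k) (A := Kp k p) (B := B)))
  have h2 : (⟨P, inferInstance⟩ : PrimeSpectrum (Kp k p ⊗[k] Localization.AtPrime n)) ∈
      EGA4.regLocus (Kp k p ⊗[k] Localization.AtPrime n) := by
    rw [h1]
    apply h
    intro b hb
    by_contra hbn
    have hb' : ψ ((1 : Kp k p) ⊗ₜ[k] b) ∈ P := hb
    have h3 : ψ ((1 : Kp k p) ⊗ₜ[k] b) =
        (Algebra.TensorProduct.includeRight (R := k) (A := Kp k p)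
          (B := Localization.AtPrime n)) (algebraMap B (Localization.AtPrime n) b) := by
      simp [ψ]
    have hu : IsUnit (algebraMap B (Localization.AtPrime n) b) :=
      IsLocalization.map_units (Localization.AtPrime n) (⟨b, hbn⟩ : n.primeCompl)
    rw [h3] at hb'
    exact (Ideal.IsPrime.ne_top inferInstance) (Ideal.eq_top_of_isUnit_mem _ hb' (hu.map _))
  exact h2

end glob


open IsLocalRing TensorProduct

theorem main (p : ℕ) {k A : Type u} [Field k] [ExpChar k p]
    (hk : p = 1 ∨ Module.Finite (frobenius k p).fieldRange k)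
    [CommRing A] [IsLocalRing A] [IsNoetherianRing A] [IsAdicComplete (maximalIdeal A) A]
    [Algebra k A] (q : Ideal A) :
    IsOpen {n : PrimeSpectrum (A ⧸ q) |
      CAlgX.IsAdicFormallySmooth k (Localization.AtPrime n.asIdeal)
        (maximalIdeal (Localization.AtPrime n.asIdeal))} := by
  by_cases hq : q = ⊤
  · haveI : Subsingleton (A ⧸ q) := Ideal.Quotient.subsingleton_iff.mpr hq
    haveI : IsEmpty (PrimeSpectrum (A ⧸ q)) := inferInstance
    rw [Set.eq_empty_of_isEmpty {n : PrimeSpectrum (A ⧸ q) |
      CAlgX.IsAdicFormallySmooth k (Localization.AtPrime n.asIdeal)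
        (maximalIdeal (Localization.AtPrime n.asIdeal))}]
    exact isOpen_empty
  · haveI : Nontrivial (A ⧸ q) := Ideal.Quotient.nontrivial_iff.mpr hq
    haveI : IsLocalRing (A ⧸ q) :=
      IsLocalRing.of_surjective' (Ideal.Quotient.mk q) Ideal.Quotient.mk_surjective
    haveI : IsAdicComplete (maximalIdeal (A ⧸ q)) (A ⧸ q) :=
      Groth.Agent.Lib.Helper9.SemiLocalProd.isAdicComplete_maximalIdeal_of_finite A (A ⧸ q)
    haveI := finite_Kp k p hk
    let φ : (A ⧸ q) →+* Kp k p ⊗[k] (A ⧸ q) :=
      ((Algebra.TensorProduct.includeRight : (A ⧸ q) →ₐ[k] Kp k p ⊗[k] (A ⧸ q)) :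
        (A ⧸ q) →+* Kp k p ⊗[k] (A ⧸ q))
    have hint : φ.IsIntegral :=
      Groth.Agent.Lib.Helper23.GeomRegular.includeRight_isIntegral (Kp k p)
    have hclosed := PrimeSpectrum.isClosedMap_comap_of_isIntegral φ hint
    have hfinφ : φ.Finite := by
      have h1 : φ = ((Algebra.TensorProduct.comm k (A ⧸ q) (Kp k p)).toRingEquiv.toRingHom).comp
          (algebraMap (A ⧸ q) ((A ⧸ q) ⊗[k] Kp k p)) := by
        ext a
        simp [φ]
      rw [h1]
      exact RingHom.Finite.comp
        (RingHom.Finite.of_surjective _ (Algebra.TensorProduct.comm k (A ⧸ q) (Kp k p)).surjective)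
        (RingHom.finite_algebraMap.mpr inferInstance)
    letI : Algebra (A ⧸ q) (Kp k p ⊗[k] (A ⧸ q)) := φ.toAlgebra
    haveI : Module.Finite (A ⧸ q) (Kp k p ⊗[k] (A ⧸ q)) := hfinφ
    have hopen : IsOpen (EGA4.regLocus (Kp k p ⊗[k] (A ⧸ q))) :=
      (Groth.Agent.S2622.result (A ⧸ q)) (Kp k p ⊗[k] (A ⧸ q)) inferInstance
    have hcl : IsClosed (PrimeSpectrum.comap φ '' (EGA4.regLocus (Kp k p ⊗[k] (A ⧸ q)))ᶜ) :=
      hclosed _ hopen.isClosed_compl
    have hset : {n : PrimeSpectrum (A ⧸ q) |
        CAlgX.IsAdicFormallySmooth k (Localization.AtPrime n.asIdeal)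
          (maximalIdeal (Localization.AtPrime n.asIdeal))} =
        (PrimeSpectrum.comap φ '' (EGA4.regLocus (Kp k p ⊗[k] (A ⧸ q)))ᶜ)ᶜ := by
      ext n
      constructor
      · rintro hn ⟨Q, hQ, rfl⟩
        apply hQ
        have h1 := Groth.Agent.Lib.Helper23.GeomRegular2.adic_tensor_atPrime (k := k)
          (S := A ⧸ q) (K := Kp k p) Q.asIdeal (PrimeSpectrum.comap φ Q).asIdeal rfl hn
        haveI : IsNoetherianRing (Localization.AtPrime Q.asIdeal) :=
          IsLocalization.isNoetherianRing Q.asIdeal.primeCompl _ inferInstance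
        exact Groth.Agent.Lib.Helper23.GeomRegular2.isRegularLocalRing_of_adic h1
      · intro hn
        refine adic_of_forall_regLocus p n.asIdeal (fun Q hQ => ?_)
        by_contra hsing
        apply hn
        have hspec : PrimeSpectrum.comap φ Q ⤳ n :=
          (PrimeSpectrum.le_iff_specializes (PrimeSpectrum.comap φ Q) n).mp hQ
        exact hspec.mem_closed hcl ⟨Q, hsing, rfl⟩
    rw [hset]
    exact hcl.isOpen_compl

end Groth.Agent.Lib.Helper23.AdicSmoothOpen
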