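import Mathlib
import Groth.Agent.Lib.Helper7.DimFT
import Groth.Agent.Lib.Helper6.FTPoints
import Groth.Agent.Lib.Helper14.SchemeDim
import Groth.Prelude.Def_Pi1
import Groth.Agent.Lib.Helper25.GrpDim
import Groth.Agent.Lib.Helper24.EtaleNormal
import Groth.Agent.Lib.Helper18.SerreNormal
import Groth.Prelude.Def_FEt
import Groth.Agent.Lib.Lead.SD.AmpleConn
import Groth.Agent.Lib.Helper29.PullTensor
import Groth.Agent.Lib.Helper28.FlatPull2

/-!
Finite etale covers of ample divisors on normal proper varieties of dimension >= 2 are connected (Hartshorne III.7.9 applied to the cover): dimension of local rings at closed points of integral schemes locally of finite type over a field, depth >= 2 at closed points of a finite etale cover of a normal variety of dimension >= 2, and the main theorem.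
-/

set_option autoImplicit false
universe u
open AlgebraicGeometry CategoryTheory CategoryTheory.Limits

namespace Groth.Agent.Lib.Helper23.AmpleCover

section


/-- the local ring at a closed point of an integral scheme locally of finite type over a field has the
dimension of any affine open containing it -/
theorem ringKrullDim_stalk_eq_of_isClosed (k : Type u) [Field k] (X : Scheme.{u}) [IsIntegral X]
    (f : X ⟶ Spec (CommRingCat.of k)) [LocallyOfFiniteType f] {U : X.Opens} (hU : IsAffineOpen U)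
    (w : X) (hwU : w ∈ U) (hw : IsClosed ({w} : Set X)) :
    ringKrullDim (X.presheaf.stalk w) = ringKrullDim Γ(X, U) := by
  haveI : Nonempty U := ⟨⟨w, hwU⟩⟩
  have hmax : (hU.primeIdealOf ⟨w, hwU⟩).asIdeal.IsMaximal := by
    rw [← Groth.Agent.Lib.Helper6.isClosed_singleton_iff_isMaximal hU w hwU]
    have : ({⟨w, hwU⟩} : Set ↥U) = Subtype.val ⁻¹' ({w} : Set X) := by
      ext y
      simp [Subtype.ext_iff]
    rw [this]
    exact hw.preimage continuous_subtype_val
  letI : Algebra Γ(X, U) (X.presheaf.stalk w) :=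
    TopCat.Presheaf.algebra_section_stalk X.presheaf ⟨w, hwU⟩
  haveI : IsLocalization.AtPrime (X.presheaf.stalk w) (hU.primeIdealOf ⟨w, hwU⟩).asIdeal :=
    hU.isLocalization_stalk ⟨w, hwU⟩
  rw [IsLocalization.AtPrime.ringKrullDim_eq_height (hU.primeIdealOf ⟨w, hwU⟩).asIdeal
    (X.presheaf.stalk w)]
  -- the `k`-algebra structure
  have hle : U ≤ f ⁻¹ᵁ ⊤ := le_top
  letI alg : Algebra k Γ(X, U) :=
    ((f.appLE ⊤ U hle).hom.comp (Scheme.ΓSpecIso (CommRingCat.of k)).inv.hom).toAlgebra
  haveI : Algebra.FiniteType k Γ(X, U) := by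
    have h1 : RingHom.FiniteType (f.appLE ⊤ U hle).hom :=
      HasRingHomProperty.appLE (P := @LocallyOfFiniteType) f inferInstance
        ⟨⊤, isAffineOpen_top _⟩ ⟨U, hU⟩ hle
    have h2 : RingHom.FiniteType
        ((f.appLE ⊤ U hle).hom.comp (Scheme.ΓSpecIso (CommRingCat.of k)).inv.hom) :=
      h1.comp (RingHom.FiniteType.of_surjective _
        (ConcreteCategory.bijective_of_isIso (Scheme.ΓSpecIso (CommRingCat.of k)).inv).2)
    exact h2
  exact Groth.Agent.Lib.Helper7.DimFT.height_eq_ringKrullDim_of_isMaximal k Γ(X, U) _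


end

section


theorem ringKrullDim_stalk_eq_stalk_of_isClosed (k : Type u) [Field k] (X : Scheme.{u}) [IsIntegral X]
    (f : X ⟶ Spec (CommRingCat.of k)) [LocallyOfFiniteType f]
    (x x' : X) (hx : IsClosed ({x} : Set X)) (hx' : IsClosed ({x'} : Set X)) :
    ringKrullDim (X.presheaf.stalk x) = ringKrullDim (X.presheaf.stalk x') := by
  obtain ⟨_, ⟨U, hU : IsAffineOpen U, rfl⟩, hxU, -⟩ :=
    X.isBasis_affineOpens.exists_subset_of_mem_open (Set.mem_univ x) isOpen_univ
  obtain ⟨_, ⟨U', hU' : IsAffineOpen U', rfl⟩, hxU', -⟩ :=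
    X.isBasis_affineOpens.exists_subset_of_mem_open (Set.mem_univ x') isOpen_univ
  have := LocallyOfFiniteType.jacobsonSpace f
  have hne : ((U : Set X) ∩ (U' : Set X)).Nonempty :=
    nonempty_preirreducible_inter U.2 U'.2 ⟨x, hxU⟩ ⟨x', hxU'⟩
  obtain ⟨w, ⟨hwU, hwU'⟩, hwc⟩ :=
    nonempty_inter_closedPoints hne (U.2.inter U'.2).isLocallyClosed
  have hw : IsClosed ({w} : Set X) := hwc
  rw [ringKrullDim_stalk_eq_of_isClosed k X f hU x hxU hx,
    ← ringKrullDim_stalk_eq_of_isClosed k X f hU w hwU hw,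
    ringKrullDim_stalk_eq_of_isClosed k X f hU' w hwU' hw,
    ← ringKrullDim_stalk_eq_of_isClosed k X f hU' x' hxU' hx']

theorem ringKrullDim_stalk_eq_topologicalKrullDim (k : Type u) [Field k] (X : Scheme.{u})
    [IsIntegral X] (f : X ⟶ Spec (CommRingCat.of k)) [LocallyOfFiniteType f]
    (x : X) (hx : IsClosed ({x} : Set X)) :
    ringKrullDim (X.presheaf.stalk x) = topologicalKrullDim X := by
  rw [Groth.Agent.Lib.Helper14.AS.topologicalKrullDim_eq_iSup_stalk]
  refine le_antisymm (le_iSup (fun z : X => ringKrullDim (X.presheaf.stalk z)) x) ?_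
  refine iSup_le fun z => ?_
  have := LocallyOfFiniteType.jacobsonSpace f
  obtain ⟨z₀, hz₀, hz₀c⟩ := nonempty_inter_closedPoints
    (⟨z, subset_closure rfl⟩ : (closure ({z} : Set X)).Nonempty) isClosed_closure.isLocallyClosed
  have hspec : z ⤳ z₀ := specializes_iff_mem_closure.mpr hz₀
  rw [← ringKrullDim_stalk_eq_stalk_of_isClosed k X f z₀ x hz₀c hx, ringKrullDim_stalk_eq_coheight,
    ringKrullDim_stalk_eq_coheight]
  exact WithBot.coe_le_coe.mpr (Order.coheight_anti hspec)


end

section


theorem two_le_depth_of_finite_etale (k : Type u) [Field k]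
    (X : Scheme.{u}) (f : X ⟶ Spec (CommRingCat.of k)) [LocallyOfFiniteType f] [IsIntegral X]
    (hN : Pi1.IsNormalScheme X) (hdim : (2 : WithBot ℕ∞) ≤ topologicalKrullDim X)
    {Y : Scheme.{u}} (g : Y ⟶ X) [IsFinite g] [Etale g] (y : Y) (hy : IsClosed ({y} : Set Y)) :
    2 ≤ LocCoh.depth (Y.presheaf.stalk y) (Y.presheaf.stalk y) := by
  have hx : IsClosed ({g.base y} : Set X) := by
    have := g.isClosedMap _ hy
    rwa [Set.image_singleton] at this
  have h1 := Groth.Agent.Lib.Helper25.GrpDim.ringKrullDim_stalk_eq_of_flat_integral g y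
  have h2 := ringKrullDim_stalk_eq_topologicalKrullDim k X f (g.base y) hx
  have hd : (2 : WithBot ℕ∞) ≤ ringKrullDim (Y.presheaf.stalk y) := by
    rw [h1, h2]; exact hdim
  obtain ⟨hdom, hic⟩ := Groth.Agent.Lib.Helper24.ENorm.stalk_of_etale (fun x => (hN x).2) g y
  haveI : IsLocallyNoetherian (Spec (CommRingCat.of k)) :=
    isLocallyNoetherian_Spec.mpr (inferInstanceAs (IsNoetherianRing k))
  haveI : IsLocallyNoetherian X := LocallyOfFiniteType.isLocallyNoetherian f
  haveI : IsLocallyNoetherian Y := LocallyOfFiniteType.isLocallyNoetherian g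
  have h3 := Groth.Agent.Lib.Helper18.Serre.min_two_dim_le_depth_of_normal (Y.presheaf.stalk y)
  have h4 : ((2 : ℕ) : WithBot ℕ∞) ≤
      ((LocCoh.depth (Y.presheaf.stalk y) (Y.presheaf.stalk y) : ℕ∞) : WithBot ℕ∞) :=
    le_trans (le_min le_rfl (by exact_mod_cast hd)) h3
  have h5 : (((2 : ℕ) : ℕ∞) : WithBot ℕ∞) ≤
      ((LocCoh.depth (Y.presheaf.stalk y) (Y.presheaf.stalk y) : ℕ∞) : WithBot ℕ∞) := h4
  exact_mod_cast WithBot.coe_le_coe.mp h5


end

section


/-- connectedness through an embedding -/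
theorem connectedSpace_of_isEmbedding {P Y : Scheme.{u}} (h : P ⟶ Y)
    (hemb : Topology.IsEmbedding h) (hc : _root_.IsConnected (Set.range h)) :
    ConnectedSpace P := by
  rw [connectedSpace_iff_univ]
  rw [← Set.image_univ] at hc
  refine ⟨?_, ?_⟩
  · exact Set.image_nonempty.mp hc.1
  · exact (hemb.isInducing.isPreconnected_image).mp hc.2

open Groth.Agent.Lib.Helper29.QCoh Groth.Agent.Lib.Helper29.AmpDiv
  Groth.Agent.Lib.Lead.SD.AmpleConn in
theorem main' (k : Type u) [Field k]
    (X : Scheme.{u}) (f : X ⟶ Spec (CommRingCat.of k)) [IsProper f] [IsIntegral X]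
    (hN : Pi1.IsNormalScheme X) (hdim : (2 : WithBot ℕ∞) ≤ topologicalKrullDim X)
    (L : X.Modules) (hL : CohB1.IsAmple L) (s : Coh.structureModule X ⟶ L) (hs : Mono s)
    {Y : Scheme.{u}} (g : Y ⟶ X) [IsFinite g] [Etale g] [ConnectedSpace Y] :
    ConnectedSpace ↥(pullback g (PicF2.zeroScheme L s).subschemeι) := by
  haveI : IsLocallyNoetherian (Spec (CommRingCat.of k)) :=
    isLocallyNoetherian_Spec.mpr (inferInstanceAs (IsNoetherianRing k))
  haveI : IsLocallyNoetherian X := LocallyOfFiniteType.isLocallyNoetherian f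
  haveI : IsLocallyNoetherian Y := LocallyOfFiniteType.isLocallyNoetherian g
  letI : Y.Over (Spec (CommRingCat.of k)) := ⟨g ≫ f⟩
  haveI : IsProper (Y ↘ (Spec (CommRingCat.of k))) := by
    change IsProper (g ≫ f)
    infer_instance
  haveI : CompactSpace X := hL.2.1
  haveI : CompactSpace Y := QuasiCompact.compactSpace_of_compactSpace g
  have hL' : CohB1.IsAmple ((Scheme.Modules.pullback g).obj L) :=
    isAmple_pullback_of_isAffineHom g hL
  have hs' : Mono (pullHom g s) := by
    haveI := Groth.Agent.Lib.Helper28.FlatPull.mono_pullback_map_of_flat g s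
    unfold pullHom
    exact mono_comp _ _
  have hdepth : ∀ y : Y, IsClosed ({y} : Set Y) →
      2 ≤ LocCoh.depth (Y.presheaf.stalk y) (Y.presheaf.stalk y) :=
    fun y hy => two_le_depth_of_finite_etale k X f hN hdim g y hy
  have hconn := connectedSpace_zeroScheme k Y ((Scheme.Modules.pullback g).obj L) hL'
    (pullHom g s) hs' hdepth
  rw [connectedSpace_subscheme_iff] at hconn
  -- supports
  have hsupp' := support_zeroScheme_eq hL'.1 (pullHom g s)
    (assPts_subset_genLocus_of_mono hL'.1 _ hs')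
  have hsupp := support_zeroScheme_eq hL.1 s (assPts_subset_genLocus_of_mono hL.1 s hs)
  rw [hsupp', genLocus_pullHom g hL.1 s] at hconn
  apply connectedSpace_of_isEmbedding (pullback.fst g (PicF2.zeroScheme L s).subschemeι)
    (pullback.fst g (PicF2.zeroScheme L s).subschemeι).isEmbedding
  rw [Scheme.Pullback.range_fst, (PicF2.zeroScheme L s).range_subschemeι, hsupp]
  exact hconn

theorem main (k : Type u) [Field k]
    (X : Scheme.{u}) (f : X ⟶ Spec (CommRingCat.of k)) [IsProper f] [IsIntegral X]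
    (hN : Pi1.IsNormalScheme X) (hdim : (2 : WithBot ℕ∞) ≤ topologicalKrullDim X)
    (L : X.Modules) (hL : CohB1.IsAmple L) (s : Coh.structureModule X ⟶ L) (hs : Mono s)
    (Y : FEt.Cat X) [ConnectedSpace Y.left] :
    ConnectedSpace ↥(pullback Y.hom (PicF2.zeroScheme L s).subschemeι) := by
  have hfin : IsFinite (Y.hom : Y.left ⟶ X) := Y.prop.1
  have het : Etale (Y.hom : Y.left ⟶ X) := Y.prop.2
  exact main' k X f hN hdim L hL s hs (Y := Y.left) Y.hom


end
end Groth.Agent.Lib.Helper23.AmpleCover
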