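import Mathlib
import Groth.Agent.Lib.Helper23.ResidueFiniteLoc
import Groth.Agent.Lib.Helper23.KeyLemma3
import Groth.Agent.Lib.Helper9.SemiLocalProd
import Groth.Agent.Lib.Helper23.FlatLift
import Groth.Agent.Lib.Helper23.FlatLiftUnique
import Groth.Agent.Lib.Helper23.AdicSmoothFlat
import Groth.Agent.Lib.Helper23.FlatFibreSmooth
import Groth.Agent.Lib.Helper23.RegularHom
import Groth.Agent.Lib.Helper23.FormalFibreCharP4
import Groth.Agent.S7134
import Groth.Agent.S4537

/-!
André's theorem, step 1: descent of adically formally smooth complete local algebras along a finite residually trivial local homomorphism `A₀ → A` (`exists_descent`): every such `B` over `A` is `A ⊗[A₀] C` for a flat adically formally smooth complete local `A₀`-algebra `C`.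
-/

set_option autoImplicit false
universe u


namespace Groth.Agent.Lib.Helper23.Andre1


open IsLocalRing TensorProduct

section H

variable {A₀ : Type u} [CommRing A₀] [IsLocalRing A₀]
  (A' : Type u) [CommRing A'] [IsLocalRing A'] [Algebra A₀ A'] [Module.Finite A₀ A']
  (C : Type u) [CommRing C] [IsLocalRing C] [IsNoetherianRing C]
  [IsAdicComplete (maximalIdeal C) C] [Algebra A₀ C] [IsLocalHom (algebraMap A₀ C)]

attribute [local instance] Algebra.TensorProduct.rightAlgebra

theorem isNoetherianRing_tensor : IsNoetherianRing (A' ⊗[A₀] C) := by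
  haveI := Groth.Agent.Lib.Helper23.ResidueFiniteLoc.finite_right (A := A₀) (B := C) A'
  exact IsNoetherianRing.of_finite C _

variable [IsLocalRing (A' ⊗[A₀] C)]

theorem isAdicComplete_tensor :
    IsAdicComplete (maximalIdeal (A' ⊗[A₀] C)) (A' ⊗[A₀] C) := by
  haveI := Groth.Agent.Lib.Helper23.ResidueFiniteLoc.finite_right (A := A₀) (B := C) A'
  exact Groth.Agent.Lib.Helper9.SemiLocalProd.isAdicComplete_maximalIdeal_of_finite C
    (A' ⊗[A₀] C)

theorem map_includeRight_le :
    (maximalIdeal C).map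
      ((Algebra.TensorProduct.includeRight : C →ₐ[A₀] A' ⊗[A₀] C) : C →+* A' ⊗[A₀] C) ≤
      maximalIdeal (A' ⊗[A₀] C) := by
  rw [Ideal.map_le_iff_le_comap]
  exact Groth.Agent.Lib.Helper23.ResidueFiniteLoc.maximalIdeal_le_comap (A := A₀) (B := C) A'
    (maximalIdeal (A' ⊗[A₀] C))

theorem adic_tensor (h : CAlgX.IsAdicFormallySmooth A₀ C (maximalIdeal C)) :
    CAlgX.IsAdicFormallySmooth A' (A' ⊗[A₀] C) (maximalIdeal (A' ⊗[A₀] C)) :=
  Groth.Agent.Lib.Helper23.KeyLemma3.isAdicFormallySmooth_mono _ _ (map_includeRight_le A' C)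
    (Groth.Agent.Lib.Helper23.KeyLemma3.isAdicFormallySmooth_baseChange A₀ C A' _ h)

theorem isLocalHom_tensor [Module.Flat A₀ C] : IsLocalHom (algebraMap A' (A' ⊗[A₀] C)) := by
  haveI : Module.FaithfullyFlat A₀ C := Module.FaithfullyFlat.of_flat_of_isLocalHom
  haveI : Module.FaithfullyFlat A' (A' ⊗[A₀] C) := inferInstance
  refine ⟨fun a ha => ?_⟩
  by_contra hna
  have h1 : Ideal.span {a} ≠ ⊤ := by
    intro h
    exact hna (Ideal.span_singleton_eq_top.mp h)
  have h2 := Ideal.comap_map_eq_self_of_faithfullyFlat (B := A' ⊗[A₀] C) (Ideal.span {a})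
  have h3 : (Ideal.span {a}).map (algebraMap A' (A' ⊗[A₀] C)) = ⊤ := by
    rw [Ideal.map_span, Set.image_singleton]
    exact Ideal.span_singleton_eq_top.mpr ha
  rw [h3, Ideal.comap_top] at h2
  exact h1 h2.symm

end H



open IsLocalRing TensorProduct Function

/-- change of base ring along a bijection. -/
theorem adic_of_bijective {R R' S : Type u} [CommRing R] [CommRing R'] [CommRing S]
    [Algebra R R'] [Algebra R' S] [Algebra R S] [IsScalarTower R R' S]
    (hb : Function.Bijective (algebraMap R R')) (𝔫 : Ideal S)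
    (h : CAlgX.IsAdicFormallySmooth R' S 𝔫) : CAlgX.IsAdicFormallySmooth R S 𝔫 := by
  haveI : Algebra.FormallySmooth R R' :=
    Algebra.FormallySmooth.of_equiv (AlgEquiv.ofBijective (Algebra.ofId R R') hb)
  exact Groth.Agent.Lib.Helper23.RegularHom.adic_of_formallySmooth_base R R' S 𝔫 h

section C

variable {A₀ A B : Type u} [CommRing A₀] [IsLocalRing A₀] [IsNoetherianRing A₀]
  [CommRing A] [IsLocalRing A] [IsNoetherianRing A] [Algebra A₀ A]
  [IsLocalHom (algebraMap A₀ A)]
  [CommRing B] [IsLocalRing B] [IsNoetherianRing B] [IsAdicComplete (maximalIdeal B) B]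
  [Algebra A B] [IsLocalHom (algebraMap A B)]

set_option maxHeartbeats 800000 in
/-- the closed fibre of an adically formally smooth `A`-algebra lifts to a flat formally smooth
complete local algebra over `A₀`, when `A₀ → A` is a local homomorphism inducing an isomorphism of
residue fields. -/
theorem exists_lift_closedFibre
    (hres : Function.Surjective ((residue A).comp (algebraMap A₀ A)))
    (h : CAlgX.IsAdicFormallySmooth A B (maximalIdeal B)) :
    ∃ (C : Type u) (_ : CommRing C) (_ : IsLocalRing C) (_ : IsNoetherianRing C) (_ : Algebra A₀ C)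
      (_ : IsLocalHom (algebraMap A₀ C))
      (ε : C →+* B ⧸ (maximalIdeal A).map (algebraMap A B)),
      IsAdicComplete (maximalIdeal C) C ∧ Module.Flat A₀ C ∧
      CAlgX.IsAdicFormallySmooth A₀ C (maximalIdeal C) ∧ Surjective ε ∧
      RingHom.ker ε = (maximalIdeal A₀).map (algebraMap A₀ C) ∧
      ∀ a, ε (algebraMap A₀ C a) =
        Ideal.Quotient.mk _ (algebraMap A B (algebraMap A₀ A a)) := by
  set I₀ : Ideal B := (maximalIdeal A).map (algebraMap A B) with hI₀
  have hI₀le : I₀ ≤ maximalIdeal B := map_maximalIdeal_le _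
  haveI : IsLocalRing (B ⧸ I₀) :=
    Groth.Agent.Lib.Helper21.isLocalRing_quotient_of_le_maximalIdeal hI₀le
  haveI : IsRegularLocalRing (B ⧸ I₀) :=
    Groth.Agent.Lib.Helper23.AdicSmoothFlat.isRegularLocalRing_quotient_of_adic h
  haveI : IsAdicComplete (maximalIdeal (B ⧸ I₀)) (B ⧸ I₀) :=
    Groth.Agent.Lib.Helper9.SemiLocalProd.isAdicComplete_maximalIdeal_of_finite B (B ⧸ I₀)
  let θ₀ : A₀ →+* B ⧸ I₀ :=
    (Ideal.Quotient.mk I₀).comp ((algebraMap A B).comp (algebraMap A₀ A))
  have hmem : ∀ a ∈ maximalIdeal A₀, algebraMap A₀ A a ∈ maximalIdeal A := by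
    intro a ha
    rw [mem_maximalIdeal, mem_nonunits_iff]
    intro hu
    exact (mem_maximalIdeal a).mp ha (IsLocalHom.map_nonunit a hu)
  have hθ₀ : maximalIdeal A₀ ≤ RingHom.ker θ₀ := fun a ha => by
    rw [RingHom.mem_ker]
    show Ideal.Quotient.mk I₀ (algebraMap A B (algebraMap A₀ A a)) = 0
    exact Ideal.Quotient.eq_zero_iff_mem.mpr (Ideal.mem_map_of_mem _ (hmem a ha))
  obtain ⟨C, _, _, _, _, hloc, ε, hCc, hCflat, hε, hkerε, hεalg⟩ :=
    Groth.Agent.Lib.Helper23.FlatLift.exists_flat_complete_local (B ⧸ I₀) θ₀ hθ₀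
  haveI := hloc
  haveI := hCc
  haveI := hCflat
  refine ⟨C, inferInstance, inferInstance, inferInstance, inferInstance, hloc, ε, hCc, hCflat, ?_,
    hε, hkerε, hεalg⟩
  -- formal smoothness of `C` over `A₀`
  have hB₀ : CAlgX.IsAdicFormallySmooth (A ⧸ maximalIdeal A) (B ⧸ I₀)
      ((maximalIdeal B).map (Ideal.Quotient.mk I₀)) :=
    Groth.Agent.S7134.adic_quotient (maximalIdeal A) (maximalIdeal B) h
  -- the residue field map
  let σ : A₀ ⧸ maximalIdeal A₀ →+* A ⧸ maximalIdeal A :=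
    Ideal.Quotient.lift (maximalIdeal A₀)
      ((Ideal.Quotient.mk (maximalIdeal A)).comp (algebraMap A₀ A))
      (fun a ha => Ideal.Quotient.eq_zero_iff_mem.mpr (hmem a ha))
  letI : Field (A₀ ⧸ maximalIdeal A₀) := Ideal.Quotient.field _
  letI : Field (A ⧸ maximalIdeal A) := Ideal.Quotient.field _
  have hσbij : Function.Bijective σ := by
    refine ⟨σ.injective, ?_⟩
    intro y
    obtain ⟨a, rfl⟩ := Ideal.Quotient.mk_surjective y
    obtain ⟨a₀, ha₀⟩ := hres (residue A a)
    exact ⟨Ideal.Quotient.mk _ a₀, ha₀⟩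
  letI algσ : Algebra (A₀ ⧸ maximalIdeal A₀) (A ⧸ maximalIdeal A) := σ.toAlgebra
  letI algB₀ : Algebra (A₀ ⧸ maximalIdeal A₀) (B ⧸ I₀) :=
    ((algebraMap (A ⧸ maximalIdeal A) (B ⧸ I₀)).comp σ).toAlgebra
  haveI : IsScalarTower (A₀ ⧸ maximalIdeal A₀) (A ⧸ maximalIdeal A) (B ⧸ I₀) :=
    IsScalarTower.of_algebraMap_eq (fun _ => rfl)
  have hB₀' : CAlgX.IsAdicFormallySmooth (A₀ ⧸ maximalIdeal A₀) (B ⧸ I₀)
      ((maximalIdeal B).map (Ideal.Quotient.mk I₀)) :=
    adic_of_bijective hσbij _ hB₀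
  -- the isomorphism `B/I₀ ≅ C/𝔪₀C`
  let e : (C ⧸ (maximalIdeal A₀).map (algebraMap A₀ C)) ≃+* B ⧸ I₀ :=
    (Ideal.quotEquivOfEq hkerε.symm).trans (RingHom.quotientKerEquivOfSurjective hε)
  have he : ∀ c, e (Ideal.Quotient.mk _ c) = ε c := fun c => rfl
  have hesymm : ∀ c, e.symm (ε c) = Ideal.Quotient.mk _ c := fun c => by
    rw [← he, RingEquiv.symm_apply_apply]
  have hfib : CAlgX.IsAdicFormallySmooth (A₀ ⧸ maximalIdeal A₀)
      (C ⧸ (maximalIdeal A₀).map (algebraMap A₀ C))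
      ((maximalIdeal C).map (Ideal.Quotient.mk ((maximalIdeal A₀).map (algebraMap A₀ C)))) := by
    refine Groth.Agent.Lib.Helper23.FormalFibreCharP.adic_of_ringEquiv
      (R := A₀ ⧸ maximalIdeal A₀) e.symm ?_ ((maximalIdeal B).map (Ideal.Quotient.mk I₀)) _ ?_ hB₀'
    · intro r
      obtain ⟨a, rfl⟩ := Ideal.Quotient.mk_surjective r
      have h1 : algebraMap (A₀ ⧸ maximalIdeal A₀) (B ⧸ I₀) (Ideal.Quotient.mk _ a) =
          ε (algebraMap A₀ C a) := by
        rw [hεalg]
        rfl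
      rw [h1, hesymm]
      rfl
    · rw [Ideal.map_le_iff_le_comap]
      intro b hb
      rw [Ideal.mem_comap, Ideal.mem_comap]
      obtain ⟨c, hc⟩ := hε (Ideal.Quotient.mk I₀ b)
      rw [← hc]
      show e.symm (ε c) ∈ _
      rw [hesymm]
      apply Ideal.mem_map_of_mem
      rw [mem_maximalIdeal, mem_nonunits_iff]
      intro hcu
      have h2 : IsUnit (Ideal.Quotient.mk I₀ b) := hc ▸ hcu.map ε
      haveI : IsLocalHom (Ideal.Quotient.mk I₀) :=
        IsLocalHom.of_surjective _ Ideal.Quotient.mk_surjective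
      exact (mem_maximalIdeal b).mp hb (IsLocalHom.map_nonunit b h2)
  have hfs : EGA41.IsFormallySmoothAdic A₀ (maximalIdeal A₀) C (maximalIdeal C) :=
    Groth.Agent.Lib.Helper23.FlatFibreSmooth.formallySmoothAdic_of_flat_of_fibre _ _ hfib
  exact Groth.Agent.S7134.adic_of_adic (maximalIdeal A₀) (maximalIdeal C)
    (map_maximalIdeal_le _) hfs

end C



open IsLocalRing TensorProduct Function

/-- a ring with a surjection onto a local ring whose kernel lies in the Jacobson radical is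
local. -/
theorem isLocalRing_of_surjective_of_ker_le {T T₀ : Type*} [CommRing T] [CommRing T₀]
    [IsLocalRing T₀] (π : T →+* T₀) (hπ : Surjective π)
    (hker : RingHom.ker π ≤ (⊥ : Ideal T).jacobson) : IsLocalRing T := by
  haveI : Nontrivial T := by
    refine ⟨⟨0, 1, fun h => ?_⟩⟩
    have := congrArg π h
    rw [map_zero, map_one] at this
    exact zero_ne_one this
  have hunit : ∀ x : T, IsUnit (π x) → IsUnit x := by
    intro x hx
    obtain ⟨y, hy⟩ := hπ (hx.unit⁻¹ : T₀ˣ)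
    have h1 : x * y - 1 ∈ RingHom.ker π := by
      rw [RingHom.mem_ker, map_sub, map_mul, map_one, hy, sub_eq_zero]
      exact hx.mul_val_inv
    have h2 := hker h1
    rw [Ideal.mem_jacobson_bot] at h2
    have h3 := h2 1
    rw [mul_one, sub_add_cancel] at h3
    exact isUnit_of_mul_isUnit_left h3
  apply IsLocalRing.of_nonunits_add
  intro x y hx hy hxy
  have hx' : π x ∈ nonunits T₀ := fun h => hx (hunit x h)
  have hy' : π y ∈ nonunits T₀ := fun h => hy (hunit y h)
  have := IsLocalRing.nonunits_add hx' hy'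
  rw [← map_add] at this
  exact this (hxy.map π)

section C2

variable {A₀ A B : Type u} [CommRing A₀] [IsLocalRing A₀] [IsNoetherianRing A₀]
  [CommRing A] [IsLocalRing A] [IsNoetherianRing A] [Algebra A₀ A] [Module.Finite A₀ A]
  [IsLocalHom (algebraMap A₀ A)]
  [CommRing B] [IsLocalRing B] [IsNoetherianRing B] [IsAdicComplete (maximalIdeal B) B]
  [Algebra A B] [IsLocalHom (algebraMap A B)]

attribute [local instance] Algebra.TensorProduct.rightAlgebra

set_option maxHeartbeats 1600000 in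
/-- **descent of adically formally smooth algebras along finite residually trivial maps**. -/
theorem exists_descent
    (hres : Function.Surjective ((residue A).comp (algebraMap A₀ A)))
    (h : CAlgX.IsAdicFormallySmooth A B (maximalIdeal B)) :
    ∃ (C : Type u) (_ : CommRing C) (_ : IsLocalRing C) (_ : IsNoetherianRing C) (_ : Algebra A₀ C)
      (_ : IsLocalHom (algebraMap A₀ C)),
      IsAdicComplete (maximalIdeal C) C ∧ Module.Flat A₀ C ∧
      CAlgX.IsAdicFormallySmooth A₀ C (maximalIdeal C) ∧ Nonempty (B ≃ₐ[A] A ⊗[A₀] C) := by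
  set I₀ : Ideal B := (maximalIdeal A).map (algebraMap A B) with hI₀
  obtain ⟨C, _, _, _, _, hloc, ε, hCc, hCflat, hCfs, hε, hkerε, hεalg⟩ :=
    exists_lift_closedFibre (A₀ := A₀) hres h
  haveI := hloc
  haveI := hCc
  haveI := hCflat
  refine ⟨C, inferInstance, inferInstance, inferInstance, inferInstance, hloc, hCc, hCflat, hCfs, ?_⟩
  have hI₀le : I₀ ≤ maximalIdeal B := map_maximalIdeal_le _
  haveI : IsLocalRing (B ⧸ I₀) :=
    Groth.Agent.Lib.Helper21.isLocalRing_quotient_of_le_maximalIdeal hI₀le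
  have hmem : ∀ a ∈ maximalIdeal A₀, algebraMap A₀ A a ∈ maximalIdeal A := by
    intro a ha
    rw [mem_maximalIdeal, mem_nonunits_iff]
    intro hu
    exact (mem_maximalIdeal a).mp ha (IsLocalHom.map_nonunit a hu)
  -- the map `T → B/I₀`
  letI algB₀ : Algebra A₀ (B ⧸ I₀) :=
    ((Ideal.Quotient.mk I₀).comp ((algebraMap A B).comp (algebraMap A₀ A))).toAlgebra
  let fA : A →ₐ[A₀] B ⧸ I₀ :=
    { toRingHom := (Ideal.Quotient.mk I₀).comp (algebraMap A B)
      commutes' := fun _ => rfl }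
  let gC : C →ₐ[A₀] B ⧸ I₀ :=
    { toRingHom := ε
      commutes' := fun a => hεalg a }
  let π : A ⊗[A₀] C →ₐ[A₀] B ⧸ I₀ :=
    Algebra.TensorProduct.lift fA gC (fun _ _ => Commute.all _ _)
  have hπ : ∀ (a : A) (c : C), π (a ⊗ₜ c) = Ideal.Quotient.mk I₀ (algebraMap A B a) * ε c :=
    fun a c => by simp [π, fA, gC]
  have hπsurj : Surjective (π : A ⊗[A₀] C →+* B ⧸ I₀) := by
    intro y
    obtain ⟨c, rfl⟩ := hε y
    exact ⟨1 ⊗ₜ c, by show π _ = _; rw [hπ, map_one, map_one, one_mul]⟩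
  -- the kernel
  set K : Ideal (A ⊗[A₀] C) := (maximalIdeal A).map (algebraMap A (A ⊗[A₀] C)) with hK
  have hKmem : ∀ a ∈ maximalIdeal A, ∀ c : C, (a ⊗ₜ[A₀] c : A ⊗[A₀] C) ∈ K := by
    intro a ha c
    have h1 : (a ⊗ₜ[A₀] c : A ⊗[A₀] C) = algebraMap A (A ⊗[A₀] C) a * (1 ⊗ₜ c) := by
      rw [Algebra.TensorProduct.algebraMap_apply, Algebra.TensorProduct.tmul_mul_tmul,
        Algebra.algebraMap_self, RingHom.id_apply, mul_one, one_mul]
    rw [h1]
    exact Ideal.mul_mem_right _ _ (Ideal.mem_map_of_mem _ ha)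
  have hKle : K ≤ RingHom.ker (π : A ⊗[A₀] C →+* B ⧸ I₀) := by
    rw [hK, Ideal.map_le_iff_le_comap]
    intro a ha
    rw [Ideal.mem_comap, RingHom.mem_ker]
    show π (algebraMap A (A ⊗[A₀] C) a) = 0
    rw [Algebra.TensorProduct.algebraMap_apply, Algebra.algebraMap_self, RingHom.id_apply, hπ,
      map_one, mul_one]
    exact Ideal.Quotient.eq_zero_iff_mem.mpr (Ideal.mem_map_of_mem _ ha)
  have hdecomp : ∀ t : A ⊗[A₀] C, ∃ c : C, t - 1 ⊗ₜ c ∈ K := by
    intro t
    induction t using TensorProduct.induction_on with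
    | zero => exact ⟨0, by rw [TensorProduct.tmul_zero, sub_zero]; exact K.zero_mem⟩
    | tmul a c =>
      obtain ⟨α, hα⟩ := hres (residue A a)
      have h1 : a - algebraMap A₀ A α ∈ maximalIdeal A := by
        rw [← Ideal.Quotient.eq_zero_iff_mem, map_sub, sub_eq_zero]
        exact hα.symm
      refine ⟨α • c, ?_⟩
      have h2 : (a ⊗ₜ[A₀] c - 1 ⊗ₜ[A₀] (α • c) : A ⊗[A₀] C) =
          (a - algebraMap A₀ A α) ⊗ₜ[A₀] c := by
        rw [TensorProduct.sub_tmul, ← TensorProduct.smul_tmul, Algebra.smul_def, mul_one]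
      rw [h2]
      exact hKmem _ h1 c
    | add x y hx hy =>
      obtain ⟨c₁, h₁⟩ := hx
      obtain ⟨c₂, h₂⟩ := hy
      refine ⟨c₁ + c₂, ?_⟩
      have : x + y - 1 ⊗ₜ[A₀] (c₁ + c₂) = (x - 1 ⊗ₜ c₁) + (y - 1 ⊗ₜ c₂) := by
        rw [TensorProduct.tmul_add]; ring
      rw [this]
      exact K.add_mem h₁ h₂
  have hkerπ : RingHom.ker (π : A ⊗[A₀] C →+* B ⧸ I₀) = K := by
    refine le_antisymm ?_ hKle
    intro t ht
    obtain ⟨c, hc⟩ := hdecomp t
    have h1 : π (1 ⊗ₜ[A₀] c) = 0 := by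
      have h2 : π (t - 1 ⊗ₜ[A₀] c) = 0 := hKle hc
      rw [map_sub, (RingHom.mem_ker.mp ht : π t = 0), zero_sub, neg_eq_zero] at h2
      exact h2
    rw [hπ, map_one, map_one, one_mul] at h1
    have h3 : c ∈ (maximalIdeal A₀).map (algebraMap A₀ C) := by
      rw [← hkerε]; exact h1
    have h4 : (1 : A) ⊗ₜ[A₀] c ∈ K := by
      have h5 : (maximalIdeal A₀).map (algebraMap A₀ C) ≤
          K.comap ((Algebra.TensorProduct.includeRight : C →ₐ[A₀] A ⊗[A₀] C) :
            C →+* A ⊗[A₀] C) := by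
        rw [Ideal.map_le_iff_le_comap]
        intro m hm
        rw [Ideal.mem_comap, Ideal.mem_comap]
        show (1 : A) ⊗ₜ[A₀] (algebraMap A₀ C m) ∈ K
        have h6 : (1 : A) ⊗ₜ[A₀] (algebraMap A₀ C m) = (algebraMap A₀ A m) ⊗ₜ[A₀] (1 : C) := by
          rw [Algebra.algebraMap_eq_smul_one, Algebra.algebraMap_eq_smul_one,
            TensorProduct.smul_tmul]
        rw [h6]
        exact hKmem _ (hmem m hm) 1
      exact h5 h3
    have : t = (t - 1 ⊗ₜ[A₀] c) + 1 ⊗ₜ[A₀] c := by ring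
    rw [this]
    exact K.add_mem hc h4
  -- `K` lies in the Jacobson radical
  haveI hfinR := Groth.Agent.Lib.Helper23.ResidueFiniteLoc.finite_right (A := A₀) (B := C) A
  haveI : Algebra.IsIntegral C (A ⊗[A₀] C) := inferInstance
  haveI : Algebra.IsIntegral A₀ A := inferInstance
  have hKjac : K ≤ (⊥ : Ideal (A ⊗[A₀] C)).jacobson := by
    rw [Ideal.jacobson, le_sInf_iff]
    rintro M ⟨-, hM⟩
    haveI := hM
    have h1 : (M.comap (algebraMap C (A ⊗[A₀] C))).IsMaximal :=
      Ideal.isMaximal_comap_of_isIntegral_of_isMaximal (R := C) M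
    have h2 : M.comap (algebraMap C (A ⊗[A₀] C)) = maximalIdeal C := IsLocalRing.eq_maximalIdeal h1
    -- the contraction to `A`
    haveI : (M.comap (algebraMap A (A ⊗[A₀] C))).IsPrime := Ideal.comap_isPrime _ M
    have h3 : (M.comap (algebraMap A (A ⊗[A₀] C))).comap (algebraMap A₀ A) = maximalIdeal A₀ := by
      ext x
      rw [Ideal.mem_comap, Ideal.mem_comap]
      have h4 : algebraMap A (A ⊗[A₀] C) (algebraMap A₀ A x) =
          algebraMap C (A ⊗[A₀] C) (algebraMap A₀ C x) := by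
        rw [Algebra.TensorProduct.algebraMap_apply, Algebra.algebraMap_self, RingHom.id_apply]
        show _ = (1 : A) ⊗ₜ[A₀] (algebraMap A₀ C x)
        rw [Algebra.algebraMap_eq_smul_one, Algebra.algebraMap_eq_smul_one,
          TensorProduct.smul_tmul]
      rw [h4, ← Ideal.mem_comap, h2]
      constructor
      · intro hx
        rw [mem_maximalIdeal, mem_nonunits_iff]
        intro hu
        exact (mem_maximalIdeal _).mp hx (hu.map _)
      · intro hx
        rw [mem_maximalIdeal, mem_nonunits_iff]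
        intro hu
        exact (mem_maximalIdeal x).mp hx (IsLocalHom.map_nonunit x hu)
    have h5 : (M.comap (algebraMap A (A ⊗[A₀] C))).IsMaximal := by
      apply Ideal.isMaximal_of_isIntegral_of_isMaximal_comap (R := A₀)
      rw [h3]
      exact maximalIdeal.isMaximal A₀
    have h6 : M.comap (algebraMap A (A ⊗[A₀] C)) = maximalIdeal A := IsLocalRing.eq_maximalIdeal h5
    rw [hK, Ideal.map_le_iff_le_comap, h6]
  haveI hTloc : IsLocalRing (A ⊗[A₀] C) :=
    isLocalRing_of_surjective_of_ker_le (π : A ⊗[A₀] C →+* B ⧸ I₀) hπsurj (hkerπ ▸ hKjac)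
  haveI hTN : IsNoetherianRing (A ⊗[A₀] C) := isNoetherianRing_tensor A C
  haveI hTc : IsAdicComplete (maximalIdeal (A ⊗[A₀] C)) (A ⊗[A₀] C) := isAdicComplete_tensor A C
  haveI hTflat : Module.Flat A (A ⊗[A₀] C) := inferInstance
  -- uniqueness of flat liftings
  have hfsB : EGA41.IsFormallySmoothAdic A (maximalIdeal A) B (maximalIdeal B) := by
    have h1 := (Groth.Agent.S4537.result (A := A) (B := B) (maximalIdeal B)).mp h
    intro C' _ _ J hJ _ u hu
    exact h1 C' J hJ ⟨1, by rw [pow_one, Ideal.map_bot]⟩ u hu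
  have hKT : K ≤ maximalIdeal (A ⊗[A₀] C) := by
    have := hKjac
    rwa [IsLocalRing.jacobson_eq_maximalIdeal ⊥ bot_ne_top] at this
  obtain ⟨v, -⟩ := Groth.Agent.Lib.Helper23.FlatLiftUnique.exists_algEquiv_of_fibre
    (A := A) (B := B) (B' := A ⊗[A₀] C) (B₀ := B ⧸ I₀) (maximalIdeal A) (maximalIdeal A) hKT hfsB
    (Ideal.Quotient.mk I₀) (π : A ⊗[A₀] C →+* B ⧸ I₀) Ideal.Quotient.mk_surjective hπsurj
    Ideal.mk_ker hkerπ (fun a => by
      show _ = π (algebraMap A (A ⊗[A₀] C) a)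
      rw [Algebra.TensorProduct.algebraMap_apply, Algebra.algebraMap_self, RingHom.id_apply, hπ,
        map_one, mul_one])
  exact ⟨v⟩

end C2

end Groth.Agent.Lib.Helper23.Andre1
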