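import Mathlib
import Groth.Agent.Lib.Helper23.Andre1
import Groth.Agent.Lib.Helper23.J0Complete
import Groth.Agent.Lib.Helper23.ReducedFibres
import Groth.Agent.Lib.Helper23.DerExtend
import Groth.Agent.S2048
import Groth.Agent.S9227

/-!
André's theorem, step 2a: regularity of `(M ⊗ C)[X]/(X^p - s^p a)` via extension of derivations (complete regular base of characteristic `p`).
-/

set_option autoImplicit false
universe u


namespace Groth.Agent.Lib.Helper23.Andre2


open IsLocalRing TensorProduct Function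

theorem isLocalRing_of_pow_pow_mem_range {R R' : Type*} [CommRing R] [IsLocalRing R] [CommRing R']
    [Nontrivial R'] (φ : R →+* R') [IsLocalHom φ] (p : ℕ) [ExpChar R' p] (e : ℕ)
    (h : ∀ y : R', y ^ p ^ e ∈ φ.range) : IsLocalRing R' := by
  have hq0 : p ^ e ≠ 0 := pow_ne_zero _ (expChar_pos R' p).ne'
  apply IsLocalRing.of_nonunits_add
  intro y z hy hz
  obtain ⟨a, ha⟩ := h y
  obtain ⟨b, hb⟩ := h z
  have hya : a ∈ maximalIdeal R := by
    rw [mem_maximalIdeal]
    intro hu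
    apply hy
    have : IsUnit (y ^ p ^ e) := by rw [← ha]; exact hu.map _
    exact (isUnit_pow_iff hq0).mp this
  have hzb : b ∈ maximalIdeal R := by
    rw [mem_maximalIdeal]
    intro hu
    apply hz
    have : IsUnit (z ^ p ^ e) := by rw [← hb]; exact hu.map _
    exact (isUnit_pow_iff hq0).mp this
  intro hyz
  have h1 : (y + z) ^ p ^ e = φ (a + b) := by
    rw [add_pow_expChar_pow, map_add, ha, hb]
  have h2 : IsUnit (φ (a + b)) := by rw [← h1]; exact hyz.pow _
  have h3 : IsUnit (a + b) := IsLocalHom.map_nonunit _ h2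
  exact (mem_maximalIdeal _).mp (Ideal.add_mem _ hya hzb) h3

section T

variable {A₀ : Type u} [CommRing A₀] [IsLocalRing A₀]
  (A' : Type u) [CommRing A'] [IsLocalRing A'] [Algebra A₀ A'] [Module.Finite A₀ A']
  (C : Type u) [CommRing C] [IsLocalRing C] [IsNoetherianRing C]
  [IsAdicComplete (maximalIdeal C) C] [Algebra A₀ C] [IsLocalHom (algebraMap A₀ C)]
  [Module.Flat A₀ C]

attribute [local instance] Algebra.TensorProduct.rightAlgebra

theorem nontrivial_tensor : Nontrivial (A' ⊗[A₀] C) := by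
  haveI : Module.FaithfullyFlat A₀ C := Module.FaithfullyFlat.of_flat_of_isLocalHom
  haveI : Module.FaithfullyFlat A' (A' ⊗[A₀] C) := inferInstance
  have hinj : Function.Injective (algebraMap A' (A' ⊗[A₀] C)) :=
    FaithfulSMul.algebraMap_injective A' (A' ⊗[A₀] C)
  exact hinj.nontrivial

theorem isLocalRing_tensor_of_pow_mem (p : ℕ) [ExpChar (A' ⊗[A₀] C) p] (e : ℕ)
    (hpow : ∀ a : A', a ^ p ^ e ∈ (algebraMap A₀ A').range) : IsLocalRing (A' ⊗[A₀] C) := by
  haveI := nontrivial_tensor (A₀ := A₀) A' C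
  haveI hfin := Groth.Agent.Lib.Helper23.ResidueFiniteLoc.finite_right (A := A₀) (B := C) A'
  haveI : IsLocalHom ((Algebra.TensorProduct.includeRight : C →ₐ[A₀] A' ⊗[A₀] C) :
      C →+* A' ⊗[A₀] C) := by
    refine ⟨fun c hc => ?_⟩
    by_contra hnc
    obtain ⟨M, hM⟩ := Ideal.exists_maximal (A' ⊗[A₀] C)
    haveI := hM
    have h1 := Groth.Agent.Lib.Helper23.ResidueFiniteLoc.maximalIdeal_le_comap (A := A₀) (B := C)
      A' M ((mem_maximalIdeal c).mpr hnc)
    exact hM.ne_top (Ideal.eq_top_of_isUnit_mem _ h1 hc)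
  refine isLocalRing_of_pow_pow_mem_range
    ((Algebra.TensorProduct.includeRight : C →ₐ[A₀] A' ⊗[A₀] C) : C →+* A' ⊗[A₀] C) p e ?_
  intro t
  induction t using TensorProduct.induction_on with
  | zero =>
    rw [zero_pow (pow_ne_zero _ (expChar_pos (A' ⊗[A₀] C) p).ne')]
    exact Subring.zero_mem _
  | tmul a c =>
    obtain ⟨α, hα⟩ := hpow a
    refine ⟨α • c ^ p ^ e, ?_⟩
    show (1 : A') ⊗ₜ[A₀] (α • c ^ p ^ e) = (a ⊗ₜ[A₀] c) ^ p ^ e
    rw [Algebra.TensorProduct.tmul_pow, ← hα, ← TensorProduct.smul_tmul, Algebra.smul_def, mul_one]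
  | add x y hx hy =>
    rw [add_pow_expChar_pow]
    exact Subring.add_mem _ hx hy

end T



open IsLocalRing TensorProduct Function Polynomial

section Step

variable (p : ℕ) [hp : Fact p.Prime] (A₀ : Type u) [CommRing A₀] [IsDomain A₀] [IsLocalRing A₀]
  [IsNoetherianRing A₀] [IsAdicComplete (maximalIdeal A₀) A₀] [IsIntegrallyClosed A₀] [CharP A₀ p]
  (C : Type u) [CommRing C] [IsLocalRing C] [IsNoetherianRing C]
  [IsAdicComplete (maximalIdeal C) C] [Algebra A₀ C] [IsLocalHom (algebraMap A₀ C)]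
  [Module.Flat A₀ C]

set_option maxHeartbeats 1600000 in
/-- the derivation step, for a given finite model `A'` of `M`. -/
theorem exists_derivation_tensor_aux {M : Type u} [Field M] [Algebra A₀ M]
    [Algebra (FractionRing A₀) M] [IsScalarTower A₀ (FractionRing A₀) M]
    [FiniteDimensional (FractionRing A₀) M] [IsPurelyInseparable (FractionRing A₀) M]
    (A' : Type u) [CommRing A'] [IsDomain A'] [Algebra A₀ A'] [Module.Finite A₀ A'] [Algebra A' M]
    [IsScalarTower A₀ A' M] [IsFractionRing A' M]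
    (hfs : CAlgX.IsAdicFormallySmooth A₀ C (maximalIdeal C))
    (a : M) (hnot : ∀ b : M, b ^ p ≠ a) (hM : IsRegularRing (M ⊗[A₀] C)) :
    ∃ (s : M) (_ : s ≠ 0), IsRegularRing (Polynomial (M ⊗[A₀] C) ⧸
      Ideal.span ({Polynomial.map (Int.castRingHom (M ⊗[A₀] C)) (X ^ p) -
        Polynomial.C ((s ^ p * a) ⊗ₜ[A₀] (1 : C))} : Set (Polynomial (M ⊗[A₀] C)))) := by
  classical
  haveI : CharP (FractionRing A₀) p :=
    charP_of_injective_algebraMap (IsFractionRing.injective A₀ (FractionRing A₀)) p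
  haveI : CharP M p :=
    charP_of_injective_algebraMap (algebraMap (FractionRing A₀) M).injective p
  haveI : ExpChar (FractionRing A₀) p := ExpChar.prime hp.out
  haveI : IsNoetherianRing A' := IsNoetherianRing.of_finite A₀ A'
  haveI : IsLocalRing A' :=
    Groth.Agent.Lib.Helper23.ReducedFibres.isLocalRing_of_finite_domain A₀ A'
  haveI : IsAdicComplete (maximalIdeal A') A' :=
    Groth.Agent.Lib.Helper9.SemiLocalProd.isAdicComplete_maximalIdeal_of_finite A₀ A'
  have hinjA'M : Function.Injective (algebraMap A' M) := IsFractionRing.injective A' M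
  haveI : CharP A' p := RingHom.charP _ hinjA'M p
  -- normalise `a`
  obtain ⟨⟨a₁, b⟩, hab⟩ := IsLocalization.surj (nonZeroDivisors A') a
  simp only at hab
  have hb0 : algebraMap A' M (b : A') ≠ 0 := by
    intro h
    exact nonZeroDivisors.ne_zero b.2 (hinjA'M (h.trans (map_zero _).symm))
  have hp1 : p - 1 + 1 = p := Nat.sub_add_cancel hp.out.one_le
  set a' : A' := (b : A') ^ (p - 1) * a₁ with ha'def
  have ha' : algebraMap A' M a' = algebraMap A' M (b : A') ^ p * a := by
    rw [ha'def, map_mul, map_pow, ← hab, ← hp1, pow_succ, hp1]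
    ring
  have hnot' : ∀ y : M, y ^ p ≠ algebraMap A' M a' := by
    intro y hy
    apply hnot (y / algebraMap A' M (b : A'))
    rw [div_pow, hy, ha', mul_comm, mul_div_assoc, div_self (pow_ne_zero _ hb0), mul_one]
  refine ⟨algebraMap A' M (b : A'), hb0, ?_⟩
  rw [← ha']
  -- powers land in `A₀`
  have hpow : ∀ x : A', x ^ p ^ IsPurelyInseparable.exponent (FractionRing A₀) M ∈
      (algebraMap A₀ A').range := by
    intro x
    obtain ⟨y, hy⟩ := IsPurelyInseparable.exponent_def' (FractionRing A₀) p (algebraMap A' M x)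
    have hxint : IsIntegral A₀ (algebraMap A' M x) :=
      (Algebra.IsIntegral.isIntegral (R := A₀) x).algebraMap
    have hyint : IsIntegral A₀ y := by
      have h1 : IsIntegral A₀ (algebraMap (FractionRing A₀) M y) := by
        rw [hy]; exact hxint.pow _
      exact (isIntegral_algebraMap_iff (algebraMap (FractionRing A₀) M).injective).mp h1
    obtain ⟨α, hα⟩ := IsIntegrallyClosed.isIntegral_iff.mp hyint
    refine ⟨α, ?_⟩
    apply hinjA'M
    rw [← IsScalarTower.algebraMap_apply A₀ A' M, IsScalarTower.algebraMap_apply A₀ (FractionRing A₀) M,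
      hα, hy, map_pow]
  -- the ring `T = A' ⊗ C`
  haveI hTnt := nontrivial_tensor (A₀ := A₀) A' C
  haveI : Module.FaithfullyFlat A₀ C := Module.FaithfullyFlat.of_flat_of_isLocalHom
  haveI : Module.FaithfullyFlat A' (A' ⊗[A₀] C) := inferInstance
  haveI : CharP (A' ⊗[A₀] C) p :=
    charP_of_injective_algebraMap (FaithfulSMul.algebraMap_injective A' (A' ⊗[A₀] C)) p
  haveI : ExpChar (A' ⊗[A₀] C) p := ExpChar.prime hp.out
  haveI hTloc : IsLocalRing (A' ⊗[A₀] C) := isLocalRing_tensor_of_pow_mem A' C p _ hpow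
  haveI hTN : IsNoetherianRing (A' ⊗[A₀] C) := Groth.Agent.Lib.Helper23.Andre1.isNoetherianRing_tensor A' C
  haveI hTc : IsAdicComplete (maximalIdeal (A' ⊗[A₀] C)) (A' ⊗[A₀] C) :=
    Groth.Agent.Lib.Helper23.Andre1.isAdicComplete_tensor A' C
  haveI hTlh : IsLocalHom (algebraMap A' (A' ⊗[A₀] C)) := Groth.Agent.Lib.Helper23.Andre1.isLocalHom_tensor A' C
  have hTfs : CAlgX.IsAdicFormallySmooth A' (A' ⊗[A₀] C) (maximalIdeal (A' ⊗[A₀] C)) :=
    Groth.Agent.Lib.Helper23.Andre1.adic_tensor A' C hfs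
  -- the derivation of `A'`
  have hfC : ∀ x : FractionRing A', x ^ p ≠ algebraMap A' (FractionRing A') a' := by
    intro x hx
    apply hnot' (FractionRing.algEquiv A' M x)
    rw [← map_pow, hx, AlgEquiv.commutes]
  obtain ⟨D, hD⟩ := Groth.Agent.S2048.result (R := A₀) (B := A') p a' hfC
  obtain ⟨D', hD'⟩ := Groth.Agent.Lib.Helper23.DerExtend.t9258main A' (A' ⊗[A₀] C) hTfs D
  -- the localization `M ⊗ C`
  letI algTR : Algebra (A' ⊗[A₀] C) (M ⊗[A₀] C) :=
    (Algebra.TensorProduct.map (IsScalarTower.toAlgHom A₀ A' M) (AlgHom.id A₀ C)).toRingHom.toAlgebra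
  have halg : ∀ (x : A') (c : C), algebraMap (A' ⊗[A₀] C) (M ⊗[A₀] C) (x ⊗ₜ c) =
      (algebraMap A' M x) ⊗ₜ c := fun x c => rfl
  haveI : IsScalarTower A' (A' ⊗[A₀] C) (M ⊗[A₀] C) := IsScalarTower.of_algebraMap_eq (fun x => by
    rw [Algebra.TensorProduct.algebraMap_apply (A := M),
      Algebra.TensorProduct.algebraMap_apply (A := A'), Algebra.algebraMap_self, RingHom.id_apply,
      halg])
  haveI hlocz : IsLocalization (Algebra.algebraMapSubmonoid (A' ⊗[A₀] C)
      (nonZeroDivisors A')) (M ⊗[A₀] C) :=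
    IsLocalization.tensorProduct_tensorProduct A₀ C (nonZeroDivisors A') M
      (RingHom.ext fun c => by
        show algebraMap (A' ⊗[A₀] C) (M ⊗[A₀] C) ((1 : A') ⊗ₜ[A₀] c) = (1 : M) ⊗ₜ[A₀] c
        rw [halg, map_one])
  haveI : Algebra.FormallyEtale (A' ⊗[A₀] C) (M ⊗[A₀] C) :=
    Algebra.FormallyEtale.of_isLocalization
      (Algebra.algebraMapSubmonoid (A' ⊗[A₀] C) (nonZeroDivisors A'))
  obtain ⟨D'', hD''⟩ := Groth.Agent.Lib.Helper23.FormalFibreCharP.exists_derivation_of_formallyEtale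
    (A := A' ⊗[A₀] C) (B := M ⊗[A₀] C) D'
  refine Groth.Agent.S9227.result (M ⊗[A₀] C) _ D'' ?_ (X ^ p)
  have h1 : (algebraMap A' M a') ⊗ₜ[A₀] (1 : C) =
      algebraMap (A' ⊗[A₀] C) (M ⊗[A₀] C) (algebraMap A' (A' ⊗[A₀] C) a') := by
    rw [Algebra.TensorProduct.algebraMap_apply, Algebra.algebraMap_self, RingHom.id_apply, halg]
  rw [h1, hD'', hD', ← IsScalarTower.algebraMap_apply A' (A' ⊗[A₀] C) (M ⊗[A₀] C),
    IsScalarTower.algebraMap_apply A' M (M ⊗[A₀] C)]
  apply IsUnit.map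
  rw [isUnit_iff_ne_zero]
  intro h0
  exact hD (hinjA'M (h0.trans (map_zero _).symm))

/-- the derivation step: a derivation of `M ⊗ C` which is a unit on `(s^p a) ⊗ 1`. -/
theorem exists_derivation_tensor {M : Type u} [Field M] [Algebra A₀ M]
    [Algebra (FractionRing A₀) M] [IsScalarTower A₀ (FractionRing A₀) M]
    [FiniteDimensional (FractionRing A₀) M] [IsPurelyInseparable (FractionRing A₀) M]
    (hfs : CAlgX.IsAdicFormallySmooth A₀ C (maximalIdeal C))
    (a : M) (hnot : ∀ b : M, b ^ p ≠ a) (hM : IsRegularRing (M ⊗[A₀] C)) :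
    ∃ (s : M) (_ : s ≠ 0), IsRegularRing (Polynomial (M ⊗[A₀] C) ⧸
      Ideal.span ({Polynomial.map (Int.castRingHom (M ⊗[A₀] C)) (X ^ p) -
        Polynomial.C ((s ^ p * a) ⊗ₜ[A₀] (1 : C))} : Set (Polynomial (M ⊗[A₀] C)))) := by
  obtain ⟨A', hA'fin, hA'fr⟩ :=
    Groth.Agent.Lib.Helper18.J2.exists_finite_subalgebra_isFractionRing' A₀ (FractionRing A₀) M
  haveI := hA'fin
  haveI := hA'fr
  exact exists_derivation_tensor_aux p A₀ C A' hfs a hnot hM

end Step

end Groth.Agent.Lib.Helper23.Andre2
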