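import Mathlib
import Groth.Agent.Lib.Helper23.Andre2
import Groth.Agent.Lib.Helper23.GeomRegular2
import Groth.Agent.Lib.Helper23.GenericFormalFibre
import Groth.Agent.Lib.Helper18.FlatLocal
import Groth.Agent.Lib.Helper10.RegularNormal
import Groth.Agent.Lib.Helper25.RegularSmooth

/-!
André's theorem, step 2b: the generic fibre of a flat adically formally smooth complete local algebra over a complete regular local domain is geometrically regular (`geomRegular_generic_of_regular`).
-/

set_option autoImplicit false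
universe u


namespace Groth.Agent.Lib.Helper23.Andre3

open Groth.Agent.Lib.Helper23.Andre2


open IsLocalRing TensorProduct Function Polynomial

section Step2

variable (p : ℕ) [hp : Fact p.Prime] (A₀ : Type u) [CommRing A₀] [IsDomain A₀] [IsLocalRing A₀]
  [IsNoetherianRing A₀] [IsAdicComplete (maximalIdeal A₀) A₀] [IsIntegrallyClosed A₀] [CharP A₀ p]
  (C : Type u) [CommRing C] [IsLocalRing C] [IsNoetherianRing C]
  [IsAdicComplete (maximalIdeal C) C] [Algebra A₀ C] [IsLocalHom (algebraMap A₀ C)]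
  [Module.Flat A₀ C]

set_option maxHeartbeats 1600000 in
theorem step {M L : Type u} [Field M] [Field L] [Algebra A₀ M]
    [Algebra (FractionRing A₀) M] [IsScalarTower A₀ (FractionRing A₀) M]
    [FiniteDimensional (FractionRing A₀) M] [IsPurelyInseparable (FractionRing A₀) M]
    [Algebra A₀ L] [Algebra M L] [IsScalarTower A₀ M L]
    (hfs : CAlgX.IsAdicFormallySmooth A₀ C (maximalIdeal C))
    (θ : L) (hθ : IntermediateField.adjoin M {θ} = ⊤) (a : M) (ha : θ ^ p = algebraMap M L a)
    (hnot : ∀ b : M, b ^ p ≠ a) (hM : IsRegularRing (M ⊗[A₀] C)) :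
    IsRegularRing (L ⊗[A₀] C) := by
  classical
  obtain ⟨s, hs0, hreg⟩ := exists_derivation_tensor p A₀ C hfs a hnot hM
  have hsL : algebraMap M L s ≠ 0 := fun h => hs0 ((algebraMap M L).injective (h.trans (map_zero _).symm))
  set a'' : M := s ^ p * a with ha''
  set θ'' : L := algebraMap M L s * θ with hθ''def
  have hroot : θ'' ^ p = algebraMap M L a'' := by
    rw [hθ''def, mul_pow, ha, ha'', map_mul, map_pow]
  have hnot'' : ∀ b : M, b ^ p ≠ a'' := by
    intro y hy
    apply hnot (y / s)
    rw [div_pow, hy, ha'', mul_comm, mul_div_assoc, div_self (pow_ne_zero _ hs0), mul_one]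
  have hθ'' : IntermediateField.adjoin M {θ''} = ⊤ := by
    rw [eq_top_iff, ← hθ, IntermediateField.adjoin_le_iff]
    intro x hx
    rw [Set.mem_singleton_iff] at hx
    subst hx
    have h1 : θ'' ∈ IntermediateField.adjoin M {θ''} := IntermediateField.subset_adjoin M _ rfl
    have h2 : algebraMap M L s ∈ IntermediateField.adjoin M {θ''} :=
      IntermediateField.algebraMap_mem _ _
    have h3 : x = (algebraMap M L s)⁻¹ * θ'' := by
      rw [hθ''def, ← mul_assoc, inv_mul_cancel₀ hsL, one_mul]
    rw [h3]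
    exact mul_mem (inv_mem h2) h1
  have hirr : Irreducible (X ^ p - Polynomial.C a'' : M[X]) := X_pow_sub_C_irreducible_of_prime hp.out hnot''
  have hmonic : (X ^ p - Polynomial.C a'' : M[X]).Monic := monic_X_pow_sub_C a'' hp.out.ne_zero
  have haeval : aeval θ'' (X ^ p - Polynomial.C a'' : M[X]) = 0 := by
    rw [map_sub, map_pow, aeval_X, aeval_C, hroot, sub_self]
  have hmin : (X ^ p - Polynomial.C a'' : M[X]) = minpoly M θ'' :=
    minpoly.eq_of_irreducible_of_monic hirr haeval hmonic
  have hint : IsIntegral M θ'' := ⟨_, hmonic, by rw [← aeval_def]; exact haeval⟩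
  obtain ⟨e⟩ : Nonempty (AdjoinRoot (X ^ p - Polynomial.C a'' : M[X]) ≃ₐ[M] L) := by
    rw [hmin]
    exact ⟨(IntermediateField.adjoinRootEquivAdjoin M hint).trans
      ((IntermediateField.equivOfEq hθ'').trans IntermediateField.topEquiv)⟩
  -- the chain of isomorphisms
  let e1 : L ⊗[A₀] C ≃+* C ⊗[A₀] L := (Algebra.TensorProduct.comm A₀ L C).toRingEquiv
  let e2 : C ⊗[A₀] AdjoinRoot (X ^ p - Polynomial.C a'' : M[X]) ≃+* C ⊗[A₀] L :=
    (Algebra.TensorProduct.congr (AlgEquiv.refl : C ≃ₐ[A₀] C) (e.restrictScalars A₀)).toRingEquiv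
  set q : (C ⊗[A₀] M)[X] := (X ^ p - Polynomial.C a'' : M[X]).map
    (Algebra.TensorProduct.includeRight : M →ₐ[A₀] C ⊗[A₀] M).toRingHom with hq
  let e3 : C ⊗[A₀] AdjoinRoot (X ^ p - Polynomial.C a'' : M[X]) ≃+* AdjoinRoot q :=
    (AdjoinRoot.tensorAlgEquiv (R := A₀) (T := C) (X ^ p - Polynomial.C a'' : M[X]) q rfl).toRingEquiv
  let cm : M ⊗[A₀] C ≃+* C ⊗[A₀] M := (Algebra.TensorProduct.comm A₀ M C).toRingEquiv
  have hqmap : Ideal.span {q} = Ideal.map (↑(Polynomial.mapEquiv cm) : (M ⊗[A₀] C)[X] →+* (C ⊗[A₀] M)[X])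
      (Ideal.span ({Polynomial.map (Int.castRingHom (M ⊗[A₀] C)) (X ^ p) -
        Polynomial.C (a'' ⊗ₜ[A₀] (1 : C))} : Set (Polynomial (M ⊗[A₀] C)))) := by
    rw [Ideal.map_span, Set.image_singleton]
    congr 2
    rw [hq]
    simp only [Polynomial.map_sub, Polynomial.map_pow, Polynomial.map_X, Polynomial.map_C,
      RingHom.coe_coe, Polynomial.mapEquiv_apply, map_sub, map_pow]
    rfl
  let e4 : (Polynomial (M ⊗[A₀] C) ⧸ Ideal.span ({Polynomial.map (Int.castRingHom (M ⊗[A₀] C)) (X ^ p) -
        Polynomial.C (a'' ⊗ₜ[A₀] (1 : C))} : Set (Polynomial (M ⊗[A₀] C)))) ≃+* AdjoinRoot q :=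
    Ideal.quotientEquiv _ _ (Polynomial.mapEquiv cm) hqmap
  haveI h4 : IsRegularRing (AdjoinRoot q) := @IsRegularRing.of_ringEquiv _ _ _ _ e4 hreg
  haveI h3 : IsRegularRing (C ⊗[A₀] AdjoinRoot (X ^ p - Polynomial.C a'' : M[X])) :=
    IsRegularRing.of_ringEquiv e3.symm
  haveI h2 : IsRegularRing (C ⊗[A₀] L) := IsRegularRing.of_ringEquiv e2
  exact IsRegularRing.of_ringEquiv e1.symm

end Step2



open IsLocalRing TensorProduct Function Polynomial IntermediateField

section Ind

variable (p : ℕ) [hp : Fact p.Prime] (A₀ : Type u) [CommRing A₀] [IsDomain A₀] [IsLocalRing A₀]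
  [IsNoetherianRing A₀] [IsAdicComplete (maximalIdeal A₀) A₀] [IsIntegrallyClosed A₀] [hchar : CharP A₀ p]
  (C : Type u) [CommRing C] [IsLocalRing C] [IsNoetherianRing C]
  [IsAdicComplete (maximalIdeal C) C] [Algebra A₀ C] [IsLocalHom (algebraMap A₀ C)]
  [Module.Flat A₀ C]

include hp hchar in
set_option maxHeartbeats 1600000 in
theorem regular_of_finite_purelyInseparable
    (hfs : CAlgX.IsAdicFormallySmooth A₀ C (maximalIdeal C)) :
    ∀ (d : ℕ) (M L : Type u) [Field M] [Field L] [Algebra A₀ M]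
      [Algebra (FractionRing A₀) M] [IsScalarTower A₀ (FractionRing A₀) M]
      [FiniteDimensional (FractionRing A₀) M] [IsPurelyInseparable (FractionRing A₀) M]
      [Algebra A₀ L] [Algebra M L] [IsScalarTower A₀ M L] [FiniteDimensional M L]
      [IsPurelyInseparable M L],
      Module.finrank M L = d → IsRegularRing (M ⊗[A₀] C) → IsRegularRing (L ⊗[A₀] C) := by
  intro d
  induction d using Nat.strong_induction_on with
  | _ d ih =>
  intro M L _ _ _ _ _ _ _ _ _ _ _ _ hd hM
  haveI : CharP (FractionRing A₀) p :=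
    charP_of_injective_algebraMap (IsFractionRing.injective A₀ (FractionRing A₀)) p
  haveI : CharP M p :=
    charP_of_injective_algebraMap (algebraMap (FractionRing A₀) M).injective p
  haveI : CharP L p := charP_of_injective_algebraMap (algebraMap M L).injective p
  haveI : ExpChar M p := ExpChar.prime hp.out
  by_cases hx : ∃ x : L, x ∉ (⊥ : IntermediateField M L)
  · obtain ⟨x, hx⟩ := hx
    have hex := IsPurelyInseparable.pow_mem M p x
    classical
    set m := Nat.find hex with hm
    have hm1 : x ^ p ^ m ∈ (algebraMap M L).range := Nat.find_spec hex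
    have hm0 : m ≠ 0 := by
      intro h0
      rw [h0, pow_zero, pow_one] at hm1
      exact hx (IntermediateField.mem_bot.mpr hm1)
    obtain ⟨m', hm'⟩ := Nat.exists_eq_succ_of_ne_zero hm0
    have hnotm : x ^ p ^ m' ∉ (algebraMap M L).range := by
      have := Nat.find_min hex (show m' < Nat.find hex by rw [← hm, hm']; exact Nat.lt_succ_self _)
      exact this
    set θ := x ^ p ^ m' with hθdef
    have hθp : θ ^ p ∈ (algebraMap M L).range := by
      rw [hθdef, ← pow_mul, ← pow_succ, ← Nat.succ_eq_add_one, ← hm']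
      exact hm1
    obtain ⟨a, ha⟩ := hθp
    have hθbot : θ ∉ (⊥ : IntermediateField M L) := fun h => hnotm (IntermediateField.mem_bot.mp h)
    have hnot : ∀ b : M, b ^ p ≠ a := by
      intro b hb
      apply hnotm
      refine ⟨b, ?_⟩
      apply frobenius_inj L p
      rw [frobenius_def, frobenius_def, ← map_pow, hb, ha]
    -- the intermediate field
    letI : Algebra (FractionRing A₀) L :=
      ((algebraMap M L).comp (algebraMap (FractionRing A₀) M)).toAlgebra
    haveI : IsScalarTower (FractionRing A₀) M L := IsScalarTower.of_algebraMap_eq (fun _ => rfl)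
    haveI : IsScalarTower A₀ (FractionRing A₀) M⟮θ⟯ := IsScalarTower.of_algebraMap_eq (fun x => by
      apply Subtype.ext
      show algebraMap A₀ L x = algebraMap (FractionRing A₀) L (algebraMap A₀ (FractionRing A₀) x)
      rw [IsScalarTower.algebraMap_apply A₀ M L, IsScalarTower.algebraMap_apply A₀ (FractionRing A₀) M]
      rfl)
    haveI : IsPurelyInseparable M M⟮θ⟯ := IsPurelyInseparable.tower_bot M M⟮θ⟯ L
    haveI : IsPurelyInseparable M⟮θ⟯ L := IsPurelyInseparable.tower_top M M⟮θ⟯ L
    haveI : IsPurelyInseparable (FractionRing A₀) M⟮θ⟯ :=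
      IsPurelyInseparable.trans (FractionRing A₀) M M⟮θ⟯
    haveI : FiniteDimensional (FractionRing A₀) M⟮θ⟯ := Module.Finite.trans M M⟮θ⟯
    haveI : IsScalarTower A₀ M⟮θ⟯ L := IsScalarTower.of_algebraMap_eq (fun x => rfl)
    have hM' : IsRegularRing (M⟮θ⟯ ⊗[A₀] C) := by
      refine step p A₀ C hfs (⟨θ, mem_adjoin_simple_self M θ⟩ : M⟮θ⟯)
        (Groth.Agent.Lib.Helper23.J0Complete.adjoin_gen_eq_top θ) a ?_ hnot hM
      apply Subtype.ext
      rw [SubmonoidClass.coe_pow]
      exact ha.symm
    have h1 : Module.finrank M M⟮θ⟯ ≠ 1 := fun h => hθbot (finrank_adjoin_simple_eq_one_iff.mp h)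
    have h2 : Module.finrank M M⟮θ⟯ * Module.finrank M⟮θ⟯ L = d := by
      rw [Module.finrank_mul_finrank, hd]
    have h3 : 0 < Module.finrank M M⟮θ⟯ := Module.finrank_pos
    have h4 : 0 < Module.finrank M⟮θ⟯ L := Module.finrank_pos
    have hlt : Module.finrank M⟮θ⟯ L < d := by
      rw [← h2]
      have : 2 ≤ Module.finrank M M⟮θ⟯ := by omega
      nlinarith
    exact ih _ hlt M⟮θ⟯ L rfl hM'
  · push_neg at hx
    have hsurj : Function.Surjective (algebraMap M L) := by
      intro y
      exact IntermediateField.mem_bot.mp (hx y)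
    let e : M ≃ₐ[A₀] L := AlgEquiv.ofBijective (IsScalarTower.toAlgHom A₀ M L)
      ⟨(algebraMap M L).injective, hsurj⟩
    haveI := hM
    exact IsRegularRing.of_ringEquiv
      (Algebra.TensorProduct.congr e (AlgEquiv.refl : C ≃ₐ[A₀] C)).toRingEquiv

end Ind



open IsLocalRing TensorProduct Function

section D

variable (A₀ : Type u) [CommRing A₀] [IsDomain A₀] [IsRegularLocalRing A₀]
  [IsAdicComplete (maximalIdeal A₀) A₀]
  (C : Type u) [CommRing C] [IsLocalRing C] [IsNoetherianRing C]
  [IsAdicComplete (maximalIdeal C) C] [Algebra A₀ C] [IsLocalHom (algebraMap A₀ C)]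
  [Module.Flat A₀ C]

set_option maxHeartbeats 1600000 in
/-- **André's theorem over a regular complete base, generic fibre.** -/
theorem geomRegular_generic_of_regular
    (hfs : CAlgX.IsAdicFormallySmooth A₀ C (maximalIdeal C)) :
    CAlg.IsGeometricallyRegular (FractionRing A₀) (FractionRing A₀ ⊗[A₀] C) := by
  -- `C` is regular
  haveI : IsLocalRing (C ⧸ (maximalIdeal A₀).map (algebraMap A₀ C)) :=
    Groth.Agent.Lib.Helper21.isLocalRing_quotient_of_le_maximalIdeal (map_maximalIdeal_le _)
  haveI : IsRegularLocalRing (C ⧸ (maximalIdeal A₀).map (algebraMap A₀ C)) :=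
    Groth.Agent.Lib.Helper23.AdicSmoothFlat.isRegularLocalRing_quotient_of_adic hfs
  haveI : IsRegularLocalRing C :=
    Groth.Agent.Lib.Helper18.FlatLocal.isRegularLocalRing_of_flat_of_fibre A₀ C
  haveI : IsRegularRing C := Groth.Agent.Lib.Helper25.RegularSmooth.isRegularRing_of_isRegularLocalRing C
  -- the generic fibre is a localization of `C`
  haveI hloc : IsLocalization (Algebra.algebraMapSubmonoid C (nonZeroDivisors A₀))
      (C ⊗[A₀] FractionRing A₀) := IsLocalization.tensor (FractionRing A₀) (nonZeroDivisors A₀)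
  haveI hreg' : IsRegularRing (C ⊗[A₀] FractionRing A₀) :=
    Groth.Agent.Lib.Helper23.GenericFormalFibre.isRegularRing_of_isLocalization
      (Algebra.algebraMapSubmonoid C (nonZeroDivisors A₀))
  haveI hN' : IsNoetherianRing (C ⊗[A₀] FractionRing A₀) :=
    IsLocalization.isNoetherianRing (Algebra.algebraMapSubmonoid C (nonZeroDivisors A₀)) _
      inferInstance
  haveI hreg : IsRegularRing (FractionRing A₀ ⊗[A₀] C) :=
    IsRegularRing.of_ringEquiv (Algebra.TensorProduct.comm A₀ C (FractionRing A₀)).toRingEquiv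
  haveI hN : IsNoetherianRing (FractionRing A₀ ⊗[A₀] C) :=
    isNoetherianRing_of_ringEquiv _ (Algebra.TensorProduct.comm A₀ C (FractionRing A₀)).toRingEquiv
  apply Groth.Agent.Lib.Helper23.GeomRegular2.geomRegular_of_purelyInseparable
  intro k' _ _ hfin hpi
  letI : Algebra A₀ k' :=
    ((algebraMap (FractionRing A₀) k').comp (algebraMap A₀ (FractionRing A₀))).toAlgebra
  haveI : IsScalarTower A₀ (FractionRing A₀) k' := IsScalarTower.of_algebraMap_eq (fun _ => rfl)
  suffices h : IsRegularRing (k' ⊗[A₀] C) by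
    haveI := h
    exact IsRegularRing.of_ringEquiv
      (Algebra.TensorProduct.cancelBaseChange A₀ (FractionRing A₀) k' k' C).symm.toRingEquiv
  obtain ⟨c, hc⟩ := CharP.exists A₀
  rcases CharP.char_is_prime_or_zero A₀ c with hcp | hc0
  · haveI : Fact c.Prime := ⟨hcp⟩
    haveI : IsIntegrallyClosed A₀ :=
      Groth.Agent.Lib.Helper10.RegularNormal.isIntegrallyClosed_of_isRegularLocalRing A₀
    exact regular_of_finite_purelyInseparable c A₀ C hfs _ (FractionRing A₀) k' rfl hreg
  · subst hc0
    haveI : CharZero A₀ := CharP.charP_to_charZero A₀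
    haveI : CharZero (FractionRing A₀) :=
      charZero_of_injective_algebraMap (IsFractionRing.injective A₀ (FractionRing A₀))
    haveI : Algebra.IsSeparable (FractionRing A₀) k' := inferInstance
    have hsurj := IsPurelyInseparable.surjective_algebraMap_of_isSeparable (FractionRing A₀) k'
    let e : FractionRing A₀ ≃ₐ[A₀] k' := AlgEquiv.ofBijective
      (IsScalarTower.toAlgHom A₀ (FractionRing A₀) k')
      ⟨(algebraMap (FractionRing A₀) k').injective, hsurj⟩
    exact IsRegularRing.of_ringEquiv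
      (Algebra.TensorProduct.congr e (AlgEquiv.refl : C ≃ₐ[A₀] C)).toRingEquiv

end D

end Groth.Agent.Lib.Helper23.Andre3
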