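import Mathlib
import Groth.Agent.Lib.Helper23.CompleteGRing
import Groth.Agent.Lib.Helper23.AdicJacobian

/-!
G-ring ascent to polynomial rings, part 1 (EGA IV 7.4.4 / Matsumura 32-33 style): polyDer (coefficientwise extension of a derivation to R0[X]), adic_polynomial_of_derivation (Jacobian step: adic formal smoothness over Λ plus a derivation with d(X)=1 gives adic formal smoothness over Λ[X]), exists_derivation_chain, adic_polynomial_of_adic, HP (the property of a base ring R0 that regular local R0-algebras containing Frac R0 to which all derivations of R0 extend are adic formally smooth over R0), HP_charP (power series over a field of char p), HP_charZero, adic_polynomial (for q' a prime of the completion of R0[X]_P' lying over 0 of R0, the local ring at q' is adic formally smooth over R0[X]).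
-/

set_option autoImplicit false
universe u


namespace Groth.Agent.Lib.Helper23.GRingPoly

open Polynomial IsLocalRing TensorProduct KaehlerDifferential EGA41

section polyDer
variable {R₀ : Type u} [CommRing R₀]

/-- coefficientwise extension of a derivation of `R₀` to `R₀[X]`, killing `X`. -/
noncomputable def polyDer (D₀ : Derivation ℤ R₀ R₀) : Derivation ℤ R₀[X] R₀[X] :=
  (PolynomialModule.equivPolynomialSelf (R := R₀)).toLinearMap.compDer D₀.mapCoeffs

lemma polyDer_C (D₀ : Derivation ℤ R₀ R₀) (r : R₀) : polyDer D₀ (C r) = C (D₀ r) := by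
  show PolynomialModule.equivPolynomialSelf (D₀.mapCoeffs (C r)) = _
  rw [Derivation.mapCoeffs_C, PolynomialModule.equivPolynomialSelf_apply_eq,
    PolynomialModule.equivPolynomial_single, monomial_zero_left]

end polyDer

section jac
variable {Λ B : Type u} [CommRing Λ] [CommRing B] [Algebra Λ[X] B] [Algebra Λ B]
  [IsScalarTower Λ Λ[X] B] (J : Ideal B)

/-- **Jacobian step**: an algebra `B` over `Λ[X]` which is adically formally smooth over `Λ` and
carries a `Λ`-derivation with `∂ X = 1` is adically formally smooth over `Λ[X]`. -/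
theorem adic_polynomial_of_derivation (h : CAlgX.IsAdicFormallySmooth Λ B J)
    (d : Derivation Λ B B) (hd : d (algebraMap Λ[X] B X) = 1) :
    CAlgX.IsAdicFormallySmooth Λ[X] B J := by
  let ψ : B →ₗ[B] B ⊗[Λ[X]] Ω[Λ[X]⁄Λ] :=
    LinearMap.toSpanSingleton B _ ((1 : B) ⊗ₜ[Λ[X]] D Λ Λ[X] X)
  let φ : Ω[B⁄Λ] →ₗ[B] B ⊗[Λ[X]] Ω[Λ[X]⁄Λ] := ψ ∘ₗ d.liftKaehlerDifferential
  have key : ∀ z : B ⊗[Λ[X]] Ω[Λ[X]⁄Λ], φ (mapBaseChange Λ Λ[X] B z) = z := by
    intro z
    induction z using TensorProduct.induction_on with
    | zero => simp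
    | add x y hx hy => rw [map_add, map_add, hx, hy]
    | tmul b ω =>
      obtain ⟨P, rfl⟩ := (KaehlerDifferential.polynomialEquiv Λ).symm.surjective ω
      rw [KaehlerDifferential.polynomialEquiv_symm, mapBaseChange_tmul,
        (KaehlerDifferential.map Λ Λ Λ[X] B).map_smul, KaehlerDifferential.map_D]
      show ψ (d.liftKaehlerDifferential (b • P • D Λ B (algebraMap Λ[X] B X))) = _
      rw [algebra_compatible_smul B P, map_smul, map_smul, map_smul, map_smul,
        Derivation.liftKaehlerDifferential_comp_D, hd]
      rw [LinearMap.toSpanSingleton_apply, one_smul, TensorProduct.tmul_smul]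
      rw [TensorProduct.smul_tmul', TensorProduct.smul_tmul', smul_eq_mul]
      congr 1
      rw [Algebra.smul_def, Algebra.smul_def, mul_one, mul_comm]
      rfl
  refine Groth.Agent.Lib.Helper23.AdicJacobian.adic_of_retr J h (φ.baseChange (B ⧸ J)) ?_
  intro y
  show (φ.lTensor (B ⧸ J)) ((mapBaseChange Λ Λ[X] B).lTensor (B ⧸ J) y) = y
  rw [← LinearMap.comp_apply, ← LinearMap.lTensor_comp]
  have : φ ∘ₗ mapBaseChange Λ Λ[X] B = LinearMap.id := LinearMap.ext key
  rw [this, LinearMap.lTensor_id, LinearMap.id_apply]

end jac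


open Polynomial IsLocalRing TensorProduct KaehlerDifferential EGA41
open Groth.Agent.Lib.Helper23.FormalFibreCharP

section chain
variable {R₀ : Type u} [CommRing R₀] {A₁ E' : Type u} [CommRing A₁] [IsLocalRing A₁]
  [IsNoetherianRing A₁] [Algebra R₀[X] A₁] [Algebra.FormallyEtale R₀[X] A₁]
  [CommRing E'] [Algebra (AdicCompletion (maximalIdeal A₁) A₁) E']
  [Algebra.FormallyEtale (AdicCompletion (maximalIdeal A₁) A₁) E']
  [Algebra R₀[X] E']
  (hcompat : ∀ f : R₀[X], algebraMap R₀[X] E' f =
    algebraMap (AdicCompletion (maximalIdeal A₁) A₁) E'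
      (algebraMap A₁ (AdicCompletion (maximalIdeal A₁) A₁) (algebraMap R₀[X] A₁ f)))

include hcompat in
/-- every additive derivation of `R₀[X]` extends to `E' = ((R₀[X]_{P'})^)_{q'}`. -/
theorem exists_derivation_chain (D : Derivation ℤ R₀[X] R₀[X]) :
    ∃ D' : Derivation ℤ E' E',
      ∀ f : R₀[X], D' (algebraMap R₀[X] E' f) = algebraMap R₀[X] E' (D f) := by
  obtain ⟨D₁, hD₁⟩ := exists_derivation_of_formallyEtale (B := A₁) D
  obtain ⟨D₂, hD₂⟩ := exists_derivation_completion D₁
  obtain ⟨D₃, hD₃⟩ := exists_derivation_of_formallyEtale (B := E') D₂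
  refine ⟨D₃, fun f => ?_⟩
  rw [hcompat, hD₃, hD₂, hD₁, hcompat]

variable [Algebra R₀ E'] [IsScalarTower R₀ R₀[X] E']

include hcompat in
/-- **(★★), abstract form**: if `E'` is adically formally smooth over `R₀`, it is so over
`R₀[X]`. -/
theorem adic_polynomial_of_adic (J : Ideal E')
    (h : CAlgX.IsAdicFormallySmooth R₀ E' J) :
    CAlgX.IsAdicFormallySmooth R₀[X] E' J := by
  obtain ⟨D', hD'⟩ := exists_derivation_chain hcompat
    ((derivative' (R := R₀)).restrictScalars ℤ)
  -- upgrade to an `R₀`-linear derivation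
  have hzero : ∀ r : R₀, D' (algebraMap R₀ E' r) = 0 := by
    intro r
    rw [IsScalarTower.algebraMap_apply R₀ R₀[X] E', hD']
    show algebraMap R₀[X] E' (derivative (algebraMap R₀ R₀[X] r)) = 0
    rw [Polynomial.algebraMap_apply, Algebra.algebraMap_self, RingHom.id_apply, derivative_C, map_zero]
  let d : Derivation R₀ E' E' :=
    Derivation.mk'
      { toFun := D'
        map_add' := map_add D'
        map_smul' := fun r e => by
          rw [Algebra.smul_def, Derivation.leibniz, hzero, smul_zero, add_zero, RingHom.id_apply,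
            smul_eq_mul, Algebra.smul_def] }
      (fun a b => D'.leibniz a b)
  refine adic_polynomial_of_derivation _ h d ?_
  show D' _ = 1
  rw [hD']
  show algebraMap R₀[X] E' (derivative X) = 1
  rw [derivative_X, map_one]

end chain


open Polynomial IsLocalRing TensorProduct KaehlerDifferential EGA41
open Groth.Agent.Lib.Helper23.FormalFibreCharP

section regular
variable {R₀ : Type u} [CommRing R₀] [IsRegularRing R₀] (P' : Ideal R₀[X]) [P'.IsPrime]

theorem isRegularRing_polynomial : IsRegularRing R₀[X] := by
  haveI : Algebra.FinitePresentation R₀ R₀[X] := inferInstance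
  haveI : Algebra.Smooth R₀ R₀[X] := ⟨inferInstance, inferInstance⟩
  exact Groth.Agent.Lib.Helper23.RegularHom.isRegularRing_of_smooth R₀ R₀[X]

theorem isRegularRing_cpl_polynomial :
    IsRegularRing (AdicCompletion (maximalIdeal (Localization.AtPrime P'))
      (Localization.AtPrime P')) := by
  haveI := isRegularRing_polynomial (R₀ := R₀)
  haveI : IsRegularLocalRing (Localization.AtPrime P') := inferInstance
  haveI : IsRegularRing (Localization.AtPrime P') :=
    Groth.Agent.Lib.Helper25.RegularSmooth.isRegularRing_of_isRegularLocalRing _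
  exact Groth.Agent.Lib.Helper23.RegularCompletion.t5785main (Localization.AtPrime P')
    (maximalIdeal (Localization.AtPrime P'))

end regular

section concrete
variable {R₀ : Type u} [CommRing R₀] [IsNoetherianRing R₀] (P' : Ideal R₀[X]) [P'.IsPrime]
  (q' : Ideal (AdicCompletion (maximalIdeal (Localization.AtPrime P')) (Localization.AtPrime P')))
  [q'.IsPrime]

theorem hcompat_concrete : ∀ f : R₀[X], algebraMap R₀[X] (Localization.AtPrime q') f =
    algebraMap (AdicCompletion (maximalIdeal (Localization.AtPrime P')) (Localization.AtPrime P'))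
      (Localization.AtPrime q')
      (algebraMap (Localization.AtPrime P')
        (AdicCompletion (maximalIdeal (Localization.AtPrime P')) (Localization.AtPrime P'))
        (algebraMap R₀[X] (Localization.AtPrime P') f)) := by
  intro f
  rw [IsScalarTower.algebraMap_apply R₀[X] (Localization.AtPrime P') (Localization.AtPrime q'),
    IsScalarTower.algebraMap_apply (Localization.AtPrime P')
      (AdicCompletion (maximalIdeal (Localization.AtPrime P')) (Localization.AtPrime P'))
      (Localization.AtPrime q')]

/-- units: nonzero elements of `R₀` become units in `E'` when `q' ∩ R₀ = 0`. -/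
theorem isUnit_of_ne_zero'
    (hq : ∀ r : R₀, r ≠ 0 → algebraMap R₀ (AdicCompletion (maximalIdeal (Localization.AtPrime P'))
      (Localization.AtPrime P')) r ∉ q') (r : R₀) (hr : r ≠ 0) :
    IsUnit (algebraMap R₀ (Localization.AtPrime q') r) := by
  rw [IsScalarTower.algebraMap_apply R₀ (AdicCompletion (maximalIdeal (Localization.AtPrime P'))
      (Localization.AtPrime P')) (Localization.AtPrime q')]
  exact IsLocalization.map_units (M := q'.primeCompl) (Localization.AtPrime q') ⟨_, hq r hr⟩

end concrete

section HPdef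

/-- the property of `R₀` used to get adic formal smoothness over `R₀` of regular local
`R₀`-algebras to which derivations extend. -/
def HP (R₀ : Type u) [CommRing R₀] : Prop :=
  ∀ (E : Type u) [CommRing E] [Algebra R₀ E] [IsRegularLocalRing E],
    (∀ r : R₀, r ≠ 0 → IsUnit (algebraMap R₀ E r)) →
    (∀ D₀ : Derivation ℤ R₀ R₀, ∃ D' : Derivation ℤ E E,
      ∀ f, D' (algebraMap R₀ E f) = algebraMap R₀ E (D₀ f)) →
    CAlgX.IsAdicFormallySmooth R₀ E (maximalIdeal E)

theorem HP_of {R₀ : Type u} [CommRing R₀] (i : Algebra ℤ R₀) (m : Module ℤ R₀)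
    (H : ∀ (E : Type u) [CommRing E] [Algebra R₀ E] [IsRegularLocalRing E],
      (∀ r : R₀, r ≠ 0 → IsUnit (algebraMap R₀ E r)) →
      (∀ D₀ : @Derivation ℤ R₀ R₀ _ _ _ i _ m, ∃ D' : Derivation ℤ E E,
        ∀ f, D' (algebraMap R₀ E f) = algebraMap R₀ E (D₀ f)) →
      CAlgX.IsAdicFormallySmooth R₀ E (maximalIdeal E)) : HP R₀ := by
  obtain rfl : i = Ring.toIntAlgebra R₀ := Subsingleton.elim _ _
  obtain rfl : m = AddCommGroup.toIntModule R₀ := Subsingleton.elim _ _
  exact H

theorem HP_charP (p : ℕ) [hp : Fact p.Prime] {k : Type u} [Field k] [hk : CharP k p] (n : ℕ) :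
    HP (MvPowerSeries (Fin n) k) :=
  HP_of _ _ (fun E _ _ _ hunit hext => adic_of_powerSeries p n hunit hext)

theorem HP_charZero {R₀ : Type u} [CommRing R₀] [IsDomain R₀] [CharZero R₀] : HP R₀ := by
  intro E _ _ _ hunit _
  exact Groth.Agent.Lib.Helper23.CompleteGRing.adic_of_regular_charZero hunit inferInstance

end HPdef

section main
variable {R₀ : Type u} [CommRing R₀] [IsDomain R₀] [IsRegularRing R₀] (hHP : HP R₀)
  (P' : Ideal R₀[X]) [P'.IsPrime]
  (q' : Ideal (AdicCompletion (maximalIdeal (Localization.AtPrime P')) (Localization.AtPrime P')))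
  [q'.IsPrime]

include hHP in
/-- **(★★)**. -/
theorem adic_polynomial
    (hq : ∀ r : R₀, r ≠ 0 →
      algebraMap R₀ (AdicCompletion (maximalIdeal (Localization.AtPrime P'))
      (Localization.AtPrime P')) r ∉ q') :
    CAlgX.IsAdicFormallySmooth R₀[X] (Localization.AtPrime q')
      (maximalIdeal (Localization.AtPrime q')) := by
  haveI := isRegularRing_cpl_polynomial P'
  haveI : IsRegularLocalRing (Localization.AtPrime q') := inferInstance
  haveI : IsNoetherianRing (Localization.AtPrime P') :=
    IsLocalization.isNoetherianRing P'.primeCompl _ inferInstance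
  haveI : Algebra.FormallyEtale R₀[X] (Localization.AtPrime P') :=
    Algebra.FormallyEtale.of_isLocalization P'.primeCompl
  haveI : Algebra.FormallyEtale
      (AdicCompletion (maximalIdeal (Localization.AtPrime P')) (Localization.AtPrime P'))
      (Localization.AtPrime q') :=
    Algebra.FormallyEtale.of_isLocalization q'.primeCompl
  have h1 : CAlgX.IsAdicFormallySmooth R₀ (Localization.AtPrime q')
      (maximalIdeal (Localization.AtPrime q')) := by
    refine hHP _ (isUnit_of_ne_zero' P' q' hq) ?_
    intro D₀
    obtain ⟨D', hD'⟩ := exists_derivation_chain (hcompat_concrete P' q') (polyDer D₀)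
    refine ⟨D', fun f => ?_⟩
    rw [IsScalarTower.algebraMap_apply R₀ R₀[X] (Localization.AtPrime q'),
      Polynomial.algebraMap_apply, Algebra.algebraMap_self, RingHom.id_apply, hD', polyDer_C,
      IsScalarTower.algebraMap_apply R₀ R₀[X] (Localization.AtPrime q'),
      Polynomial.algebraMap_apply, Algebra.algebraMap_self, RingHom.id_apply]
  exact adic_polynomial_of_adic (hcompat_concrete P' q') _ h1

end main

end Groth.Agent.Lib.Helper23.GRingPoly
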