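import Mathlib
import Groth.Agent.Lib.Helper23.GRingPoly1
import Groth.Agent.Lib.Helper4.ExcFin2
import Groth.Agent.S2045
import Groth.Agent.Lib.Helper12.IntegralDim
import Groth.Agent.Lib.Helper1.ArtFunPS
import Groth.Agent.S9257

/-!
G-ring ascent to polynomial rings, part 2: geomRegular_formalFibre_of_adic, geomRegular_formalFibre_polynomial (Claim A), isGRing_of_surjective, isGRing_polynomial_of_HP (inductive step), finite_mapRingHom, isGRing_polynomial_of_complete_domain (R[X] is a G-ring for R a complete local domain, by induction on dim R via Cohen structure theorem), isGRing_polynomial_of_complete (any complete Noetherian local ring).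
-/

set_option autoImplicit false
universe u


namespace Groth.Agent.Lib.Helper23.GRingPoly

open Polynomial IsLocalRing TensorProduct KaehlerDifferential EGA41

section G2'

variable (C : Type u) [CommRing C] [IsLocalRing C] [IsNoetherianRing C]

/-- the formal fibre of a Noetherian local ring `C` at a prime `𝔯` is geometrically regular as
soon as the local rings `Ĉ_q`, `q ∩ C = 𝔯`, are adic formally smooth over `C`. -/
theorem geomRegular_formalFibre_of_adic (𝔯 : Ideal C) [𝔯.IsPrime]
    (h : ∀ (q : Ideal (AdicCompletion (maximalIdeal C) C)) [q.IsPrime],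
      q.comap (algebraMap C (AdicCompletion (maximalIdeal C) C)) = 𝔯 →
      CAlgX.IsAdicFormallySmooth C (Localization.AtPrime q)
        (maximalIdeal (Localization.AtPrime q))) :
    CAlg.IsGeometricallyRegular 𝔯.ResidueField (EGA4.formalFibre C 𝔯) := by
  haveI : IsNoetherianRing (AdicCompletion (maximalIdeal C) C) :=
    Groth.Agent.Lib.Helper21.isNoetherianRing_adicCompletion_of_fg (maximalIdeal C)
      (IsNoetherian.noetherian _)
  haveI : IsNoetherianRing (𝔯.Fiber (EGA4.Cpl C)) := inferInstance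
  refine Groth.Agent.Lib.Helper23.CompleteGRing.geomRegular_of_forall_adic (fun 𝔮 _ => ?_)
  let φ : AdicCompletion (maximalIdeal C) C →+* 𝔯.Fiber (EGA4.Cpl C) :=
    ((Algebra.TensorProduct.includeRight : AdicCompletion (maximalIdeal C) C →ₐ[C]
      𝔯.ResidueField ⊗[C] AdicCompletion (maximalIdeal C) C) :
      AdicCompletion (maximalIdeal C) C →+* _)
  haveI : (𝔮.comap φ).IsPrime := Ideal.comap_isPrime φ 𝔮
  have hq : (𝔮.comap φ).comap (algebraMap C (AdicCompletion (maximalIdeal C) C)) = 𝔯 := by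
    have hover : 𝔯 = 𝔮.under C := (inferInstance : 𝔮.LiesOver 𝔯).over
    refine Eq.trans ?_ hover.symm
    ext c
    rw [Ideal.mem_comap, Ideal.mem_comap, Ideal.under_def, Ideal.mem_comap]
    have h2 : φ (algebraMap C (AdicCompletion (maximalIdeal C) C) c) =
        algebraMap C (𝔯.Fiber (EGA4.Cpl C)) c := by
      show (1 : 𝔯.ResidueField) ⊗ₜ[C] (algebraMap C (AdicCompletion (maximalIdeal C) C) c) = _
      rw [Algebra.TensorProduct.algebraMap_apply,
        Algebra.algebraMap_eq_smul_one, Algebra.algebraMap_eq_smul_one, TensorProduct.tmul_smul,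
        TensorProduct.smul_tmul']
    rw [h2]
  exact Groth.Agent.Lib.Helper23.GeomRegular2.adic_tensor_atPrime (k := C)
    (S := AdicCompletion (maximalIdeal C) C) (K := 𝔯.ResidueField) 𝔮 (𝔮.comap φ) rfl
    (h (𝔮.comap φ) hq)

end G2'

section claimA
variable {R₀ : Type u} [CommRing R₀] [IsDomain R₀] [IsRegularRing R₀] (hHP : HP R₀)
  (P' : Ideal R₀[X]) [P'.IsPrime]

include hHP in
/-- **Claim A**: the formal fibres of `R₀[X]_{P'}` at primes lying over `0` of `R₀` are
geometrically regular. -/
theorem geomRegular_formalFibre_polynomial (𝔯 : Ideal (Localization.AtPrime P')) [𝔯.IsPrime]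
    (h𝔯 : ∀ r : R₀, r ≠ 0 → algebraMap R₀ (Localization.AtPrime P') r ∉ 𝔯) :
    CAlg.IsGeometricallyRegular 𝔯.ResidueField
      (EGA4.formalFibre (Localization.AtPrime P') 𝔯) := by
  haveI : IsNoetherianRing R₀[X] := inferInstance
  haveI : IsNoetherianRing (Localization.AtPrime P') :=
    IsLocalization.isNoetherianRing P'.primeCompl _ inferInstance
  refine geomRegular_formalFibre_of_adic (Localization.AtPrime P') 𝔯 (fun q' _ hq' => ?_)
  have hq : ∀ r : R₀, r ≠ 0 →
      algebraMap R₀ (AdicCompletion (maximalIdeal (Localization.AtPrime P'))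
      (Localization.AtPrime P')) r ∉ q' := by
    intro r hr hmem
    apply h𝔯 r hr
    rw [← hq', Ideal.mem_comap, ← IsScalarTower.algebraMap_apply]
    exact hmem
  have h1 := adic_polynomial hHP P' q' hq
  haveI : Algebra.FormallyEtale R₀[X] (Localization.AtPrime P') :=
    Algebra.FormallyEtale.of_isLocalization P'.primeCompl
  exact Groth.Agent.Lib.Helper23.RegularHom.adic_of_formallyUnramified R₀[X]
    (Localization.AtPrime P') (Localization.AtPrime q') _ h1

end claimA


open Polynomial IsLocalRing TensorProduct KaehlerDifferential EGA41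

/-- the image of a G-ring under a surjective ring map is a G-ring. -/
theorem isGRing_of_surjective {A B : Type u} [CommRing A] [CommRing B] (f : A →+* B)
    (hf : Function.Surjective f) (hA : CAlg.IsGRing A) : CAlg.IsGRing B := by
  letI := f.toAlgebra
  haveI : Module.Finite A B := Module.Finite.of_surjective (Algebra.linearMap A B) hf
  exact Groth.Agent.Lib.Helper4.ExcFin.isGRing_of_finite A B hA

section step
variable {R₀ : Type u} [CommRing R₀] [IsDomain R₀] [IsRegularRing R₀] (hHP : HP R₀)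

include hHP in
/-- **Inductive step**: `R₀[X]` is a G-ring if the `(R₀/p₁)[X]`, `p₁ ≠ 0`, are. -/
theorem isGRing_polynomial_of_HP
    (IH : ∀ (p₁ : Ideal R₀) [p₁.IsPrime], p₁ ≠ ⊥ → CAlg.IsGRing (R₀ ⧸ p₁)[X]) :
    CAlg.IsGRing R₀[X] := by
  haveI : IsNoetherianRing R₀[X] := inferInstance
  refine ⟨inferInstance, fun P' _ => ?_⟩
  haveI : IsNoetherianRing (Localization.AtPrime P') :=
    IsLocalization.isNoetherianRing P'.primeCompl _ inferInstance
  haveI : IsNoetherianRing (AdicCompletion (maximalIdeal (Localization.AtPrime P'))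
      (Localization.AtPrime P')) :=
    Groth.Agent.Lib.Helper21.isNoetherianRing_adicCompletion_of_fg _ (IsNoetherian.noetherian _)
  refine ⟨inferInstance, fun 𝔯 h𝔯 => ⟨inferInstance, ?_⟩⟩
  set p₁ : Ideal R₀ := 𝔯.comap (algebraMap R₀ (Localization.AtPrime P')) with hp₁
  haveI : p₁.IsPrime := Ideal.comap_isPrime _ 𝔯
  by_cases hbot : p₁ = ⊥
  · refine geomRegular_formalFibre_polynomial hHP P' 𝔯 (fun r hr hmem => hr ?_)
    have : r ∈ p₁ := hmem
    rwa [hbot, Ideal.mem_bot] at this
  · have hG1 := IH p₁ hbot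
    set J : Ideal R₀[X] := p₁.map (C : R₀ →+* R₀[X]) with hJ
    have hG2 : CAlg.IsGRing (R₀[X] ⧸ J) :=
      isGRing_of_surjective (Ideal.polynomialQuotientEquivQuotientPolynomial p₁).toRingHom
        (Ideal.polynomialQuotientEquivQuotientPolynomial p₁).surjective hG1
    set I : Ideal (Localization.AtPrime P') := J.map (algebraMap R₀[X] (Localization.AtPrime P'))
      with hI
    have hI𝔯 : I ≤ 𝔯 := by
      rw [hI, hJ, Ideal.map_map, Ideal.map_le_iff_le_comap]
      intro a ha
      exact ha
    haveI : Nontrivial (Localization.AtPrime P' ⧸ I) :=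
      Ideal.Quotient.nontrivial_iff.mpr (fun h => h𝔯.ne_top (top_le_iff.mp (h ▸ hI𝔯)))
    have hG3 : CAlg.IsGRing (Localization.AtPrime P' ⧸ I) :=
      Groth.Agent.Lib.Helper18.Exc.isGRing_of_isLocalization (R₀[X] ⧸ J)
        (Algebra.algebraMapSubmonoid (R₀[X] ⧸ J) P'.primeCompl) _ hG2
    haveI : IsLocalRing (Localization.AtPrime P' ⧸ I) :=
      IsLocalRing.of_surjective' (Ideal.Quotient.mk I) Ideal.Quotient.mk_surjective
    haveI : IsNoetherianRing (Localization.AtPrime P' ⧸ I) := inferInstance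
    have hreg := Groth.Agent.S2045.isRegularHom_cpl_of_isGRing (Localization.AtPrime P' ⧸ I) hG3
    have hker : RingHom.ker (Ideal.Quotient.mk I) ≤ 𝔯 := by rw [Ideal.mk_ker]; exact hI𝔯
    haveI hqb : (𝔯.map (Ideal.Quotient.mk I)).IsPrime :=
      Ideal.map_isPrime_of_surjective Ideal.Quotient.mk_surjective hker
    have h1 := (hreg.2 (𝔯.map (Ideal.Quotient.mk I))).2
    have h2 := Groth.Agent.Lib.Helper18.Exc.geomRegular_formalFibre_of_quotient
      (Localization.AtPrime P') I (𝔯.map (Ideal.Quotient.mk I)) h1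
    have hc : (𝔯.map (Ideal.Quotient.mk I)).comap
        (algebraMap (Localization.AtPrime P') (Localization.AtPrime P' ⧸ I)) = 𝔯 := by
      show (𝔯.map (Ideal.Quotient.mk I)).comap (Ideal.Quotient.mk I) = 𝔯
      rw [Ideal.comap_map_of_surjective _ Ideal.Quotient.mk_surjective, ← RingHom.ker_eq_comap_bot,
        sup_eq_left.mpr hker]
    exact Groth.Agent.Lib.Helper18.Exc.geomRegular_formalFibre_congr hc h2

end step


open Polynomial IsLocalRing TensorProduct KaehlerDifferential EGA41

/-- `A[X] → B[X]` is finite when `A → B` is. -/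
theorem finite_mapRingHom {A B : Type u} [CommRing A] [CommRing B] (f : A →+* B)
    (hf : f.Finite) : (Polynomial.mapRingHom f).Finite := by
  classical
  letI := f.toAlgebra
  haveI : Module.Finite A B := hf
  obtain ⟨s, hs⟩ := (Module.finite_def.mp (inferInstance : Module.Finite A B))
  letI : Algebra A[X] B[X] := (mapRingHom f).toAlgebra
  show Module.Finite A[X] B[X]
  refine ⟨⟨s.image C, ?_⟩⟩
  rw [eq_top_iff]
  rintro g -
  induction g using Polynomial.induction_on' with
  | add p q hp hq => exact Submodule.add_mem _ hp hq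
  | monomial n b =>
    have hb : b ∈ Submodule.span A (s : Set B) := hs ▸ Submodule.mem_top
    induction hb using Submodule.span_induction with
    | mem x hx =>
      have h1 : monomial n x = (X ^ n : A[X]) • (C x : B[X]) := by
        rw [Algebra.smul_def]
        show _ = (mapRingHom f (X ^ n)) * C x
        rw [map_pow, coe_mapRingHom, Polynomial.map_X, mul_comm, C_mul_X_pow_eq_monomial]
      rw [h1]
      refine Submodule.smul_mem _ _ (Submodule.subset_span ?_)
      rw [Finset.coe_image]
      exact Set.mem_image_of_mem _ hx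
    | zero => rw [map_zero]; exact Submodule.zero_mem _
    | add x y _ _ hx hy => rw [map_add]; exact Submodule.add_mem _ hx hy
    | smul a x _ hx =>
      have h1 : monomial n (a • x) = (C a : A[X]) • (monomial n x : B[X]) := by
        rw [Algebra.smul_def, Algebra.smul_def]
        show _ = (mapRingHom f (C a)) * _
        rw [coe_mapRingHom, Polynomial.map_C, C_mul_monomial]
        rfl
      rw [h1]
      exact Submodule.smul_mem _ _ hx

lemma dim_arith {x : WithBot ℕ∞} {d : ℕ} (h : x + 1 ≤ ((d + 1 : ℕ) : WithBot ℕ∞)) :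
    x ≤ (d : WithBot ℕ∞) := by
  induction x using WithBot.recBotCoe with
  | bot => exact bot_le
  | coe m =>
    induction m using ENat.recTopCoe with
    | top =>
      exfalso
      have h2 : ((⊤ : ℕ∞) : WithBot ℕ∞) + 1 = ((⊤ : ℕ∞) : WithBot ℕ∞) := by
        rw [← WithBot.coe_one, ← WithBot.coe_add, top_add]
      rw [h2] at h
      have h3 : ((d + 1 : ℕ) : WithBot ℕ∞) = (((d + 1 : ℕ) : ℕ∞) : WithBot ℕ∞) := rfl
      rw [h3, WithBot.coe_le_coe] at h
      exact absurd (top_le_iff.mp h) (ENat.coe_ne_top _)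
    | coe m =>
      have h2 : (((m : ℕ∞) : WithBot ℕ∞)) + 1 = (((m + 1 : ℕ) : ℕ∞) : WithBot ℕ∞) := by
        rw [← WithBot.coe_one, ← WithBot.coe_add]; rfl
      rw [h2] at h
      have h3 : ((d + 1 : ℕ) : WithBot ℕ∞) = (((d + 1 : ℕ) : ℕ∞) : WithBot ℕ∞) := rfl
      rw [h3, WithBot.coe_le_coe, Nat.cast_le] at h
      have h4 : ((d : ℕ) : WithBot ℕ∞) = (((d : ℕ) : ℕ∞) : WithBot ℕ∞) := rfl
      rw [h4, WithBot.coe_le_coe, Nat.cast_le]
      omega

lemma dim_arith0 {x : WithBot ℕ∞} (hx : 0 ≤ x) (h : x + 1 ≤ ((0 : ℕ) : WithBot ℕ∞)) : False := by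
  have h1 : (0 : WithBot ℕ∞) + 1 ≤ x + 1 := add_le_add_left hx 1
  have h2 := h1.trans h
  rw [zero_add] at h2
  have h3 : ((0 : ℕ) : WithBot ℕ∞) = 0 := rfl
  rw [h3] at h2
  exact absurd h2 (by decide)


open Polynomial IsLocalRing TensorProduct KaehlerDifferential EGA41

/-- the class of rings for the induction. -/
def IHyp (d : ℕ) : Prop :=
  ∀ (R' : Type u) [CommRing R'] [IsDomain R'] [IsLocalRing R'] [IsNoetherianRing R']
    [IsAdicComplete (maximalIdeal R') R'], ringKrullDim R' + 1 ≤ (d : WithBot ℕ∞) →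
    CAlg.IsGRing R'[X]

section stepgen
variable {R₀ R : Type u} [CommRing R₀] [IsDomain R₀] [IsRegularLocalRing R₀]
  [IsAdicComplete (maximalIdeal R₀) R₀] (hHP : HP R₀) [CommRing R]

include hHP in
theorem isGRing_polynomial_of_finite_injective (f : R₀ →+* R) (hinj : Function.Injective f)
    (hfin : f.Finite) (d : ℕ) (hd : ringKrullDim R ≤ d) (IH : IHyp.{u} d) :
    CAlg.IsGRing R[X] := by
  haveI : IsRegularRing R₀ :=
    Groth.Agent.Lib.Helper25.RegularSmooth.isRegularRing_of_isRegularLocalRing _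
  haveI : IsNoetherianRing R₀ := inferInstance
  have hdim : ringKrullDim R₀ = ringKrullDim R := by
    letI := f.toAlgebra
    haveI : Module.Finite R₀ R := hfin
    haveI : Algebra.IsIntegral R₀ R := Algebra.IsIntegral.of_finite R₀ R
    exact Groth.Agent.Lib.Helper12.ringKrullDim_eq_of_isIntegral_of_injective R₀ R hinj
  have hG0 : CAlg.IsGRing R₀[X] := by
    refine isGRing_polynomial_of_HP hHP (fun p₁ _ hne => ?_)
    haveI : Nontrivial (R₀ ⧸ p₁) :=
      Ideal.Quotient.nontrivial_iff.mpr (Ideal.IsPrime.ne_top inferInstance)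
    haveI : IsLocalRing (R₀ ⧸ p₁) :=
      IsLocalRing.of_surjective' (Ideal.Quotient.mk p₁) Ideal.Quotient.mk_surjective
    haveI : IsAdicComplete (maximalIdeal (R₀ ⧸ p₁)) (R₀ ⧸ p₁) :=
      Groth.Agent.Lib.Helper9.SemiLocalProd.isAdicComplete_maximalIdeal_of_finite R₀ (R₀ ⧸ p₁)
    haveI : IsDomain (R₀ ⧸ p₁) := Ideal.Quotient.isDomain p₁
    refine IH (R₀ ⧸ p₁) ?_
    obtain ⟨a, hap, ha0⟩ := Submodule.exists_mem_ne_zero_of_ne_bot hne
    have h1 := ringKrullDim_succ_le_of_surjective (Ideal.Quotient.mk p₁)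
      Ideal.Quotient.mk_surjective (mem_nonZeroDivisors_of_ne_zero ha0)
      (Ideal.Quotient.eq_zero_iff_mem.mpr hap)
    exact h1.trans (hdim ▸ hd)
  letI : Algebra R₀[X] R[X] := (mapRingHom f).toAlgebra
  haveI : Module.Finite R₀[X] R[X] := finite_mapRingHom f hfin
  exact Groth.Agent.Lib.Helper4.ExcFin.isGRing_of_finite R₀[X] R[X] hG0

end stepgen

section step
variable (R : Type u) [CommRing R] [IsDomain R] [IsLocalRing R] [IsNoetherianRing R]
  [IsAdicComplete (maximalIdeal R) R]

theorem isGRing_polynomial_step (d : ℕ) (hd : ringKrullDim R ≤ d) (IH : IHyp.{u} d) :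
    CAlg.IsGRing R[X] := by
  obtain ⟨Λ, _, n, f, hΛ, hfinj, hffin, -⟩ := Groth.Agent.Lib.Helper18.CST.exists_finite_injective R
  rcases hΛ with hF | hC
  · letI := hF.toField
    haveI : IsAdicComplete (maximalIdeal Λ) Λ :=
      Groth.Agent.Lib.Helper18.Exc.isAdicComplete_of_isField Λ hF
    haveI : IsAdicComplete (maximalIdeal (MvPowerSeries (Fin n) Λ)) (MvPowerSeries (Fin n) Λ) :=
      Groth.Agent.Lib.Helper1.ArtFunLib.PS.isAdicComplete_mvPowerSeries
    haveI : IsDomain (MvPowerSeries (Fin n) Λ) := NoZeroDivisors.to_isDomain _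
    haveI : IsRegularLocalRing (MvPowerSeries (Fin n) Λ) :=
      Groth.Agent.Lib.Helper1.ArtFunLib.isRegularLocalRing_mvPowerSeries Λ n
    obtain ⟨c, hc⟩ := CharP.exists Λ
    rcases CharP.char_is_prime_or_zero Λ c with hcp | hc0
    · haveI : Fact c.Prime := ⟨hcp⟩
      exact isGRing_polynomial_of_finite_injective (HP_charP c n) f hfinj hffin d hd IH
    · subst hc0
      haveI : CharZero Λ := CharP.charP_to_charZero Λ
      haveI : CharZero (MvPowerSeries (Fin n) Λ) :=
        charZero_of_injective_algebraMap (algebraMap Λ (MvPowerSeries (Fin n) Λ)).injective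
      exact isGRing_polynomial_of_finite_injective HP_charZero f hfinj hffin d hd IH
  · have hC' : EGA41.IsCohenRingEGA Λ := Or.inr hC
    obtain ⟨hdom, hdvr, hcpl, -⟩ := hC
    haveI := Groth.Agent.Lib.Helper18.CST.isRegularLocalRing_of_isCohenRingEGA hC'
    haveI : IsRegularLocalRing (MvPowerSeries (Fin n) Λ) :=
      Groth.Agent.Lib.Helper18.CST.isRegularLocalRing_mvPowerSeries Λ n
    haveI : IsAdicComplete (maximalIdeal (MvPowerSeries (Fin n) Λ)) (MvPowerSeries (Fin n) Λ) :=
      Groth.Agent.Lib.Helper1.ArtFunLib.PS.isAdicComplete_mvPowerSeries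
    haveI : IsDomain (MvPowerSeries (Fin n) Λ) := NoZeroDivisors.to_isDomain _
    obtain ⟨c, -, -, hcz, -⟩ := Groth.Agent.Lib.Helper23.CohenRing.cohenRing_data hC'
    haveI : CharZero (MvPowerSeries (Fin n) Λ) :=
      charZero_of_injective_algebraMap (R := Λ) (A := MvPowerSeries (Fin n) Λ)
        (fun a b hab => MvPowerSeries.C_injective hab)
    exact isGRing_polynomial_of_finite_injective HP_charZero f hfinj hffin d hd IH

end step

theorem isGRing_polynomial_aux (d : ℕ) :
    ∀ (R : Type u) [CommRing R] [IsDomain R] [IsLocalRing R] [IsNoetherianRing R]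
      [IsAdicComplete (maximalIdeal R) R], ringKrullDim R ≤ d → CAlg.IsGRing R[X] := by
  induction d with
  | zero =>
    intro R _ _ _ _ _ hd
    refine isGRing_polynomial_step R 0 hd ?_
    intro R' _ _ _ _ _ h
    exact (dim_arith0 ringKrullDim_nonneg_of_nontrivial h).elim
  | succ d ih =>
    intro R _ _ _ _ _ hd
    refine isGRing_polynomial_step R (d + 1) hd ?_
    intro R' _ _ _ _ _ h
    exact ih R' (dim_arith h)

/-- **Claim B**: `R[X]` is a G-ring for a complete Noetherian local domain `R`. -/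
theorem isGRing_polynomial_of_complete_domain (R : Type u) [CommRing R] [IsDomain R]
    [IsLocalRing R] [IsNoetherianRing R] [IsAdicComplete (maximalIdeal R) R] :
    CAlg.IsGRing R[X] := by
  have h1 : ringKrullDim R ≠ ⊤ := ringKrullDim_ne_top
  have h2 : ringKrullDim R ≠ ⊥ := ringKrullDim_ne_bot
  obtain ⟨m, hm⟩ := WithBot.ne_bot_iff_exists.mp h2
  have h3 : m ≠ ⊤ := by
    rintro rfl
    exact h1 hm.symm
  obtain ⟨k, hk⟩ := ENat.ne_top_iff_exists.mp h3
  refine isGRing_polynomial_aux k R ?_
  rw [← hm, ← hk]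
  exact le_refl _


open Polynomial IsLocalRing TensorProduct KaehlerDifferential EGA41

/-- **Claim C**: `R[X]` is a G-ring for a complete Noetherian local ring `R`. -/
theorem isGRing_polynomial_of_complete (R : Type u) [CommRing R]
    [IsLocalRing R] [IsNoetherianRing R] [IsAdicComplete (maximalIdeal R) R] :
    CAlg.IsGRing R[X] := by
  haveI : IsNoetherianRing R[X] := inferInstance
  rw [Groth.Agent.S9257.result R[X]]
  intro q _ P _
  set q₀ : Ideal R := q.comap (C : R →+* R[X]) with hq₀
  haveI : q₀.IsPrime := Ideal.comap_isPrime _ q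
  haveI : Nontrivial (R ⧸ q₀) :=
    Ideal.Quotient.nontrivial_iff.mpr (Ideal.IsPrime.ne_top inferInstance)
  haveI : IsLocalRing (R ⧸ q₀) :=
    IsLocalRing.of_surjective' (Ideal.Quotient.mk q₀) Ideal.Quotient.mk_surjective
  haveI : IsAdicComplete (maximalIdeal (R ⧸ q₀)) (R ⧸ q₀) :=
    Groth.Agent.Lib.Helper9.SemiLocalProd.isAdicComplete_maximalIdeal_of_finite R (R ⧸ q₀)
  haveI : IsDomain (R ⧸ q₀) := Ideal.Quotient.isDomain q₀
  have hG1 : CAlg.IsGRing (R ⧸ q₀)[X] := isGRing_polynomial_of_complete_domain (R ⧸ q₀)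
  have hG2 : CAlg.IsGRing (R[X] ⧸ q₀.map (C : R →+* R[X])) :=
    isGRing_of_surjective (Ideal.polynomialQuotientEquivQuotientPolynomial q₀).toRingHom
      (Ideal.polynomialQuotientEquivQuotientPolynomial q₀).surjective hG1
  have hle : q₀.map (C : R →+* R[X]) ≤ q := Ideal.map_le_iff_le_comap.mpr le_rfl
  have hG3 : CAlg.IsGRing (R[X] ⧸ q) :=
    isGRing_of_surjective (Ideal.Quotient.factor hle) (Ideal.Quotient.factor_surjective hle) hG2
  exact ((hG3.2 P).2 ⊥).2

end Groth.Agent.Lib.Helper23.GRingPoly
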