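import Mathlib
import Groth.Agent.Lib.Helper23.GRingPoly2
import Groth.Agent.S2047

/-!
G-ring ascent, part 3: isGRing_of_isRegularHom (descent of the G-ring property along a regular map surjective on spectra, Matsumura 32.2), isGRing_polynomial_of_local, isGRing_polynomial, isGRing_mvPolynomial, isGRing_of_finiteType (finite type algebras over G-rings are G-rings).
-/

set_option autoImplicit false
universe u


namespace Groth.Agent.Lib.Helper23.GRingPoly

open Polynomial IsLocalRing TensorProduct EGA41

section D

variable (A B : Type u) [CommRing A] [CommRing B] [Algebra A B] [IsNoetherianRing A]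

/-- **Descent of the G-ring property** (Matsumura 32.2): if `A → B` is regular and surjective on
spectra and `B` is a G-ring then `A` is a G-ring. -/
theorem isGRing_of_isRegularHom (hA : CAlg.IsRegularHom A B) (hGB : CAlg.IsGRing B)
    (hsurj : Function.Surjective (PrimeSpectrum.comap (algebraMap A B))) : CAlg.IsGRing A := by
  haveI : IsNoetherianRing B := hGB.1
  refine ⟨inferInstance, fun p _ => ?_⟩
  obtain ⟨q, hq⟩ := hsurj ⟨p, inferInstance⟩
  have hqp : q.asIdeal.comap (algebraMap A B) = p := congrArg PrimeSpectrum.asIdeal hq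
  let Q : Ideal B := q.asIdeal
  haveI : Q.IsPrime := q.isPrime
  haveI : IsNoetherianRing (Localization.AtPrime Q) :=
    IsLocalization.isNoetherianRing Q.primeCompl _ inferInstance
  haveI : IsNoetherianRing (Localization.AtPrime p) :=
    IsLocalization.isNoetherianRing p.primeCompl _ inferInstance
  have h2 : CAlg.IsRegularHom B (Localization.AtPrime Q) :=
    Groth.Agent.Lib.Helper18.LocHom.isRegularHom_of_isLocalization B Q.primeCompl _
  have h3 : CAlg.IsRegularHom A (Localization.AtPrime Q) :=
    Groth.Agent.Lib.Helper18.PMor.isRegularHom_comp A B (Localization.AtPrime Q) hA h2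
  have hunit : ∀ s : p.primeCompl, IsUnit (algebraMap A (Localization.AtPrime Q) s) := by
    intro s
    rw [IsScalarTower.algebraMap_apply A B (Localization.AtPrime Q)]
    apply IsLocalization.map_units (Localization.AtPrime Q) (M := Q.primeCompl)
      ⟨algebraMap A B s, ?_⟩
    intro hmem
    apply s.2
    have : (s : A) ∈ Q.comap (algebraMap A B) := hmem
    rw [show Q.comap (algebraMap A B) = p from hqp] at this
    exact this
  let f : Localization.AtPrime p →+* Localization.AtPrime Q :=
    IsLocalization.lift (M := p.primeCompl) (g := algebraMap A (Localization.AtPrime Q)) hunit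
  letI : Algebra (Localization.AtPrime p) (Localization.AtPrime Q) := f.toAlgebra
  haveI : IsScalarTower A (Localization.AtPrime p) (Localization.AtPrime Q) :=
    IsScalarTower.of_algebraMap_eq (fun a => (IsLocalization.lift_eq hunit a).symm)
  haveI : IsLocalization (Algebra.algebraMapSubmonoid (Localization.AtPrime Q) p.primeCompl)
      (Localization.AtPrime Q) := by
    apply IsLocalization.self
    rintro _ ⟨s, hs, rfl⟩
    exact hunit ⟨s, hs⟩
  have h4 : CAlg.IsRegularHom (Localization.AtPrime p) (Localization.AtPrime Q) :=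
    Groth.Agent.Lib.Helper23.RegularHom2.isRegularHom_localization A (Localization.AtPrime Q) h3
      p.primeCompl (Localization.AtPrime p) (Localization.AtPrime Q)
  have h5 : CAlg.IsRegularHom (Localization.AtPrime p) (EGA4.Cpl (Localization.AtPrime Q)) :=
    Groth.Agent.Lib.Helper18.PMor.isRegularHom_comp (Localization.AtPrime p)
      (Localization.AtPrime Q) (EGA4.Cpl (Localization.AtPrime Q)) h4 (hGB.2 Q)
  haveI : Module.Flat (Localization.AtPrime p) (Localization.AtPrime Q) := h4.1
  haveI hloc : IsLocalHom (algebraMap (Localization.AtPrime p) (Localization.AtPrime Q)) := by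
    apply ((IsLocalRing.local_hom_TFAE (algebraMap (Localization.AtPrime p)
      (Localization.AtPrime Q))).out 0 2).mpr
    have hmax : maximalIdeal (Localization.AtPrime p) =
        p.map (algebraMap A (Localization.AtPrime p)) :=
      (Localization.AtPrime.map_eq_maximalIdeal).symm
    have hmax' : maximalIdeal (Localization.AtPrime Q) =
        Q.map (algebraMap B (Localization.AtPrime Q)) :=
      (Localization.AtPrime.map_eq_maximalIdeal).symm
    rw [hmax, Ideal.map_map, ← IsScalarTower.algebraMap_eq, hmax',
      IsScalarTower.algebraMap_eq A B (Localization.AtPrime Q), ← Ideal.map_map]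
    apply Ideal.map_mono
    rw [Ideal.map_le_iff_le_comap]
    exact hqp.ge
  letI : Algebra (EGA4.Cpl (Localization.AtPrime p)) (EGA4.Cpl (Localization.AtPrime Q)) :=
    (Groth.Agent.Lib.Helper18.CplFlat.cplMap (Localization.AtPrime p)
      (Localization.AtPrime Q)).toAlgebra
  haveI : IsScalarTower (Localization.AtPrime p) (EGA4.Cpl (Localization.AtPrime p))
      (EGA4.Cpl (Localization.AtPrime Q)) :=
    IsScalarTower.of_algebraMap_eq (fun x => by
      rw [IsScalarTower.algebraMap_apply (Localization.AtPrime p) (Localization.AtPrime Q)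
        (EGA4.Cpl (Localization.AtPrime Q))]
      exact (Groth.Agent.Lib.Helper18.CplFlat.cplMap_of (Localization.AtPrime p)
        (Localization.AtPrime Q) x).symm)
  haveI : Module.Flat (EGA4.Cpl (Localization.AtPrime p)) (EGA4.Cpl (Localization.AtPrime Q)) :=
    RingHom.flat_algebraMap_iff.mp
      (Groth.Agent.Lib.Helper18.CplFlat.flat_cplMap (Localization.AtPrime p)
        (Localization.AtPrime Q))
  haveI : IsLocalHom (algebraMap (EGA4.Cpl (Localization.AtPrime p))
      (EGA4.Cpl (Localization.AtPrime Q))) :=
    Groth.Agent.Lib.Helper18.CplFlat.isLocalHom_cplMap (Localization.AtPrime p)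
      (Localization.AtPrime Q)
  haveI : Module.FaithfullyFlat (EGA4.Cpl (Localization.AtPrime p))
      (EGA4.Cpl (Localization.AtPrime Q)) := Module.FaithfullyFlat.of_flat_of_isLocalHom
  exact Groth.Agent.Lib.Helper18.PMor.isRegularHom_of_comp_of_faithfullyFlat
    (Localization.AtPrime p) (EGA4.Cpl (Localization.AtPrime p))
    (EGA4.Cpl (Localization.AtPrime Q)) h5

end D


open Polynomial IsLocalRing TensorProduct EGA41

section b
variable (R : Type u) [CommRing R] [IsLocalRing R] [IsNoetherianRing R]

/-- (b) `R[X]` is a G-ring for a local G-ring `R`. -/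
theorem isGRing_polynomial_of_local (hR : CAlg.IsGRing R) : CAlg.IsGRing R[X] := by
  have hreg := Groth.Agent.S2045.isRegularHom_cpl_of_isGRing R hR
  haveI : IsNoetherianRing (EGA4.Cpl R) := inferInstance
  haveI : IsAdicComplete (maximalIdeal (EGA4.Cpl R)) (EGA4.Cpl R) := by
    rw [AdicCompletion.maximalIdeal_eq_map]
    exact AdicCompletion.isAdicComplete_self _ (IsNoetherian.noetherian _)
  have hG1 : CAlg.IsGRing (EGA4.Cpl R)[X] := isGRing_polynomial_of_complete (EGA4.Cpl R)
  let e : (EGA4.Cpl R)[X] ≃+* R[X] ⊗[R] EGA4.Cpl R :=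
    (polyEquivTensor' R (EGA4.Cpl R)).toRingEquiv.trans
      (Algebra.TensorProduct.comm R (EGA4.Cpl R) R[X]).toRingEquiv
  have hG2 : CAlg.IsGRing (R[X] ⊗[R] EGA4.Cpl R) :=
    isGRing_of_surjective e.toRingHom e.surjective hG1
  have hAB : CAlg.IsRegularHom R[X] (R[X] ⊗[R] EGA4.Cpl R) :=
    Groth.Agent.Lib.Helper23.RegularHom2.isRegularHom_baseChange_of_essFiniteType R R[X]
      (EGA4.Cpl R) hreg
  haveI : IsNoetherianRing R[X] := inferInstance
  exact isGRing_of_isRegularHom R[X] (R[X] ⊗[R] EGA4.Cpl R) hAB hG2
    PrimeSpectrum.comap_surjective_of_faithfullyFlat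

end b

section c
variable (R : Type u) [CommRing R]

attribute [local instance] Polynomial.algebra in
/-- (c) `R[X]` is a G-ring for a G-ring `R`. -/
theorem isGRing_polynomial (hR : CAlg.IsGRing R) : CAlg.IsGRing R[X] := by
  haveI := hR.1
  haveI : IsNoetherianRing R[X] := inferInstance
  refine ⟨inferInstance, fun P _ => ?_⟩
  set p : Ideal R := P.comap (C : R →+* R[X]) with hp
  haveI : p.IsPrime := Ideal.comap_isPrime _ P
  haveI : IsNoetherianRing (Localization.AtPrime p) :=
    IsLocalization.isNoetherianRing p.primeCompl _ inferInstance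
  have hGp : CAlg.IsGRing (Localization.AtPrime p) :=
    Groth.Agent.Lib.Helper18.Exc.isGRing_of_isLocalization R p.primeCompl _ hR
  have hGT := isGRing_polynomial_of_local (Localization.AtPrime p) hGp
  haveI := Polynomial.isLocalization p.primeCompl (Localization.AtPrime p)
  refine Groth.Agent.Lib.Helper18.Exc.isRegularHom_cpl_atPrime_of_isLocalization R[X]
    (p.primeCompl.map (C : R →+* R[X])) (Localization.AtPrime p)[X] hGT P ?_
  rw [Set.disjoint_left]
  rintro _ ⟨s, hs, rfl⟩ hsP
  exact hs hsP

/-- (d) polynomial rings in finitely many variables over a G-ring are G-rings. -/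
theorem isGRing_mvPolynomial (hR : CAlg.IsGRing R) (n : ℕ) :
    CAlg.IsGRing (MvPolynomial (Fin n) R) := by
  induction n with
  | zero =>
    exact isGRing_of_surjective (MvPolynomial.isEmptyAlgEquiv R (Fin 0)).symm.toRingEquiv.toRingHom
      (MvPolynomial.isEmptyAlgEquiv R (Fin 0)).symm.surjective hR
  | succ n ih =>
    exact isGRing_of_surjective (MvPolynomial.finSuccEquiv R n).symm.toRingEquiv.toRingHom
      (MvPolynomial.finSuccEquiv R n).symm.surjective (isGRing_polynomial _ ih)

/-- **Main theorem**: finite type algebras over G-rings are G-rings. -/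
theorem isGRing_of_finiteType (hR : CAlg.IsGRing R) (S : Type u)
    [CommRing S] [Algebra R S] [Algebra.FiniteType R S] : CAlg.IsGRing S := by
  obtain ⟨n, f, hf⟩ := Algebra.FiniteType.iff_quotient_mvPolynomial''.mp
    (inferInstance : Algebra.FiniteType R S)
  exact isGRing_of_surjective f.toRingHom hf (isGRing_mvPolynomial R hR n)

end c

end Groth.Agent.Lib.Helper23.GRingPoly
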