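import Mathlib
import Groth.Agent.Lib.Helper18.AdicHom
import Groth.Agent.Lib.Helper23.GRingPoly3
import Groth.Agent.Lib.Helper23.RegularHom2
import Groth.Agent.Lib.Helper23.CompleteGRing
import Groth.Agent.Lib.Helper9.ClosedPt1
import Groth.Agent.Lib.Helper9.SemiLocalProd
import Groth.Agent.Lib.Helper1.ArtFunQuotRing

/-!
helper23: quotients of adically complete Noetherian rings are adically complete (isAdicComplete_quotient); a Noetherian domain complete for an ideal J ≠ 0 contained in every nonzero prime is a complete local ring of dimension one (isLocalRing_of_complete_domain; Artin–Tate + Hensel lifting of idempotents). Used for S8825 (Abbes EGR 1.12: A/p → (A/p){x} regular for rig-closed p).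
-/

set_option autoImplicit false
universe u

namespace Groth.Agent.Lib.Helper23.RigClosed


open IsLocalRing Polynomial

/-- a quotient of an adically complete Noetherian ring is adically complete. -/
theorem isAdicComplete_quotient {A : Type u} [CommRing A] [IsNoetherianRing A] (I : Ideal A)
    [IsAdicComplete I A] (p : Ideal A) :
    IsAdicComplete (I.map (Ideal.Quotient.mk p)) (A ⧸ p) := by
  have hP : IsPrecomplete I (A ⧸ p) :=
    Groth.Agent.Lib.Helper1.ArtFunLib.isPrecomplete_of_surjective I (Submodule.mkQ p)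
      (Submodule.mkQ_surjective p)
  have hjac : I ≤ (⊥ : Ideal A).jacobson := IsAdicComplete.le_jacobson_bot I
  have hH : IsHausdorff I (A ⧸ p) := by
    refine ⟨fun x hx => ?_⟩
    have h0 := Ideal.iInf_pow_smul_eq_bot_of_le_jacobson (M := A ⧸ p) I hjac
    have hmem : x ∈ (⨅ i : ℕ, I ^ i • ⊤ : Submodule A (A ⧸ p)) := by
      rw [Submodule.mem_iInf]
      intro n
      have := hx n
      rw [SModEq.zero] at this
      exact this
    rw [h0] at hmem
    exact (Submodule.mem_bot A).mp hmem
  have hc : IsAdicComplete I (A ⧸ p) := { hH, hP with }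
  exact (IsAdicComplete.map_algebraMap_iff (S := A ⧸ p) I (A ⧸ p)).mpr hc



open IsLocalRing Polynomial

theorem isLocalRing_of_complete_domain (D : Type u) [CommRing D] [IsDomain D] [IsNoetherianRing D]
    (J : Ideal D) [IsAdicComplete J D] (f : D) (hfJ : f ∈ J) (hf0 : f ≠ 0)
    (hall : ∀ P : Ideal D, P.IsPrime → P ≠ ⊥ → J ≤ P) :
    ∃ (_ : IsLocalRing D), IsAdicComplete (maximalIdeal D) D := by
  classical
  have hjac : J ≤ (⊥ : Ideal D).jacobson := IsAdicComplete.le_jacobson_bot J
  have hjacM : ∀ M : Ideal D, M.IsMaximal → (⊥ : Ideal D).jacobson ≤ M := by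
    intro M hM
    exact sInf_le ⟨bot_le, hM⟩
  have hfM : ∀ M : Ideal D, M.IsMaximal → f ∈ M := fun M hM => hjacM M hM (hjac hfJ)
  have hprime_max : ∀ P : Ideal D, P.IsPrime → P ≠ ⊥ → P.IsMaximal := by
    intro P hP hP0
    obtain ⟨M, hM, hPM⟩ := Ideal.exists_le_maximal P hP.ne_top
    by_cases hPeq : P = M
    · rw [hPeq]; exact hM
    · exfalso
      haveI := hP
      haveI : M.IsPrime := hM.isPrime
      exact Groth.Agent.Lib.Helper9.ClosedPt.false_of_mem_all f hf0
        (fun Q hQ hQ0 => hall Q hQ hQ0 hfJ) P M hP0 (lt_of_le_of_ne hPM hPeq)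
  -- completeness for the Jacobson radical
  have hrad : (⊥ : Ideal D).jacobson ≤ J.radical := by
    rw [Ideal.radical_eq_sInf]
    apply le_sInf
    rintro P ⟨hJP, hP⟩
    have hP0 : P ≠ ⊥ := by
      rintro rfl
      exact hf0 ((Ideal.mem_bot).mp (hJP hfJ))
    exact hjacM P (hprime_max P hP hP0)
  obtain ⟨k, hk⟩ := Ideal.exists_radical_pow_le_of_fg J (IsNoetherian.noetherian _)
  haveI hc : IsAdicComplete (⊥ : Ideal D).jacobson D :=
    Groth.Agent.Lib.Helper9.SemiLocalProd.isAdicComplete_of_le_of_pow_le J _ hjac k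
      ((Ideal.pow_right_mono hrad k).trans hk)
  -- finiteness of the set of maximal ideals
  have hsub : {M : Ideal D | M.IsMaximal} ⊆ (Ideal.span {f}).minimalPrimes := by
    intro M hM
    refine ⟨⟨hM.isPrime, (Ideal.span_singleton_le_iff_mem _).mpr (hfM M hM)⟩, ?_⟩
    rintro P ⟨hP, hfP⟩ hPM
    have hP0 : P ≠ ⊥ := by
      rintro rfl
      exact hf0 ((Ideal.mem_bot).mp ((Ideal.span_singleton_le_iff_mem _).mp hfP))
    have hPmax := hprime_max P hP hP0
    exact (hPmax.eq_of_le hM.ne_top hPM).ge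
  have hfin : {M : Ideal D | M.IsMaximal}.Finite :=
    (Ideal.finite_minimalPrimes_of_isNoetherianRing D (Ideal.span {f})).subset hsub
  -- uniqueness of the maximal ideal
  have huniq : ∀ M₁ M₂ : Ideal D, M₁.IsMaximal → M₂.IsMaximal → M₁ = M₂ := by
    intro M₁ M₂ h₁ h₂
    by_contra hne
    set T : Finset (Ideal D) := hfin.toFinset.erase M₁ with hT
    have hcop : M₁ ⊔ ⨅ M ∈ T, M = ⊤ := by
      apply Ideal.sup_iInf_eq_top
      intro M hM
      rw [hT, Finset.mem_erase, Set.Finite.mem_toFinset] at hM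
      exact h₁.coprime_of_ne hM.2 (Ne.symm hM.1)
    obtain ⟨m, hm, e₀, he₀, hsum⟩ := Submodule.mem_sup.mp
      ((Ideal.eq_top_iff_one _).mp hcop)
    have he₀M : ∀ M : Ideal D, M.IsMaximal → M ≠ M₁ → e₀ ∈ M := by
      intro M hM hMne
      have : (⨅ M ∈ T, M : Ideal D) ≤ M := by
        apply iInf₂_le
        rw [hT, Finset.mem_erase, Set.Finite.mem_toFinset]
        exact ⟨hMne, hM⟩
      exact this he₀
    have he₀1 : e₀ - 1 ∈ M₁ := by
      have : e₀ - 1 = -m := by rw [← hsum]; ring
      rw [this]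
      exact neg_mem hm
    have hmemJ : e₀ * (e₀ - 1) ∈ (⊥ : Ideal D).jacobson := by
      rw [Ideal.jacobson, Ideal.mem_sInf]
      rintro M ⟨-, hM⟩
      by_cases hMeq : M = M₁
      · rw [hMeq]; exact Ideal.mul_mem_left _ _ he₀1
      · exact Ideal.mul_mem_right _ _ (he₀M M hM hMeq)
    have hmonic : (X ^ 2 - X : D[X]).Monic := by
      apply Polynomial.monic_X_pow_sub
      rw [Polynomial.degree_X]
      norm_num
    have heval : (X ^ 2 - X : D[X]).eval e₀ ∈ (⊥ : Ideal D).jacobson := by
      have : (X ^ 2 - X : D[X]).eval e₀ = e₀ * (e₀ - 1) := by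
        simp only [eval_sub, eval_pow, eval_X]; ring
      rw [this]; exact hmemJ
    have hder : IsUnit (Ideal.Quotient.mk (⊥ : Ideal D).jacobson
        ((X ^ 2 - X : D[X]).derivative.eval e₀)) := by
      have h1 : (X ^ 2 - X : D[X]).derivative.eval e₀ = 2 * e₀ - 1 := by
        simp only [derivative_sub, derivative_X_pow, derivative_X, eval_sub, eval_mul, eval_pow,
          eval_X, eval_one, eval_natCast, Nat.cast_ofNat]
        simp
      rw [h1]
      have h2 : Ideal.Quotient.mk (⊥ : Ideal D).jacobson (2 * e₀ - 1) *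
          Ideal.Quotient.mk (⊥ : Ideal D).jacobson (2 * e₀ - 1) = 1 := by
        rw [← map_mul, ← map_one (Ideal.Quotient.mk (⊥ : Ideal D).jacobson), Ideal.Quotient.eq]
        have : (2 * e₀ - 1) * (2 * e₀ - 1) - 1 = 4 * (e₀ * (e₀ - 1)) := by ring
        rw [this]
        exact Ideal.mul_mem_left _ _ hmemJ
      exact IsUnit.of_mul_eq_one _ h2
    obtain ⟨e, hroot, hclose⟩ := HenselianRing.is_henselian (I := (⊥ : Ideal D).jacobson)
      (X ^ 2 - X : D[X]) hmonic e₀ heval hder
    have he : e * (e - 1) = 0 := by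
      have := hroot
      rw [Polynomial.IsRoot.def] at this
      simp only [eval_sub, eval_pow, eval_X] at this
      rw [← this]; ring
    rcases mul_eq_zero.mp he with h0 | h1
    · -- e = 0
      rw [h0, zero_sub] at hclose
      have h3 : e₀ ∈ M₁ := by
        have := hjacM M₁ h₁ hclose
        simpa using neg_mem this
      apply h₁.ne_top
      rw [Ideal.eq_top_iff_one]
      have : (1 : D) = e₀ - (e₀ - 1) := by ring
      rw [this]
      exact sub_mem h3 he₀1
    · have h1' : e = 1 := sub_eq_zero.mp h1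
      rw [h1'] at hclose
      have h3 : 1 - e₀ ∈ M₂ := hjacM M₂ h₂ hclose
      have h4 : e₀ ∈ M₂ := he₀M M₂ h₂ (Ne.symm hne)
      apply h₂.ne_top
      rw [Ideal.eq_top_iff_one]
      have : (1 : D) = (1 - e₀) + e₀ := by ring
      rw [this]
      exact add_mem h3 h4
  obtain ⟨M₀, hM₀⟩ := Ideal.exists_maximal D
  have hloc : IsLocalRing D :=
    IsLocalRing.of_unique_max_ideal ⟨M₀, hM₀, fun M hM => huniq M M₀ hM hM₀⟩
  refine ⟨hloc, ?_⟩
  have : (⊥ : Ideal D).jacobson = maximalIdeal D :=
    IsLocalRing.jacobson_eq_maximalIdeal ⊥ bot_ne_top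
  rw [← this]
  exact hc

end Groth.Agent.Lib.Helper23.RigClosed
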