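import Mathlib
import Groth.Agent.Lib.Helper23.Andre1
import Groth.Agent.Lib.Helper23.Andre3
import Groth.Prelude.Def_Found
import Groth.Agent.Lib.Helper18.FibQuot
import Groth.Agent.Lib.Helper18.CST3
import Groth.Agent.Lib.Helper18.Exc2
import Groth.Agent.Lib.Helper1.ArtFunObsDimMain
import Groth.Agent.Lib.Helper1.ArtFunPS
import Groth.Agent.Lib.Helper23.CohenRing
import Groth.Agent.Lib.Helper23.RigClosed
import Groth.Agent.Lib.Helper21.RegularLocal
import Groth.Agent.Lib.Helper23.ResidueFiniteLoc
import Groth.Agent.Lib.Helper23.AdicSmoothFlat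
import Groth.Agent.Lib.Helper18.CplQuot
import Groth.Agent.S7134

/-!
André's theorem for complete local rings (EGA 0_IV 19.7.1, IV 7.4.5 complete case): a local homomorphism of complete Noetherian local rings is regular iff it is formally smooth for the adic topology (`isRegularHom_iff_adic`).
-/

set_option autoImplicit false
universe u


namespace Groth.Agent.Lib.Helper23.Andre4


open IsLocalRing TensorProduct Function

section A

variable {A Ab X Xb K Kb : Type u} [CommRing A] [CommRing Ab] [Algebra A Ab]
  [CommRing X] [Algebra A X] [CommRing Xb] [Algebra Ab Xb]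
  [Field K] [Algebra A K] [Field Kb] [Algebra Ab Kb]

/-- transfer of geometric regularity along a base change `Xb ≃ Ab ⊗[A] X` and a finite extension
`K → Kb` of the fields. -/
theorem geomRegular_transfer (e : Xb ≃ₐ[Ab] Ab ⊗[A] X) (φ : K →+* Kb)
    (hφ : ∀ a : A, φ (algebraMap A K a) = algebraMap Ab Kb (algebraMap A Ab a))
    (hfin : φ.Finite)
    (h : CAlg.IsGeometricallyRegular K (K ⊗[A] X)) :
    CAlg.IsGeometricallyRegular Kb (Kb ⊗[Ab] Xb) := by
  intro k' _ _ hk'
  letI algK : Algebra K k' := ((algebraMap Kb k').comp φ).toAlgebra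
  letI algKKb : Algebra K Kb := φ.toAlgebra
  haveI : IsScalarTower K Kb k' := IsScalarTower.of_algebraMap_eq (fun _ => rfl)
  haveI : Module.Finite K Kb := hfin
  haveI : Module.Finite K k' := Module.Finite.trans Kb k'
  obtain ⟨ε⟩ := Groth.Agent.Lib.Helper18.FibQuot.nonempty_ringEquiv_tensor
    (A := A) (Ab := Ab) (X := X) (Xb := Xb) (K := K) (Kb := Kb) (k' := k') e φ hφ rfl
  have hreg := h k' inferInstance
  haveI := hreg
  exact IsRegularRing.of_ringEquiv ε.symm

end A



open IsLocalRing TensorProduct Function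

section B

variable (A₀ : Type u) [CommRing A₀] [IsDomain A₀] [IsRegularLocalRing A₀]
  [IsAdicComplete (maximalIdeal A₀) A₀]
  (A : Type u) [CommRing A] [IsDomain A] [IsLocalRing A] [IsNoetherianRing A]
  [Algebra A₀ A] [Module.Finite A₀ A]
  (B : Type u) [CommRing B] [IsLocalRing B] [IsNoetherianRing B]
  [IsAdicComplete (maximalIdeal B) B] [Algebra A B] [IsLocalHom (algebraMap A B)]
  (K : Type u) [Field K] [Algebra A K] [IsFractionRing A K]

set_option maxHeartbeats 1600000 in
/-- **André's theorem, generic fibre over a complete local domain finite over a regular one.** -/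
theorem geomRegular_generic_of_finite
    (hinj : Injective (algebraMap A₀ A))
    (hres : Surjective ((residue A).comp (algebraMap A₀ A)))
    (h : CAlgX.IsAdicFormallySmooth A B (maximalIdeal B)) :
    CAlg.IsGeometricallyRegular K (K ⊗[A] B) := by
  haveI : FaithfulSMul A₀ A := (faithfulSMul_iff_algebraMap_injective A₀ A).mpr hinj
  haveI : IsLocalHom (algebraMap A₀ A) := inferInstance
  obtain ⟨C, _, _, _, _, _, hC, hflat, hfs, ⟨e⟩⟩ := Groth.Agent.Lib.Helper23.Andre1.exists_descent (A₀ := A₀) (A := A) (B := B) hres h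
  haveI := hC
  haveI := hflat
  have h0 := Groth.Agent.Lib.Helper23.Andre3.geomRegular_generic_of_regular A₀ C hfs
  letI algK : Algebra A₀ K := ((algebraMap A K).comp (algebraMap A₀ A)).toAlgebra
  haveI : IsScalarTower A₀ A K := IsScalarTower.of_algebraMap_eq (fun _ => rfl)
  haveI : FaithfulSMul A₀ K := by
    rw [faithfulSMul_iff_algebraMap_injective]
    exact (IsFractionRing.injective A K).comp hinj
  letI := FractionRing.liftAlgebra A₀ K
  haveI : IsLocalization (Algebra.algebraMapSubmonoid A (nonZeroDivisors A₀)) K := inferInstance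
  haveI : Module.Finite (FractionRing A₀) K :=
    Module.Finite.of_isLocalization A₀ A (nonZeroDivisors A₀)
  refine geomRegular_transfer (A := A₀) (Ab := A) (X := C) (Xb := B) (K := FractionRing A₀)
    (Kb := K) e (algebraMap (FractionRing A₀) K) ?_ ?_ h0
  · intro a
    rw [← IsScalarTower.algebraMap_apply, ← IsScalarTower.algebraMap_apply]
  · exact (inferInstance : Module.Finite (FractionRing A₀) K)

end B



open IsLocalRing TensorProduct Function

section C

variable (A : Type u) [CommRing A] [IsDomain A] [IsLocalRing A] [IsNoetherianRing A]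
  [IsAdicComplete (maximalIdeal A) A]
  (B : Type u) [CommRing B] [IsLocalRing B] [IsNoetherianRing B]
  [IsAdicComplete (maximalIdeal B) B] [Algebra A B] [IsLocalHom (algebraMap A B)]
  (K : Type u) [Field K] [Algebra A K] [IsFractionRing A K]

set_option maxHeartbeats 1600000 in
/-- **André's theorem, generic fibre over a complete local domain.** -/
theorem geomRegular_generic_of_complete_domain
    (h : CAlgX.IsAdicFormallySmooth A B (maximalIdeal B)) :
    CAlg.IsGeometricallyRegular K (K ⊗[A] B) := by
  obtain ⟨Λ, _, n, f, hΛ, hfinj, hffin, hres⟩ := Groth.Agent.Lib.Helper18.CST.exists_finite_injective A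
  letI algf : Algebra (MvPowerSeries (Fin n) Λ) A := f.toAlgebra
  haveI : Module.Finite (MvPowerSeries (Fin n) Λ) A := hffin
  rcases hΛ with hF | hC
  · letI := hF.toField
    haveI : IsAdicComplete (maximalIdeal Λ) Λ :=
      Groth.Agent.Lib.Helper18.Exc.isAdicComplete_of_isField Λ hF
    haveI : IsAdicComplete (maximalIdeal (MvPowerSeries (Fin n) Λ)) (MvPowerSeries (Fin n) Λ) :=
      Groth.Agent.Lib.Helper1.ArtFunLib.PS.isAdicComplete_mvPowerSeries
    haveI : IsDomain (MvPowerSeries (Fin n) Λ) := NoZeroDivisors.to_isDomain _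
    haveI : IsRegularLocalRing (MvPowerSeries (Fin n) Λ) :=
      Groth.Agent.Lib.Helper1.ArtFunLib.isRegularLocalRing_mvPowerSeries Λ n
    exact geomRegular_generic_of_finite (MvPowerSeries (Fin n) Λ) A B K hfinj hres h
  · have hC' : EGA41.IsCohenRingEGA Λ := Or.inr hC
    obtain ⟨hdom, hdvr, hcpl, -⟩ := hC
    haveI := Groth.Agent.Lib.Helper18.CST.isRegularLocalRing_of_isCohenRingEGA hC'
    haveI : IsRegularLocalRing (MvPowerSeries (Fin n) Λ) :=
      Groth.Agent.Lib.Helper18.CST.isRegularLocalRing_mvPowerSeries Λ n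
    haveI : IsAdicComplete (maximalIdeal (MvPowerSeries (Fin n) Λ)) (MvPowerSeries (Fin n) Λ) :=
      Groth.Agent.Lib.Helper1.ArtFunLib.PS.isAdicComplete_mvPowerSeries
    haveI : IsDomain (MvPowerSeries (Fin n) Λ) := NoZeroDivisors.to_isDomain _
    exact geomRegular_generic_of_finite (MvPowerSeries (Fin n) Λ) A B K hfinj hres h

end C



open IsLocalRing TensorProduct Function

section A2

variable {A Ab X Xb K : Type u} [CommRing A] [CommRing Ab] [Algebra A Ab]
  [CommRing X] [Algebra A X] [CommRing Xb] [Algebra Ab Xb]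
  [Field K] [Algebra A K] [Algebra Ab K] [IsScalarTower A Ab K]

/-- transfer of geometric regularity of a fibre back along a base change `Xb ≃ Ab ⊗[A] X`. -/
theorem geomRegular_transfer_back (e : Xb ≃ₐ[Ab] Ab ⊗[A] X)
    (h : CAlg.IsGeometricallyRegular K (K ⊗[Ab] Xb)) :
    CAlg.IsGeometricallyRegular K (K ⊗[A] X) := by
  intro k' _ _ hk'
  obtain ⟨ε⟩ := Groth.Agent.Lib.Helper18.FibQuot.nonempty_ringEquiv_tensor
    (A := A) (Ab := Ab) (X := X) (Xb := Xb) (K := K) (Kb := K) (k' := k') e (RingHom.id K)
    (fun a => by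
      rw [RingHom.id_apply]
      exact IsScalarTower.algebraMap_apply A Ab K a)
    (RingHom.comp_id _).symm
  haveI := h k' hk'
  exact IsRegularRing.of_ringEquiv ε

end A2

section Main

variable {A B : Type u} [CommRing A] [CommRing B]
  [IsLocalRing A] [IsLocalRing B] [IsNoetherianRing A] [IsNoetherianRing B]
  [IsAdicComplete (maximalIdeal A) A] [IsAdicComplete (maximalIdeal B) B]
  [Algebra A B] [IsLocalHom (algebraMap A B)]

set_option maxHeartbeats 1600000 in
/-- fibres of an adically formally smooth local homomorphism of complete local rings are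
geometrically regular. -/
theorem geomRegular_fibre_of_adic (h : CAlgX.IsAdicFormallySmooth A B (maximalIdeal B))
    (p : Ideal A) [hp : p.IsPrime] :
    CAlg.IsGeometricallyRegular p.ResidueField (p.Fiber B) := by
  set P : Ideal B := p.map (algebraMap A B) with hP
  have hple : p ≤ maximalIdeal A := IsLocalRing.le_maximalIdeal hp.ne_top
  have hPle : P ≤ maximalIdeal B :=
    (Ideal.map_mono hple).trans (map_maximalIdeal_le (algebraMap A B))
  haveI : IsLocalRing (A ⧸ p) :=
    Groth.Agent.Lib.Helper21.isLocalRing_quotient_of_le_maximalIdeal hple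
  haveI : IsLocalRing (B ⧸ P) :=
    Groth.Agent.Lib.Helper21.isLocalRing_quotient_of_le_maximalIdeal hPle
  haveI : IsDomain (A ⧸ p) := Ideal.Quotient.isDomain p
  haveI : IsAdicComplete (maximalIdeal (A ⧸ p)) (A ⧸ p) := by
    rw [Groth.Agent.Lib.Helper21.maximalIdeal_quotient_eq_map]
    exact Groth.Agent.Lib.Helper23.RigClosed.isAdicComplete_quotient _ _
  haveI : IsAdicComplete (maximalIdeal (B ⧸ P)) (B ⧸ P) := by
    rw [Groth.Agent.Lib.Helper21.maximalIdeal_quotient_eq_map]
    exact Groth.Agent.Lib.Helper23.RigClosed.isAdicComplete_quotient _ _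
  haveI hlocB : IsLocalHom (algebraMap B (B ⧸ P)) :=
    Groth.Agent.Lib.Helper18.CplQuot.isLocalHom_of_surjective B (B ⧸ P)
      Ideal.Quotient.mk_surjective
  haveI : IsLocalHom (algebraMap (A ⧸ p) (B ⧸ P)) := by
    refine ⟨fun x hx => ?_⟩
    obtain ⟨a, rfl⟩ := Ideal.Quotient.mk_surjective x
    have h1 : algebraMap (A ⧸ p) (B ⧸ P) (Ideal.Quotient.mk p a) =
        algebraMap B (B ⧸ P) (algebraMap A B a) := rfl
    rw [h1] at hx
    have h2 : IsUnit (algebraMap A B a) := isUnit_of_map_unit (algebraMap B (B ⧸ P)) _ hx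
    have h3 : IsUnit a := isUnit_of_map_unit (algebraMap A B) _ h2
    exact h3.map _
  have hfs : CAlgX.IsAdicFormallySmooth (A ⧸ p) (B ⧸ P) (maximalIdeal (B ⧸ P)) := by
    rw [Groth.Agent.Lib.Helper21.maximalIdeal_quotient_eq_map]
    exact Groth.Agent.S7134.adic_quotient p (maximalIdeal B) h
  have hgen := geomRegular_generic_of_complete_domain (A ⧸ p) (B ⧸ P) p.ResidueField hfs
  exact geomRegular_transfer_back (A := A) (Ab := A ⧸ p) (X := B) (Xb := B ⧸ P)
    (K := p.ResidueField) (Algebra.TensorProduct.quotIdealMapEquivQuotTensor B p) hgen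

/-- **André's theorem for complete local rings** (EGA 0_IV 19.7.1 + IV 7.4.5): a local homomorphism
of complete Noetherian local rings is regular iff it is formally smooth for the adic topology. -/
theorem isRegularHom_iff_adic :
    CAlg.IsRegularHom A B ↔ CAlgX.IsAdicFormallySmooth A B (maximalIdeal B) := by
  constructor
  · intro h
    haveI : Module.Flat A B := h.1
    exact Groth.Agent.S7134.adic_of_adic (maximalIdeal A) (maximalIdeal B)
      (map_maximalIdeal_le _)
      (Groth.Agent.Lib.Helper23.ResidueFiniteLoc.formallySmoothAdic_of_geomRegular_closedFibre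
        (h.2 (maximalIdeal A)).2)
  · intro h
    refine ⟨Groth.Agent.Lib.Helper23.AdicSmoothFlat.flat_of_adic h, fun p hp => ⟨inferInstance, ?_⟩⟩
    exact geomRegular_fibre_of_adic h p

end Main

end Groth.Agent.Lib.Helper23.Andre4
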