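import Mathlib
import Groth.Agent.Lib.Helper23.CohenRingExist

/-!
EGA 0_IV 19.8.8-ish: an Artinian local ring with m^2=0 is B/n^2 for a regular local ring B. indep_of_minimal, sub_C_mem_span_X, decomp, exists_minimal, core (from a regular local base R0 -> A), t2458main.
-/

set_option autoImplicit false


namespace Groth.Agent.Lib.Helper23.ArtinSq


universe u

open IsLocalRing

section Indep

variable {A : Type*} [CommRing A] [IsLocalRing A]

/-- Minimal generating families relative to an ideal are independent modulo it. -/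
theorem indep_of_minimal (I₀ : Ideal A) (m : ℕ) (x : Fin (m + 1) → A)
    (hgen : maximalIdeal A = I₀ ⊔ Ideal.span (Set.range x))
    (hmin : ∀ y : Fin m → A, maximalIdeal A ≠ I₀ ⊔ Ideal.span (Set.range y))
    (a : Fin (m + 1) → A) (ha : ∑ i, a i * x i ∈ I₀) (j : Fin (m + 1)) :
    a j ∈ maximalIdeal A := by
  by_contra hj
  have hu : IsUnit (a j) := by
    by_contra hnu
    exact hj ((IsLocalRing.mem_maximalIdeal _).mpr hnu)
  apply hmin (fun i => x (j.succAbove i))
  apply le_antisymm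
  · rw [hgen]
    apply sup_le le_sup_left
    rw [Ideal.span_le]
    rintro _ ⟨i, rfl⟩
    have hxj : x j ∈ I₀ ⊔ Ideal.span (Set.range (fun i => x (j.succAbove i))) := by
      rw [Fin.sum_univ_succAbove _ j] at ha
      have h1 : a j * x j = (a j * x j + ∑ i, a (j.succAbove i) * x (j.succAbove i)) -
          ∑ i, a (j.succAbove i) * x (j.succAbove i) := by ring
      have h2 : a j * x j ∈ I₀ ⊔ Ideal.span (Set.range (fun i => x (j.succAbove i))) := by
        rw [h1]
        apply Ideal.sub_mem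
        · exact Ideal.mem_sup_left ha
        · apply Ideal.mem_sup_right
          apply Ideal.sum_mem
          intro i _
          exact Ideal.mul_mem_left _ _ (Ideal.subset_span ⟨i, rfl⟩)
      obtain ⟨b, hb⟩ := hu.exists_left_inv
      have h3 : x j = b * (a j * x j) := by rw [← mul_assoc, hb, one_mul]
      rw [h3]
      exact Ideal.mul_mem_left _ _ h2
    rcases Fin.eq_self_or_eq_succAbove j i with h | ⟨i', h⟩
    · rw [h]; exact hxj
    · rw [h]; exact Ideal.mem_sup_right (Ideal.subset_span ⟨i', rfl⟩)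
  · rw [hgen]
    apply sup_le le_sup_left
    rw [Ideal.span_le]
    rintro _ ⟨i, rfl⟩
    exact Ideal.mem_sup_right (Ideal.subset_span ⟨_, rfl⟩)

end Indep




open IsLocalRing MvPolynomial

section Decomp

variable {R : Type*} [CommRing R] {n : ℕ}

theorem sub_C_mem_span_X (f : MvPolynomial (Fin n) R) :
    ∃ r : R, f - C r ∈ Ideal.span (Set.range (X : Fin n → MvPolynomial (Fin n) R)) := by
  induction f using MvPolynomial.induction_on with
  | C a => exact ⟨a, by simp⟩
  | add p q hp hq =>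
    obtain ⟨r, hr⟩ := hp
    obtain ⟨s, hs⟩ := hq
    refine ⟨r + s, ?_⟩
    have : p + q - C (r + s) = (p - C r) + (q - C s) := by rw [map_add]; ring
    rw [this]
    exact Ideal.add_mem _ hr hs
  | mul_X p i _ =>
    refine ⟨0, ?_⟩
    rw [map_zero, sub_zero]
    exact Ideal.mul_mem_left _ _ (Ideal.subset_span ⟨i, rfl⟩)

theorem decomp (f : MvPolynomial (Fin n) R) :
    ∃ (r : R) (c : Fin n → R), f - (C r + ∑ i, C (c i) * X i) ∈
      Ideal.span (Set.range (X : Fin n → MvPolynomial (Fin n) R)) ^ 2 := by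
  obtain ⟨r, hr⟩ := sub_C_mem_span_X f
  obtain ⟨g, hg⟩ := (Ideal.mem_span_range_iff_exists_fun).mp hr
  choose c hc using fun i => sub_C_mem_span_X (g i)
  refine ⟨r, c, ?_⟩
  have : f - (C r + ∑ i, C (c i) * X i) = ∑ i, (g i - C (c i)) * X i := by
    rw [← sub_sub, ← hg, ← Finset.sum_sub_distrib]
    apply Finset.sum_congr rfl
    intro i _
    ring
  rw [this, pow_two]
  apply Ideal.sum_mem
  intro i _
  exact Ideal.mul_mem_mul (hc i) (Ideal.subset_span ⟨i, rfl⟩)

end Decomp




open IsLocalRing MvPolynomial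

section Core

variable {A : Type u} [CommRing A] [IsLocalRing A]

/-- existence of a minimal relative generating family -/
theorem exists_minimal [IsNoetherianRing A] (I₀ : Ideal A) (hI₀ : I₀ ≤ maximalIdeal A) :
    ∃ (n : ℕ) (x : Fin n → A), maximalIdeal A = I₀ ⊔ Ideal.span (Set.range x) ∧
      (∀ i, x i ∈ maximalIdeal A) ∧
      ∀ (a : Fin n → A), ∑ i, a i * x i ∈ I₀ → ∀ j, a j ∈ maximalIdeal A := by
  classical
  have hex : ∃ n : ℕ, ∃ x : Fin n → A, maximalIdeal A = I₀ ⊔ Ideal.span (Set.range x) := by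
    have hfg : (maximalIdeal A).FG := IsNoetherian.noetherian _
    obtain ⟨n, s, hs⟩ := Submodule.fg_iff_exists_fin_generating_family.mp hfg
    refine ⟨n, s, ?_⟩
    have : Ideal.span (Set.range s) = maximalIdeal A := hs
    rw [this, sup_eq_right.mpr hI₀]
  obtain ⟨x, hx⟩ := Nat.find_spec hex
  have hmin := fun m (hm : m < Nat.find hex) => Nat.find_min hex hm
  refine ⟨Nat.find hex, x, hx, ?_, ?_⟩
  · intro i
    rw [hx]
    exact Ideal.mem_sup_right (Ideal.subset_span ⟨i, rfl⟩)
  · revert x hmin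
    generalize Nat.find hex = n
    intro x hx hmin a ha j
    cases n with
    | zero => exact j.elim0
    | succ m =>
      apply indep_of_minimal I₀ m x hx ?_ a ha j
      intro y hy
      exact hmin m (Nat.lt_succ_self m) ⟨y, hy⟩

theorem core [IsNoetherianRing A] (h : maximalIdeal A ^ 2 = ⊥)
    {R₀ : Type u} [CommRing R₀] [IsLocalRing R₀] [IsRegularRing R₀] (v : R₀ →+* A) [IsLocalHom v]
    (hsurj : ∀ a : A, ∃ r, a - v r ∈ maximalIdeal A)
    (H : ∀ r ∈ maximalIdeal R₀, v r = 0 → r ∈ maximalIdeal R₀ ^ 2) :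
    ∃ (B : Type u) (_ : CommRing B) (_ : IsRegularLocalRing B),
      Nonempty (A ≃+* B ⧸ maximalIdeal B ^ 2) := by
  classical
  have hsq : ∀ a b : A, a ∈ maximalIdeal A → b ∈ maximalIdeal A → a * b = 0 := by
    intro a b ha hb
    have : a * b ∈ maximalIdeal A ^ 2 := by
      rw [pow_two]; exact Ideal.mul_mem_mul ha hb
    rwa [h, Ideal.mem_bot] at this
  have hvm : ∀ r : R₀, r ∈ maximalIdeal R₀ ↔ v r ∈ maximalIdeal A := by
    intro r
    rw [IsLocalRing.mem_maximalIdeal, IsLocalRing.mem_maximalIdeal, mem_nonunits_iff,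
      mem_nonunits_iff, isUnit_map_iff]
  have hI₀ : Ideal.map v (maximalIdeal R₀) ≤ maximalIdeal A := by
    rw [Ideal.map_le_iff_le_comap]
    intro r hr
    exact (hvm r).mp hr
  obtain ⟨n, x, hgen, hxm, hind⟩ := exists_minimal (Ideal.map v (maximalIdeal R₀)) hI₀
  let ψP : MvPolynomial (Fin n) R₀ →+* A := eval₂Hom v x
  have hψC : ∀ r, ψP (C r) = v r := fun r => eval₂Hom_C _ _ _
  have hψX : ∀ i, ψP (X i) = x i := fun i => eval₂Hom_X' _ _ _
  obtain ⟨𝔓, h𝔓⟩ : ∃ 𝔓 : Ideal (MvPolynomial (Fin n) R₀),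
      𝔓 = Ideal.comap ψP (maximalIdeal A) := ⟨_, rfl⟩
  haveI h𝔓prime : 𝔓.IsPrime := by
    rw [h𝔓]; exact Ideal.comap_isPrime _ _
  have hmem𝔓 : ∀ f, f ∈ 𝔓 ↔ ψP f ∈ maximalIdeal A := by
    intro f; rw [h𝔓, Ideal.mem_comap]
  -- 𝔔 ≤ 𝔓
  have hC𝔓 : Ideal.map (C : R₀ →+* MvPolynomial (Fin n) R₀) (maximalIdeal R₀) ≤ 𝔓 := by
    rw [Ideal.map_le_iff_le_comap]
    intro r hr
    rw [Ideal.mem_comap, hmem𝔓, hψC]
    exact (hvm r).mp hr
  have hX𝔓 : Ideal.span (Set.range (X : Fin n → MvPolynomial (Fin n) R₀)) ≤ 𝔓 := by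
    rw [Ideal.span_le]
    rintro _ ⟨i, rfl⟩
    rw [SetLike.mem_coe, hmem𝔓, hψX]
    exact hxm i
  -- 𝔓² ≤ ker
  have h𝔓2 : 𝔓 ^ 2 ≤ RingHom.ker ψP := by
    rw [pow_two, Ideal.mul_le]
    intro f hf g hg
    rw [RingHom.mem_ker, map_mul]
    exact hsq _ _ ((hmem𝔓 f).mp hf) ((hmem𝔓 g).mp hg)
  -- ker ≤ 𝔓²
  have hker : RingHom.ker ψP ≤ 𝔓 ^ 2 := by
    intro f hf
    obtain ⟨r, c, hrc⟩ := decomp f
    have hrc𝔓 : f - (C r + ∑ i, C (c i) * X i) ∈ 𝔓 ^ 2 := Ideal.pow_right_mono hX𝔓 2 hrc
    have h0 : v r + ∑ i, v (c i) * x i = 0 := by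
      have h1 := h𝔓2 hrc𝔓
      rw [RingHom.mem_ker, map_sub, RingHom.mem_ker.mp hf, zero_sub, neg_eq_zero, map_add,
        map_sum, hψC] at h1
      rw [← h1]
      congr 1
      apply Finset.sum_congr rfl
      intro i _
      rw [map_mul, hψC, hψX]
    have hsum_mem : ∑ i, v (c i) * x i ∈ maximalIdeal A :=
      Ideal.sum_mem _ (fun i _ => Ideal.mul_mem_left _ _ (hxm i))
    have hvr : v r = - ∑ i, v (c i) * x i := eq_neg_of_add_eq_zero_left h0
    have hr : r ∈ maximalIdeal R₀ := by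
      rw [hvm, hvr]
      exact neg_mem hsum_mem
    have hsumI₀ : ∑ i, v (c i) * x i ∈ Ideal.map v (maximalIdeal R₀) := by
      have : ∑ i, v (c i) * x i = - v r := by rw [hvr, neg_neg]
      rw [this]
      exact neg_mem (Ideal.mem_map_of_mem _ hr)
    have hc : ∀ i, c i ∈ maximalIdeal R₀ := by
      intro i
      rw [hvm]
      exact hind (fun i => v (c i)) hsumI₀ i
    have hsum0 : ∑ i, v (c i) * x i = 0 := by
      apply Finset.sum_eq_zero
      intro i _
      exact hsq _ _ ((hvm _).mp (hc i)) (hxm i)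
    have hvr0 : v r = 0 := by rw [hvr, hsum0, neg_zero]
    have hr2 := H r hr hvr0
    have hfeq : f = (f - (C r + ∑ i, C (c i) * X i)) + (C r + ∑ i, C (c i) * X i) := by ring
    rw [hfeq]
    apply Ideal.add_mem _ hrc𝔓
    apply Ideal.add_mem
    · have : C r ∈ Ideal.map (C : R₀ →+* MvPolynomial (Fin n) R₀) (maximalIdeal R₀ ^ 2) :=
        Ideal.mem_map_of_mem _ hr2
      rw [Ideal.map_pow] at this
      exact Ideal.pow_right_mono hC𝔓 2 this
    · apply Ideal.sum_mem
      intro i _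
      rw [pow_two]
      exact Ideal.mul_mem_mul (hC𝔓 (Ideal.mem_map_of_mem _ (hc i)))
        (hX𝔓 (Ideal.subset_span ⟨i, rfl⟩))
  -- surjectivity of ψP
  have hmul : ∀ (a : A) (s : A), s ∈ ψP.range → s ∈ maximalIdeal A → a * s ∈ ψP.range := by
    intro a s hs hsm
    obtain ⟨r, hr⟩ := hsurj a
    have h1 : a * s = v r * s := by
      have : (a - v r) * s = 0 := hsq _ _ hr hsm
      rw [sub_mul, sub_eq_zero] at this
      exact this
    rw [h1]
    exact Subring.mul_mem _ ⟨C r, hψC r⟩ hs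
  have hmrange : ∀ m ∈ maximalIdeal A, m ∈ ψP.range := by
    intro m hm
    rw [hgen, Ideal.map, ← Ideal.span_union] at hm
    have : m ∈ ψP.range ∧ m ∈ maximalIdeal A := by
      refine Submodule.span_induction (p := fun y _ => y ∈ ψP.range ∧ y ∈ maximalIdeal A)
        ?_ ?_ ?_ ?_ hm
      · rintro y (⟨r, hr, rfl⟩ | ⟨i, rfl⟩)
        · exact ⟨⟨C r, hψC r⟩, (hvm r).mp hr⟩
        · exact ⟨⟨X i, hψX i⟩, hxm i⟩
      · exact ⟨Subring.zero_mem _, zero_mem _⟩
      · rintro y z _ _ ⟨hy1, hy2⟩ ⟨hz1, hz2⟩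
        exact ⟨Subring.add_mem _ hy1 hz1, add_mem hy2 hz2⟩
      · rintro a y _ ⟨hy1, hy2⟩
        exact ⟨hmul a y hy1 hy2, Ideal.mul_mem_left _ _ hy2⟩
    exact this.1
  have hψPsurj : Function.Surjective ψP := by
    intro a
    obtain ⟨r, hr⟩ := hsurj a
    obtain ⟨g, hg⟩ := hmrange _ hr
    refine ⟨g + C r, ?_⟩
    rw [map_add, hg, hψC]; ring
  -- localization
  have hunit : ∀ y : 𝔓.primeCompl, IsUnit (ψP y) := by
    intro y
    by_contra hnu
    exact y.2 ((hmem𝔓 _).mpr ((IsLocalRing.mem_maximalIdeal _).mpr hnu))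
  let ψ : Localization.AtPrime 𝔓 →+* A :=
    IsLocalization.lift (M := 𝔓.primeCompl) (g := ψP) hunit
  have hψ : ∀ f, ψ (algebraMap _ _ f) = ψP f := fun f => IsLocalization.lift_eq _ f
  have hψsurj : Function.Surjective ψ := by
    intro a
    obtain ⟨f, rfl⟩ := hψPsurj a
    exact ⟨algebraMap _ _ f, hψ f⟩
  have hmaxB : maximalIdeal (Localization.AtPrime 𝔓) ^ 2 =
      Ideal.map (algebraMap (MvPolynomial (Fin n) R₀) (Localization.AtPrime 𝔓)) (𝔓 ^ 2) := by
    rw [Ideal.map_pow, IsLocalization.AtPrime.map_eq_maximalIdeal]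
  have hkerψ : RingHom.ker ψ = maximalIdeal (Localization.AtPrime 𝔓) ^ 2 := by
    apply le_antisymm
    · intro b hb
      obtain ⟨f, s, rfl⟩ := IsLocalization.exists_mk'_eq 𝔓.primeCompl b
      have h1 : IsLocalization.mk' (Localization.AtPrime 𝔓) f s * algebraMap _ _ (s : MvPolynomial (Fin n) R₀) =
          algebraMap _ _ f := IsLocalization.mk'_spec _ f s
      have h2 : ψP f = 0 := by
        rw [← hψ, ← h1, map_mul, RingHom.mem_ker.mp hb, zero_mul]
      have h3 : f ∈ 𝔓 ^ 2 := hker (RingHom.mem_ker.mpr h2)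
      have h4 : algebraMap _ (Localization.AtPrime 𝔓) f ∈
          maximalIdeal (Localization.AtPrime 𝔓) ^ 2 := by
        rw [hmaxB]; exact Ideal.mem_map_of_mem _ h3
      rw [← h1] at h4
      have hu : IsUnit (algebraMap _ (Localization.AtPrime 𝔓) (s : MvPolynomial (Fin n) R₀)) :=
        IsLocalization.map_units _ s
      exact (Ideal.mul_unit_mem_iff_mem _ hu).mp h4
    · rw [hmaxB, Ideal.map_le_iff_le_comap]
      intro f hf
      rw [Ideal.mem_comap, RingHom.mem_ker, hψ]
      exact RingHom.mem_ker.mp (h𝔓2 hf)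
  refine ⟨Localization.AtPrime 𝔓, inferInstance, inferInstance, ⟨?_⟩⟩
  exact (RingHom.quotientKerEquivOfSurjective hψsurj).symm.trans (Ideal.quotEquivOfEq hkerψ)

end Core




open IsLocalRing Groth.Agent.Lib.Helper23

section Main

theorem t2458main {A : Type u} [CommRing A] [IsLocalRing A] [IsArtinianRing A]
    (h : maximalIdeal A ^ 2 = ⊥) :
    ∃ (B : Type u) (_ : CommRing B) (_ : IsRegularLocalRing B),
      Nonempty (A ≃+* B ⧸ IsLocalRing.maximalIdeal B ^ 2) := by
  classical
  have hsq : ∀ a b : A, a ∈ maximalIdeal A → b ∈ maximalIdeal A → a * b = 0 := by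
    intro a b ha hb
    have : a * b ∈ maximalIdeal A ^ 2 := by
      rw [pow_two]; exact Ideal.mul_mem_mul ha hb
    rwa [h, Ideal.mem_bot] at this
  obtain ⟨p, hp⟩ := CharP.exists (ResidueField A)
  by_cases hpA : (p : A) = 0
  · -- equal characteristic: a coefficient field
    obtain ⟨σ, hσ⟩ := CohenRing.exists_ring_section (ResidueField A) A (residue A)
      residue_surjective
      (fun x y hx hy => hsq x y ((residue_eq_zero_iff x).mp hx) ((residue_eq_zero_iff y).mp hy))
      (fun q _ hq => by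
        have : q = p := CharP.eq (ResidueField A) hq hp
        rw [this]; exact hpA)
    haveI : IsLocalHom σ := by
      refine ⟨fun a ha => ?_⟩
      rw [isUnit_iff_ne_zero]
      rintro rfl
      rw [map_zero] at ha
      exact not_isUnit_zero ha
    apply core h σ
    · intro a
      refine ⟨residue A a, ?_⟩
      rw [← residue_eq_zero_iff, map_sub, hσ, sub_self]
    · intro r hr _
      rw [IsLocalRing.maximalIdeal_eq_bot] at hr
      rw [Ideal.mem_bot.mp hr]
      exact zero_mem _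
  · -- mixed characteristic: a Cohen ring
    have hp0 : p ≠ 0 := by
      rintro rfl
      exact hpA Nat.cast_zero
    obtain ⟨W, _, _, hW, hnoeth, hcomp, ⟨f⟩⟩ := CohenRingExist.exists_cohenRing (ResidueField A)
    obtain ⟨q, hmaxeq, hdom, hcz, -, -, hq⟩ := CohenRing.cohenRing_data hW
    haveI h1 : CharP (ResidueField W) q := CohenRing.charP_residueField_of_data hmaxeq hq
    haveI h2 : CharP (ResidueField A) q := charP_of_injective_ringHom
      (f := (f : ResidueField W →+* ResidueField A)) f.injective q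
    have hqp : q = p := CharP.eq (ResidueField A) h2 hp
    subst hqp
    haveI : IsRegularRing W := by
      rcases hW with ⟨hf, hc⟩ | ⟨hdom', hdvr, -⟩
      · exfalso
        have hbot : maximalIdeal W = ⊥ := IsLocalRing.isField_iff_maximalIdeal_eq.mp hf
        rw [hbot, eq_comm, Ideal.span_singleton_eq_bot] at hmaxeq
        exact hp0 (by exact_mod_cast hmaxeq)
      · infer_instance
    haveI : IsAdicComplete (maximalIdeal A) A :=
      CohenRingExist.isAdicComplete_of_pow_eq_bot' _ 2 h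
    haveI : IsLocalRing (A ⧸ maximalIdeal A) := inferInstanceAs (IsLocalRing (ResidueField A))
    let u₀ : W →+* A ⧸ maximalIdeal A :=
      (f : ResidueField W →+* ResidueField A).comp (residue W)
    have hu₀ : ∀ x, u₀ x = f (residue W x) := fun x => rfl
    haveI : IsLocalHom u₀ := by
      refine ⟨fun a ha => ?_⟩
      by_contra hna
      have h1 : residue W a = 0 :=
        (residue_eq_zero_iff a).mpr ((IsLocalRing.mem_maximalIdeal a).mpr hna)
      rw [hu₀, h1, map_zero] at ha
      exact not_isUnit_zero ha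
    obtain ⟨v, hvloc, hv⟩ := CohenRing.t2456main hW (C := A) (maximalIdeal A)
      (maximalIdeal.isMaximal A).ne_top u₀
    have hvu : ∀ x, Ideal.Quotient.mk (maximalIdeal A) (v x) = f (residue W x) := fun x =>
      congrArg (fun g => g x) hv
    apply core h v
    · intro a
      obtain ⟨z, hz⟩ := f.surjective (Ideal.Quotient.mk (maximalIdeal A) a)
      obtain ⟨w, rfl⟩ := residue_surjective z
      refine ⟨w, ?_⟩
      rw [← Ideal.Quotient.eq, hvu, hz]
    · intro r hr hvr
      rw [hmaxeq, Ideal.mem_span_singleton'] at hr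
      obtain ⟨s, rfl⟩ := hr
      have hs : s ∈ maximalIdeal W := by
        rw [IsLocalRing.mem_maximalIdeal]
        intro hu
        apply hpA
        rw [map_mul, map_natCast] at hvr
        exact (hu.map v).mul_right_eq_zero.mp hvr
      rw [hmaxeq, Ideal.mem_span_singleton'] at hs
      obtain ⟨s', rfl⟩ := hs
      rw [hmaxeq, Ideal.span_singleton_pow, Ideal.mem_span_singleton']
      exact ⟨s', by ring⟩

end Main

end Groth.Agent.Lib.Helper23.ArtinSq
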