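import Mathlib
import Groth.Agent.S4537
import Groth.Agent.Lib.Helper23.Cartier
import Groth.Agent.Lib.Helper23.CohenEq
import Groth.Agent.Lib.Helper23.SymGrRegular
import Groth.Agent.S4571

/-!
Completed module of differentials of a complete Noetherian local algebra, adically formally smooth over a field with finitely generated residue extension: free of rank dim A + trdeg (EGA 0_IV 21.9.?/22). Includes lifting of derivations along surjections of discrete modules.
-/

set_option autoImplicit false
universe u v w


namespace Groth.Agent.Lib.Helper23.CompletedKaehler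


open TrivSqZeroExt

section DerLift

variable {k A Q : Type u} [CommRing k] [CommRing A] [CommRing Q] [Algebra k A] [Algebra A Q]
  [Algebra k Q] [IsScalarTower k A Q]
  {M' M : Type u} [AddCommGroup M'] [AddCommGroup M] [Module Q M'] [Module Q M]
  [Module A M'] [Module A M] [IsScalarTower A Q M'] [IsScalarTower A Q M]
  [Module k M'] [Module k M] [IsScalarTower k A M'] [IsScalarTower k A M]

/-- lifting of derivations along a surjection of discrete modules, for an adically formally smooth
algebra. -/
theorem exists_derivation_lift {J : Ideal A} (h : CAlgX.IsAdicFormallySmooth k A J)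
    (hQ : ∃ m : ℕ, ∀ x ∈ J ^ m, algebraMap A Q x = 0)
    (g : M' →ₗ[Q] M) (hg : Function.Surjective g) (D : Derivation k A M) :
    ∃ D' : Derivation k A M', ∀ a, g (D' a) = D a := by
  letI : Module Qᵐᵒᵖ M' := Module.compHom _ ((RingHom.id Q).fromOpposite mul_comm)
  letI : Module Qᵐᵒᵖ M := Module.compHom _ ((RingHom.id Q).fromOpposite mul_comm)
  haveI : IsCentralScalar Q M' := ⟨fun r m => rfl⟩
  haveI : IsCentralScalar Q M := ⟨fun r m => rfl⟩
  letI : Algebra k (TrivSqZeroExt Q M') :=
    ((TrivSqZeroExt.inlHom Q M').comp (algebraMap k Q)).toAlgebra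
  letI : Algebra k (TrivSqZeroExt Q M) :=
    ((TrivSqZeroExt.inlHom Q M).comp (algebraMap k Q)).toAlgebra
  -- the projection
  let π : TrivSqZeroExt Q M' →ₐ[k] TrivSqZeroExt Q M :=
    { (TrivSqZeroExt.map g).toRingHom with
      commutes' := fun c => by
        show TrivSqZeroExt.map g (TrivSqZeroExt.inl (algebraMap k Q c)) = TrivSqZeroExt.inl _
        rw [TrivSqZeroExt.map_inl] }
  have hπfst : ∀ x, (π x).fst = x.fst := fun x => TrivSqZeroExt.fst_map g x
  have hπsnd : ∀ x, (π x).snd = g x.snd := fun x => TrivSqZeroExt.snd_map g x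
  have hπ : Function.Surjective π := by
    intro y
    obtain ⟨x, hx⟩ := hg y.snd
    refine ⟨TrivSqZeroExt.inl y.fst + TrivSqZeroExt.inr x, ?_⟩
    apply TrivSqZeroExt.ext
    · rw [hπfst]; simp
    · rw [hπsnd]; simp [hx]
  have hK2 : ∀ x y, π x = 0 → π y = 0 → x * y = 0 := by
    intro x y hx hy
    have h1 : x.fst = 0 := by rw [← hπfst, hx]; rfl
    have h2 : y.fst = 0 := by rw [← hπfst, hy]; rfl
    apply TrivSqZeroExt.ext
    · rw [TrivSqZeroExt.fst_mul, h1, zero_mul]; rfl
    · rw [TrivSqZeroExt.snd_mul, h1, h2, zero_smul]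
      simp
  have hsmul : ∀ (a : A) (x : M), algebraMap A Q a • x = a • x := fun a x => algebraMap_smul Q a x
  have hsmul' : ∀ (a : A) (x : M'), algebraMap A Q a • x = a • x := fun a x => algebraMap_smul Q a x
  -- the map `a ↦ (ā, D a)`
  let u₀ : A →+* TrivSqZeroExt Q M :=
    { toFun := fun a => TrivSqZeroExt.inl (algebraMap A Q a) + TrivSqZeroExt.inr (D a)
      map_one' := by simp
      map_mul' := fun a b => by
        apply TrivSqZeroExt.ext
        · simp
        · simp only [TrivSqZeroExt.snd_add, TrivSqZeroExt.snd_inl, TrivSqZeroExt.snd_inr, zero_add,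
            TrivSqZeroExt.snd_mul, TrivSqZeroExt.fst_add, TrivSqZeroExt.fst_inl,
            TrivSqZeroExt.fst_inr, add_zero, op_smul_eq_smul, Derivation.leibniz, hsmul]
      map_zero' := by simp
      map_add' := fun a b => by
        apply TrivSqZeroExt.ext
        · simp
        · simp }
  let u : A →ₐ[k] TrivSqZeroExt Q M :=
    { u₀ with
      commutes' := fun c => by
        show TrivSqZeroExt.inl (algebraMap A Q (algebraMap k A c)) +
          TrivSqZeroExt.inr (D (algebraMap k A c)) = TrivSqZeroExt.inl (algebraMap k Q c)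
        rw [Derivation.map_algebraMap, TrivSqZeroExt.inr_zero, add_zero,
          ← IsScalarTower.algebraMap_apply] }
  have hufst : ∀ a, (u a).fst = algebraMap A Q a := fun a => by
    show (TrivSqZeroExt.inl (algebraMap A Q a) + TrivSqZeroExt.inr (D a)).fst = _
    simp
  have husnd : ∀ a, (u a).snd = D a := fun a => by
    show (TrivSqZeroExt.inl (algebraMap A Q a) + TrivSqZeroExt.inr (D a)).snd = _
    simp
  obtain ⟨m, hm⟩ := hQ
  have hu : ∃ m' : ℕ, ∀ x ∈ J ^ m', u x = 0 := by
    refine ⟨2 * m, fun x hx => ?_⟩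
    rw [mul_comm, pow_mul, pow_two] at hx
    refine Submodule.mul_induction_on hx ?_ ?_
    · intro y hy z hz
      apply TrivSqZeroExt.ext
      · rw [hufst, map_mul, hm y hy, zero_mul]; rfl
      · rw [husnd, Derivation.leibniz, ← hsmul, ← hsmul, hm y hy, hm z hz, zero_smul, zero_smul,
          add_zero]; rfl
    · intro y z hy hz
      rw [map_add, hy, hz, add_zero]
  obtain ⟨v, hv, -⟩ := Groth.Agent.S4537.lift_of_ker_sq h π hπ hK2 u hu
  have hvfst : ∀ a, (v a).fst = algebraMap A Q a := fun a => by
    rw [← hπfst, hv, hufst]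
  have hscal : ∀ (c : k) (a : A), (v (c • a)).snd = c • (v a).snd := by
    intro c a
    rw [Algebra.smul_def, map_mul, AlgHom.commutes]
    show (TrivSqZeroExt.inl (algebraMap k Q c) * v a).snd = _
    rw [TrivSqZeroExt.snd_mul]
    simp only [TrivSqZeroExt.fst_inl, TrivSqZeroExt.snd_inl, smul_zero, add_zero]
    rw [IsScalarTower.algebraMap_apply k A Q, hsmul', algebraMap_smul]
  let D₀ : A →ₗ[k] M' :=
    { toFun := fun a => (v a).snd
      map_add' := fun a b => by rw [map_add]; rfl
      map_smul' := fun c a => hscal c a }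
  have hleib : ∀ a b, D₀ (a * b) = a • D₀ b + b • D₀ a := by
    intro a b
    show (v (a * b)).snd = a • (v b).snd + b • (v a).snd
    rw [map_mul, TrivSqZeroExt.snd_mul, hvfst, hvfst, op_smul_eq_smul, hsmul', hsmul']
  refine ⟨Derivation.mk' D₀ hleib, fun a => ?_⟩
  show g (v a).snd = D a
  rw [← hπsnd, hv, husnd]

end DerLift



open IsLocalRing TensorProduct KaehlerDifferential

section PartB

variable {k A : Type u} [CommRing k] [CommRing A] [IsLocalRing A] [Algebra k A]

/-- the dual derivations and the coefficient test. -/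
theorem coeff_mem_of_sum_mem (hfs : CAlgX.IsAdicFormallySmooth k A (maximalIdeal A)) {r : ℕ}
    (b : Module.Basis (Fin r) (ResidueField A) (ResidueField A ⊗[A] Ω[A⁄k]))
    (ω : Fin r → Ω[A⁄k]) (hb : ∀ i, b i = (1 : ResidueField A) ⊗ₜ[A] ω i) (n : ℕ)
    (c : Fin r → A)
    (hc : ∑ i, c i • ω i ∈ (maximalIdeal A) ^ n • (⊤ : Submodule A Ω[A⁄k])) :
    ∀ i, c i ∈ maximalIdeal A ^ n := by
  classical
  rcases Nat.eq_zero_or_pos n with hn | hn
  · subst hn
    intro i
    rw [pow_zero, Ideal.one_eq_top]
    trivial
  have hle : maximalIdeal A ^ n ≤ maximalIdeal A := Ideal.pow_le_self (Nat.pos_iff_ne_zero.mp hn)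
  -- `K` as an algebra over `Q = A/𝔪^n`
  letI : Algebra (A ⧸ maximalIdeal A ^ n) (ResidueField A) :=
    (Ideal.Quotient.factor hle).toAlgebra
  haveI : IsScalarTower A (A ⧸ maximalIdeal A ^ n) (ResidueField A) :=
    IsScalarTower.of_algebraMap_eq (fun a => rfl)
  have hgsurj : Function.Surjective (Algebra.linearMap (A ⧸ maximalIdeal A ^ n) (ResidueField A)) :=
    Ideal.Quotient.factor_surjective hle
  have hQ : ∃ m : ℕ, ∀ x ∈ maximalIdeal A ^ m, algebraMap A (A ⧸ maximalIdeal A ^ n) x = 0 :=
    ⟨n, fun x hx => Ideal.Quotient.eq_zero_iff_mem.mpr hx⟩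
  -- the dual derivations
  let φ : Fin r → (Ω[A⁄k] →ₗ[A] ResidueField A) := fun i =>
    ((b.coord i).restrictScalars A) ∘ₗ (TensorProduct.mk A (ResidueField A) Ω[A⁄k] 1)
  have hφ : ∀ i l, φ i (ω l) = if l = i then 1 else 0 := by
    intro i l
    show b.coord i ((1 : ResidueField A) ⊗ₜ[A] ω l) = _
    rw [← hb, Module.Basis.coord_apply, Module.Basis.repr_self, Finsupp.single_apply]
  have hlift : ∀ i, ∃ D' : Derivation k A (A ⧸ maximalIdeal A ^ n),
      ∀ a, Algebra.linearMap (A ⧸ maximalIdeal A ^ n) (ResidueField A) (D' a) =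
        (φ i).compDer (KaehlerDifferential.D k A) a := fun i =>
    exists_derivation_lift hfs hQ _ hgsurj _
  choose D' hD' using hlift
  let L : Fin r → (Ω[A⁄k] →ₗ[A] (A ⧸ maximalIdeal A ^ n)) := fun i => (D' i).liftKaehlerDifferential
  have hL : ∀ i (x : Ω[A⁄k]),
      algebraMap (A ⧸ maximalIdeal A ^ n) (ResidueField A) (L i x) = φ i x := by
    intro i
    have : ((Algebra.linearMap (A ⧸ maximalIdeal A ^ n) (ResidueField A)).restrictScalars A) ∘ₗ L i
        = φ i := by
      apply Derivation.liftKaehlerDifferential_unique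
      ext a
      show algebraMap (A ⧸ maximalIdeal A ^ n) (ResidueField A)
        ((D' i).liftKaehlerDifferential (KaehlerDifferential.D k A a)) = _
      rw [Derivation.liftKaehlerDifferential_comp_D]
      exact hD' i a
    intro x
    exact LinearMap.congr_fun this x
  -- `L i` kills `𝔪^n Ω`
  have hLzero : ∀ i, L i (∑ l, c l • ω l) = 0 := by
    intro i
    refine Submodule.smul_induction_on hc ?_ ?_
    · intro x hx y _
      rw [map_smul, Algebra.smul_def]
      have : algebraMap A (A ⧸ maximalIdeal A ^ n) x = 0 := Ideal.Quotient.eq_zero_iff_mem.mpr hx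
      rw [this, zero_mul]
    · intro x y hx hy
      rw [map_add, hx, hy, add_zero]
  -- the matrix
  let Mat : Matrix (Fin r) (Fin r) (A ⧸ maximalIdeal A ^ n) := fun i l => L i (ω l)
  have hMat : (algebraMap (A ⧸ maximalIdeal A ^ n) (ResidueField A)).mapMatrix Mat = 1 := by
    ext i l
    show algebraMap (A ⧸ maximalIdeal A ^ n) (ResidueField A) (L i (ω l)) = _
    rw [hL, hφ, Matrix.one_apply]
    simp only [eq_comm]
  have hdet : IsUnit Mat.det := by
    have h1 : algebraMap (A ⧸ maximalIdeal A ^ n) (ResidueField A) Mat.det = 1 := by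
      rw [RingHom.map_det, hMat, Matrix.det_one]
    obtain ⟨a, ha⟩ := Ideal.Quotient.mk_surjective Mat.det
    rw [← ha] at h1 ⊢
    have h2 : residue A a = 1 := h1
    have h3 : IsUnit a := by
      by_contra hna
      have : a ∈ maximalIdeal A := (IsLocalRing.mem_maximalIdeal a).mpr hna
      rw [(residue_eq_zero_iff a).mpr this] at h2
      exact zero_ne_one h2
    exact h3.map _
  have hvec : Mat.mulVec (fun l => Ideal.Quotient.mk (maximalIdeal A ^ n) (c l)) = 0 := by
    ext i
    have := hLzero i
    rw [map_sum] at this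
    show ∑ l, Mat i l * Ideal.Quotient.mk (maximalIdeal A ^ n) (c l) = 0
    rw [← this]
    apply Finset.sum_congr rfl
    intro l _
    rw [map_smul, Algebra.smul_def, mul_comm]
    rfl
  have hinj := Matrix.mulVec_injective_of_isUnit ((Matrix.isUnit_iff_isUnit_det Mat).mpr hdet)
  have hzero : (fun l => Ideal.Quotient.mk (maximalIdeal A ^ n) (c l)) = 0 := by
    apply hinj
    rw [hvec, Matrix.mulVec_zero]
  intro i
  have := congrFun hzero i
  exact Ideal.Quotient.eq_zero_iff_mem.mp this

end PartB



open IsLocalRing TensorProduct KaehlerDifferential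

section Complete

variable {R : Type u} [CommRing R] (I : Ideal R)

/-- a finite free module over a complete ring is complete. -/
theorem isAdicComplete_pi [IsAdicComplete I R] (r : ℕ) : IsAdicComplete I (Fin r → R) := by
  rw [← AdicCompletion.of_bijective_iff]
  have h1 : ∀ c : Fin r → R, AdicCompletion.piEquivFin I r (AdicCompletion.of I (Fin r → R) c) =
      fun j => AdicCompletion.of I R (c j) := by
    intro c
    rw [AdicCompletion.piEquivFin_apply]
    ext j
    simp [AdicCompletion.pi, AdicCompletion.map_of]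
  have h2 : Function.Bijective (fun c : Fin r → R => fun j => AdicCompletion.of I R (c j)) := by
    have hb := AdicCompletion.of_bijective I R
    constructor
    · intro c c' h
      funext j
      exact hb.1 (congrFun h j)
    · intro y
      choose c hc using fun j => hb.2 (y j)
      exact ⟨c, funext hc⟩
  have h3 : (AdicCompletion.of I (Fin r → R) : (Fin r → R) → _) =
      (AdicCompletion.piEquivFin I r).symm ∘
        (fun c : Fin r → R => fun j => AdicCompletion.of I R (c j)) := by
    funext c
    rw [Function.comp_apply, ← h1, LinearEquiv.symm_apply_apply]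
  rw [h3]
  exact (AdicCompletion.piEquivFin I r).symm.bijective.comp h2

end Complete


section Equiv

variable {k A : Type u} [CommRing k] [CommRing A] [IsLocalRing A] [Algebra k A]
  [IsAdicComplete (maximalIdeal A) A]

theorem mem_smul_top_of_tmul_eq_zero {M : Type u} [AddCommGroup M] [Module A M] (y : M)
    (hy : (1 : ResidueField A) ⊗ₜ[A] y = 0) : y ∈ maximalIdeal A • (⊤ : Submodule A M) := by
  have h := TensorProduct.quotTensorEquivQuotSMul_mk_one_tmul (M := M) (maximalIdeal A) y
  have h2 : TensorProduct.quotTensorEquivQuotSMul M (maximalIdeal A)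
      ((1 : A ⧸ maximalIdeal A) ⊗ₜ[A] y) = 0 := by
    have : ((1 : A ⧸ maximalIdeal A) ⊗ₜ[A] y) = 0 := hy
    rw [this, map_zero]
  rw [h] at h2
  exact (Submodule.Quotient.mk_eq_zero _).mp h2

/-- the completed module of differentials is free of rank `dim_K (K ⊗ Ω)`. -/
theorem exists_equiv (hfs : CAlgX.IsAdicFormallySmooth k A (maximalIdeal A))
    [Module.Finite (ResidueField A) (ResidueField A ⊗[A] Ω[A⁄k])] :
    Nonempty ((Fin (Module.finrank (ResidueField A) (ResidueField A ⊗[A] Ω[A⁄k])) → A) ≃ₗ[A]
      AdicCompletion (maximalIdeal A) Ω[A⁄k]) := by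
  classical
  set r := Module.finrank (ResidueField A) (ResidueField A ⊗[A] Ω[A⁄k]) with hr
  let b : Module.Basis (Fin r) (ResidueField A) (ResidueField A ⊗[A] Ω[A⁄k]) :=
    Module.finBasis _ _
  have hmk : Function.Surjective (TensorProduct.mk A (ResidueField A) Ω[A⁄k] 1) :=
    TensorProduct.mk_surjective A Ω[A⁄k] (ResidueField A) residue_surjective
  choose ω hω using fun i => hmk (b i)
  have hb : ∀ i, b i = (1 : ResidueField A) ⊗ₜ[A] ω i := fun i => (hω i).symm
  let Ψ : (Fin r → A) →ₗ[A] Ω[A⁄k] := Fintype.linearCombination A ω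
  have hΨ : ∀ c, Ψ c = ∑ i, c i • ω i := fun c => Fintype.linearCombination_apply A ω c
  haveI := isAdicComplete_pi (maximalIdeal A) r
  -- surjectivity modulo `𝔪`
  have hsurj : Function.Surjective
      ((maximalIdeal A • (⊤ : Submodule A Ω[A⁄k])).mkQ ∘ₗ Ψ) := by
    intro y'
    obtain ⟨y, rfl⟩ := Submodule.mkQ_surjective _ y'
    choose a ha using fun i => residue_surjective (b.repr ((1 : ResidueField A) ⊗ₜ[A] y) i)
    refine ⟨a, ?_⟩
    rw [LinearMap.comp_apply, Submodule.mkQ_apply, Submodule.mkQ_apply, Submodule.Quotient.eq]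
    apply mem_smul_top_of_tmul_eq_zero
    rw [TensorProduct.tmul_sub, sub_eq_zero, hΨ, TensorProduct.tmul_sum]
    conv_rhs => rw [← b.sum_repr ((1 : ResidueField A) ⊗ₜ[A] y)]
    apply Finset.sum_congr rfl
    intro i _
    rw [TensorProduct.tmul_smul, ← hb, ← ha i]
    rw [← algebraMap_smul (ResidueField A) (a i) (b i)]
    rfl
  have hmapsurj := AdicCompletion.map_surjective_of_mkQ_comp_surjective hsurj
  let Φ : (Fin r → A) →ₗ[A] AdicCompletion (maximalIdeal A) Ω[A⁄k] :=
    (AdicCompletion.of (maximalIdeal A) Ω[A⁄k]) ∘ₗ Ψ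
  have hΦinj : Function.Injective Φ := by
    rw [injective_iff_map_eq_zero]
    intro c hc
    have hmem : ∀ n, Ψ c ∈ (maximalIdeal A) ^ n • (⊤ : Submodule A Ω[A⁄k]) := by
      intro n
      have h1 := congrArg (fun z => z.val n) hc
      simp only [Φ, LinearMap.comp_apply, AdicCompletion.of_apply, AdicCompletion.val_zero,
        Pi.zero_apply] at h1
      exact (Submodule.Quotient.mk_eq_zero _).mp h1
    funext i
    have hi : ∀ n, c i ∈ maximalIdeal A ^ n := fun n => by
      have := hmem n
      rw [hΨ] at this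
      exact coeff_mem_of_sum_mem hfs b ω hb n c this i
    have hh : IsHausdorff (maximalIdeal A) A := inferInstance
    apply hh.haus'
    intro n
    rw [SModEq.zero, smul_eq_mul, Ideal.mul_top]
    exact hi n
  have hΦsurj : Function.Surjective Φ := by
    intro y
    obtain ⟨x, hx⟩ := hmapsurj y
    obtain ⟨c, hc⟩ := AdicCompletion.of_surjective (maximalIdeal A) (Fin r → A) x
    refine ⟨c, ?_⟩
    show AdicCompletion.of (maximalIdeal A) Ω[A⁄k] (Ψ c) = y
    rw [← AdicCompletion.map_of, hc, hx]
  exact ⟨LinearEquiv.ofBijective Φ ⟨hΦinj, hΦsurj⟩⟩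

end Equiv



open IsLocalRing TensorProduct KaehlerDifferential Module

open Groth.Agent.Lib.Helper23 Groth.Agent.Lib.Helper23.LinIndex Groth.Agent.Lib.Helper23.Cartier

section PartE

variable {A : Type u} [CommRing A] [IsLocalRing A]

theorem kerEq (A : Type u) [CommRing A] [IsLocalRing A] :
    maximalIdeal A = RingHom.ker (algebraMap A (ResidueField A)) :=
  (IsLocalRing.ker_residue (R := A)).symm

/-- the cotangent space maps to `K ⊗ Ω_{A/ℤ}` (as a `K`-linear map). -/
noncomputable def cotangentToTensor : CotangentSpace A →ₗ[ResidueField A]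
    ResidueField A ⊗[A] Ω[A⁄ℤ] :=
  ((kerCotangentToTensor ℤ A (ResidueField A)) ∘ₗ
    (Ideal.Cotangent.equivOfEq (maximalIdeal A) (RingHom.ker (algebraMap A (ResidueField A)))
      (kerEq A)).toLinearMap).extendScalarsOfSurjective residue_surjective

theorem exact_cotangentToTensor :
    Function.Exact (cotangentToTensor (A := A)) (mapBaseChange ℤ A (ResidueField A)) := by
  have hex := KaehlerDifferential.exact_kerCotangentToTensor_mapBaseChange ℤ A (ResidueField A)
    residue_surjective
  intro y
  rw [hex y]
  constructor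
  · rintro ⟨x, rfl⟩
    refine ⟨(Ideal.Cotangent.equivOfEq (maximalIdeal A)
      (RingHom.ker (algebraMap A (ResidueField A))) (kerEq A)).symm x, ?_⟩
    show kerCotangentToTensor ℤ A (ResidueField A) (_ ) = _
    rw [LinearEquiv.coe_coe, LinearEquiv.apply_symm_apply]
  · rintro ⟨x, rfl⟩
    exact ⟨_, rfl⟩

theorem cotangentToTensor_injective (u : ResidueField A →+* A) (hu : ∀ x, residue A (u x) = x) :
    Function.Injective (cotangentToTensor (A := A)) := by
  let g : ResidueField A →ₐ[ℤ]
      A ⧸ (RingHom.ker (algebraMap A (ResidueField A))) ^ 2 :=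
    ((Ideal.Quotient.mk _).comp u).toIntAlgHom
  have hg : (IsScalarTower.toAlgHom ℤ A (ResidueField A)).kerSquareLift.comp g =
      AlgHom.id ℤ (ResidueField A) := by
    ext x
    show (IsScalarTower.toAlgHom ℤ A (ResidueField A)).kerSquareLift (Ideal.Quotient.mk _ (u x)) = x
    rw [AlgHom.kerSquareLift_mk]
    exact hu x
  obtain ⟨l, hl⟩ := (retractionKerCotangentToTensorEquivSection (R := ℤ) (P := A)
    (S := ResidueField A) residue_surjective).symm ⟨g, hg⟩
  have hinj : Function.Injective (kerCotangentToTensor ℤ A (ResidueField A)) :=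
    Function.LeftInverse.injective (g := l) (fun x => LinearMap.congr_fun hl x)
  intro x y hxy
  have : kerCotangentToTensor ℤ A (ResidueField A) (Ideal.Cotangent.equivOfEq (maximalIdeal A)
      (RingHom.ker (algebraMap A (ResidueField A))) (kerEq A) x) =
      kerCotangentToTensor ℤ A (ResidueField A) (Ideal.Cotangent.equivOfEq (maximalIdeal A)
      (RingHom.ker (algebraMap A (ResidueField A))) (kerEq A) y) := hxy
  exact (LinearEquiv.injective _) (hinj this)

theorem hasIndex_residue [IsNoetherianRing A] (u : ResidueField A →+* A)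
    (hu : ∀ x, residue A (u x) = x) :
    HasIndex (mapBaseChange ℤ A (ResidueField A))
      (-(Module.finrank (ResidueField A) (CotangentSpace A) : ℤ)) := by
  have h := HasIndex.of_exact (L := ResidueField A) (N := CotangentSpace A) (C := PUnit.{u+1})
    (f := mapBaseChange ℤ A (ResidueField A)) cotangentToTensor 0
    (cotangentToTensor_injective u hu) exact_cotangentToTensor
    (fun y => by
      simp only [LinearMap.zero_apply, true_iff]
      exact KaehlerDifferential.mapBaseChange_surjective ℤ A (ResidueField A) residue_surjective y)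
    (fun c => ⟨0, Subsingleton.elim _ _⟩)
  rw [Module.finrank_zero_of_subsingleton] at h
  simpa using h

end PartE



open IsLocalRing TensorProduct KaehlerDifferential Module

open Groth.Agent.Lib.Helper23 Groth.Agent.Lib.Helper23.LinIndex Groth.Agent.Lib.Helper23.Cartier

section PartE1

variable {k A : Type u} [CommRing k] [CommRing A] [IsLocalRing A] [IsNoetherianRing A] [Algebra k A]

/-- `K ⊗ Ω_{A/k}` is finite-dimensional when `Ω_{K/k}` is. -/
theorem finite_tensor_kaehler [Module.Finite (ResidueField A) Ω[ResidueField A⁄k]] :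
    Module.Finite (ResidueField A) (ResidueField A ⊗[A] Ω[A⁄k]) := by
  classical
  set K := ResidueField A
  let f := mapBaseChange k A K
  let l := kerCotangentToTensor k A K
  have hex := KaehlerDifferential.exact_kerCotangentToTensor_mapBaseChange k A K residue_surjective
  haveI : Module.Finite A (RingHom.ker (algebraMap A K)).Cotangent :=
    Module.Finite.of_surjective (RingHom.ker (algebraMap A K)).toCotangent
      (RingHom.ker (algebraMap A K)).toCotangent_surjective
  obtain ⟨S, hS⟩ := (Module.Finite.fg_top :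
    (⊤ : Submodule A (RingHom.ker (algebraMap A K)).Cotangent).FG)
  have hker : LinearMap.ker f = Submodule.span K (l '' (S : Set _)) := by
    apply le_antisymm
    · intro y hy
      obtain ⟨x, rfl⟩ := (hex y).mp hy
      have hx : x ∈ Submodule.span A (S : Set _) := by rw [hS]; trivial
      have key : ∀ x ∈ Submodule.span A (S : Set (RingHom.ker (algebraMap A K)).Cotangent),
          l x ∈ Submodule.span K (l '' (S : Set _)) := by
        intro x hx
        induction hx using Submodule.span_induction with
        | mem x hx => exact Submodule.subset_span ⟨x, hx, rfl⟩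
        | zero => rw [map_zero]; exact Submodule.zero_mem _
        | add x y _ _ hx hy => rw [map_add]; exact Submodule.add_mem _ hx hy
        | smul a x _ hx =>
          rw [map_smul, ← algebraMap_smul K a (l x)]
          exact Submodule.smul_mem _ _ hx
      exact key x hx
    · rw [Submodule.span_le]
      rintro _ ⟨x, _, rfl⟩
      exact (hex _).mpr ⟨x, rfl⟩
  have h1 : (LinearMap.ker f).FG := by
    rw [hker]
    exact Submodule.fg_span (Set.Finite.image _ S.finite_toSet)
  have h2 : ((⊤ : Submodule K (K ⊗[A] Ω[A⁄k])).map f).FG := IsNoetherian.noetherian _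
  have h3 : (⊤ : Submodule K (K ⊗[A] Ω[A⁄k])).FG :=
    Submodule.fg_of_fg_map_of_fg_inf_ker f h2 (by rwa [top_inf_eq])
  exact ⟨h3⟩

end PartE1

section PartE2

variable {k A : Type u} [Field k] [CommRing A] [IsLocalRing A] [Algebra k A]

theorem hasIndex_alpha (hfs : CAlgX.IsAdicFormallySmooth k A (maximalIdeal A))
    [Module.Finite (ResidueField A) (ResidueField A ⊗[A] Ω[A⁄k])] :
    HasIndex ((mapBaseChange ℤ k A).baseChange (ResidueField A))
      (Module.finrank (ResidueField A) (ResidueField A ⊗[A] Ω[A⁄k]) : ℤ) := by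
  have hinj : Function.Injective ((mapBaseChange ℤ k A).baseChange (ResidueField A)) := by
    have := (Groth.Agent.S4571.result.mp hfs).2
    rw [← LinearMap.baseChange_eq_ltensor] at this
    exact this
  have hex : Function.Exact ((mapBaseChange ℤ k A).baseChange (ResidueField A))
      ((KaehlerDifferential.map ℤ k A A).baseChange (ResidueField A)) := by
    rw [LinearMap.baseChange_eq_ltensor, LinearMap.baseChange_eq_ltensor]
    exact lTensor_exact (ResidueField A) (exact_mapBaseChange_map ℤ k A)
      (KaehlerDifferential.map_surjective ℤ k A)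
  have hsurj : Function.Surjective
      ((KaehlerDifferential.map ℤ k A A).baseChange (ResidueField A)) := by
    rw [LinearMap.baseChange_eq_ltensor]
    exact LinearMap.lTensor_surjective _ (KaehlerDifferential.map_surjective ℤ k A)
  have h := HasIndex.of_exact (L := ResidueField A) (N := PUnit.{u+1})
    (C := ResidueField A ⊗[A] Ω[A⁄k])
    (f := (mapBaseChange ℤ k A).baseChange (ResidueField A)) 0
    ((KaehlerDifferential.map ℤ k A A).baseChange (ResidueField A))
    (fun a b _ => Subsingleton.elim a b)
    (fun x => by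
      simp only [LinearMap.zero_apply, Set.mem_range, exists_const]
      constructor
      · intro h; exact (hinj (h.trans (map_zero _).symm)).symm
      · intro h; rw [← h, map_zero])
    hex hsurj
  have h0 : Module.finrank (ResidueField A) PUnit.{u+1} = 0 := Module.finrank_zero_of_subsingleton
  rw [h0] at h
  simpa using h

end PartE2



open IsLocalRing TensorProduct KaehlerDifferential Module

open Groth.Agent.Lib.Helper23 Groth.Agent.Lib.Helper23.LinIndex Groth.Agent.Lib.Helper23.Cartier

section Main

theorem HasIndex.unique {L : Type u} [Field L] {V : Type v} {W : Type w} [AddCommGroup V] [Module L V]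
    [AddCommGroup W] [Module L W] {f : V →ₗ[L] W} {m n : ℤ} (h1 : HasIndex f m) (h2 : HasIndex f n) :
    m = n := by
  rw [← h1.eq, ← h2.eq]

/-- the rank formula `dim_K (K ⊗ Ω_{A/k₀}) = dim A + trdeg`. -/
theorem finrank_tensor_kaehler {k₀ A : Type u} [Field k₀] [CommRing A] [IsLocalRing A]
    [IsNoetherianRing A] [Algebra k₀ A] [IsAdicComplete (maximalIdeal A) A]
    (hfs : CAlgX.IsAdicFormallySmooth k₀ A (maximalIdeal A))
    [Algebra.EssFiniteType k₀ (ResidueField A)]
    [Module.Finite (ResidueField A) (ResidueField A ⊗[A] Ω[A⁄k₀])] :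
    (Module.finrank (ResidueField A) (ResidueField A ⊗[A] Ω[A⁄k₀]) : WithBot ℕ∞) =
      ringKrullDim A + (Cardinal.toNat (Algebra.trdeg k₀ (ResidueField A)) : WithBot ℕ∞) := by
  obtain ⟨u, hu⟩ := CohenEq.exists_section_of_field A k₀ (algebraMap k₀ A)
  have h1 := hasIndex_alpha hfs
  have h2 := hasIndex_residue u hu
  have h3 := hasIndex_of_factor ℤ k₀ A (ResidueField A) h1 h2
  obtain ⟨t, ht, h4⟩ := cartier k₀ (ResidueField A)
  have h5 := HasIndex.unique h3 h4
  haveI : IsRegularLocalRing A :=
    SymGrRegular.isRegularLocalRing_of_symGrBijective A (Groth.Agent.S4571.result.mp hfs).1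
  have h6 := (IsRegularLocalRing.iff_finrank_cotangentSpace A).mp inferInstance
  rw [← h6, ht]
  have h7 : Module.finrank (ResidueField A) (ResidueField A ⊗[A] Ω[A⁄k₀]) =
      Module.finrank (ResidueField A) (CotangentSpace A) + t := by
    have : (Module.finrank (ResidueField A) (ResidueField A ⊗[A] Ω[A⁄k₀]) : ℤ) =
        Module.finrank (ResidueField A) (CotangentSpace A) + t := by linarith
    exact_mod_cast this
  rw [h7]
  simp

theorem t2476main {k₀ A : Type u} [Field k₀] [CommRing A] [IsLocalRing A] [IsNoetherianRing A] [Algebra k₀ A]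
    [IsAdicComplete (maximalIdeal A) A] (hfs : CAlgX.IsAdicFormallySmooth k₀ A (maximalIdeal A))
    [Algebra.EssFiniteType k₀ (ResidueField A)] :
    Module.Finite A (AdicCompletion (maximalIdeal A) (Ω[A⁄k₀])) ∧ Module.Free A (AdicCompletion (maximalIdeal A) (Ω[A⁄k₀])) ∧
      (Module.finrank A (AdicCompletion (maximalIdeal A) (Ω[A⁄k₀])) : WithBot ℕ∞) =
        ringKrullDim A + (Cardinal.toNat (Algebra.trdeg k₀ (ResidueField A)) : WithBot ℕ∞) := by
  haveI : Module.Finite (ResidueField A) (ResidueField A ⊗[A] Ω[A⁄k₀]) := finite_tensor_kaehler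
  obtain ⟨e⟩ := exists_equiv hfs
  refine ⟨Module.Finite.equiv e, Module.Free.of_equiv e, ?_⟩
  rw [← e.finrank_eq, Module.finrank_fin_fun]
  exact finrank_tensor_kaehler hfs

end Main

end Groth.Agent.Lib.Helper23.CompletedKaehler
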