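import Mathlib
import Groth.Agent.Lib.Helper23.CompletedKaehler

/-!
Finiteness of completed differentials for an adic algebra over a discrete ring (EGA 0_IV 20.7.15).
-/

set_option autoImplicit false
universe u v w


namespace Groth.Agent.Lib.Helper23.CompletedKaehler3


open TensorProduct KaehlerDifferential Module

open Groth.Agent.Lib.Helper23 Groth.Agent.Lib.Helper23.CompletedKaehler

section Gen

variable {B : Type u} [CommRing B] (I : Ideal B) [IsAdicComplete I B]

/-- the completion of a module with finite `M/IM` over a complete ring is finite. -/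
theorem finite_adicCompletion_of_finite_quotient {M : Type u} [AddCommGroup M] [Module B M]
    [Module.Finite B (M ⧸ (I • ⊤ : Submodule B M))] :
    Module.Finite B (AdicCompletion I M) := by
  classical
  obtain ⟨r, s, hs⟩ := Module.Finite.exists_fin (R := B) (M := M ⧸ (I • ⊤ : Submodule B M))
  choose ω hω using fun i => Submodule.mkQ_surjective (I • ⊤ : Submodule B M) (s i)
  let Ψ : (Fin r → B) →ₗ[B] M := Fintype.linearCombination B ω
  haveI := isAdicComplete_pi I r
  have hsurj : Function.Surjective ((I • (⊤ : Submodule B M)).mkQ ∘ₗ Ψ) := by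
    rw [← LinearMap.range_eq_top, LinearMap.range_comp, Fintype.range_linearCombination,
      Submodule.map_span, ← Set.range_comp]
    have : (⇑(I • (⊤ : Submodule B M)).mkQ ∘ ω) = s := funext hω
    rw [this, hs]
  have hmapsurj := AdicCompletion.map_surjective_of_mkQ_comp_surjective hsurj
  let Φ : (Fin r → B) →ₗ[B] AdicCompletion I M := (AdicCompletion.of I M) ∘ₗ Ψ
  have hΦsurj : Function.Surjective Φ := by
    intro y
    obtain ⟨x, hx⟩ := hmapsurj y
    obtain ⟨c, hc⟩ := AdicCompletion.of_surjective I (Fin r → B) x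
    refine ⟨c, ?_⟩
    show AdicCompletion.of I M (Ψ c) = y
    rw [← AdicCompletion.map_of, hc, hx]
  exact Module.Finite.of_surjective Φ hΦsurj

end Gen

section Kaehler

variable {A B : Type u} [CommRing A] [CommRing B] [Algebra A B] (𝔫 : Ideal B)

theorem finite_quotient_tensor_kaehler [Module.Finite (B ⧸ 𝔫) (Ω[B ⧸ 𝔫⁄A])]
    [Module.Finite (B ⧸ 𝔫) 𝔫.Cotangent] : Module.Finite B ((B ⧸ 𝔫) ⊗[B] Ω[B⁄A]) := by
  haveI : Module.Finite B (B ⧸ 𝔫) := Module.Finite.of_surjective (Algebra.linearMap B (B ⧸ 𝔫))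
    Ideal.Quotient.mk_surjective
  haveI h1 : Module.Finite B (Ω[B ⧸ 𝔫⁄A]) := Module.Finite.trans (B ⧸ 𝔫) _
  haveI h2 : Module.Finite B 𝔫.Cotangent := Module.Finite.trans (B ⧸ 𝔫) _
  have hker : 𝔫 = RingHom.ker (algebraMap B (B ⧸ 𝔫)) := by
    rw [Ideal.Quotient.algebraMap_eq, Ideal.mk_ker]
  haveI h3 : Module.Finite B (RingHom.ker (algebraMap B (B ⧸ 𝔫))).Cotangent :=
    Module.Finite.equiv (Ideal.Cotangent.equivOfEq _ _ hker)
  let f : (B ⧸ 𝔫) ⊗[B] Ω[B⁄A] →ₗ[B] Ω[B ⧸ 𝔫⁄A] :=
    (mapBaseChange A B (B ⧸ 𝔫)).restrictScalars B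
  let l := kerCotangentToTensor A B (B ⧸ 𝔫)
  have hex := KaehlerDifferential.exact_kerCotangentToTensor_mapBaseChange A B (B ⧸ 𝔫)
    Ideal.Quotient.mk_surjective
  have hkerf : LinearMap.ker f = LinearMap.range l := by
    ext y
    rw [LinearMap.mem_ker, LinearMap.mem_range]
    exact hex y
  have h4 : (LinearMap.ker f).FG := by
    rw [hkerf]
    exact Module.Finite.fg_top.map l |> fun h => by rwa [Submodule.map_top] at h
  have hfsurj : Function.Surjective f :=
    KaehlerDifferential.mapBaseChange_surjective A B (B ⧸ 𝔫) Ideal.Quotient.mk_surjective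
  have h5 : ((⊤ : Submodule B ((B ⧸ 𝔫) ⊗[B] Ω[B⁄A])).map f).FG := by
    rw [Submodule.map_top, LinearMap.range_eq_top.mpr hfsurj]
    exact Module.Finite.fg_top
  exact ⟨Submodule.fg_of_fg_map_of_fg_inf_ker f h5 (by rwa [top_inf_eq])⟩

end Kaehler


theorem t4558main {A B : Type u} [CommRing A] [CommRing B] [Algebra A B] (𝔫 : Ideal B)
    [IsAdicComplete 𝔫 B] [Module.Finite (B ⧸ 𝔫) (Ω[B ⧸ 𝔫⁄A])] [Module.Finite (B ⧸ 𝔫) 𝔫.Cotangent] :
    Module.Finite B (AdicCompletion 𝔫 (Ω[B⁄A])) := by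
  haveI := finite_quotient_tensor_kaehler (A := A) 𝔫
  haveI : Module.Finite B (Ω[B⁄A] ⧸ (𝔫 • ⊤ : Submodule B Ω[B⁄A])) :=
    Module.Finite.equiv (TensorProduct.quotTensorEquivQuotSMul Ω[B⁄A] 𝔫)
  exact finite_adicCompletion_of_finite_quotient 𝔫

end Groth.Agent.Lib.Helper23.CompletedKaehler3
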