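import Mathlib
import Groth.Agent.Lib.Helper23.CompletedKaehler
import Groth.Agent.Lib.Helper23.CohenEq2
import Groth.Agent.Lib.Helper23.FSmoothExist
import Groth.Agent.Lib.Helper1.ArtFunObsDimMain

/-!
Completed differentials of a power series ring over a field: free of rank r.
-/

set_option autoImplicit false
universe u v w


namespace Groth.Agent.Lib.Helper23.CompletedKaehlerPS


open IsLocalRing TensorProduct KaehlerDifferential Module

open Groth.Agent.Lib.Helper23 Groth.Agent.Lib.Helper1.ArtFunLib

section PS

variable (k : Type u) [Field k] (r : ℕ)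

theorem algebraMap_residueField_bijective :
    Function.Bijective (algebraMap k (ResidueField (MvPowerSeries (Fin r) k))) := by
  refine ⟨(algebraMap k (ResidueField (MvPowerSeries (Fin r) k))).injective, ?_⟩
  intro y
  obtain ⟨f, rfl⟩ := residue_surjective y
  refine ⟨MvPowerSeries.constantCoeff f, ?_⟩
  rw [IsScalarTower.algebraMap_apply k (MvPowerSeries (Fin r) k)
    (ResidueField (MvPowerSeries (Fin r) k))]
  show residue _ _ = residue _ f
  rw [← sub_eq_zero, ← map_sub, residue_eq_zero_iff]
  rw [IsLocalRing.mem_maximalIdeal, mem_nonunits_iff, MvPowerSeries.isUnit_iff_constantCoeff]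
  rw [map_sub]
  have : MvPowerSeries.constantCoeff (algebraMap k (MvPowerSeries (Fin r) k)
      (MvPowerSeries.constantCoeff f)) = MvPowerSeries.constantCoeff f := by
    rw [MvPowerSeries.algebraMap_apply]
    simp
  rw [this, sub_self]
  exact not_isUnit_zero

instance : Algebra.IsGeometricallyReduced k (ResidueField (MvPowerSeries (Fin r) k)) := by
  haveI : Algebra.IsGeometricallyReduced k k := by
    rw [Algebra.isGeometricallyReduced_field_iff]
    exact isReduced_of_injective (Algebra.TensorProduct.rid k k (AlgebraicClosure k)).toRingEquiv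
      (Algebra.TensorProduct.rid k k (AlgebraicClosure k)).injective
  let e : k ≃ₐ[k] ResidueField (MvPowerSeries (Fin r) k) :=
    AlgEquiv.ofBijective (Algebra.ofId k _) (algebraMap_residueField_bijective k r)
  exact Algebra.IsGeometricallyReduced.of_injective e.symm.toAlgHom e.symm.injective

theorem t2477main :
    Module.Finite (MvPowerSeries (Fin r) k) (AdicCompletion (maximalIdeal (MvPowerSeries (Fin r) k)) (Ω[MvPowerSeries (Fin r) k⁄k])) ∧
    Module.Free (MvPowerSeries (Fin r) k) (AdicCompletion (maximalIdeal (MvPowerSeries (Fin r) k)) (Ω[MvPowerSeries (Fin r) k⁄k])) ∧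
      Module.finrank (MvPowerSeries (Fin r) k) (AdicCompletion (maximalIdeal (MvPowerSeries (Fin r) k)) (Ω[MvPowerSeries (Fin r) k⁄k])) = r := by
  have hfs : CAlgX.IsAdicFormallySmooth k (MvPowerSeries (Fin r) k)
      (maximalIdeal (MvPowerSeries (Fin r) k)) :=
    CohenEq2.adic_of_regular_of_sep (isRegularLocalRing_mvPowerSeries k r)
  have hbij := algebraMap_residueField_bijective k r
  haveI : Algebra.FiniteType k (ResidueField (MvPowerSeries (Fin r) k)) :=
    Algebra.FiniteType.of_surjective (Algebra.ofId k _) hbij.2
  haveI : Algebra.IsIntegral k (ResidueField (MvPowerSeries (Fin r) k)) :=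
    Algebra.isIntegral_of_surjective hbij.2
  obtain ⟨h1, h2, h3⟩ := CompletedKaehler.t2476main hfs
  refine ⟨h1, h2, ?_⟩
  rw [ringKrullDim_mvPowerSeries, trdeg_eq_zero] at h3
  simp only [map_zero, Nat.cast_zero, add_zero] at h3
  exact_mod_cast h3

end PS

end Groth.Agent.Lib.Helper23.CompletedKaehlerPS
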