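import Mathlib
import Groth.Agent.Lib.Helper1.ArtFunObsDimMain
import Groth.Agent.Lib.Helper23.Jacobian
import Groth.Agent.Lib.Helper18.SerreReg2
import Groth.Agent.Lib.Helper21.RegularQuotient
import Groth.Agent.Lib.Helper12.IntegralDim
import Groth.Prelude.Def_CAlgX
import Groth.Agent.Lib.Helper23.CompletedKaehlerPS
import Groth.Agent.Lib.Helper23.GeomRegular
import Groth.Agent.S4574

/-!
Nagata's Jacobian criterion for quotients of power series rings (EGA 0_IV 22.7.3).
* derivation_eq_zero_of_X : a k-derivation of k[[X_1..X_s]] into a separated module killing the X_j is zero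
* derivation_eq_zero_of_sep / derivation_eq_zero : derivations of a domain B finite over k[[X]] with separable fraction field extension
* exists_generators : A regular local, (A/q)_p regular => pA_p, qA_p generated by part of a regular system of parameters coming from A
* derivation_mem_prime, exists_clear, coeff_mem_of_derivation, exists_derivations (the Jacobian determinant)
* height_add_ringKrullDim_quotient_le : ht p + dim A/p <= dim A
* exists_modification, adic_of_jacobian : Jacobian => adic formal smoothness of (A/q)_p given that of A_p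
* t4612main
-/

set_option autoImplicit false
universe u


namespace Groth.Agent.Lib.Helper23.NagataJacobian


open IsLocalRing MvPowerSeries

section VL

variable {k : Type u} [Field k] (s : ℕ)

/-- decomposition of a power series as constant plus combination of the variables. -/
theorem exists_decomp (f : MvPowerSeries (Fin s) k) :
    ∃ h : Fin s → MvPowerSeries (Fin s) k,
      f = algebraMap k _ (constantCoeff f) + ∑ j, h j * X j := by
  have hmem : f - algebraMap k _ (constantCoeff f) ∈ maximalIdeal (MvPowerSeries (Fin s) k) := by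
    rw [IsLocalRing.mem_maximalIdeal, mem_nonunits_iff, MvPowerSeries.isUnit_iff_constantCoeff,
      map_sub]
    have : MvPowerSeries.constantCoeff (algebraMap k (MvPowerSeries (Fin s) k)
        (MvPowerSeries.constantCoeff f)) = MvPowerSeries.constantCoeff f := by
      rw [MvPowerSeries.algebraMap_apply]
      simp
    rw [this, sub_self]
    exact not_isUnit_zero
  rw [Groth.Agent.Lib.Helper1.ArtFunLib.maximalIdeal_mvPowerSeries_eq_span,
    Ideal.mem_span_range_iff_exists_fun] at hmem
  obtain ⟨h, hh⟩ := hmem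
  exact ⟨h, by rw [hh]; ring⟩

/-- A `k`-derivation of `k[[X]]` into a separated module which kills the variables is zero. -/
theorem derivation_eq_zero_of_X {N : Type*} [AddCommGroup N] [Module (MvPowerSeries (Fin s) k) N]
    [Module k N] [IsScalarTower k (MvPowerSeries (Fin s) k) N]
    [IsHausdorff (maximalIdeal (MvPowerSeries (Fin s) k)) N]
    (E : Derivation k (MvPowerSeries (Fin s) k) N) (hE : ∀ j, E (X j) = 0) : E = 0 := by
  have key : ∀ (n : ℕ) (f : MvPowerSeries (Fin s) k),
      E f ∈ (maximalIdeal (MvPowerSeries (Fin s) k) ^ n • ⊤ : Submodule (MvPowerSeries (Fin s) k) N) := by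
    intro n
    induction n with
    | zero =>
      intro f
      rw [pow_zero, Ideal.one_eq_top, Submodule.top_smul]
      trivial
    | succ n ih =>
      intro f
      obtain ⟨h, hh⟩ := exists_decomp s f
      rw [hh, map_add, Derivation.map_algebraMap, zero_add, map_sum]
      refine Submodule.sum_mem _ fun j _ => ?_
      rw [Derivation.leibniz, hE, smul_zero, zero_add, pow_succ', mul_smul]
      refine Submodule.smul_mem_smul ?_ (ih (h j))
      rw [Groth.Agent.Lib.Helper1.ArtFunLib.maximalIdeal_mvPowerSeries_eq_span]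
      exact Ideal.subset_span ⟨j, rfl⟩
  ext f
  rw [Derivation.coe_zero, Pi.zero_apply]
  apply IsHausdorff.haus' (I := maximalIdeal (MvPowerSeries (Fin s) k))
  intro n
  rw [SModEq.zero]
  exact key n f

end VL



open IsLocalRing MvPowerSeries

section KP

variable {k : Type u} [Field k] (s : ℕ) {B : Type u} [CommRing B] [IsDomain B] [Algebra k B]
  [Algebra (MvPowerSeries (Fin s) k) B] [IsScalarTower k (MvPowerSeries (Fin s) k) B]
  [Module.Finite (MvPowerSeries (Fin s) k) B]
  {L' L : Type u} [Field L'] [Field L]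
  [Algebra (MvPowerSeries (Fin s) k) L'] [IsFractionRing (MvPowerSeries (Fin s) k) L']
  [Algebra B L] [IsFractionRing B L]
  [Algebra L' L] [Algebra (MvPowerSeries (Fin s) k) L]
  [IsScalarTower (MvPowerSeries (Fin s) k) B L]
  [IsScalarTower (MvPowerSeries (Fin s) k) L' L] [Algebra.IsSeparable L' L]

include L' in
/-- a `P`-derivation of `B` into its fraction field `L` vanishes when `L/L'` is separable. -/
theorem derivation_eq_zero_of_sep (δ : Derivation (MvPowerSeries (Fin s) k) B L) : δ = 0 := by
  haveI : Algebra.FormallyUnramified (MvPowerSeries (Fin s) k) L' :=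
    Algebra.FormallyUnramified.of_isLocalization (nonZeroDivisors (MvPowerSeries (Fin s) k))
  haveI : Algebra.FormallyUnramified L' L := Algebra.FormallyUnramified.of_isSeparable L' L
  haveI : Algebra.FormallyUnramified (MvPowerSeries (Fin s) k) L :=
    Algebra.FormallyUnramified.comp (MvPowerSeries (Fin s) k) L' L
  haveI : Subsingleton (Ω[L⁄MvPowerSeries (Fin s) k]) :=
    Algebra.FormallyUnramified.subsingleton_kaehlerDifferential
  have hℓ : ∀ ω : Ω[B⁄MvPowerSeries (Fin s) k], δ.liftKaehlerDifferential ω = 0 := by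
    intro ω
    have h0 : KaehlerDifferential.map (MvPowerSeries (Fin s) k) (MvPowerSeries (Fin s) k) B L ω = 0 :=
      Subsingleton.elim _ _
    have h1 := (IsLocalizedModule.eq_zero_iff (nonZeroDivisors B)
      (KaehlerDifferential.map (MvPowerSeries (Fin s) k) (MvPowerSeries (Fin s) k) B L)).mp h0
    obtain ⟨t, ht⟩ := h1
    have h2 : (t : B) • δ.liftKaehlerDifferential ω = 0 := by
      rw [← map_smul]
      have : (t : B) • ω = t • ω := rfl
      rw [this, ht, map_zero]
    rw [Algebra.smul_def, mul_eq_zero] at h2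
    rcases h2 with h2 | h2
    · exfalso
      have := (IsFractionRing.injective B L).ne (nonZeroDivisors.ne_zero t.2)
      rw [map_zero] at this
      exact this h2
    · exact h2
  ext b
  rw [← Derivation.liftKaehlerDifferential_comp_D δ b]
  simp [hℓ]

end KP



open IsLocalRing MvPowerSeries

section KP2

variable {k : Type u} [Field k] (s : ℕ) {B : Type u} [CommRing B] [IsDomain B] [Algebra k B]
  [Algebra (MvPowerSeries (Fin s) k) B] [IsScalarTower k (MvPowerSeries (Fin s) k) B]
  [Module.Finite (MvPowerSeries (Fin s) k) B]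
  {L' L : Type u} [Field L'] [Field L]
  [Algebra (MvPowerSeries (Fin s) k) L'] [IsFractionRing (MvPowerSeries (Fin s) k) L']
  [Algebra B L] [IsFractionRing B L]
  [Algebra L' L] [Algebra (MvPowerSeries (Fin s) k) L]
  [IsScalarTower (MvPowerSeries (Fin s) k) B L]
  [IsScalarTower (MvPowerSeries (Fin s) k) L' L] [Algebra.IsSeparable L' L]

include L' L in
/-- a `k`-derivation of `B` killing the images of the variables of `k[[X]]` is zero. -/
theorem derivation_eq_zero (D : Derivation k B B)
    (hD : ∀ j, D (algebraMap (MvPowerSeries (Fin s) k) B (X j)) = 0) : D = 0 := by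
  -- restriction to `P`
  have hE : D.compAlgebraMap (MvPowerSeries (Fin s) k) = 0 :=
    derivation_eq_zero_of_X s _ (fun j => hD j)
  have hP : ∀ f : MvPowerSeries (Fin s) k, D (algebraMap _ B f) = 0 := fun f =>
    congrArg (fun E : Derivation k (MvPowerSeries (Fin s) k) B => E f) hE
  -- the `P`-linear derivation into `L`
  let lin : B →ₗ[MvPowerSeries (Fin s) k] L :=
    { toFun := fun b => algebraMap B L (D b)
      map_add' := fun x y => by rw [map_add, map_add]
      map_smul' := fun f b => by
        rw [RingHom.id_apply, Algebra.smul_def, Derivation.leibniz, hP, smul_zero, add_zero,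
          smul_eq_mul, map_mul, Algebra.smul_def, ← IsScalarTower.algebraMap_apply] }
  let δ : Derivation (MvPowerSeries (Fin s) k) B L := Derivation.mk' lin (fun a b => by
    show algebraMap B L (D (a * b)) = a • algebraMap B L (D b) + b • algebraMap B L (D a)
    rw [Derivation.leibniz, map_add, smul_eq_mul, smul_eq_mul, map_mul, map_mul,
      Algebra.smul_def, Algebra.smul_def])
  have hδ : δ = 0 := derivation_eq_zero_of_sep (L' := L') s δ
  ext b
  have h1 : δ b = 0 := congrArg (fun E : Derivation (MvPowerSeries (Fin s) k) B L => E b) hδ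
  have h2 : algebraMap B L (D b) = 0 := h1
  rw [Derivation.coe_zero, Pi.zero_apply]
  exact (IsFractionRing.injective B L) (by rw [h2, map_zero])

end KP2



open IsLocalRing

section Gen

variable {A : Type u} [CommRing A]

/-- replacing generators by unit multiples. -/
theorem span_range_mul_unit {R : Type*} [CommRing R] {ι : Type*} (x y : ι → R) (u : ι → R)
    (hu : ∀ i, IsUnit (u i)) (hxy : ∀ i, x i * u i = y i) :
    Ideal.span (Set.range y) = Ideal.span (Set.range x) := by
  apply le_antisymm
  · rw [Ideal.span_le]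
    rintro _ ⟨i, rfl⟩
    rw [← hxy i]
    exact Ideal.mul_mem_right _ _ (Ideal.subset_span ⟨i, rfl⟩)
  · rw [Ideal.span_le]
    rintro _ ⟨i, rfl⟩
    obtain ⟨v, hv⟩ := hu i
    have : x i = y i * (v⁻¹ : Rˣ) := by
      rw [← hxy i, ← hv, mul_assoc, Units.mul_inv, mul_one]
    rw [this]
    exact Ideal.mul_mem_right _ _ (Ideal.subset_span ⟨i, rfl⟩)

theorem exists_generators [IsRegularLocalRing A] (q p : Ideal A) [p.IsPrime] (hqp : q ≤ p)
    [(p.map (Ideal.Quotient.mk q)).IsPrime]
    (hreg : IsRegularLocalRing (Localization.AtPrime (p.map (Ideal.Quotient.mk q)))) :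
    ∃ (h c : ℕ) (hc : c ≤ h) (g : Fin h → A), (h : WithBot ℕ∞) = ((p.height : ℕ∞) : WithBot ℕ∞) ∧
      (∀ l, g l ∈ p) ∧ (∀ l : Fin c, g (Fin.castLE hc l) ∈ q) ∧
      p.map (algebraMap A (Localization.AtPrime p)) =
        Ideal.span (Set.range fun l => algebraMap A (Localization.AtPrime p) (g l)) ∧
      q.map (algebraMap A (Localization.AtPrime p)) =
        Ideal.span (Set.range fun l : Fin c =>
          algebraMap A (Localization.AtPrime p) (g (Fin.castLE hc l))) := by
  classical
  haveI hR : IsRegularLocalRing (Localization.AtPrime p) :=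
    Groth.Agent.Lib.Helper18.SerreReg.isRegularLocalRing_localization_atPrime A p
  obtain ⟨d, hd⟩ := Groth.Agent.Lib.Helper21.exists_nat_eq_ringKrullDim (R := Localization.AtPrime p)
  let e := Groth.Agent.Lib.Helper23.Jacobian.quotLocEquiv (R := A) q p hqp
  haveI : IsRegularLocalRing (Localization.AtPrime p ⧸ q.map (algebraMap A (Localization.AtPrime p))) :=
    IsRegularLocalRing.of_ringEquiv e.symm.toRingEquiv
  obtain ⟨x, c, hc, hx, hI⟩ := Groth.Agent.Lib.Helper21.exists_generators_of_regular_quotient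
    (Localization.AtPrime p) d hd (q.map (algebraMap A (Localization.AtPrime p)))
  -- choose numerators
  have hxm : ∀ l : Fin d, x l ∈ p.map (algebraMap A (Localization.AtPrime p)) := by
    intro l
    rw [Localization.AtPrime.map_eq_maximalIdeal, ← hx]
    exact Ideal.subset_span ⟨l, rfl⟩
  have hxq : ∀ l : Fin d, l.val < c → x l ∈ q.map (algebraMap A (Localization.AtPrime p)) := by
    intro l hl
    rw [hI]
    refine Ideal.subset_span ⟨⟨l.val, hl⟩, ?_⟩
    congr 1
  have hex : ∀ l : Fin d, ∃ (a : A) (t : p.primeCompl), a ∈ p ∧ (l.val < c → a ∈ q) ∧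
      x l * algebraMap A (Localization.AtPrime p) t = algebraMap A (Localization.AtPrime p) a := by
    intro l
    by_cases hl : l.val < c
    · obtain ⟨⟨a, t⟩, hat⟩ := (IsLocalization.mem_map_algebraMap_iff p.primeCompl
        (Localization.AtPrime p)).mp (hxq l hl)
      exact ⟨a.1, t, hqp a.2, fun _ => a.2, hat⟩
    · obtain ⟨⟨a, t⟩, hat⟩ := (IsLocalization.mem_map_algebraMap_iff p.primeCompl
        (Localization.AtPrime p)).mp (hxm l)
      exact ⟨a.1, t, a.2, fun h => absurd h hl, hat⟩
  choose g t hgp hgq hgt using hex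
  refine ⟨d, c, hc, g, ?_, hgp, fun l => hgq _ (by simp), ?_, ?_⟩
  · rw [← hd, IsLocalization.AtPrime.ringKrullDim_eq_height p (Localization.AtPrime p)]
  · rw [Localization.AtPrime.map_eq_maximalIdeal, ← hx]
    exact (span_range_mul_unit x _ (fun l => algebraMap A (Localization.AtPrime p) (t l))
      (fun l => IsLocalization.map_units _ (t l)) hgt).symm
  · rw [hI]
    exact (span_range_mul_unit (fun i : Fin c => x (Fin.castLE hc i)) _
      (fun l => algebraMap A (Localization.AtPrime p) (t (Fin.castLE hc l)))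
      (fun l => IsLocalization.map_units _ (t (Fin.castLE hc l))) (fun l => hgt _)).symm

end Gen



open IsLocalRing MvPowerSeries

section C1

variable {k A : Type*} [CommRing k] [CommRing A] [Algebra k A]

theorem derivation_mem_prime (p : Ideal A) [p.IsPrime] {h : ℕ} (g : Fin h → A)
    (hgp : ∀ l, g l ∈ p)
    (hg : p.map (algebraMap A (Localization.AtPrime p)) =
      Ideal.span (Set.range fun l => algebraMap A (Localization.AtPrime p) (g l)))
    (D : Derivation k A A) (hD : ∀ l, D (g l) ∈ p) : ∀ y ∈ p, D y ∈ p := by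
  intro y hy
  have h1 : algebraMap A (Localization.AtPrime p) y ∈
      Ideal.span (Set.range fun l => algebraMap A (Localization.AtPrime p) (g l)) := by
    rw [← hg]; exact Ideal.mem_map_of_mem _ hy
  rw [Ideal.mem_span_range_iff_exists_fun] at h1
  obtain ⟨c, hc⟩ := h1
  obtain ⟨t, ht⟩ := IsLocalization.exist_integer_multiples_of_finite p.primeCompl c
  choose b hb using ht
  have h2 : algebraMap A (Localization.AtPrime p) ((t : A) * y) =
      algebraMap A (Localization.AtPrime p) (∑ l, b l * g l) := by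
    rw [map_mul, ← hc, Finset.mul_sum, map_sum]
    refine Finset.sum_congr rfl fun l _ => ?_
    rw [map_mul, hb l, Algebra.smul_def]; ring
  obtain ⟨u, hu⟩ := (IsLocalization.eq_iff_exists p.primeCompl _).mp h2
  have h3 : D ((u : A) * ((t : A) * y)) ∈ p := by
    rw [hu, Finset.mul_sum, map_sum]
    refine Ideal.sum_mem _ fun l _ => ?_
    rw [← mul_assoc, Derivation.leibniz]
    exact Ideal.add_mem _ (Ideal.mul_mem_left _ _ (hD l)) (Ideal.mul_mem_right _ _ (hgp l))
  rw [← mul_assoc, Derivation.leibniz] at h3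
  have h4 : ((u : A) * (t : A)) • D y ∈ p := by
    have := Ideal.sub_mem _ h3 (Ideal.mul_mem_right (D ((u : A) * (t : A))) p hy)
    rwa [smul_eq_mul (a := y), add_sub_cancel_right] at this
  rw [smul_eq_mul] at h4
  rcases (Ideal.IsPrime.mem_or_mem inferInstance h4) with h5 | h5
  · exfalso
    rcases (Ideal.IsPrime.mem_or_mem inferInstance h5) with h6 | h6
    · exact u.2 h6
    · exact t.2 h6
  · exact h5

end C1

section C2

variable {A : Type u} [CommRing A] (p : Ideal A) [p.IsPrime] {L : Type u} [Field L]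
  [Algebra (A ⧸ p) L] [IsFractionRing (A ⧸ p) L]

/-- the canonical map `A → A/p → L`. -/
noncomputable def iota : A →+* L := (algebraMap (A ⧸ p) L).comp (Ideal.Quotient.mk p)

theorem iota_eq_zero_iff (x : A) : iota p (L := L) x = 0 ↔ x ∈ p := by
  show algebraMap (A ⧸ p) L (Ideal.Quotient.mk p x) = 0 ↔ _
  rw [map_eq_zero_iff _ (IsFractionRing.injective (A ⧸ p) L), Ideal.Quotient.eq_zero_iff_mem]

theorem exists_clear {r : ℕ} (c : Fin r → L) :
    ∃ (t : A) (a : Fin r → A), t ∉ p ∧ ∀ i, c i * iota p t = iota p (a i) := by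
  obtain ⟨b, hb⟩ := IsLocalization.exist_integer_multiples_of_finite (nonZeroDivisors (A ⧸ p)) c
  choose y hy using hb
  obtain ⟨t, ht⟩ := Ideal.Quotient.mk_surjective (b : A ⧸ p)
  choose a ha using fun i => Ideal.Quotient.mk_surjective (y i)
  refine ⟨t, a, ?_, fun i => ?_⟩
  · intro htp
    have : (b : A ⧸ p) = 0 := by rw [← ht, Ideal.Quotient.eq_zero_iff_mem]; exact htp
    exact nonZeroDivisors.ne_zero b.2 this
  · show c i * algebraMap (A ⧸ p) L (Ideal.Quotient.mk p t) =
      algebraMap (A ⧸ p) L (Ideal.Quotient.mk p (a i))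
    rw [ha, ht, hy, Algebra.smul_def, mul_comm]

end C2



open IsLocalRing MvPowerSeries

theorem der_sum_apply {k A M : Type*} [CommRing k] [CommRing A] [Algebra k A] [AddCommGroup M]
    [Module A M] [Module k M] {ι : Type*} (s : Finset ι) (f : ι → Derivation k A M) (y : A) :
    (∑ i ∈ s, f i) y = ∑ i ∈ s, f i y := by
  classical
  induction s using Finset.induction_on with
  | empty => simp
  | insert a s ha ih => rw [Finset.sum_insert ha, Finset.sum_insert ha, Derivation.add_apply, ih]

section C3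

variable {k : Type u} [Field k] (r : ℕ) (p : Ideal (MvPowerSeries (Fin r) k)) [p.IsPrime]
  (s : ℕ) [Algebra (MvPowerSeries (Fin s) k) (MvPowerSeries (Fin r) k ⧸ p)]
  [IsScalarTower k (MvPowerSeries (Fin s) k) (MvPowerSeries (Fin r) k ⧸ p)]
  [Module.Finite (MvPowerSeries (Fin s) k) (MvPowerSeries (Fin r) k ⧸ p)]
  {L' L : Type u} [Field L'] [Field L]
  [Algebra (MvPowerSeries (Fin s) k) L'] [IsFractionRing (MvPowerSeries (Fin s) k) L']
  [Algebra (MvPowerSeries (Fin r) k ⧸ p) L] [IsFractionRing (MvPowerSeries (Fin r) k ⧸ p) L]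
  [Algebra L' L] [Algebra (MvPowerSeries (Fin s) k) L]
  [IsScalarTower (MvPowerSeries (Fin s) k) (MvPowerSeries (Fin r) k ⧸ p) L]
  [IsScalarTower (MvPowerSeries (Fin s) k) L' L] [Algebra.IsSeparable L' L]

omit [Module.Finite (MvPowerSeries (Fin s) k) (MvPowerSeries (Fin r) k ⧸ p)]
  [IsScalarTower k (MvPowerSeries (Fin s) k) (MvPowerSeries (Fin r) k ⧸ p)]
  [Algebra (MvPowerSeries (Fin s) k) (MvPowerSeries (Fin r) k ⧸ p)] in
theorem iota_sum_pderiv (a : Fin r → MvPowerSeries (Fin r) k) (y : MvPowerSeries (Fin r) k) :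
    iota p (L := L) ((∑ i, a i • pderiv k i) y) = ∑ i, iota p (a i) * iota p (pderiv k i y) := by
  rw [der_sum_apply, map_sum]
  refine Finset.sum_congr rfl fun i _ => ?_
  rw [Derivation.smul_apply, smul_eq_mul, map_mul]

theorem sum_pderiv_X (a : Fin r → MvPowerSeries (Fin r) k) (i : Fin r) :
    (∑ j, a j • pderiv k j) (X i : MvPowerSeries (Fin r) k) = a i := by
  classical
  rw [der_sum_apply]
  rw [Finset.sum_eq_single i]
  · rw [Derivation.smul_apply, pderiv_X_self, smul_eq_mul, mul_one]
  · intro j _ hj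
    rw [Derivation.smul_apply, pderiv_X_of_ne (Ne.symm hj), smul_zero]
  · intro h; exact absurd (Finset.mem_univ i) h

end C3



open IsLocalRing MvPowerSeries

section C4

variable {k : Type u} [Field k] (r : ℕ) (p : Ideal (MvPowerSeries (Fin r) k)) [p.IsPrime]
  (s : ℕ) [Algebra (MvPowerSeries (Fin s) k) (MvPowerSeries (Fin r) k ⧸ p)]
  [IsScalarTower k (MvPowerSeries (Fin s) k) (MvPowerSeries (Fin r) k ⧸ p)]
  [Module.Finite (MvPowerSeries (Fin s) k) (MvPowerSeries (Fin r) k ⧸ p)]
  {L' L : Type u} [Field L'] [Field L]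
  [Algebra (MvPowerSeries (Fin s) k) L'] [IsFractionRing (MvPowerSeries (Fin s) k) L']
  [Algebra (MvPowerSeries (Fin r) k ⧸ p) L] [IsFractionRing (MvPowerSeries (Fin r) k ⧸ p) L]
  [Algebra L' L] [Algebra (MvPowerSeries (Fin s) k) L]
  [IsScalarTower (MvPowerSeries (Fin s) k) (MvPowerSeries (Fin r) k ⧸ p) L]
  [IsScalarTower (MvPowerSeries (Fin s) k) L' L] [Algebra.IsSeparable L' L]

include L' L in
/-- the key vanishing: a combination of partial derivatives which maps `p` and lifts of the
variables of `k[[X]]` into `p` has all coefficients in `p`. -/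
theorem coeff_mem_of_derivation (xt : Fin s → MvPowerSeries (Fin r) k)
    (hxt : ∀ j, Ideal.Quotient.mk p (xt j) =
      algebraMap (MvPowerSeries (Fin s) k) (MvPowerSeries (Fin r) k ⧸ p) (X j))
    (a : Fin r → MvPowerSeries (Fin r) k)
    (hp : ∀ y ∈ p, (∑ i, a i • pderiv k i) y ∈ p)
    (hx : ∀ j, (∑ i, a i • pderiv k i) (xt j) ∈ p) : ∀ i, a i ∈ p := by
  have hsurj : Function.Surjective (Ideal.Quotient.mkₐ k p) := Ideal.Quotient.mk_surjective
  have hd : ∀ x, Ideal.Quotient.mkₐ k p x = 0 →
      Ideal.Quotient.mkₐ k p ((∑ i, a i • pderiv k i) x) = 0 := by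
    intro x hx0
    rw [Ideal.Quotient.mkₐ_eq_mk, Ideal.Quotient.eq_zero_iff_mem] at hx0 ⊢
    exact hp x hx0
  let Dbar : Derivation k (MvPowerSeries (Fin r) k ⧸ p) (MvPowerSeries (Fin r) k ⧸ p) :=
    Derivation.liftOfSurjective hsurj hd
  have hDbar : ∀ x, Dbar (Ideal.Quotient.mk p x) =
      Ideal.Quotient.mk p ((∑ i, a i • pderiv k i) x) := fun x =>
    Derivation.liftOfSurjective_apply hsurj hd x
  have h0 : Dbar = 0 := by
    apply derivation_eq_zero (L' := L') (L := L) s Dbar
    intro j
    rw [← hxt j, hDbar, Ideal.Quotient.eq_zero_iff_mem]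
    exact hx j
  intro i
  have h1 : Dbar (Ideal.Quotient.mk p (X i)) = 0 := by rw [h0]; rfl
  rw [hDbar, sum_pderiv_X, Ideal.Quotient.eq_zero_iff_mem] at h1
  exact h1

end C4



open IsLocalRing MvPowerSeries

section C5

variable {k : Type u} [Field k] (r : ℕ) (p : Ideal (MvPowerSeries (Fin r) k)) [p.IsPrime]
  (s : ℕ) [Algebra (MvPowerSeries (Fin s) k) (MvPowerSeries (Fin r) k ⧸ p)]
  [IsScalarTower k (MvPowerSeries (Fin s) k) (MvPowerSeries (Fin r) k ⧸ p)]
  [Module.Finite (MvPowerSeries (Fin s) k) (MvPowerSeries (Fin r) k ⧸ p)]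
  {L' L : Type u} [Field L'] [Field L]
  [Algebra (MvPowerSeries (Fin s) k) L'] [IsFractionRing (MvPowerSeries (Fin s) k) L']
  [Algebra (MvPowerSeries (Fin r) k ⧸ p) L] [IsFractionRing (MvPowerSeries (Fin r) k ⧸ p) L]
  [Algebra L' L] [Algebra (MvPowerSeries (Fin s) k) L]
  [IsScalarTower (MvPowerSeries (Fin s) k) (MvPowerSeries (Fin r) k ⧸ p) L]
  [IsScalarTower (MvPowerSeries (Fin s) k) L' L] [Algebra.IsSeparable L' L]

include L' L in
theorem exists_derivations {h c : ℕ} (hc : c ≤ h) (g : Fin h → MvPowerSeries (Fin r) k)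
    (hgp : ∀ l, g l ∈ p)
    (hg : p.map (algebraMap _ (Localization.AtPrime p)) =
      Ideal.span (Set.range fun l => algebraMap _ (Localization.AtPrime p) (g l)))
    (hhs : h + s ≤ r) :
    ∃ D : Fin c → Derivation k (MvPowerSeries (Fin r) k) (MvPowerSeries (Fin r) k),
      Matrix.det (Matrix.of fun i j => D i (g (Fin.castLE hc j))) ∉ p := by
  classical
  choose xt hxt using fun j : Fin s => Ideal.Quotient.mk_surjective
    (algebraMap (MvPowerSeries (Fin s) k) (MvPowerSeries (Fin r) k ⧸ p) (X j))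
  let M : Matrix (Fin h) (Fin r) L := Matrix.of fun l i => iota p (pderiv k i (g l))
  let N : Matrix (Fin s) (Fin r) L := Matrix.of fun j i => iota p (pderiv k i (xt j))
  let Φ : (Fin r → L) →ₗ[L] (Fin h → L) × (Fin s → L) := M.mulVecLin.prod N.mulVecLin
  -- the formula for `ι (D y)` after clearing denominators
  have hform : ∀ (cv : Fin r → L) (t : MvPowerSeries (Fin r) k) (a : Fin r → MvPowerSeries (Fin r) k)
      (hta : ∀ i, cv i * iota p t = iota p (a i)) (y : MvPowerSeries (Fin r) k),
      iota p (L := L) ((∑ i, a i • pderiv k i) y) =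
        iota p t * ∑ i, iota p (pderiv k i y) * cv i := by
    intro cv t a hta y
    rw [iota_sum_pderiv, Finset.mul_sum]
    refine Finset.sum_congr rfl fun i _ => ?_
    rw [← hta i]; ring
  have hinjΦ : Function.Injective Φ := by
    rw [injective_iff_map_eq_zero]
    intro cv hc0
    have hM : M.mulVec cv = 0 := congrArg Prod.fst hc0
    have hN : N.mulVec cv = 0 := congrArg Prod.snd hc0
    obtain ⟨t, a, htp, hta⟩ := exists_clear p cv
    have hg0 : ∀ l, (∑ i, a i • pderiv k i) (g l) ∈ p := by
      intro l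
      rw [← iota_eq_zero_iff p (L := L), hform cv t a hta]
      have : ∑ i, iota p (L := L) (pderiv k i (g l)) * cv i = M.mulVec cv l := rfl
      rw [this, hM, Pi.zero_apply, mul_zero]
    have hx0 : ∀ j, (∑ i, a i • pderiv k i) (xt j) ∈ p := by
      intro j
      rw [← iota_eq_zero_iff p (L := L), hform cv t a hta]
      have : ∑ i, iota p (L := L) (pderiv k i (xt j)) * cv i = N.mulVec cv j := rfl
      rw [this, hN, Pi.zero_apply, mul_zero]
    have hp0 := derivation_mem_prime p g hgp hg (∑ i, a i • pderiv k i) hg0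
    have ha := coeff_mem_of_derivation (L' := L') (L := L) r p s xt hxt a hp0 hx0
    funext i
    have h1 : cv i * iota p (L := L) t = 0 := by
      rw [hta i, iota_eq_zero_iff]; exact ha i
    rcases mul_eq_zero.mp h1 with h2 | h2
    · exact h2
    · exact absurd ((iota_eq_zero_iff p t).mp h2) htp
  have hfr : Module.finrank L (Fin r → L) = Module.finrank L ((Fin h → L) × (Fin s → L)) := by
    have h1 := LinearMap.finrank_le_finrank_of_injective hinjΦ
    rw [Module.finrank_prod, Module.finrank_fin_fun, Module.finrank_fin_fun,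
      Module.finrank_fin_fun] at h1 ⊢
    omega
  have hsurj : Function.Surjective Φ :=
    (LinearMap.injective_iff_surjective_of_finrank_eq_finrank hfr).mp hinjΦ
  choose cv hcv using fun j : Fin c => hsurj (Pi.single (Fin.castLE hc j) 1, 0)
  choose t a htp hta using fun j => exists_clear p (cv j)
  refine ⟨fun j => ∑ i, a j i • pderiv k i, ?_⟩
  rw [← iota_eq_zero_iff p (L := L), RingHom.map_det]
  have hdiag : (iota p (L := L)).mapMatrix (Matrix.of fun i j =>
      (∑ i', a i i' • pderiv k i') (g (Fin.castLE hc j))) =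
      Matrix.diagonal (fun j => iota p (t j)) := by
    ext i j
    rw [RingHom.mapMatrix_apply, Matrix.map_apply, Matrix.of_apply, hform (cv i) (t i) (a i) (hta i)]
    have h1 : ∑ i', iota p (L := L) (pderiv k i' (g (Fin.castLE hc j))) * cv i i' =
        M.mulVec (cv i) (Fin.castLE hc j) := rfl
    have h2 : M.mulVec (cv i) = Pi.single (Fin.castLE hc i) 1 := congrArg Prod.fst (hcv i)
    rw [h1, h2, Matrix.diagonal_apply]
    by_cases hij : i = j
    · subst hij
      rw [Pi.single_eq_same, mul_one, if_pos rfl]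
    · rw [if_neg hij, Pi.single_eq_of_ne, mul_zero]
      intro h3
      exact hij (Fin.castLE_injective hc h3).symm
  rw [hdiag, Matrix.det_diagonal, Finset.prod_eq_zero_iff]
  rintro ⟨j, -, hj⟩
  exact htp j ((iota_eq_zero_iff p (t j)).mp hj)

end C5



open IsLocalRing MvPowerSeries

section Dim

theorem height_add_ringKrullDim_quotient_le {A : Type*} [CommRing A] (p : Ideal A) [hp : p.IsPrime] :
    ((p.height : ℕ∞) : WithBot ℕ∞) + ringKrullDim (A ⧸ p) ≤ ringKrullDim A := by
  let P : PrimeSpectrum A := ⟨p, hp⟩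
  have h1 : ringKrullDim (A ⧸ p) = ((Order.coheight P : ℕ∞) : WithBot ℕ∞) := by
    rw [ringKrullDim_quotient, Order.coheight_eq_krullDim_Ici]
    have : PrimeSpectrum.zeroLocus (p : Set A) = Set.Ici P := by
      ext q
      rw [PrimeSpectrum.mem_zeroLocus, Set.mem_Ici]
      rfl
    rw [this]
  have h2 : p.height = Order.height P := PrimeSpectrum.height_eq_orderHeight P
  haveI : Nonempty (PrimeSpectrum A) := ⟨P⟩
  rw [h1, h2, ringKrullDim, Order.krullDim_eq_iSup_height_add_coheight_of_nonempty]
  rw [← WithBot.coe_add, WithBot.coe_le_coe]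
  exact le_iSup (fun a : PrimeSpectrum A => Order.height a + Order.coheight a) P

variable {k : Type u} [Field k]

theorem height_add_le (r : ℕ) (p : Ideal (MvPowerSeries (Fin r) k)) [p.IsPrime]
    (s : ℕ) [Algebra (MvPowerSeries (Fin s) k) (MvPowerSeries (Fin r) k ⧸ p)]
    [Module.Finite (MvPowerSeries (Fin s) k) (MvPowerSeries (Fin r) k ⧸ p)]
    (hinj : Function.Injective (algebraMap (MvPowerSeries (Fin s) k) (MvPowerSeries (Fin r) k ⧸ p)))
    (h : ℕ) (hh : (h : WithBot ℕ∞) = ((p.height : ℕ∞) : WithBot ℕ∞)) : h + s ≤ r := by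
  have h1 := height_add_ringKrullDim_quotient_le p
  have h2 : ringKrullDim (MvPowerSeries (Fin r) k ⧸ p) = s := by
    rw [← Groth.Agent.Lib.Helper12.ringKrullDim_eq_of_isIntegral_of_injective
      (MvPowerSeries (Fin s) k) _ hinj]
    exact Groth.Agent.Lib.Helper1.ArtFunLib.ringKrullDim_mvPowerSeries k s
  rw [h2, ← hh, Groth.Agent.Lib.Helper1.ArtFunLib.ringKrullDim_mvPowerSeries] at h1
  exact_mod_cast h1

end Dim



open IsLocalRing

section E

variable {k : Type u} [Field k] {A : Type u} [CommRing A] [Algebra k A]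

/-- modify an algebra map by a "derivation" with coefficients in a square-zero ideal. -/
theorem exists_modification {C : Type u} [CommRing C] [Algebra k C] (J : Ideal C) (hJ : J ^ 2 = ⊥)
    (θ : A →ₐ[k] C) {m : ℕ} (D : Fin m → Derivation k A A) (c : Fin m → C) (hc : ∀ i, c i ∈ J) :
    ∃ θ' : A →ₐ[k] C, ∀ x, θ' x = θ x + ∑ i, c i * θ (D i x) := by
  have hJ2 : ∀ a ∈ J, ∀ b ∈ J, a * b = 0 := by
    intro a ha b hb
    have : a * b ∈ J ^ 2 := by rw [pow_two]; exact Ideal.mul_mem_mul ha hb
    rwa [hJ, Ideal.mem_bot] at this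
  have hδ : ∀ x, ∑ i, c i * θ (D i x) ∈ J := fun x =>
    Ideal.sum_mem _ fun i _ => Ideal.mul_mem_right _ _ (hc i)
  refine ⟨AlgHom.ofLinearMap
    { toFun := fun x => θ x + ∑ i, c i * θ (D i x)
      map_add' := fun x y => by
        simp only [map_add, mul_add, Finset.sum_add_distrib]; ring
      map_smul' := fun a x => by
        simp only [map_smul, RingHom.id_apply, smul_add, Finset.smul_sum, mul_smul_comm,
          Derivation.map_smul] } ?_ ?_,
    fun x => rfl⟩
  · show θ 1 + ∑ i, c i * θ (D i 1) = 1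
    simp
  · intro x y
    show θ (x * y) + ∑ i, c i * θ (D i (x * y)) =
      (θ x + ∑ i, c i * θ (D i x)) * (θ y + ∑ i, c i * θ (D i y))
    have h1 : ∑ i, c i * θ (D i (x * y)) =
        θ x * ∑ i, c i * θ (D i y) + θ y * ∑ i, c i * θ (D i x) := by
      rw [Finset.mul_sum, Finset.mul_sum, ← Finset.sum_add_distrib]
      refine Finset.sum_congr rfl fun i _ => ?_
      rw [Derivation.leibniz, map_add, smul_eq_mul, smul_eq_mul, map_mul, map_mul]
      ring
    rw [h1, map_mul]
    have h2 := hJ2 _ (hδ x) _ (hδ y)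
    linear_combination (-1 : C) * h2

end E



open IsLocalRing

section E2

variable {k : Type u} [Field k] {A : Type u} [CommRing A] [Algebra k A]

theorem adic_of_jacobian (q p : Ideal A) [p.IsPrime] (hqp : q ≤ p)
    [(p.map (Ideal.Quotient.mk q)).IsPrime]
    (hA : CAlgX.IsAdicFormallySmooth k (Localization.AtPrime p)
      (maximalIdeal (Localization.AtPrime p)))
    {m : ℕ} (D : Fin m → Derivation k A A) (f : Fin m → A) (hf : ∀ i, f i ∈ q)
    (hgen : q.map (algebraMap A (Localization.AtPrime p)) =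
      Ideal.span (Set.range fun i => algebraMap A (Localization.AtPrime p) (f i)))
    (hdet : Matrix.det (Matrix.of fun i j => D i (f j)) ∉ p) :
    CAlgX.IsAdicFormallySmooth k (Localization.AtPrime (p.map (Ideal.Quotient.mk q)))
      (maximalIdeal (Localization.AtPrime (p.map (Ideal.Quotient.mk q)))) := by
  classical
  intro C _ _ J hJ ψ ⟨n, hn⟩
  let ρ : A →ₐ[k] Localization.AtPrime (p.map (Ideal.Quotient.mk q)) :=
    (IsScalarTower.toAlgHom k (A ⧸ q) (Localization.AtPrime (p.map (Ideal.Quotient.mk q)))).comp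
      (Ideal.Quotient.mkₐ k q)
  have hρ : ∀ a, ρ a = algebraMap (A ⧸ q) (Localization.AtPrime (p.map (Ideal.Quotient.mk q)))
      (Ideal.Quotient.mk q a) := fun a => rfl
  have key : ∀ t : A, Ideal.Quotient.mk q t ∈ p.map (Ideal.Quotient.mk q) ↔ t ∈ p := by
    intro t
    rw [← Ideal.mem_comap, Ideal.comap_map_of_surjective _ Ideal.Quotient.mk_surjective,
      ← RingHom.ker_eq_comap_bot, Ideal.mk_ker, sup_eq_left.mpr hqp]
  have hρunit : ∀ t : p.primeCompl, IsUnit (ρ t) := by
    intro t
    exact IsLocalization.map_units (Localization.AtPrime (p.map (Ideal.Quotient.mk q)))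
      (⟨Ideal.Quotient.mk q t, fun h => t.2 ((key t).mp h)⟩ :
        (p.map (Ideal.Quotient.mk q)).primeCompl)
  let ψA : A →ₐ[k] C ⧸ J := ψ.comp ρ
  have hψAunit : ∀ t : p.primeCompl, IsUnit (ψA t) := fun t => (hρunit t).map ψ
  let ψp : Localization.AtPrime p →ₐ[k] C ⧸ J :=
    IsLocalization.liftAlgHom (M := p.primeCompl) (f := ψA) hψAunit
  have hψp : ∀ a, ψp (algebraMap A _ a) = ψA a := fun a => by
    show IsLocalization.lift hψAunit (algebraMap A (Localization.AtPrime p) a) = ψA a
    rw [IsLocalization.lift_eq]; rfl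
  have hkill : ∀ x ∈ maximalIdeal (Localization.AtPrime p) ^ n, ψp x = 0 := by
    intro x hx
    rw [← Localization.AtPrime.map_eq_maximalIdeal, ← Ideal.map_pow] at hx
    have hle : (p ^ n).map (algebraMap A (Localization.AtPrime p)) ≤
        RingHom.ker (ψp : Localization.AtPrime p →+* C ⧸ J) := by
      rw [Ideal.map_le_iff_le_comap]
      intro a ha
      rw [Ideal.mem_comap, RingHom.mem_ker]
      show ψp (algebraMap A _ a) = 0
      rw [hψp]
      show ψ (ρ a) = 0
      apply hn
      rw [hρ, ← Localization.AtPrime.map_eq_maximalIdeal, ← Ideal.map_pow]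
      apply Ideal.mem_map_of_mem
      rw [← Ideal.map_pow]
      exact Ideal.mem_map_of_mem _ ha
    exact hle hx
  obtain ⟨χ₀, hχ₀⟩ := hA C J hJ ψp ⟨n, hkill⟩
  let θ : A →ₐ[k] C := χ₀.comp (IsScalarTower.toAlgHom k A (Localization.AtPrime p))
  have hθ : ∀ a, Ideal.Quotient.mk J (θ a) = ψA a := by
    intro a
    have := congrArg (fun g : Localization.AtPrime p →ₐ[k] C ⧸ J => g (algebraMap A _ a)) hχ₀
    exact this.trans (hψp a)
  have hv : ∀ j, θ (f j) ∈ J := by
    intro j
    rw [← Ideal.Quotient.eq_zero_iff_mem, hθ]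
    show ψ (ρ (f j)) = 0
    rw [hρ, Ideal.Quotient.eq_zero_iff_mem.mpr (hf j), map_zero, map_zero]
  let Mat : Matrix (Fin m) (Fin m) C := Matrix.of fun i j => θ (D i (f j))
  have hMat : Mat = (θ : A →+* C).mapMatrix (Matrix.of fun i j => D i (f j)) := by
    ext i j; rfl
  have hdetu : IsUnit Mat.det := by
    rw [hMat, ← RingHom.map_det]
    have : IsUnit (algebraMap A (Localization.AtPrime p)
        (Matrix.det (Matrix.of fun i j => D i (f j)))) :=
      IsLocalization.map_units _ (⟨_, hdet⟩ : p.primeCompl)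
    exact this.map χ₀
  let c : Fin m → C := -(Matrix.vecMul (fun j => θ (f j)) Mat⁻¹)
  have hcJ : ∀ i, c i ∈ J := by
    intro i
    show -(Matrix.vecMul (fun j => θ (f j)) Mat⁻¹ i) ∈ J
    rw [Ideal.neg_mem_iff]
    show ∑ j, θ (f j) * Mat⁻¹ j i ∈ J
    exact Ideal.sum_mem _ fun j _ => Ideal.mul_mem_right _ _ (hv j)
  have hcM : Matrix.vecMul c Mat = -(fun j => θ (f j)) := by
    show Matrix.vecMul (-(Matrix.vecMul (fun j => θ (f j)) Mat⁻¹)) Mat = _
    rw [Matrix.neg_vecMul, Matrix.vecMul_vecMul, Matrix.nonsing_inv_mul _ hdetu, Matrix.vecMul_one]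
  obtain ⟨θ', hθ'⟩ := exists_modification J hJ θ D c hcJ
  have hθ'f : ∀ j, θ' (f j) = 0 := by
    intro j
    rw [hθ']
    have : ∑ i, c i * θ (D i (f j)) = Matrix.vecMul c Mat j := rfl
    rw [this, hcM]
    simp
  have hθ'mk : ∀ a, Ideal.Quotient.mk J (θ' a) = ψA a := by
    intro a
    rw [hθ', map_add, hθ, Ideal.Quotient.eq_zero_iff_mem.mpr
      (Ideal.sum_mem _ fun i _ => Ideal.mul_mem_right _ _ (hcJ i)), add_zero]
  have hθ'unit : ∀ t : p.primeCompl, IsUnit ((θ' : A →+* C) t) := by
    intro t
    apply (IsNilpotent.isUnit_quotient_mk_iff ⟨2, hJ⟩).mp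
    show IsUnit (Ideal.Quotient.mk J (θ' t))
    rw [hθ'mk]; exact hψAunit t
  let θ'p : Localization.AtPrime p →+* C :=
    IsLocalization.lift (M := p.primeCompl) (g := (θ' : A →+* C)) hθ'unit
  have hθ'q : ∀ x ∈ q, θ' x = 0 := by
    intro x hx
    have h1 : algebraMap A (Localization.AtPrime p) x ∈ RingHom.ker θ'p := by
      have : q.map (algebraMap A (Localization.AtPrime p)) ≤ RingHom.ker θ'p := by
        rw [hgen, Ideal.span_le]
        rintro _ ⟨j, rfl⟩
        show θ'p (algebraMap A _ (f j)) = 0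
        show IsLocalization.lift hθ'unit (algebraMap A (Localization.AtPrime p) (f j)) = 0
        rw [IsLocalization.lift_eq]; exact hθ'f j
      exact this (Ideal.mem_map_of_mem _ hx)
    rw [RingHom.mem_ker] at h1
    have h2 : θ'p (algebraMap A _ x) = θ' x := by
      show IsLocalization.lift hθ'unit (algebraMap A (Localization.AtPrime p) x) = θ' x
      rw [IsLocalization.lift_eq]; rfl
    rw [← h2]; exact h1
  let θq : A ⧸ q →ₐ[k] C := Ideal.Quotient.liftₐ q θ' hθ'q
  have hθq : ∀ a, θq (Ideal.Quotient.mk q a) = θ' a := fun a => rfl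
  have hθqunit : ∀ y : (p.map (Ideal.Quotient.mk q)).primeCompl, IsUnit (θq y) := by
    rintro ⟨y, hy⟩
    obtain ⟨t, rfl⟩ := Ideal.Quotient.mk_surjective y
    have htp : t ∉ p := fun h => hy (Ideal.mem_map_of_mem _ h)
    exact hθ'unit ⟨t, htp⟩
  let χ : Localization.AtPrime (p.map (Ideal.Quotient.mk q)) →ₐ[k] C :=
    IsLocalization.liftAlgHom (M := (p.map (Ideal.Quotient.mk q)).primeCompl) (f := θq) hθqunit
  refine ⟨χ, ?_⟩
  apply AlgHom.coe_ringHom_injective
  apply IsLocalization.ringHom_ext (p.map (Ideal.Quotient.mk q)).primeCompl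
  apply Ideal.Quotient.ringHom_ext
  ext a
  show Ideal.Quotient.mk J (IsLocalization.lift hθqunit
    (algebraMap (A ⧸ q) (Localization.AtPrime (p.map (Ideal.Quotient.mk q)))
      (Ideal.Quotient.mk q a))) = ψ (algebraMap (A ⧸ q) _ (Ideal.Quotient.mk q a))
  rw [IsLocalization.lift_eq]
  exact hθ'mk a

end E2



open IsLocalRing MvPowerSeries

theorem t4612main {k : Type u} [Field k] (r : ℕ)
    (q p : Ideal (MvPowerSeries (Fin r) k)) [p.IsPrime] (hqp : q ≤ p) [(p.map (Ideal.Quotient.mk q)).IsPrime]
    (s : ℕ) [Algebra (MvPowerSeries (Fin s) k) (MvPowerSeries (Fin r) k ⧸ p)]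
    [IsScalarTower k (MvPowerSeries (Fin s) k) (MvPowerSeries (Fin r) k ⧸ p)]
    [Module.Finite (MvPowerSeries (Fin s) k) (MvPowerSeries (Fin r) k ⧸ p)]
    (hinj : Function.Injective (algebraMap (MvPowerSeries (Fin s) k) (MvPowerSeries (Fin r) k ⧸ p)))
    {L' L : Type u} [Field L'] [Field L]
    [Algebra (MvPowerSeries (Fin s) k) L'] [IsFractionRing (MvPowerSeries (Fin s) k) L']
    [Algebra (MvPowerSeries (Fin r) k ⧸ p) L] [IsFractionRing (MvPowerSeries (Fin r) k ⧸ p) L]
    [Algebra L' L] [Algebra (MvPowerSeries (Fin s) k) L]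
    [IsScalarTower (MvPowerSeries (Fin s) k) (MvPowerSeries (Fin r) k ⧸ p) L]
    [IsScalarTower (MvPowerSeries (Fin s) k) L' L] [Algebra.IsSeparable L' L] :
    [CAlgX.IsAdicFormallySmooth k (Localization.AtPrime (p.map (Ideal.Quotient.mk q)))
        (maximalIdeal (Localization.AtPrime (p.map (Ideal.Quotient.mk q)))),
     ∃ (m : ℕ) (D : Fin m → Derivation k (MvPowerSeries (Fin r) k) (MvPowerSeries (Fin r) k))
        (f : Fin m → MvPowerSeries (Fin r) k), (∀ i, f i ∈ q) ∧
        q.map (algebraMap (MvPowerSeries (Fin r) k) (Localization.AtPrime p)) =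
          Ideal.span (Set.range fun i => algebraMap (MvPowerSeries (Fin r) k) (Localization.AtPrime p) (f i)) ∧
        Matrix.det (Matrix.of fun i j => D i (f j)) ∉ p,
     IsRegularLocalRing (Localization.AtPrime (p.map (Ideal.Quotient.mk q)))].TFAE := by
  haveI : IsNoetherianRing (Localization.AtPrime (p.map (Ideal.Quotient.mk q))) :=
    IsLocalization.isNoetherianRing (p.map (Ideal.Quotient.mk q)).primeCompl _ inferInstance
  tfae_have 1 → 3 := by
    intro h
    haveI : IsRegularRing (Localization.AtPrime (p.map (Ideal.Quotient.mk q))) :=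
      Groth.Agent.Lib.Helper23.GeomRegular.isRegularRing_of_adic
        (maximalIdeal (Localization.AtPrime (p.map (Ideal.Quotient.mk q))))
        (fun M hM => by rw [eq_maximalIdeal hM]) h
    exact IsRegularLocalRing.of_isRegularRing_of_isLocalRing _
  tfae_have 3 → 2 := by
    intro hreg
    obtain ⟨h, c, hc, g, hh, hgp, hgq, hg, hq⟩ := exists_generators q p hqp hreg
    have hhs := height_add_le r p s hinj h hh
    obtain ⟨D, hD⟩ := exists_derivations (L' := L') (L := L) r p s hc g hgp hg hhs
    exact ⟨c, D, fun j => g (Fin.castLE hc j), hgq, hq, hD⟩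
  tfae_have 2 → 1 := by
    rintro ⟨m, D, f, hf, hgen, hdet⟩
    have hfs : CAlgX.IsAdicFormallySmooth k (MvPowerSeries (Fin r) k)
        (maximalIdeal (MvPowerSeries (Fin r) k)) :=
      Groth.Agent.Lib.Helper23.CohenEq2.adic_of_regular_of_sep
        (Groth.Agent.Lib.Helper1.ArtFunLib.isRegularLocalRing_mvPowerSeries k r)
    have hA := Groth.Agent.S4574.result hfs p
    exact adic_of_jacobian q p hqp hA D f hf hgen hdet
  tfae_finish

end Groth.Agent.Lib.Helper23.NagataJacobian
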