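import Mathlib
import Groth.Agent.Lib.Helper23.CompletedKaehler3
import Groth.Agent.Lib.Helper23.NagataJacobian

/-!
Completed differentials of a complete local domain finite and generically separable over k[[T_1..T_r]] (EGA 0_IV 21.9.x): generic rank r.
* of_surjective_of_finite_quotient, of_kaehler_surjective, finite_mhat' : M -> M^ surjective when M/IM finite over complete ring
* finite_residueField, dhat (completed universal derivation), dhat_algebraMap : d(f(t)) = sum (df/dT_i) dt_i in the completion
* dhat_aeval_sub_mem, aeval_derivative_ne_zero', span_eq_top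
* exists_derivation_extension (to separable algebraic ext of fraction field), exists_derivation_restrict (clearing denominators on a finite algebra)
* lamOf, linearIndependent_tmul, isSeparable_of_forall, finrank_eq, t4557main
-/

set_option autoImplicit false
universe u


namespace Groth.Agent.Lib.Helper23.CompletedKaehlerSep


open IsLocalRing TensorProduct KaehlerDifferential

open Groth.Agent.Lib.Helper23 Groth.Agent.Lib.Helper23.CompletedKaehler

section Gen

variable {B : Type u} [CommRing B] (I : Ideal B) [IsAdicComplete I B]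

/-- over a complete ring, `M → M̂` is surjective when `M/IM` is finite. -/
theorem of_surjective_of_finite_quotient {M : Type u} [AddCommGroup M] [Module B M]
    [Module.Finite B (M ⧸ (I • ⊤ : Submodule B M))] :
    Function.Surjective (AdicCompletion.of I M) := by
  classical
  obtain ⟨r, s, hs⟩ := Module.Finite.exists_fin (R := B) (M := M ⧸ (I • ⊤ : Submodule B M))
  choose ω hω using fun i => Submodule.mkQ_surjective (I • ⊤ : Submodule B M) (s i)
  let Ψ : (Fin r → B) →ₗ[B] M := Fintype.linearCombination B ω
  haveI := isAdicComplete_pi I r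
  have hsurj : Function.Surjective ((I • (⊤ : Submodule B M)).mkQ ∘ₗ Ψ) := by
    rw [← LinearMap.range_eq_top, LinearMap.range_comp, Fintype.range_linearCombination,
      Submodule.map_span, ← Set.range_comp]
    have : (⇑(I • (⊤ : Submodule B M)).mkQ ∘ ω) = s := funext hω
    rw [this, hs]
  have hmapsurj := AdicCompletion.map_surjective_of_mkQ_comp_surjective hsurj
  intro y
  obtain ⟨x, hx⟩ := hmapsurj y
  obtain ⟨c, hc⟩ := AdicCompletion.of_surjective I (Fin r → B) x
  refine ⟨Ψ c, ?_⟩
  rw [← AdicCompletion.map_of, hc, hx]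

end Gen

section Kae

variable {k A : Type u} [Field k] [CommRing A] [IsLocalRing A] [IsNoetherianRing A]
  [IsAdicComplete (maximalIdeal A) A] [Algebra k A] [Module.Finite k (ResidueField A)]

theorem finite_quot_kaehler :
    Module.Finite A (Ω[A⁄k] ⧸ (maximalIdeal A • ⊤ : Submodule A Ω[A⁄k])) := by
  haveI : Module.Finite (ResidueField A) (ResidueField A ⊗[A] Ω[A⁄k]) := finite_tensor_kaehler
  haveI : Module.Finite A (ResidueField A) :=
    Module.Finite.of_surjective (Algebra.linearMap A (ResidueField A)) residue_surjective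
  haveI : Module.Finite A (ResidueField A ⊗[A] Ω[A⁄k]) := Module.Finite.trans (ResidueField A) _
  haveI : Module.Finite A ((A ⧸ maximalIdeal A) ⊗[A] Ω[A⁄k]) :=
    inferInstanceAs (Module.Finite A (ResidueField A ⊗[A] Ω[A⁄k]))
  exact Module.Finite.equiv (TensorProduct.quotTensorEquivQuotSMul Ω[A⁄k] (maximalIdeal A))

theorem finite_mhat' : Module.Finite A (AdicCompletion (maximalIdeal A) (Ω[A⁄k])) := by
  haveI := finite_quot_kaehler (k := k) (A := A)
  exact Groth.Agent.Lib.Helper23.CompletedKaehler3.finite_adicCompletion_of_finite_quotient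
    (maximalIdeal A)

theorem of_kaehler_surjective :
    Function.Surjective (AdicCompletion.of (maximalIdeal A) (Ω[A⁄k])) := by
  haveI : Module.Finite (ResidueField A) (ResidueField A ⊗[A] Ω[A⁄k]) := finite_tensor_kaehler
  haveI : Module.Finite A (ResidueField A) :=
    Module.Finite.of_surjective (Algebra.linearMap A (ResidueField A)) residue_surjective
  haveI : Module.Finite A (ResidueField A ⊗[A] Ω[A⁄k]) := Module.Finite.trans (ResidueField A) _
  haveI : Module.Finite A ((A ⧸ maximalIdeal A) ⊗[A] Ω[A⁄k]) :=
    inferInstanceAs (Module.Finite A (ResidueField A ⊗[A] Ω[A⁄k]))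
  haveI : Module.Finite A (Ω[A⁄k] ⧸ (maximalIdeal A • ⊤ : Submodule A Ω[A⁄k])) :=
    Module.Finite.equiv (TensorProduct.quotTensorEquivQuotSMul Ω[A⁄k] (maximalIdeal A))
  exact of_surjective_of_finite_quotient (maximalIdeal A)

end Kae



open IsLocalRing TensorProduct KaehlerDifferential MvPowerSeries

open Groth.Agent.Lib.Helper23 Groth.Agent.Lib.Helper23.CompletedKaehler
open Groth.Agent.Lib.Helper23.NagataJacobian

section PS

variable {k : Type u} [Field k] {r : ℕ} {A : Type u} [CommRing A] [IsLocalRing A]
  [Algebra (MvPowerSeries (Fin r) k) A] [Algebra k A] [IsScalarTower k (MvPowerSeries (Fin r) k) A]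
  [Module.Finite (MvPowerSeries (Fin r) k) A]

theorem comap_maximalIdeal :
    (maximalIdeal A).comap (algebraMap (MvPowerSeries (Fin r) k) A) =
      maximalIdeal (MvPowerSeries (Fin r) k) := by
  have : ((maximalIdeal A).comap (algebraMap (MvPowerSeries (Fin r) k) A)).IsMaximal :=
    Ideal.isMaximal_comap_of_isIntegral_of_isMaximal (R := MvPowerSeries (Fin r) k) (maximalIdeal A)
  exact eq_maximalIdeal this

include r in
theorem finite_residueField : Module.Finite k (ResidueField A) := by
  classical
  haveI : Module.Finite (MvPowerSeries (Fin r) k) (ResidueField A) :=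
    Module.Finite.of_surjective
      (IsScalarTower.toAlgHom (MvPowerSeries (Fin r) k) A (ResidueField A)).toLinearMap
      residue_surjective
  obtain ⟨n, s, hs⟩ := Module.Finite.exists_fin (R := MvPowerSeries (Fin r) k) (M := ResidueField A)
  have hkill : ∀ (f : MvPowerSeries (Fin r) k) (x : ResidueField A),
      f • x = (constantCoeff f) • x := by
    intro f x
    obtain ⟨h, hh⟩ := exists_decomp r f
    have h1 : (f - algebraMap k _ (constantCoeff f)) • x = 0 := by
      have hmem : f - algebraMap k _ (constantCoeff f) ∈ maximalIdeal (MvPowerSeries (Fin r) k) := by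
        have : f - algebraMap k _ (constantCoeff f) = ∑ j, h j * X j := by
          nth_rw 1 [hh]; ring
        rw [this, Groth.Agent.Lib.Helper1.ArtFunLib.maximalIdeal_mvPowerSeries_eq_span]
        exact Ideal.sum_mem _ fun j _ => Ideal.mul_mem_left _ _ (Ideal.subset_span ⟨j, rfl⟩)
      rw [← comap_maximalIdeal (A := A), Ideal.mem_comap] at hmem
      rw [Algebra.smul_def, IsScalarTower.algebraMap_apply (MvPowerSeries (Fin r) k) A
        (ResidueField A)]
      have : algebraMap A (ResidueField A) (algebraMap _ A (f - algebraMap k _ (constantCoeff f))) = 0 :=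
        (residue_eq_zero_iff _).mpr hmem
      rw [this, zero_mul]
    rw [sub_smul, sub_eq_zero] at h1
    rw [h1, algebraMap_smul]
  refine Module.Finite.of_surjective (Fintype.linearCombination k s) ?_
  intro x
  have hx : x ∈ Submodule.span (MvPowerSeries (Fin r) k) (Set.range s) := by rw [hs]; trivial
  rw [Submodule.mem_span_range_iff_exists_fun] at hx
  obtain ⟨c, hc⟩ := hx
  refine ⟨fun i => constantCoeff (c i), ?_⟩
  rw [Fintype.linearCombination_apply, ← hc]
  exact Finset.sum_congr rfl fun i _ => (hkill _ _).symm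

end PS



open IsLocalRing TensorProduct KaehlerDifferential MvPowerSeries

open Groth.Agent.Lib.Helper23 Groth.Agent.Lib.Helper23.CompletedKaehler
open Groth.Agent.Lib.Helper23.NagataJacobian

section PS2

variable {k : Type u} [Field k] {r : ℕ} {A : Type u} [CommRing A] [IsLocalRing A]
  [IsNoetherianRing A] [IsAdicComplete (maximalIdeal A) A]
  [Algebra (MvPowerSeries (Fin r) k) A] [Algebra k A] [IsScalarTower k (MvPowerSeries (Fin r) k) A]
  [Module.Finite (MvPowerSeries (Fin r) k) A]

/-- the completed universal derivation. -/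
noncomputable def dhat : Derivation k A (AdicCompletion (maximalIdeal A) (Ω[A⁄k])) :=
  (AdicCompletion.of (maximalIdeal A) (Ω[A⁄k])).compDer (D k A)

omit [IsNoetherianRing A] [IsAdicComplete (maximalIdeal A) A] in
theorem dhat_apply (a : A) :
    dhat (k := k) a = AdicCompletion.of (maximalIdeal A) (Ω[A⁄k]) (D k A a) := rfl

include r in
theorem finite_mhat : Module.Finite A (AdicCompletion (maximalIdeal A) (Ω[A⁄k])) := by
  haveI : Module.Finite k (ResidueField A) := finite_residueField (r := r)
  exact finite_mhat' (k := k) (A := A)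

/-- in the completed module, `d (f(t)) = Σ ∂f/∂T_i dt_i`. -/
theorem dhat_algebraMap (f : MvPowerSeries (Fin r) k) :
    dhat (k := k) (algebraMap (MvPowerSeries (Fin r) k) A f) =
      ∑ i, (pderiv k i f) • dhat (k := k) (algebraMap (MvPowerSeries (Fin r) k) A (X i)) := by
  classical
  haveI := finite_mhat (k := k) (r := r) (A := A)
  haveI : Module.Finite (MvPowerSeries (Fin r) k) (AdicCompletion (maximalIdeal A) (Ω[A⁄k])) :=
    Module.Finite.trans A _
  let E₁ : Derivation k (MvPowerSeries (Fin r) k) (AdicCompletion (maximalIdeal A) (Ω[A⁄k])) :=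
    (dhat (k := k) (A := A)).compAlgebraMap (MvPowerSeries (Fin r) k)
  let E₂ : Derivation k (MvPowerSeries (Fin r) k) (AdicCompletion (maximalIdeal A) (Ω[A⁄k])) :=
    ∑ i, (LinearMap.toSpanSingleton (MvPowerSeries (Fin r) k) _
      (dhat (k := k) (algebraMap (MvPowerSeries (Fin r) k) A (X i)))).compDer (pderiv k i)
  have hE₂ : ∀ g, E₂ g = ∑ i, (pderiv k i g) •
      dhat (k := k) (algebraMap (MvPowerSeries (Fin r) k) A (X i)) := by
    intro g
    simp only [E₂, der_sum_apply]
    rfl
  have h0 : E₁ - E₂ = 0 := by
    apply derivation_eq_zero_of_X r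
    intro j
    rw [Derivation.sub_apply, hE₂, sub_eq_zero]
    rw [Finset.sum_eq_single j]
    · rw [pderiv_X_self, one_smul]; rfl
    · intro i _ hij
      rw [pderiv_X_of_ne (Ne.symm hij), zero_smul]
    · intro h; exact absurd (Finset.mem_univ j) h
  have h1 : E₁ f = E₂ f := by
    have := congrArg (fun E : Derivation k (MvPowerSeries (Fin r) k) _ => E f) h0
    simpa [sub_eq_zero] using this
  rw [← hE₂]; exact h1

end PS2



open IsLocalRing TensorProduct KaehlerDifferential MvPowerSeries

open Groth.Agent.Lib.Helper23 Groth.Agent.Lib.Helper23.CompletedKaehler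
open Groth.Agent.Lib.Helper23.NagataJacobian

section PS3

variable {k : Type u} [Field k] {r : ℕ} {A : Type u} [CommRing A] [IsLocalRing A]
  [IsNoetherianRing A] [IsAdicComplete (maximalIdeal A) A]
  [Algebra (MvPowerSeries (Fin r) k) A] [Algebra k A] [IsScalarTower k (MvPowerSeries (Fin r) k) A]
  [Module.Finite (MvPowerSeries (Fin r) k) A]

variable (k r A) in
/-- the submodule generated by the `dt_i`. -/
noncomputable def Nsub : Submodule A (AdicCompletion (maximalIdeal A) (Ω[A⁄k])) :=
  Submodule.span A (Set.range fun i : Fin r =>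
    dhat (k := k) (algebraMap (MvPowerSeries (Fin r) k) A (X i)))

theorem dhat_algebraMap_mem (c : MvPowerSeries (Fin r) k) :
    dhat (k := k) (algebraMap (MvPowerSeries (Fin r) k) A c) ∈ Nsub k r A := by
  rw [dhat_algebraMap]
  refine Submodule.sum_mem _ fun i _ => ?_
  rw [← algebraMap_smul A (pderiv k i c)]
  exact Submodule.smul_mem _ _ (Submodule.subset_span ⟨i, rfl⟩)

theorem dhat_aeval_sub_mem (a : A) (F : Polynomial (MvPowerSeries (Fin r) k)) :
    dhat (k := k) (Polynomial.aeval a F) - (Polynomial.aeval a (Polynomial.derivative F)) •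
      dhat (k := k) a ∈ Nsub k r A := by
  induction F using Polynomial.induction_on' with
  | add p q hp hq =>
    rw [map_add, map_add, Polynomial.derivative_add, map_add, add_smul]
    have := Submodule.add_mem _ hp hq
    convert this using 1
    abel
  | monomial n c =>
    rw [Polynomial.aeval_monomial, Polynomial.derivative_monomial, Polynomial.aeval_monomial,
      Derivation.leibniz, Derivation.leibniz_pow]
    have h1 : algebraMap (MvPowerSeries (Fin r) k) A c • n • a ^ (n - 1) • dhat (k := k) a =
        (algebraMap (MvPowerSeries (Fin r) k) A (c * (n : MvPowerSeries (Fin r) k)) * a ^ (n - 1)) •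
          dhat (k := k) a := by
      rw [map_mul, map_natCast, mul_smul, mul_smul, Nat.cast_smul_eq_nsmul]
    rw [h1, add_sub_cancel_left]
    exact Submodule.smul_mem _ _ (dhat_algebraMap_mem c)

end PS3



open IsLocalRing TensorProduct KaehlerDifferential MvPowerSeries

section Sep

/-- the derivative of a separable polynomial does not vanish at a root. -/
theorem aeval_derivative_ne_zero' {P A E₀ E : Type*} [CommRing P] [CommRing A] [Field E₀] [Field E]
    [Algebra P E₀] [IsFractionRing P E₀] [Algebra P A] [Algebra A E] [Algebra P E]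
    [IsScalarTower P A E] (hinj : Function.Injective (algebraMap P E))
    (a : A) (F : Polynomial P)
    (hF : Polynomial.aeval a F = 0) (hsep : (F.map (algebraMap P E₀)).Separable) :
    Polynomial.aeval a (Polynomial.derivative F) ≠ 0 := by
  let φ : E₀ →+* E := IsFractionRing.lift hinj
  have hφ : φ.comp (algebraMap P E₀) = algebraMap P E :=
    RingHom.ext fun x => IsFractionRing.lift_algebraMap hinj x
  have h1 : (F.map (algebraMap P E)).Separable := by
    have := hsep.map (f := φ)
    rwa [Polynomial.map_map, hφ] at this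
  have h2 : Polynomial.aeval (algebraMap A E a) (F.map (algebraMap P E)) = 0 := by
    rw [Polynomial.aeval_map_algebraMap, Polynomial.aeval_algebraMap_apply, hF, map_zero]
  have h3 := h1.aeval_derivative_ne_zero h2
  rw [Polynomial.derivative_map, Polynomial.aeval_map_algebraMap,
    Polynomial.aeval_algebraMap_apply] at h3
  intro h0
  exact h3 (by rw [h0, map_zero])

end Sep



open IsLocalRing TensorProduct KaehlerDifferential MvPowerSeries

open Groth.Agent.Lib.Helper23 Groth.Agent.Lib.Helper23.CompletedKaehler
open Groth.Agent.Lib.Helper23.NagataJacobian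

section Span

variable {k : Type u} [Field k] {r : ℕ} {A : Type u} [CommRing A] [IsLocalRing A]
  [IsNoetherianRing A] [IsAdicComplete (maximalIdeal A) A]
  [Algebra (MvPowerSeries (Fin r) k) A] [Algebra k A] [IsScalarTower k (MvPowerSeries (Fin r) k) A]
  [Module.Finite (MvPowerSeries (Fin r) k) A]
  {E₀ E : Type u} [Field E₀] [Field E] [Algebra (MvPowerSeries (Fin r) k) E₀]
  [IsFractionRing (MvPowerSeries (Fin r) k) E₀] [Algebra A E] [IsFractionRing A E]
  [Algebra (MvPowerSeries (Fin r) k) E] [IsScalarTower (MvPowerSeries (Fin r) k) A E]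

theorem one_tmul_smul (c : A) (m : AdicCompletion (maximalIdeal A) (Ω[A⁄k])) :
    (1 : E) ⊗ₜ[A] (c • m) = algebraMap A E c • ((1 : E) ⊗ₜ[A] m) := by
  rw [TensorProduct.smul_tmul', ← TensorProduct.smul_tmul, smul_eq_mul, mul_one,
    Algebra.algebraMap_eq_smul_one]

theorem span_eq_top (hinj : Function.Injective (algebraMap (MvPowerSeries (Fin r) k) A))
    (hsep : ∀ a : A, ∃ F : Polynomial (MvPowerSeries (Fin r) k), Polynomial.aeval a F = 0 ∧
      (F.map (algebraMap (MvPowerSeries (Fin r) k) E₀)).Separable) :
    Submodule.span E (Set.range fun i : Fin r =>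
      (1 : E) ⊗ₜ[A] dhat (k := k) (algebraMap (MvPowerSeries (Fin r) k) A (X i))) =
      (⊤ : Submodule E (E ⊗[A] AdicCompletion (maximalIdeal A) (Ω[A⁄k]))) := by
  classical
  set W := Submodule.span E (Set.range fun i : Fin r =>
      (1 : E) ⊗ₜ[A] dhat (k := k) (algebraMap (MvPowerSeries (Fin r) k) A (X i))) with hW
  have hAE : Function.Injective (algebraMap A E) := IsFractionRing.injective A E
  have hPE : Function.Injective (algebraMap (MvPowerSeries (Fin r) k) E) := by
    rw [IsScalarTower.algebraMap_eq (MvPowerSeries (Fin r) k) A E]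
    exact hAE.comp hinj
  -- step 1
  have h1 : ∀ m ∈ Nsub k r A, (1 : E) ⊗ₜ[A] m ∈ W := by
    intro m hm
    induction hm using Submodule.span_induction with
    | mem x hx =>
      obtain ⟨i, rfl⟩ := hx
      exact Submodule.subset_span ⟨i, rfl⟩
    | zero => rw [TensorProduct.tmul_zero]; exact Submodule.zero_mem _
    | add x y _ _ hx hy => rw [TensorProduct.tmul_add]; exact Submodule.add_mem _ hx hy
    | smul c x _ hx => rw [one_tmul_smul]; exact Submodule.smul_mem _ _ hx
  -- step 2
  have h2 : ∀ a : A, (1 : E) ⊗ₜ[A] dhat (k := k) a ∈ W := by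
    intro a
    obtain ⟨F, hF, hFsep⟩ := hsep a
    have hne := aeval_derivative_ne_zero' (E₀ := E₀) (E := E) hPE a F hF hFsep
    have hmem := dhat_aeval_sub_mem (k := k) a F
    rw [hF, map_zero, zero_sub, Submodule.neg_mem_iff] at hmem
    have h3 := h1 _ hmem
    rw [one_tmul_smul] at h3
    have h4 : algebraMap A E (Polynomial.aeval a (Polynomial.derivative F)) ≠ 0 := by
      intro h0
      exact hne (hAE (by rw [h0, map_zero]))
    have := Submodule.smul_mem W (algebraMap A E (Polynomial.aeval a (Polynomial.derivative F)))⁻¹ h3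
    rwa [smul_smul, inv_mul_cancel₀ h4, one_smul] at this
  -- step 3
  have h3 : ∀ ω : Ω[A⁄k], (1 : E) ⊗ₜ[A] AdicCompletion.of (maximalIdeal A) (Ω[A⁄k]) ω ∈ W := by
    intro ω
    have hω : ω ∈ Submodule.span A (Set.range (D k A)) := by
      rw [KaehlerDifferential.span_range_derivation]; trivial
    induction hω using Submodule.span_induction with
    | mem x hx =>
      obtain ⟨a, rfl⟩ := hx
      exact h2 a
    | zero => rw [map_zero, TensorProduct.tmul_zero]; exact Submodule.zero_mem _
    | add x y _ _ hx hy => rw [map_add, TensorProduct.tmul_add]; exact Submodule.add_mem _ hx hy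
    | smul c x _ hx => rw [map_smul, one_tmul_smul]; exact Submodule.smul_mem _ _ hx
  -- step 4
  haveI : Module.Finite k (ResidueField A) := finite_residueField (r := r)
  have h4 : ∀ m : AdicCompletion (maximalIdeal A) (Ω[A⁄k]), (1 : E) ⊗ₜ[A] m ∈ W := by
    intro m
    obtain ⟨ω, rfl⟩ := of_kaehler_surjective (k := k) (A := A) m
    exact h3 ω
  rw [eq_top_iff]
  intro z hz
  clear hz
  induction z using TensorProduct.induction_on with
  | zero => exact Submodule.zero_mem _
  | add x y hx hy => exact Submodule.add_mem _ hx hy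
  | tmul x m =>
    have : x ⊗ₜ[A] m = x • ((1 : E) ⊗ₜ[A] m) := by
      rw [TensorProduct.smul_tmul', smul_eq_mul, mul_one]
    rw [this]
    exact Submodule.smul_mem _ _ (h4 m)

end Span



open TensorProduct KaehlerDifferential

section Ext

variable {k P E₀ E : Type u} [Field k] [CommRing P] [Algebra k P] [Field E₀] [Field E]
  [Algebra P E₀] [IsFractionRing P E₀] [Algebra E₀ E] [Algebra P E] [IsScalarTower P E₀ E]
  [Algebra k E] [IsScalarTower k P E] [Algebra.IsSeparable E₀ E]

include E₀ in
/-- extension of a derivation of `P` to a separable algebraic extension of its fraction field. -/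
theorem exists_derivation_extension (D₀ : Derivation k P P) :
    ∃ DE : Derivation k E E, ∀ f : P, DE (algebraMap P E f) = algebraMap P E (D₀ f) := by
  haveI : Algebra.FormallyEtale P E₀ :=
    Algebra.FormallyEtale.of_isLocalization (nonZeroDivisors P)
  haveI : Algebra.FormallyEtale E₀ E := Algebra.FormallyEtale.of_isSeparable E₀ E
  haveI : Algebra.FormallyEtale P E := Algebra.FormallyEtale.comp P E₀ E
  let e := KaehlerDifferential.tensorKaehlerEquivOfFormallyEtale k P E
  let ℓ₀ : Ω[P⁄k] →ₗ[P] E := (Algebra.linearMap P E) ∘ₗ D₀.liftKaehlerDifferential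
  let ℓ : E ⊗[P] Ω[P⁄k] →ₗ[E] E := LinearMap.liftBaseChange E ℓ₀
  let lam : Ω[E⁄k] →ₗ[E] E := ℓ ∘ₗ e.symm.toLinearMap
  refine ⟨lam.compDer (D k E), fun f => ?_⟩
  show ℓ (e.symm (D k E (algebraMap P E f))) = _
  rw [KaehlerDifferential.tensorKaehlerEquivOfFormallyEtale_symm_D_algebraMap]
  show ℓ ((1 : E) ⊗ₜ[P] D k P f) = _
  rw [LinearMap.liftBaseChange_tmul, one_smul]
  show algebraMap P E (D₀.liftKaehlerDifferential (D k P f)) = _
  rw [Derivation.liftKaehlerDifferential_comp_D]

end Ext



open TensorProduct KaehlerDifferential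

section Restr

variable {k P A E : Type u} [Field k] [CommRing P] [Algebra k P] [CommRing A] [IsDomain A]
  [Algebra P A] [Algebra k A] [IsScalarTower k P A] [Module.Finite P A]
  [Field E] [Algebra A E] [IsFractionRing A E] [Algebra P E] [IsScalarTower P A E]
  [Algebra k E] [IsScalarTower k A E]

/-- a derivation of the fraction field extending one of `P` restricts, up to a denominator,
to a derivation of the finite `P`-algebra `A`. -/
theorem exists_derivation_restrict (D₀ : Derivation k P P) (DE : Derivation k E E)
    (hDE : ∀ f : P, DE (algebraMap P E f) = algebraMap P E (D₀ f)) :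
    ∃ (γ : A) (DA : Derivation k A A), γ ≠ 0 ∧
      ∀ a, algebraMap A E (DA a) = algebraMap A E γ * DE (algebraMap A E a) := by
  classical
  have hAE : Function.Injective (algebraMap A E) := IsFractionRing.injective A E
  obtain ⟨n, s, hs⟩ := Module.Finite.exists_fin (R := P) (M := A)
  obtain ⟨γ, hγ⟩ := IsLocalization.exist_integer_multiples_of_finite (nonZeroDivisors A)
    (fun l => DE (algebraMap A E (s l)))
  choose y hy using hγ
  have hy' : ∀ l, algebraMap A E (y l) = algebraMap A E γ * DE (algebraMap A E (s l)) := by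
    intro l
    rw [hy l, Algebra.smul_def]
  -- every value is integral after multiplying by γ
  have hex : ∀ a : A, ∃ b : A, algebraMap A E b = algebraMap A E γ * DE (algebraMap A E a) := by
    intro a
    have ha : a ∈ Submodule.span P (Set.range s) := by rw [hs]; trivial
    rw [Submodule.mem_span_range_iff_exists_fun] at ha
    obtain ⟨c, rfl⟩ := ha
    refine ⟨∑ l, (algebraMap P A (c l) * y l + (γ : A) * s l * algebraMap P A (D₀ (c l))), ?_⟩
    rw [map_sum, map_sum, map_sum, Finset.mul_sum]
    refine Finset.sum_congr rfl fun l _ => ?_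
    rw [Algebra.smul_def, map_mul, Derivation.leibniz, map_add, map_mul, map_mul, map_mul, hy' l,
      ← IsScalarTower.algebraMap_apply P A E, ← IsScalarTower.algebraMap_apply P A E, hDE,
      smul_eq_mul, smul_eq_mul]
    ring
  choose δ hδ using hex
  let lin : A →ₗ[k] A :=
    { toFun := δ
      map_add' := fun a b => hAE (by rw [map_add, hδ, hδ, hδ, map_add, map_add, mul_add])
      map_smul' := fun c a => hAE (by
        rw [RingHom.id_apply, hδ, Algebra.smul_def, map_mul, Derivation.leibniz,
          ← IsScalarTower.algebraMap_apply k A E, Derivation.map_algebraMap, smul_zero, add_zero,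
          Algebra.smul_def (A := A), map_mul, hδ, ← IsScalarTower.algebraMap_apply k A E,
          Algebra.smul_def, Algebra.algebraMap_self, RingHom.id_apply]
        ring) }
  refine ⟨γ, Derivation.mk' lin (fun a b => hAE ?_), nonZeroDivisors.ne_zero γ.2, fun a => hδ a⟩
  show algebraMap A E (δ (a * b)) = algebraMap A E (a • δ b + b • δ a)
  rw [hδ, map_mul, Derivation.leibniz, map_add, smul_eq_mul, smul_eq_mul, smul_eq_mul, smul_eq_mul,
    map_mul, map_mul, hδ, hδ]
  ring

end Restr



open IsLocalRing TensorProduct KaehlerDifferential MvPowerSeries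

section Indep

variable {k : Type u} [Field k] {r : ℕ} {A : Type u} [CommRing A] [IsDomain A] [IsLocalRing A]
  [IsNoetherianRing A] [IsAdicComplete (maximalIdeal A) A]
  [Algebra (MvPowerSeries (Fin r) k) A] [Algebra k A] [IsScalarTower k (MvPowerSeries (Fin r) k) A]
  [Module.Finite (MvPowerSeries (Fin r) k) A]
  {E₀ E : Type u} [Field E₀] [Field E] [Algebra (MvPowerSeries (Fin r) k) E₀]
  [IsFractionRing (MvPowerSeries (Fin r) k) E₀] [Algebra A E] [IsFractionRing A E]
  [Algebra (MvPowerSeries (Fin r) k) E] [IsScalarTower (MvPowerSeries (Fin r) k) A E]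
  [Algebra E₀ E] [IsScalarTower (MvPowerSeries (Fin r) k) E₀ E]
  [Algebra k E] [IsScalarTower k A E] [IsScalarTower k (MvPowerSeries (Fin r) k) E]
  [Algebra.IsSeparable E₀ E]

/-- the functional on the completed differentials attached to a derivation of `A`. -/
noncomputable def lamOf (DA : Derivation k A A) :
    AdicCompletion (maximalIdeal A) (Ω[A⁄k]) →ₗ[A] A :=
  (AdicCompletion.ofLinearEquiv (maximalIdeal A) A).symm.toLinearMap ∘ₗ
    AdicCompletion.map (maximalIdeal A) DA.liftKaehlerDifferential

omit [IsDomain A] [IsNoetherianRing A] in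
theorem lamOf_dhat (DA : Derivation k A A) (a : A) : lamOf DA (dhat (k := k) a) = DA a := by
  show (AdicCompletion.ofLinearEquiv (maximalIdeal A) A).symm
    (AdicCompletion.map (maximalIdeal A) DA.liftKaehlerDifferential
      (AdicCompletion.of (maximalIdeal A) (Ω[A⁄k]) (D k A a))) = DA a
  rw [AdicCompletion.map_of, AdicCompletion.ofLinearEquiv_symm_of,
    Derivation.liftKaehlerDifferential_comp_D]

include E₀ in
theorem linearIndependent_tmul :
    LinearIndependent E (fun i : Fin r =>
      (1 : E) ⊗ₜ[A] dhat (k := k) (algebraMap (MvPowerSeries (Fin r) k) A (X i))) := by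
  classical
  have hAE : Function.Injective (algebraMap A E) := IsFractionRing.injective A E
  rw [Fintype.linearIndependent_iff]
  intro c hc j
  obtain ⟨DE, hDE⟩ := exists_derivation_extension (k := k) (E₀ := E₀) (E := E) (pderiv k j)
  obtain ⟨γ, DA, hγ, hDA⟩ := exists_derivation_restrict (k := k) (A := A) (E := E) (pderiv k j) DE hDE
  let Lam : E ⊗[A] AdicCompletion (maximalIdeal A) (Ω[A⁄k]) →ₗ[E] E :=
    LinearMap.liftBaseChange E ((Algebra.linearMap A E) ∘ₗ lamOf DA)
  have hLam : ∀ i, Lam ((1 : E) ⊗ₜ[A] dhat (k := k) (algebraMap (MvPowerSeries (Fin r) k) A (X i))) =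
      if i = j then algebraMap A E γ else 0 := by
    intro i
    rw [LinearMap.liftBaseChange_tmul, one_smul]
    show algebraMap A E (lamOf DA (dhat (k := k) _)) = _
    rw [lamOf_dhat, hDA, ← IsScalarTower.algebraMap_apply, hDE]
    by_cases hij : i = j
    · subst hij
      rw [if_pos rfl, pderiv_X_self, map_one, mul_one]
    · rw [if_neg hij, pderiv_X_of_ne hij, map_zero, mul_zero]
  have h1 := congrArg Lam hc
  rw [map_sum, map_zero] at h1
  simp only [map_smul, hLam, smul_eq_mul, mul_ite, mul_zero, Finset.sum_ite_eq',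
    Finset.mem_univ, if_true] at h1
  rcases mul_eq_zero.mp h1 with h2 | h2
  · exact h2
  · exfalso
    exact hγ (hAE (by rw [h2, map_zero]))

end Indep



open IsLocalRing TensorProduct KaehlerDifferential MvPowerSeries

section Fin

variable {k : Type u} [Field k] {r : ℕ} {A : Type u} [CommRing A] [IsDomain A] [IsLocalRing A]
  [IsNoetherianRing A] [IsAdicComplete (maximalIdeal A) A]
  [Algebra (MvPowerSeries (Fin r) k) A] [Algebra k A] [IsScalarTower k (MvPowerSeries (Fin r) k) A]
  [Module.Finite (MvPowerSeries (Fin r) k) A]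
  {E₀ E : Type u} [Field E₀] [Field E] [Algebra (MvPowerSeries (Fin r) k) E₀]
  [IsFractionRing (MvPowerSeries (Fin r) k) E₀] [Algebra A E] [IsFractionRing A E]
  [Algebra (MvPowerSeries (Fin r) k) E] [IsScalarTower (MvPowerSeries (Fin r) k) A E]
  [Algebra E₀ E] [IsScalarTower (MvPowerSeries (Fin r) k) E₀ E]
  [Algebra k E] [IsScalarTower k A E] [IsScalarTower k (MvPowerSeries (Fin r) k) E]

omit [IsLocalRing A] [IsNoetherianRing A] [IsAdicComplete (maximalIdeal A) A] [Algebra k A]
  [IsScalarTower k (MvPowerSeries (Fin r) k) A] [Module.Finite (MvPowerSeries (Fin r) k) A]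
  [Algebra k E] [IsScalarTower k A E] [IsScalarTower k (MvPowerSeries (Fin r) k) E] in
/-- separability of the fraction field extension from the elementwise hypothesis. -/
theorem isSeparable_of_forall
    (hsep : ∀ a : A, ∃ F : Polynomial (MvPowerSeries (Fin r) k), Polynomial.aeval a F = 0 ∧
      (F.map (algebraMap (MvPowerSeries (Fin r) k) E₀)).Separable) :
    Algebra.IsSeparable E₀ E := by
  have hA : ∀ a : A, IsSeparable E₀ (algebraMap A E a) := by
    intro a
    obtain ⟨F, hF, hFsep⟩ := hsep a
    have h0 : Polynomial.aeval (algebraMap A E a)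
        (F.map (algebraMap (MvPowerSeries (Fin r) k) E₀)) = 0 := by
      rw [Polynomial.aeval_map_algebraMap, Polynomial.aeval_algebraMap_apply, hF, map_zero]
    exact hFsep.of_dvd (minpoly.dvd E₀ _ h0)
  refine ⟨fun x => ?_⟩
  obtain ⟨a, b, hb, rfl⟩ := IsFractionRing.div_surjective (A := A) x
  exact mem_separableClosure_iff.mp (div_mem (mem_separableClosure_iff.mpr (hA a))
    (mem_separableClosure_iff.mpr (hA b)))

theorem finrank_eq (hinj : Function.Injective (algebraMap (MvPowerSeries (Fin r) k) A))
    (hsep : ∀ a : A, ∃ F : Polynomial (MvPowerSeries (Fin r) k), Polynomial.aeval a F = 0 ∧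
      (F.map (algebraMap (MvPowerSeries (Fin r) k) E₀)).Separable) :
    Module.finrank E (E ⊗[A] AdicCompletion (maximalIdeal A) (Ω[A⁄k])) = r := by
  haveI := isSeparable_of_forall (A := A) (E₀ := E₀) (E := E) hsep
  have hli := linearIndependent_tmul (k := k) (r := r) (A := A) (E₀ := E₀) (E := E)
  have hsp := span_eq_top (k := k) (r := r) (A := A) (E₀ := E₀) (E := E) hinj hsep
  let b := Module.Basis.mk hli hsp.ge
  rw [Module.finrank_eq_card_basis b, Fintype.card_fin]

end Fin



open IsLocalRing TensorProduct KaehlerDifferential MvPowerSeries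

theorem t4557main (k : Type u) [Field k] (r : ℕ) (A : Type u) [CommRing A]
    [IsDomain A] [IsLocalRing A] [IsNoetherianRing A] [IsAdicComplete (maximalIdeal A) A]
    [Algebra (MvPowerSeries (Fin r) k) A] [Algebra k A] [IsScalarTower k (MvPowerSeries (Fin r) k) A]
    (hinj : Function.Injective (algebraMap (MvPowerSeries (Fin r) k) A)) [Module.Finite (MvPowerSeries (Fin r) k) A]
    (hsep : ∀ a : A, ∃ P : Polynomial (MvPowerSeries (Fin r) k), Polynomial.aeval a P = 0 ∧
      (P.map (algebraMap (MvPowerSeries (Fin r) k) (FractionRing (MvPowerSeries (Fin r) k)))).Separable) :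
    Module.finrank (FractionRing A) (FractionRing A ⊗[A] AdicCompletion (maximalIdeal A) (Ω[A⁄k])) = r := by
  have hinjE : Function.Injective (algebraMap (MvPowerSeries (Fin r) k) (FractionRing A)) := by
    rw [IsScalarTower.algebraMap_eq (MvPowerSeries (Fin r) k) A (FractionRing A)]
    exact (IsFractionRing.injective A (FractionRing A)).comp hinj
  letI : Algebra (FractionRing (MvPowerSeries (Fin r) k)) (FractionRing A) :=
    (IsFractionRing.lift hinjE).toAlgebra
  haveI : IsScalarTower (MvPowerSeries (Fin r) k) (FractionRing (MvPowerSeries (Fin r) k))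
      (FractionRing A) :=
    IsScalarTower.of_algebraMap_eq (fun x => (IsFractionRing.lift_algebraMap hinjE x).symm)
  haveI : IsScalarTower k (MvPowerSeries (Fin r) k) (FractionRing A) :=
    IsScalarTower.of_algebraMap_eq (fun x => by
      rw [IsScalarTower.algebraMap_apply k A (FractionRing A),
        IsScalarTower.algebraMap_apply k (MvPowerSeries (Fin r) k) A,
        ← IsScalarTower.algebraMap_apply (MvPowerSeries (Fin r) k) A (FractionRing A)])
  exact finrank_eq (k := k) (r := r) (A := A) (E₀ := FractionRing (MvPowerSeries (Fin r) k))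
    (E := FractionRing A) hinj hsep

end Groth.Agent.Lib.Helper23.CompletedKaehlerSep
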