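import Mathlib
import Groth.Agent.Lib.Helper23.CompletedKaehlerSep

/-!
Completed Kähler differentials of a complete local k-algebra with finite residue extension (EGA 0_IV 20.7 / IV 18.11): span_dhat (generated by the d̂a), lift_ext, exists_lift (universal property for k-derivations into finite modules), lift_surjective.
-/

set_option autoImplicit false
universe u


namespace Groth.Agent.Lib.Helper23.CK


open IsLocalRing TensorProduct KaehlerDifferential
open Groth.Agent.Lib.Helper23.CompletedKaehlerSep

section UP

variable {k A : Type u} [Field k] [CommRing A] [IsLocalRing A] [IsNoetherianRing A]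
  [IsAdicComplete (maximalIdeal A) A] [Algebra k A] [Module.Finite k (ResidueField A)]

/-- the completed differentials are generated by the `d̂ a`. -/
theorem span_dhat :
    Submodule.span A (Set.range (dhat (k := k) (A := A))) = ⊤ := by
  have key : ∀ ω : Ω[A⁄k], AdicCompletion.of (maximalIdeal A) (Ω[A⁄k]) ω ∈
      Submodule.span A (Set.range (dhat (k := k) (A := A))) := by
    intro ω
    have hω : ω ∈ Submodule.span A (Set.range (D k A)) := by
      rw [KaehlerDifferential.span_range_derivation]; trivial
    induction hω using Submodule.span_induction with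
    | mem x hx =>
      obtain ⟨a, rfl⟩ := hx
      exact Submodule.subset_span ⟨a, rfl⟩
    | zero => rw [map_zero]; exact Submodule.zero_mem _
    | add x y _ _ hx hy => rw [map_add]; exact Submodule.add_mem _ hx hy
    | smul c x _ hx => rw [map_smul]; exact Submodule.smul_mem _ c hx
  rw [eq_top_iff]
  intro y _
  obtain ⟨ω, rfl⟩ := of_kaehler_surjective (k := k) (A := A) y
  exact key ω
/-- two linear maps out of the completed differentials agreeing on the `d̂ a` are equal. -/
theorem lift_ext {N : Type*} [AddCommGroup N] [Module A N]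
    (l₁ l₂ : AdicCompletion (maximalIdeal A) (Ω[A⁄k]) →ₗ[A] N)
    (h : ∀ a, l₁ (dhat (k := k) a) = l₂ (dhat (k := k) a)) : l₁ = l₂ := by
  apply LinearMap.ext_on (span_dhat (k := k) (A := A))
  rintro _ ⟨a, rfl⟩
  exact h a

/-- universal property of the completed differentials for derivations into finite modules. -/
theorem exists_lift {N : Type u} [AddCommGroup N] [Module A N] [Module k N] [IsScalarTower k A N]
    [Module.Finite A N] (D' : Derivation k A N) :
    ∃ l : AdicCompletion (maximalIdeal A) (Ω[A⁄k]) →ₗ[A] N, ∀ a, l (dhat (k := k) a) = D' a := by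
  let L : Ω[A⁄k] →ₗ[A] N := D'.liftKaehlerDifferential
  have hL : ∀ a, L (D k A a) = D' a := fun a => Derivation.liftKaehlerDifferential_comp_D D' a
  have hne : maximalIdeal A ≠ ⊤ := (maximalIdeal.isMaximal A).ne_top
  have hker : LinearMap.ker (AdicCompletion.of (maximalIdeal A) (Ω[A⁄k])) ≤ LinearMap.ker L := by
    intro ω hω
    rw [LinearMap.mem_ker] at hω ⊢
    have h1 : ∀ n : ℕ, ω ∈ (maximalIdeal A ^ n • ⊤ : Submodule A Ω[A⁄k]) := by
      intro n
      have h2 := congrArg (fun z => (z : AdicCompletion (maximalIdeal A) (Ω[A⁄k])).val n) hω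
      simp only [AdicCompletion.of_apply] at h2
      rw [AdicCompletion.val_zero, Pi.zero_apply] at h2
      exact (Submodule.Quotient.mk_eq_zero _).mp h2
    have h3 : ∀ n : ℕ, L ω ∈ (maximalIdeal A ^ n • ⊤ : Submodule A N) := by
      intro n
      have h4 := Submodule.mem_map_of_mem (f := L) (h1 n)
      rw [Submodule.map_smul''] at h4
      exact Submodule.smul_mono le_rfl le_top h4
    have h5 : L ω ∈ (⨅ n : ℕ, (maximalIdeal A ^ n • ⊤ : Submodule A N)) :=
      (Submodule.mem_iInf _).mpr h3
    rw [Ideal.iInf_pow_smul_eq_bot_of_isLocalRing (maximalIdeal A) hne] at h5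
    exact (Submodule.mem_bot A).mp h5
  let e := LinearMap.quotKerEquivOfSurjective (AdicCompletion.of (maximalIdeal A) (Ω[A⁄k]))
    (of_kaehler_surjective (k := k) (A := A))
  let l₀ : (Ω[A⁄k] ⧸ LinearMap.ker (AdicCompletion.of (maximalIdeal A) (Ω[A⁄k]))) →ₗ[A] N :=
    Submodule.liftQ _ L hker
  refine ⟨l₀ ∘ₗ e.symm.toLinearMap, fun a => ?_⟩
  have h6 : e.symm (dhat (k := k) a) = Submodule.Quotient.mk (D k A a) := by
    rw [LinearEquiv.symm_apply_eq]
    rfl
  rw [LinearMap.comp_apply, LinearEquiv.coe_coe, h6]
  show L (D k A a) = D' a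
  exact hL a

/-- the lift of a derivation whose values generate is surjective. -/
theorem lift_surjective {N : Type*} [AddCommGroup N] [Module A N]
    (l : AdicCompletion (maximalIdeal A) (Ω[A⁄k]) →ₗ[A] N)
    (h : Submodule.span A (Set.range fun a => l (dhat (k := k) a)) = ⊤) :
    Function.Surjective l := by
  rw [← LinearMap.range_eq_top, eq_top_iff, ← h, Submodule.span_le]
  rintro _ ⟨a, rfl⟩
  exact ⟨_, rfl⟩

end UP

end Groth.Agent.Lib.Helper23.CK
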