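import Mathlib

/-!
Elementwise generation of a module at a prime: GenAt p x (forall y exists s notin p, s • y in span x); GenAt.mem_span_image / span_image_eq_top (images span after inverting A∖p), GenAt.map, GenAt.mono, GenAt.of_surjective, span_one_tmul_eq_top, GenAt.span_tmul, genAt_of_span_tmul (Nakayama: generators of the fibre κ(p)⊗M generate at p), GenAt.span_localized, genAt_of_span_localized, exists_genAt_of_span_localized, GenAt.finrank_le, exists_genAt_finrank, exists_perturbation (perturb m ≥ dim V vectors by elements of a spanning set containing 0 so that they span).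
-/

set_option autoImplicit false
universe u


namespace Groth.Agent.Lib.Helper23.CK


open TensorProduct

section GenAtSec

variable {A : Type*} [CommRing A] (p : Ideal A) {M : Type*} [AddCommGroup M] [Module A M]

/-- the family `x` generates the module `M` at the prime `p` (elementwise form). -/
def GenAt {ι : Type*} (x : ι → M) : Prop :=
  ∀ y : M, ∃ s : A, s ∉ p ∧ s • y ∈ Submodule.span A (Set.range x)

variable {p}

theorem GenAt.mem_span_image {ι : Type*} {x : ι → M} (h : GenAt p x)
    {K' M' : Type*} [CommRing K'] [Algebra A K'] [AddCommGroup M'] [Module A M'] [Module K' M']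
    [IsScalarTower A K' M'] (hunit : ∀ s : A, s ∉ p → IsUnit (algebraMap A K' s))
    (f : M →ₗ[A] M') (y : M) : f y ∈ Submodule.span K' (Set.range (f ∘ x)) := by
  obtain ⟨s, hs, hsy⟩ := h y
  have h1 : f (s • y) ∈ Submodule.span A (Set.range (f ∘ x)) := by
    rw [Set.range_comp, ← Submodule.map_span]
    exact Submodule.mem_map_of_mem hsy
  have h2 : f (s • y) ∈ Submodule.span K' (Set.range (f ∘ x)) :=
    Submodule.span_le_restrictScalars A K' _ h1
  rw [map_smul, ← algebraMap_smul K' s (f y)] at h2
  obtain ⟨u, hu⟩ := hunit s hs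
  have h3 : f y = (↑u⁻¹ : K') • (algebraMap A K' s • f y) := by
    rw [smul_smul, ← hu, Units.inv_mul, one_smul]
  rw [h3]
  exact Submodule.smul_mem _ _ h2

theorem GenAt.span_image_eq_top {ι : Type*} {x : ι → M} (h : GenAt p x)
    {K' M' : Type*} [CommRing K'] [Algebra A K'] [AddCommGroup M'] [Module A M'] [Module K' M']
    [IsScalarTower A K' M'] (hunit : ∀ s : A, s ∉ p → IsUnit (algebraMap A K' s))
    (f : M →ₗ[A] M') (hf : Submodule.span K' (Set.range f) = ⊤) :
    Submodule.span K' (Set.range (f ∘ x)) = ⊤ := by
  rw [eq_top_iff, ← hf, Submodule.span_le]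
  rintro _ ⟨y, rfl⟩
  exact h.mem_span_image hunit f y

theorem GenAt.map {ι : Type*} {x : ι → M} (h : GenAt p x) {M' : Type*} [AddCommGroup M']
    [Module A M'] (f : M →ₗ[A] M') (hf : Function.Surjective f) : GenAt p (f ∘ x) := by
  intro y'
  obtain ⟨y, rfl⟩ := hf y'
  obtain ⟨s, hs, hsy⟩ := h y
  refine ⟨s, hs, ?_⟩
  rw [← map_smul, Set.range_comp, ← Submodule.map_span]
  exact Submodule.mem_map_of_mem hsy

theorem GenAt.mono {ι : Type*} {x : ι → M} (h : GenAt p x) {p' : Ideal A} (hp : p' ≤ p) :
    GenAt p' x := by
  intro y
  obtain ⟨s, hs, hsy⟩ := h y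
  exact ⟨s, fun h' => hs (hp h'), hsy⟩

/-- change of rings along a surjection. -/
theorem GenAt.of_surjective {ι : Type*} {x : ι → M} (h : GenAt p x) {B : Type*} [CommRing B]
    [Algebra A B] [Module B M] [IsScalarTower A B M] (P : Ideal B)
    (hP : P.comap (algebraMap A B) ≤ p) : GenAt P x := by
  intro y
  obtain ⟨s, hs, hsy⟩ := h y
  refine ⟨algebraMap A B s, fun h' => hs (hP h'), ?_⟩
  rw [algebraMap_smul]
  exact Submodule.span_le_restrictScalars A B _ hsy

theorem span_one_tmul_eq_top (K' : Type*) [CommRing K'] [Algebra A K'] :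
    Submodule.span K' (Set.range (TensorProduct.mk A K' M 1)) = ⊤ := by
  have key : ∀ z : K' ⊗[A] M, z ∈ Submodule.span K' (Set.range (TensorProduct.mk A K' M 1)) := by
    intro z
    induction z using TensorProduct.induction_on with
    | zero => exact Submodule.zero_mem _
    | tmul c m =>
      have : c ⊗ₜ[A] m = c • ((1 : K') ⊗ₜ[A] m) := by
        rw [TensorProduct.smul_tmul', smul_eq_mul, mul_one]
      rw [this]
      exact Submodule.smul_mem _ _ (Submodule.subset_span ⟨m, rfl⟩)
    | add a b ha hb => exact Submodule.add_mem _ ha hb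
  exact eq_top_iff.mpr fun z _ => key z

variable (p) in
theorem isUnit_algebraMap_residueField [p.IsPrime] (s : A) (hs : s ∉ p) :
    IsUnit (algebraMap A p.ResidueField s) := by
  rw [isUnit_iff_ne_zero, Ne, Ideal.algebraMap_residueField_eq_zero]
  exact hs

theorem GenAt.span_tmul [p.IsPrime] {ι : Type*} {x : ι → M} (h : GenAt p x) :
    Submodule.span p.ResidueField (Set.range fun i => (1 : p.ResidueField) ⊗ₜ[A] x i) = ⊤ :=
  h.span_image_eq_top (isUnit_algebraMap_residueField p) (TensorProduct.mk A p.ResidueField M 1)
    (span_one_tmul_eq_top _)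

/-- Nakayama: a family generating the fibre generates at the prime. -/
theorem genAt_of_span_tmul [p.IsPrime] [Module.Finite A M] {ι : Type*} (x : ι → M)
    (h : Submodule.span p.ResidueField (Set.range fun i => (1 : p.ResidueField) ⊗ₜ[A] x i) = ⊤) :
    GenAt p x := by
  set N := Submodule.span A (Set.range x) with hN
  let g : p.ResidueField ⊗[A] M →ₗ[p.ResidueField] p.ResidueField ⊗[A] (M ⧸ N) :=
    LinearMap.baseChange p.ResidueField N.mkQ
  have hg0 : ∀ z, g z = 0 := by
    intro z
    have hz : z ∈ Submodule.span p.ResidueField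
        (Set.range fun i => (1 : p.ResidueField) ⊗ₜ[A] x i) := by rw [h]; trivial
    induction hz using Submodule.span_induction with
    | mem z hz =>
      obtain ⟨i, rfl⟩ := hz
      show (LinearMap.baseChange p.ResidueField N.mkQ) ((1 : p.ResidueField) ⊗ₜ[A] x i) = 0
      rw [LinearMap.baseChange_tmul, Submodule.mkQ_apply,
        (Submodule.Quotient.mk_eq_zero N).mpr (Submodule.subset_span ⟨i, rfl⟩),
        TensorProduct.tmul_zero]
    | zero => exact map_zero _
    | add a b _ _ ha hb => rw [map_add, ha, hb, add_zero]
    | smul c a _ ha => rw [map_smul, ha, smul_zero]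
  have hgs : Function.Surjective g := by
    have := LinearMap.lTensor_surjective p.ResidueField (Submodule.mkQ_surjective N)
    exact this
  haveI : Subsingleton (p.ResidueField ⊗[A] (M ⧸ N)) := by
    refine ⟨fun a b => ?_⟩
    obtain ⟨a', rfl⟩ := hgs a
    obtain ⟨b', rfl⟩ := hgs b
    rw [hg0, hg0]
  have hsupp : (⟨p, inferInstance⟩ : PrimeSpectrum A) ∉ Module.support A (M ⧸ N) := by
    rw [Module.mem_support_iff_nontrivial_residueField_tensorProduct]
    exact not_nontrivial _
  rw [Module.notMem_support_iff'] at hsupp
  intro y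
  obtain ⟨r, hr, hry⟩ := hsupp (N.mkQ y)
  refine ⟨r, hr, ?_⟩
  rw [← map_smul, Submodule.mkQ_apply, Submodule.Quotient.mk_eq_zero] at hry
  exact hry

theorem GenAt.span_localized [p.IsPrime] {ι : Type*} {x : ι → M} (h : GenAt p x) :
    Submodule.span (Localization.AtPrime p)
      (Set.range fun i => LocalizedModule.mkLinearMap p.primeCompl M (x i)) = ⊤ := by
  refine h.span_image_eq_top (K' := Localization.AtPrime p)
    (fun s hs => IsLocalization.map_units (M := p.primeCompl) _ ⟨s, hs⟩)
    (LocalizedModule.mkLinearMap p.primeCompl M) ?_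
  have := span_eq_top_of_isLocalizedModule (Localization.AtPrime p) p.primeCompl
    (LocalizedModule.mkLinearMap p.primeCompl M) (v := Set.univ) (by simp)
  rwa [Set.image_univ] at this

/-- converse: generation of the localized module gives generation at `p`. -/
theorem genAt_of_span_localized [p.IsPrime] {ι : Type*} [Finite ι] (x : ι → M)
    (h : Submodule.span (Localization.AtPrime p)
      (Set.range fun i => LocalizedModule.mkLinearMap p.primeCompl M (x i)) = ⊤) :
    GenAt p x := by
  classical
  haveI := Fintype.ofFinite ι
  intro z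
  have hz : LocalizedModule.mkLinearMap p.primeCompl M z ∈
      Submodule.span (Localization.AtPrime p)
        (Set.range fun i => LocalizedModule.mkLinearMap p.primeCompl M (x i)) := by
    rw [h]; trivial
  rw [Submodule.mem_span_range_iff_exists_fun] at hz
  obtain ⟨c, hc⟩ := hz
  obtain ⟨d, hd⟩ := IsLocalization.exist_integer_multiples_of_finite p.primeCompl c
  choose a ha using hd
  have h1 : LocalizedModule.mkLinearMap p.primeCompl M ((d : A) • z - ∑ i, a i • x i) = 0 := by
    rw [map_sub, map_smul, ← hc, map_sum, Finset.smul_sum, sub_eq_zero]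
    refine Finset.sum_congr rfl fun i _ => ?_
    rw [map_smul, ← algebraMap_smul (Localization.AtPrime p) (a i), ha i, smul_assoc]
  obtain ⟨s', hs'⟩ := (IsLocalizedModule.eq_zero_iff p.primeCompl
    (LocalizedModule.mkLinearMap p.primeCompl M)).mp h1
  refine ⟨(s' : A) * (d : A), p.primeCompl.mul_mem s'.2 d.2, ?_⟩
  have h2 : ((s' : A) * (d : A)) • z = ∑ i, ((s' : A) * a i) • x i := by
    have h3 : (s' : A) • ((d : A) • z - ∑ i, a i • x i) = 0 := hs'
    rw [smul_sub, sub_eq_zero, Finset.smul_sum] at h3
    rw [mul_smul, h3]
    exact Finset.sum_congr rfl fun i _ => (mul_smul _ _ _).symm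
  rw [h2]
  exact Submodule.sum_mem _ fun i _ => Submodule.smul_mem _ _ (Submodule.subset_span ⟨i, rfl⟩)

/-- from generators of the localized module to a family generating at `p`. -/
theorem exists_genAt_of_span_localized [p.IsPrime] {m : ℕ}
    (s : Fin m → LocalizedModule p.primeCompl M)
    (hs : Submodule.span (Localization.AtPrime p) (Set.range s) = ⊤) :
    ∃ x : Fin m → M, GenAt p x := by
  classical
  choose yt hyt using fun i => IsLocalizedModule.surj p.primeCompl
    (LocalizedModule.mkLinearMap p.primeCompl M) (s i)
  refine ⟨fun i => (yt i).1, genAt_of_span_localized _ ?_⟩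
  rw [eq_top_iff, ← hs, Submodule.span_le]
  rintro _ ⟨i, rfl⟩
  have hu : IsUnit (algebraMap A (Localization.AtPrime p) ((yt i).2 : A)) :=
    IsLocalization.map_units (M := p.primeCompl) _ (yt i).2
  obtain ⟨u, hu'⟩ := hu
  have h1 : s i = (↑u⁻¹ : Localization.AtPrime p) •
      LocalizedModule.mkLinearMap p.primeCompl M (yt i).1 := by
    rw [← hyt i, Submonoid.smul_def, ← algebraMap_smul (Localization.AtPrime p) ((yt i).2 : A),
      smul_smul, ← hu', Units.inv_mul, one_smul]
  rw [h1]
  exact Submodule.smul_mem _ _ (Submodule.subset_span ⟨i, rfl⟩)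

end GenAtSec



open TensorProduct

section Fin

variable {A : Type*} [CommRing A] {p : Ideal A} {M : Type*} [AddCommGroup M] [Module A M]

theorem GenAt.finrank_le [p.IsPrime] {m : ℕ} {x : Fin m → M} (h : GenAt p x) :
    Module.finrank p.ResidueField (p.ResidueField ⊗[A] M) ≤ m := by
  have h1 := h.span_tmul
  have h2 := finrank_range_le_card (R := p.ResidueField)
    (fun i : Fin m => (1 : p.ResidueField) ⊗ₜ[A] x i)
  rw [Set.finrank, h1, finrank_top, Fintype.card_fin] at h2
  exact h2

theorem exists_genAt_finrank [p.IsPrime] [Module.Finite A M] :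
    ∃ x : Fin (Module.finrank p.ResidueField (p.ResidueField ⊗[A] M)) → M, GenAt p x := by
  classical
  obtain ⟨b, hbS, hbspan, hbli⟩ := exists_linearIndependent p.ResidueField
    (Set.range (TensorProduct.mk A p.ResidueField M 1))
  rw [span_one_tmul_eq_top] at hbspan
  let B : Module.Basis ↥b p.ResidueField (p.ResidueField ⊗[A] M) :=
    Module.Basis.mk hbli (by rw [Subtype.range_coe_subtype, Set.setOf_mem_eq, hbspan])
  haveI : Finite ↥b := Module.Finite.finite_basis B
  haveI : Fintype ↥b := Fintype.ofFinite _
  have hcard : Fintype.card ↥b = Module.finrank p.ResidueField (p.ResidueField ⊗[A] M) :=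
    (Module.finrank_eq_card_basis B).symm
  let e : Fin (Module.finrank p.ResidueField (p.ResidueField ⊗[A] M)) ≃ ↥b :=
    (Fintype.equivFinOfCardEq hcard).symm
  choose m hm using fun v : ↥b => hbS v.2
  refine ⟨fun j => m (e j), genAt_of_span_tmul _ ?_⟩
  rw [eq_top_iff, ← hbspan, Submodule.span_le]
  intro v hv
  refine Submodule.subset_span ⟨e.symm ⟨v, hv⟩, ?_⟩
  show (1 : p.ResidueField) ⊗ₜ[A] m (e (e.symm ⟨v, hv⟩)) = v
  rw [Equiv.apply_symm_apply]
  exact hm ⟨v, hv⟩

end Fin

section Perturb

variable {K V : Type*} [Field K] [AddCommGroup V] [Module K V] [FiniteDimensional K V]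

theorem exists_perturbation (S : Set V) (hS : Submodule.span K S = ⊤) (h0 : (0 : V) ∈ S)
    {ι : Type*} [Fintype ι] (hι : Module.finrank K V ≤ Fintype.card ι) (v : ι → V) :
    ∃ w : ι → V, (∀ i, w i ∈ S) ∧ Submodule.span K (Set.range (v + w)) = ⊤ := by
  classical
  have key : ∀ s : Finset ι, ∃ w : ι → V, (∀ i, w i ∈ S) ∧
      min s.card (Module.finrank K V) ≤
        Module.finrank K (Submodule.span K ((v + w) '' (s : Set ι))) := by
    intro s
    induction s using Finset.induction_on with
    | empty => exact ⟨fun _ => 0, fun _ => h0, by simp⟩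
    | insert a s ha ih =>
      obtain ⟨w, hw, hle⟩ := ih
      set U := Submodule.span K ((v + w) '' (s : Set ι)) with hU
      by_cases hfull : Module.finrank K V ≤ Module.finrank K U
      · refine ⟨w, hw, le_trans (min_le_right _ _) (le_trans hfull ?_)⟩
        apply Submodule.finrank_mono
        apply Submodule.span_mono
        apply Set.image_mono
        rw [Finset.coe_insert]
        exact Set.subset_insert _ _
      · push_neg at hfull
        have hUne : U ≠ ⊤ := by
          intro h
          rw [h, finrank_top] at hfull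
          exact lt_irrefl _ hfull
        obtain ⟨y, hyS, hyU⟩ : ∃ y ∈ S, y ∉ U := by
          by_contra hcon
          push_neg at hcon
          apply hUne
          rw [eq_top_iff, ← hS, Submodule.span_le]
          exact hcon
        obtain ⟨z, hzS, hzU⟩ : ∃ z ∈ S, v a + z ∉ U := by
          by_cases hva : v a ∈ U
          · refine ⟨y, hyS, fun h => hyU ?_⟩
            have := U.sub_mem h hva
            rwa [add_sub_cancel_left] at this
          · exact ⟨0, h0, by rwa [add_zero]⟩
        refine ⟨Function.update w a z, ?_, ?_⟩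
        · intro i
          by_cases hi : i = a
          · subst hi; rw [Function.update_self]; exact hzS
          · rw [Function.update_of_ne hi]; exact hw i
        · have himg : (v + Function.update w a z) '' ((insert a s : Finset ι) : Set ι) =
              insert (v a + z) ((v + w) '' (s : Set ι)) := by
            rw [Finset.coe_insert, Set.image_insert_eq]
            congr 1
            · simp
            · apply Set.image_congr
              intro i hi
              have hia : i ≠ a := fun h => ha (h ▸ hi)
              simp [Function.update_of_ne hia]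
          rw [himg]
          have hlt : U < Submodule.span K (insert (v a + z) ((v + w) '' (s : Set ι))) := by
            refine lt_of_le_of_ne (Submodule.span_mono (Set.subset_insert _ _)) ?_
            intro h
            apply hzU
            rw [h]
            exact Submodule.subset_span (Set.mem_insert _ _)
          have h1 := Submodule.finrank_lt_finrank_of_lt hlt
          rw [Finset.card_insert_of_notMem ha]
          have h2 : min s.card (Module.finrank K V) ≤ Module.finrank K U := hle
          omega
  obtain ⟨w, hw, hle⟩ := key Finset.univ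
  refine ⟨w, hw, ?_⟩
  rw [Finset.coe_univ, Set.image_univ, Finset.card_univ, min_eq_right hι] at hle
  exact Submodule.eq_top_of_finrank_eq (le_antisymm (Submodule.finrank_le _) hle)

end Perturb

end Groth.Agent.Lib.Helper23.CK
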