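import Mathlib
import Groth.Agent.Lib.Helper23.CompletedKaehler
import Groth.Agent.Lib.Helper23.Cartier

/-!
Finiteness of completed differentials (EGA 0_IV 20.7.15-type) and the inequality rank Omega_{L/k} - rank Omega_{K/k} >= trdeg_K L.
-/

set_option autoImplicit false
universe u v w


namespace Groth.Agent.Lib.Helper23.CompletedKaehler2


open IsLocalRing TensorProduct KaehlerDifferential Module

open Groth.Agent.Lib.Helper23 Groth.Agent.Lib.Helper23.CompletedKaehler

section Fin

variable {A : Type u} [CommRing A] [IsLocalRing A] [IsAdicComplete (maximalIdeal A) A]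

/-- the completion of a module with finite-dimensional fibre over a complete local ring is finite. -/
theorem finite_adicCompletion {M : Type u} [AddCommGroup M] [Module A M]
    [Module.Finite (ResidueField A) (ResidueField A ⊗[A] M)] :
    Module.Finite A (AdicCompletion (maximalIdeal A) M) := by
  classical
  set r := Module.finrank (ResidueField A) (ResidueField A ⊗[A] M) with hr
  let b : Module.Basis (Fin r) (ResidueField A) (ResidueField A ⊗[A] M) :=
    Module.finBasis _ _
  have hmk : Function.Surjective (TensorProduct.mk A (ResidueField A) M 1) :=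
    TensorProduct.mk_surjective A M (ResidueField A) residue_surjective
  choose ω hω using fun i => hmk (b i)
  have hb : ∀ i, b i = (1 : ResidueField A) ⊗ₜ[A] ω i := fun i => (hω i).symm
  let Ψ : (Fin r → A) →ₗ[A] M := Fintype.linearCombination A ω
  have hΨ : ∀ c, Ψ c = ∑ i, c i • ω i := fun c => Fintype.linearCombination_apply A ω c
  haveI := isAdicComplete_pi (maximalIdeal A) r
  have hsurj : Function.Surjective
      ((maximalIdeal A • (⊤ : Submodule A M)).mkQ ∘ₗ Ψ) := by
    intro y'
    obtain ⟨y, rfl⟩ := Submodule.mkQ_surjective _ y'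
    choose a ha using fun i => residue_surjective (b.repr ((1 : ResidueField A) ⊗ₜ[A] y) i)
    refine ⟨a, ?_⟩
    rw [LinearMap.comp_apply, Submodule.mkQ_apply, Submodule.mkQ_apply, Submodule.Quotient.eq]
    apply mem_smul_top_of_tmul_eq_zero
    rw [TensorProduct.tmul_sub, sub_eq_zero, hΨ, TensorProduct.tmul_sum]
    conv_rhs => rw [← b.sum_repr ((1 : ResidueField A) ⊗ₜ[A] y)]
    apply Finset.sum_congr rfl
    intro i _
    rw [TensorProduct.tmul_smul, ← hb, ← ha i]
    rw [← algebraMap_smul (ResidueField A) (a i) (b i)]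
    rfl
  have hmapsurj := AdicCompletion.map_surjective_of_mkQ_comp_surjective hsurj
  let Φ : (Fin r → A) →ₗ[A] AdicCompletion (maximalIdeal A) M :=
    (AdicCompletion.of (maximalIdeal A) M) ∘ₗ Ψ
  have hΦsurj : Function.Surjective Φ := by
    intro y
    obtain ⟨x, hx⟩ := hmapsurj y
    obtain ⟨c, hc⟩ := AdicCompletion.of_surjective (maximalIdeal A) (Fin r → A) x
    refine ⟨c, ?_⟩
    show AdicCompletion.of (maximalIdeal A) M (Ψ c) = y
    rw [← AdicCompletion.map_of, hc, hx]
  exact Module.Finite.of_surjective Φ hΦsurj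

end Fin

theorem t4528main {k A : Type u} [Field k] [CommRing A] [IsLocalRing A]
    [IsNoetherianRing A] [IsAdicComplete (maximalIdeal A) A] [Algebra k A]
    [Algebra.EssFiniteType k (ResidueField A)] :
    Module.Finite A (AdicCompletion (maximalIdeal A) (Ω[A⁄k])) := by
  haveI : Module.Finite (ResidueField A) (ResidueField A ⊗[A] Ω[A⁄k]) := finite_tensor_kaehler
  exact finite_adicCompletion



open TensorProduct KaehlerDifferential Module

open Groth.Agent.Lib.Helper23 Groth.Agent.Lib.Helper23.Cartier

theorem t4526main {k K L : Type u} [Field k] [Field K] [Field L]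
    [Algebra k K] [Algebra K L] [Algebra k L] [IsScalarTower k K L] [Algebra.EssFiniteType k L] :
    Module.Finite L (Ω[L⁄k]) ∧ Module.Finite K (Ω[K⁄k]) ∧
      (Cardinal.toNat (Algebra.trdeg K L) : ℤ) ≤ (Module.finrank L (Ω[L⁄k]) : ℤ) - Module.finrank K (Ω[K⁄k]) := by
  haveI : Algebra.EssFiniteType K L := Algebra.EssFiniteType.of_comp k K L
  obtain ⟨h1, h2, h3⟩ := t4525main (k := k) (K := K) (L := L)
  let f := mapBaseChange k K L
  have hker : LinearMap.ker f = EGA41.imperfection k K L := rfl
  haveI : Module.Finite L (LinearMap.ker f) := h2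
  -- `L ⊗ Ω_{K/k}` is finite-dimensional
  haveI hfinT : Module.Finite L (L ⊗[K] Ω[K⁄k]) := by
    have h4 : (LinearMap.ker f).FG := Module.Finite.iff_fg.mp inferInstance
    have h5 : ((⊤ : Submodule L (L ⊗[K] Ω[K⁄k])).map f).FG := IsNoetherian.noetherian _
    exact ⟨Submodule.fg_of_fg_map_of_fg_inf_ker f h5 (by rwa [top_inf_eq])⟩
  have hfinK : Module.Finite K (Ω[K⁄k]) := by
    rw [← Module.rank_lt_aleph0_iff]
    have h6 : Module.rank L (L ⊗[K] Ω[K⁄k]) < Cardinal.aleph0 := Module.rank_lt_aleph0_iff.mpr hfinT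
    rw [Module.rank_baseChange, Cardinal.lift_lt_aleph0] at h6
    exact h6
  refine ⟨inferInstance, hfinK, ?_⟩
  let e : (Ω[L⁄k] ⧸ LinearMap.range f) ≃ₗ[L] Ω[L⁄K] :=
    (exact_mapBaseChange_map k K L).linearEquivOfSurjective (map_surjective k K L)
  have e1 := LinearMap.finrank_range_add_finrank_ker f
  have e2 := Submodule.finrank_quotient_add_finrank (LinearMap.range f)
  rw [e.finrank_eq] at e2
  have e3 : Module.finrank L (L ⊗[K] Ω[K⁄k]) = Module.finrank K (Ω[K⁄k]) :=
    Module.finrank_baseChange
  rw [e3, hker] at e1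
  have e1' : (Module.finrank L (LinearMap.range f) : ℤ) + Module.finrank L (EGA41.imperfection k K L)
      = Module.finrank K (Ω[K⁄k]) := by exact_mod_cast e1
  have e2' : (Module.finrank L (Ω[L⁄K]) : ℤ) + Module.finrank L (LinearMap.range f)
      = Module.finrank L (Ω[L⁄k]) := by exact_mod_cast e2
  linarith

end Groth.Agent.Lib.Helper23.CompletedKaehler2
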