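import Mathlib
import Groth.Agent.Lib.Helper23.CK2
import Groth.Agent.Lib.Helper23.CompletedKaehler2

/-!
Cartier-type bound: exists_derivation_extension_etale (derivations extend along formally étale algebras, any base ring), exists_derivation_fractionField (R'-derivation of R extends to a Frac R'-derivation of Frac R), le_finrank_kaehler_of_derivations, span_range_map_kaehler, le_of_genAt_kaehler (if R has n derivations over R' dual to elements and Ω_{B/R'} is generically generated by r elements, B f.t. domain over R', Frac R ⊂ Frac B, then n ≤ r; via Cartier's inequality t4526main).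
-/

set_option autoImplicit false
universe u


namespace Groth.Agent.Lib.Helper23.CK


open TensorProduct KaehlerDifferential

section ExtDer

/-- derivations extend along formally étale algebras (arbitrary base ring). -/
theorem exists_derivation_extension_etale {k P E : Type u} [CommRing k] [CommRing P] [Algebra k P]
    [CommRing E] [Algebra P E] [Algebra k E] [IsScalarTower k P E] [Algebra.FormallyEtale P E]
    (D₀ : Derivation k P P) :
    ∃ DE : Derivation k E E, ∀ f : P, DE (algebraMap P E f) = algebraMap P E (D₀ f) := by
  let e := KaehlerDifferential.tensorKaehlerEquivOfFormallyEtale k P E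
  let ℓ₀ : Ω[P⁄k] →ₗ[P] E := (Algebra.linearMap P E) ∘ₗ D₀.liftKaehlerDifferential
  let ℓ : E ⊗[P] Ω[P⁄k] →ₗ[E] E := LinearMap.liftBaseChange E ℓ₀
  let lam : Ω[E⁄k] →ₗ[E] E := ℓ ∘ₗ e.symm.toLinearMap
  refine ⟨lam.compDer (D k E), fun f => ?_⟩
  show ℓ (e.symm (D k E (algebraMap P E f))) = _
  rw [KaehlerDifferential.tensorKaehlerEquivOfFormallyEtale_symm_D_algebraMap]
  show ℓ ((1 : E) ⊗ₜ[P] D k P f) = _
  rw [LinearMap.liftBaseChange_tmul, one_smul]
  show algebraMap P E (D₀.liftKaehlerDifferential (D k P f)) = _
  rw [Derivation.liftKaehlerDifferential_comp_D]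

end ExtDer

section Cart

variable {R' R E' F : Type u} [CommRing R'] [CommRing R] [Field E'] [Field F]
  [Algebra R' R] [Algebra R' E'] [IsFractionRing R' E'] [Algebra R F] [IsFractionRing R F]
  [Algebra E' F] [Algebra R' F] [IsScalarTower R' R F] [IsScalarTower R' E' F]

/-- a derivation of `Frac R` over `R'` is linear over `Frac R'`. -/
theorem exists_derivation_fractionField (D₀ : Derivation R' R R) :
    ∃ DE : Derivation E' F F, ∀ f : R, DE (algebraMap R F f) = algebraMap R F (D₀ f) := by
  haveI : Algebra.FormallyEtale R F :=
    Algebra.FormallyEtale.of_isLocalization (nonZeroDivisors R)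
  obtain ⟨D1, hD1⟩ := exists_derivation_extension_etale (k := R') (P := R) (E := F) D₀
  have hkill : ∀ e : E', D1 (algebraMap E' F e) = 0 := by
    intro e
    obtain ⟨a, b, hb, rfl⟩ := IsFractionRing.div_surjective (A := R') e
    rw [map_div₀, ← IsScalarTower.algebraMap_apply R' E' F, ← IsScalarTower.algebraMap_apply R' E' F,
      Derivation.leibniz_div, Derivation.map_algebraMap, Derivation.map_algebraMap, smul_zero,
      smul_zero, sub_zero, smul_zero]
  let lin : F →ₗ[E'] F :=
    { toFun := D1
      map_add' := fun a b => map_add D1 a b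
      map_smul' := fun e x => by
        rw [RingHom.id_apply, Algebra.smul_def, Derivation.leibniz, hkill, smul_zero, add_zero,
          smul_eq_mul, Algebra.smul_def] }
  refine ⟨Derivation.mk' lin (fun a b => D1.leibniz a b), fun f => hD1 f⟩

/-- lower bound for the differentials of `Frac R` over `Frac R'` from dual derivations. -/
theorem le_finrank_kaehler_of_derivations [Module.Finite F (Ω[F⁄E'])] {n : ℕ} (t : Fin n → R)
    (Dz : Fin n → Derivation R' R R) (hD : ∀ i j, Dz i (t j) = if j = i then 1 else 0) :
    n ≤ Module.finrank F (Ω[F⁄E']) := by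
  classical
  choose DE hDE using fun i => exists_derivation_fractionField (E' := E') (F := F) (Dz i)
  have hli : LinearIndependent F (fun j : Fin n => D E' F (algebraMap R F (t j))) := by
    rw [Fintype.linearIndependent_iff]
    intro c hc i
    have h1 := congrArg (DE i).liftKaehlerDifferential hc
    rw [map_sum, map_zero] at h1
    simp only [map_smul, Derivation.liftKaehlerDifferential_comp_D, hDE, hD, smul_eq_mul] at h1
    rw [Finset.sum_eq_single i] at h1
    · simpa using h1
    · intro j _ hji
      rw [if_neg hji, map_zero, mul_zero]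
    · intro h; exact absurd (Finset.mem_univ i) h
  have := hli.fintype_card_le_finrank
  rwa [Fintype.card_fin] at this

end Cart



open TensorProduct KaehlerDifferential
open Groth.Agent.Lib.Helper23.CompletedKaehler2

section Cart2

variable {R' R B E' F L : Type u} [CommRing R'] [CommRing R] [CommRing B] [IsDomain B]
  [Field E'] [Field F] [Field L]
  [Algebra R' R] [Algebra R' B]
  [Algebra R' E'] [IsFractionRing R' E'] [Algebra R F] [IsFractionRing R F]
  [Algebra B L] [IsFractionRing B L]
  [Algebra E' F] [Algebra R' F] [IsScalarTower R' R F] [IsScalarTower R' E' F]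
  [Algebra F L] [Algebra E' L] [IsScalarTower E' F L]
  [Algebra R' L] [IsScalarTower R' B L] [IsScalarTower R' E' L]
  [Algebra.FiniteType R' B]

omit [IsDomain B] [Algebra.FiniteType R' B] in
/-- the differentials of the fraction field are spanned by the image of those of the ring. -/
theorem span_range_map_kaehler :
    Submodule.span L (Set.range (KaehlerDifferential.map R' E' B L)) = ⊤ := by
  rw [eq_top_iff, ← KaehlerDifferential.span_range_derivation, Submodule.span_le]
  rintro _ ⟨l, rfl⟩
  obtain ⟨a, b, hb, rfl⟩ := IsFractionRing.div_surjective (A := B) l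
  rw [Derivation.leibniz_div]
  refine Submodule.smul_mem _ _ (Submodule.sub_mem _ ?_ ?_)
  · refine Submodule.smul_mem _ _ (Submodule.subset_span ⟨D R' B a, ?_⟩)
    exact KaehlerDifferential.map_D R' E' B L a
  · refine Submodule.smul_mem _ _ (Submodule.subset_span ⟨D R' B b, ?_⟩)
    exact KaehlerDifferential.map_D R' E' B L b

include E' F L in
/-- **Cartier bound**: if `R` has `n` derivations over `R'` dual to elements `t j`, and the
differentials of `B` over `R'` are generically generated by `r` elements, then `n ≤ r`. -/
theorem le_of_genAt_kaehler {n : ℕ} (t : Fin n → R)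
    (Dz : Fin n → Derivation R' R R) (hD : ∀ i j, Dz i (t j) = if j = i then 1 else 0)
    {r : ℕ} (x : Fin r → Ω[B⁄R']) (hx : GenAt (⊥ : Ideal B) x) : n ≤ r := by
  haveI : Algebra.EssFiniteType E' L := by
    haveI : Algebra.EssFiniteType B L :=
      Algebra.EssFiniteType.of_isLocalization L (nonZeroDivisors B)
    haveI : Algebra.EssFiniteType R' L := Algebra.EssFiniteType.comp R' B L
    exact Algebra.EssFiniteType.of_comp R' E' L
  obtain ⟨h1, h2, h3⟩ := t4526main (k := E') (K := F) (L := L)
  haveI := h2
  have hn : n ≤ Module.finrank F (Ω[F⁄E']) :=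
    le_finrank_kaehler_of_derivations (E' := E') (F := F) t Dz hD
  have hspan : Submodule.span L (Set.range ((KaehlerDifferential.map R' E' B L) ∘ x)) = ⊤ := by
    refine hx.span_image_eq_top (K' := L) ?_ (KaehlerDifferential.map R' E' B L)
      span_range_map_kaehler
    intro s hs
    rw [isUnit_iff_ne_zero]
    intro h0
    apply hs
    rw [Ideal.mem_bot]
    exact (IsFractionRing.injective B L) (by rw [h0, map_zero])
  have hr : Module.finrank L (Ω[L⁄E']) ≤ r := by
    have h4 := finrank_range_le_card (R := L) ((KaehlerDifferential.map R' E' B L) ∘ x)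
    rw [Set.finrank, hspan, finrank_top, Fintype.card_fin] at h4
    exact h4
  have h5 : (0 : ℤ) ≤ (Cardinal.toNat (Algebra.trdeg F L) : ℤ) := Int.natCast_nonneg _
  omega

end Cart2

end Groth.Agent.Lib.Helper23.CK
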