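import Mathlib
import Groth.Agent.Lib.Helper23.CK1
import Groth.Agent.Lib.Helper23.CK3
import Groth.Agent.Lib.Helper23.PowerSeriesCofinite
import Groth.Agent.Lib.Helper23.CohenDomain

/-!
Generic rank of completed differentials of a complete local domain: pderivRG (∂/∂X_i as derivation over k[[X^p]]), finite_RG, le_of_genAt_charP, le_of_genAt_char0, dim_le_of_genAt_bot (complete local domain B over k with finite residue extension: Ω̂_{B/k} generically generated by r elements ⇒ dim B ≤ r).
-/

set_option autoImplicit false
universe u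


namespace Groth.Agent.Lib.Helper23.CK


open IsLocalRing TensorProduct KaehlerDifferential MvPowerSeries
open Groth.Agent.Lib.Helper23.CompletedKaehlerSep
open Groth.Agent.Lib.Helper23.FormalFibreCharP Groth.Agent.Lib.Helper23.PowerSeriesCofinite

section RGDer

variable (p : ℕ) [hp : Fact p.Prime] (k : Type u) [Field k] [CharP k p] (n : ℕ)

/-- `∂/∂X_i` as a derivation over the subring `k[[X^p]]`. -/
noncomputable def pderivRG (i : Fin n) :
    Derivation ↥(RG p n (⊤ : Subfield k)) (MvPowerSeries (Fin n) k) (MvPowerSeries (Fin n) k) :=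
  Derivation.mk'
    ({ toFun := pderiv k i
       map_add' := fun a b => map_add _ a b
       map_smul' := fun c f => by
        rw [RingHom.id_apply, Subring.smul_def, smul_eq_mul, Derivation.leibniz,
          pderiv_eq_zero_of_mem_RG n p i ⊤ (c : MvPowerSeries (Fin n) k) c.2, smul_zero, add_zero,
          Subring.smul_def] } :
      MvPowerSeries (Fin n) k →ₗ[↥(RG p n (⊤ : Subfield k))] MvPowerSeries (Fin n) k)
    (fun a b => (pderiv k i).leibniz a b)

theorem pderivRG_X (i j : Fin n) :
    pderivRG p k n i (X j) = if j = i then 1 else 0 := by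
  show pderiv k i (X j) = _
  split_ifs with h
  · subst h; exact pderiv_X_self
  · exact pderiv_X_of_ne h

theorem finite_RG : Module.Finite ↥(RG p n (⊤ : Subfield k)) (MvPowerSeries (Fin n) k) := by
  haveI : Module.Finite ↥(⊤ : Subfield k) k := by
    refine Module.Finite.of_surjective (Algebra.linearMap ↥(⊤ : Subfield k) k) ?_
    intro x
    exact ⟨⟨x, trivial⟩, rfl⟩
  let β := Module.Free.chooseBasis ↥(⊤ : Subfield k) k
  exact Module.Finite.of_basis (basisRG p n (⊤ : Subfield k) β)

end RGDer



open IsLocalRing TensorProduct KaehlerDifferential MvPowerSeries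
open Groth.Agent.Lib.Helper23.CompletedKaehlerSep
open Groth.Agent.Lib.Helper23.FormalFibreCharP Groth.Agent.Lib.Helper23.PowerSeriesCofinite

section CharPCase

variable {k B : Type u} [Field k] [CommRing B] [IsDomain B] [IsLocalRing B] [IsNoetherianRing B]
  [IsAdicComplete (maximalIdeal B) B] [Algebra k B] [Module.Finite k (ResidueField B)]
  {n : ℕ} [Algebra (MvPowerSeries (Fin n) k) B] [IsScalarTower k (MvPowerSeries (Fin n) k) B]
  [Module.Finite (MvPowerSeries (Fin n) k) B]

set_option maxHeartbeats 1600000 in
set_option synthInstance.maxHeartbeats 200000 in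
theorem le_of_genAt_charP (p : ℕ) [hp : Fact p.Prime] [CharP k p]
    (hinj : Function.Injective (algebraMap (MvPowerSeries (Fin n) k) B))
    {r : ℕ} (x : Fin r → AdicCompletion (maximalIdeal B) (Ω[B⁄k]))
    (hx : GenAt (⊥ : Ideal B) x) : n ≤ r := by
  classical
  haveI : IsDomain (MvPowerSeries (Fin n) k) := NoZeroDivisors.to_isDomain _
  -- the subring `R' = k[[X^p]]`
  letI : Algebra k ↥(RG p n (⊤ : Subfield k)) :=
    ((C : k →+* MvPowerSeries (Fin n) k).codRestrict (RG p n (⊤ : Subfield k))
      (fun c => C_mem_RG p n ⊤ c trivial)).toAlgebra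
  haveI : IsScalarTower k ↥(RG p n (⊤ : Subfield k)) (MvPowerSeries (Fin n) k) :=
    IsScalarTower.of_algebraMap_eq (fun c => by
      rw [MvPowerSeries.algebraMap_apply, Algebra.algebraMap_self, RingHom.id_apply]
      rfl)
  haveI : IsScalarTower ↥(RG p n (⊤ : Subfield k)) (MvPowerSeries (Fin n) k) B :=
    IsScalarTower.of_algebraMap_eq (fun c => rfl)
  haveI : IsScalarTower k ↥(RG p n (⊤ : Subfield k)) B :=
    IsScalarTower.of_algebraMap_eq (fun c => by
      rw [IsScalarTower.algebraMap_apply k (MvPowerSeries (Fin n) k) B,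
        IsScalarTower.algebraMap_apply ↥(RG p n (⊤ : Subfield k)) (MvPowerSeries (Fin n) k) B,
        ← IsScalarTower.algebraMap_apply k ↥(RG p n (⊤ : Subfield k)) (MvPowerSeries (Fin n) k)])
  haveI : Module.Finite ↥(RG p n (⊤ : Subfield k)) (MvPowerSeries (Fin n) k) := finite_RG p k n
  haveI : Module.Finite ↥(RG p n (⊤ : Subfield k)) B :=
    Module.Finite.trans (MvPowerSeries (Fin n) k) B
  haveI : Algebra.FiniteType ↥(RG p n (⊤ : Subfield k)) B := inferInstance
  -- the surjection onto the relative differentials
  obtain ⟨l, hl⟩ := exists_lift (k := k) (A := B)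
    ((D ↥(RG p n (⊤ : Subfield k)) B).restrictScalars k)
  have hlsurj : Function.Surjective l := by
    apply lift_surjective (k := k) l
    have : (fun a => l (dhat (k := k) a)) = fun a => D ↥(RG p n (⊤ : Subfield k)) B a :=
      funext fun a => hl a
    rw [this]
    exact KaehlerDifferential.span_range_derivation _ _
  have hx' : GenAt (⊥ : Ideal B) (l ∘ x) := hx.map l hlsurj
  -- fraction fields
  have hinj1 : Function.Injective
      (algebraMap ↥(RG p n (⊤ : Subfield k)) (MvPowerSeries (Fin n) k)) := Subtype.val_injective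
  haveI : FaithfulSMul ↥(RG p n (⊤ : Subfield k)) (FractionRing (MvPowerSeries (Fin n) k)) := by
    rw [faithfulSMul_iff_algebraMap_injective,
      IsScalarTower.algebraMap_eq ↥(RG p n (⊤ : Subfield k)) (MvPowerSeries (Fin n) k)
        (FractionRing (MvPowerSeries (Fin n) k)), RingHom.coe_comp]
    exact (IsFractionRing.injective (MvPowerSeries (Fin n) k)
      (FractionRing (MvPowerSeries (Fin n) k))).comp hinj1
  haveI : FaithfulSMul (MvPowerSeries (Fin n) k) (FractionRing B) := by
    rw [faithfulSMul_iff_algebraMap_injective,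
      IsScalarTower.algebraMap_eq (MvPowerSeries (Fin n) k) B (FractionRing B), RingHom.coe_comp]
    exact (IsFractionRing.injective B (FractionRing B)).comp hinj
  haveI : FaithfulSMul ↥(RG p n (⊤ : Subfield k)) (FractionRing B) := by
    rw [faithfulSMul_iff_algebraMap_injective,
      IsScalarTower.algebraMap_eq ↥(RG p n (⊤ : Subfield k)) B (FractionRing B),
      IsScalarTower.algebraMap_eq ↥(RG p n (⊤ : Subfield k)) (MvPowerSeries (Fin n) k) B,
      RingHom.coe_comp, RingHom.coe_comp]
    exact (IsFractionRing.injective B (FractionRing B)).comp (hinj.comp hinj1)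
  letI : Algebra (FractionRing ↥(RG p n (⊤ : Subfield k)))
      (FractionRing (MvPowerSeries (Fin n) k)) := FractionRing.liftAlgebra _ _
  haveI : IsScalarTower ↥(RG p n (⊤ : Subfield k)) (FractionRing ↥(RG p n (⊤ : Subfield k)))
      (FractionRing (MvPowerSeries (Fin n) k)) := FractionRing.isScalarTower_liftAlgebra _ _
  letI : Algebra (FractionRing ↥(RG p n (⊤ : Subfield k))) (FractionRing B) :=
    FractionRing.liftAlgebra _ _
  haveI : IsScalarTower ↥(RG p n (⊤ : Subfield k)) (FractionRing ↥(RG p n (⊤ : Subfield k)))
      (FractionRing B) := FractionRing.isScalarTower_liftAlgebra _ _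
  letI : Algebra (FractionRing (MvPowerSeries (Fin n) k)) (FractionRing B) :=
    FractionRing.liftAlgebra _ _
  haveI : IsScalarTower (MvPowerSeries (Fin n) k) (FractionRing (MvPowerSeries (Fin n) k))
      (FractionRing B) := FractionRing.isScalarTower_liftAlgebra _ _
  haveI : IsScalarTower (FractionRing ↥(RG p n (⊤ : Subfield k)))
      (FractionRing (MvPowerSeries (Fin n) k)) (FractionRing B) := by
    apply IsScalarTower.of_algebraMap_eq'
    apply IsLocalization.ringHom_ext (nonZeroDivisors ↥(RG p n (⊤ : Subfield k)))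
    ext a
    simp only [RingHom.comp_apply]
    rw [← IsScalarTower.algebraMap_apply ↥(RG p n (⊤ : Subfield k))
        (FractionRing ↥(RG p n (⊤ : Subfield k))) (FractionRing B),
      ← IsScalarTower.algebraMap_apply ↥(RG p n (⊤ : Subfield k))
        (FractionRing ↥(RG p n (⊤ : Subfield k))) (FractionRing (MvPowerSeries (Fin n) k)),
      IsScalarTower.algebraMap_apply ↥(RG p n (⊤ : Subfield k)) (MvPowerSeries (Fin n) k)
        (FractionRing (MvPowerSeries (Fin n) k)),
      ← IsScalarTower.algebraMap_apply (MvPowerSeries (Fin n) k)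
        (FractionRing (MvPowerSeries (Fin n) k)) (FractionRing B),
      IsScalarTower.algebraMap_apply (MvPowerSeries (Fin n) k) B (FractionRing B),
      ← IsScalarTower.algebraMap_apply ↥(RG p n (⊤ : Subfield k)) (MvPowerSeries (Fin n) k) B,
      ← IsScalarTower.algebraMap_apply ↥(RG p n (⊤ : Subfield k)) B (FractionRing B)]
  exact le_of_genAt_kaehler (R' := ↥(RG p n (⊤ : Subfield k))) (R := MvPowerSeries (Fin n) k)
    (B := B) (E' := FractionRing ↥(RG p n (⊤ : Subfield k)))
    (F := FractionRing (MvPowerSeries (Fin n) k)) (L := FractionRing B)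
    (fun j => X j) (pderivRG p k n) (pderivRG_X p k n) (l ∘ x) hx'

end CharPCase



open IsLocalRing TensorProduct KaehlerDifferential MvPowerSeries
open Groth.Agent.Lib.Helper23.CompletedKaehlerSep

section Char0Case

variable {k B : Type u} [Field k] [CommRing B] [IsDomain B] [IsLocalRing B] [IsNoetherianRing B]
  [IsAdicComplete (maximalIdeal B) B] [Algebra k B] [Module.Finite k (ResidueField B)]
  {n : ℕ} [Algebra (MvPowerSeries (Fin n) k) B] [IsScalarTower k (MvPowerSeries (Fin n) k) B]
  [Module.Finite (MvPowerSeries (Fin n) k) B]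

set_option maxHeartbeats 800000 in
theorem le_of_genAt_char0 [CharZero k]
    (hinj : Function.Injective (algebraMap (MvPowerSeries (Fin n) k) B))
    {r : ℕ} (x : Fin r → AdicCompletion (maximalIdeal B) (Ω[B⁄k]))
    (hx : GenAt (⊥ : Ideal B) x) : n ≤ r := by
  classical
  haveI : IsDomain (MvPowerSeries (Fin n) k) := NoZeroDivisors.to_isDomain _
  have hinjE : Function.Injective (algebraMap (MvPowerSeries (Fin n) k) (FractionRing B)) := by
    rw [IsScalarTower.algebraMap_eq (MvPowerSeries (Fin n) k) B (FractionRing B), RingHom.coe_comp]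
    exact (IsFractionRing.injective B (FractionRing B)).comp hinj
  letI : Algebra (FractionRing (MvPowerSeries (Fin n) k)) (FractionRing B) :=
    (IsFractionRing.lift hinjE).toAlgebra
  haveI : IsScalarTower (MvPowerSeries (Fin n) k) (FractionRing (MvPowerSeries (Fin n) k))
      (FractionRing B) :=
    IsScalarTower.of_algebraMap_eq (fun x => (IsFractionRing.lift_algebraMap hinjE x).symm)
  haveI : IsScalarTower k (MvPowerSeries (Fin n) k) (FractionRing B) :=
    IsScalarTower.of_algebraMap_eq (fun x => by
      rw [IsScalarTower.algebraMap_apply k B (FractionRing B),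
        IsScalarTower.algebraMap_apply k (MvPowerSeries (Fin n) k) B,
        ← IsScalarTower.algebraMap_apply (MvPowerSeries (Fin n) k) B (FractionRing B)])
  haveI : Algebra.IsIntegral (MvPowerSeries (Fin n) k) B := inferInstance
  haveI : Algebra.IsAlgebraic (FractionRing (MvPowerSeries (Fin n) k)) (FractionRing B) :=
    isAlgebraic_of_isFractionRing (MvPowerSeries (Fin n) k) B
      (FractionRing (MvPowerSeries (Fin n) k)) (FractionRing B)
  haveI : CharZero (FractionRing (MvPowerSeries (Fin n) k)) :=
    charZero_of_injective_algebraMap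
      (FaithfulSMul.algebraMap_injective k (FractionRing (MvPowerSeries (Fin n) k)))
  haveI : Algebra.IsSeparable (FractionRing (MvPowerSeries (Fin n) k)) (FractionRing B) :=
    Algebra.IsAlgebraic.isSeparable_of_perfectField
  have hli := linearIndependent_tmul (k := k) (r := n) (A := B)
    (E₀ := FractionRing (MvPowerSeries (Fin n) k)) (E := FractionRing B)
  haveI := finite_mhat' (k := k) (A := B)
  haveI : Module.Finite (FractionRing B)
      (FractionRing B ⊗[B] AdicCompletion (maximalIdeal B) (Ω[B⁄k])) := inferInstance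
  have h1 := hli.fintype_card_le_finrank
  rw [Fintype.card_fin] at h1
  have hspan : Submodule.span (FractionRing B)
      (Set.range ((TensorProduct.mk B (FractionRing B)
        (AdicCompletion (maximalIdeal B) (Ω[B⁄k])) 1) ∘ x)) = ⊤ := by
    refine hx.span_image_eq_top (K' := FractionRing B) ?_ _ (span_one_tmul_eq_top _)
    intro s hs
    rw [isUnit_iff_ne_zero]
    intro h0
    apply hs
    rw [Ideal.mem_bot]
    exact (IsFractionRing.injective B (FractionRing B)) (by rw [h0, map_zero])
  have h2 := finrank_range_le_card (R := FractionRing B)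
    ((TensorProduct.mk B (FractionRing B) (AdicCompletion (maximalIdeal B) (Ω[B⁄k])) 1) ∘ x)
  rw [Set.finrank, hspan, finrank_top, Fintype.card_fin] at h2
  exact h1.trans h2

end Char0Case

section DomainCase

variable {k B : Type u} [Field k] [CommRing B] [IsDomain B] [IsLocalRing B] [IsNoetherianRing B]
  [IsAdicComplete (maximalIdeal B) B] [Algebra k B] [Module.Finite k (ResidueField B)]

/-- generic rank bound: the completed differentials of a complete local domain of dimension `n`
cannot be generically generated by fewer than `n` elements. -/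
theorem dim_le_of_genAt_bot {r : ℕ} (x : Fin r → AdicCompletion (maximalIdeal B) (Ω[B⁄k]))
    (hx : GenAt (⊥ : Ideal B) x) : ringKrullDim B ≤ (r : WithBot ℕ∞) := by
  obtain ⟨n, w, hinj, hloc, hfin⟩ :=
    Groth.Agent.Lib.Helper23.CohenDomain.t2460main (k₀ := k) (A := B)
  letI : Algebra (MvPowerSeries (Fin n) k) B := w.toRingHom.toAlgebra
  haveI : IsScalarTower k (MvPowerSeries (Fin n) k) B :=
    IsScalarTower.of_algebraMap_eq (fun c => (w.commutes c).symm)
  haveI : Module.Finite (MvPowerSeries (Fin n) k) B := hfin
  have hinj' : Function.Injective (algebraMap (MvPowerSeries (Fin n) k) B) := hinj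
  have hdim : ringKrullDim B = (n : WithBot ℕ∞) := by
    rw [← Groth.Agent.Lib.Helper12.ringKrullDim_eq_of_isIntegral_of_injective
      (MvPowerSeries (Fin n) k) B hinj']
    exact Groth.Agent.Lib.Helper1.ArtFunLib.ringKrullDim_mvPowerSeries k n
  rw [hdim]
  have hnr : n ≤ r := by
    obtain ⟨p, hp⟩ := CharP.exists k
    rcases CharP.char_is_prime_or_zero k p with hpp | hp0
    · haveI : Fact p.Prime := ⟨hpp⟩
      exact le_of_genAt_charP p hinj' x hx
    · subst hp0
      haveI : CharZero k := CharP.charP_to_charZero k
      exact le_of_genAt_char0 hinj' x hx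
  exact_mod_cast hnr

end DomainCase

end Groth.Agent.Lib.Helper23.CK
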