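import Mathlib
import Groth.Agent.Lib.Helper23.CK4
import Groth.Agent.Lib.Helper9.SemiLocalProd

/-!
EGA IV 18.11-type bound: finite_residueField_quotient, exists_genAt_quotient (surjection Ω̂_{A/k} → Ω̂_{(A/q)/k}), t3847 (dim A/q ≤ rank of the fibre of Ω̂_{A/k} at any prime p ⊇ q, q minimal).
-/

set_option autoImplicit false
universe u


namespace Groth.Agent.Lib.Helper23.CK


open IsLocalRing TensorProduct KaehlerDifferential
open Groth.Agent.Lib.Helper23.CompletedKaehlerSep

section Quot

variable {k A : Type u} [Field k] [CommRing A] [IsLocalRing A] [IsNoetherianRing A]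
  [IsAdicComplete (maximalIdeal A) A] [Algebra k A] [Module.Finite k (ResidueField A)]

omit [IsNoetherianRing A] [IsAdicComplete (maximalIdeal A) A] in
/-- the residue field of a quotient is finite over `k`. -/
theorem finite_residueField_quotient (q : Ideal A) [IsLocalRing (A ⧸ q)] :
    Module.Finite k (ResidueField (A ⧸ q)) := by
  let g : A →ₐ[k] ResidueField (A ⧸ q) :=
    (IsScalarTower.toAlgHom k (A ⧸ q) (ResidueField (A ⧸ q))).comp (Ideal.Quotient.mkₐ k q)
  have hg : ∀ a ∈ maximalIdeal A, g a = 0 := by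
    intro a ha
    show residue (A ⧸ q) (Ideal.Quotient.mk q a) = 0
    rw [residue_eq_zero_iff, IsLocalRing.mem_maximalIdeal]
    intro hu
    have hlh : IsLocalHom (Ideal.Quotient.mk q) :=
      IsLocalHom.of_surjective _ Ideal.Quotient.mk_surjective
    exact (IsLocalRing.mem_maximalIdeal a).mp ha (IsLocalHom.map_nonunit a hu)
  let g' : ResidueField A →ₐ[k] ResidueField (A ⧸ q) :=
    Ideal.Quotient.liftₐ (maximalIdeal A) g hg
  have hg' : Function.Surjective g' := by
    intro y
    obtain ⟨y', rfl⟩ := residue_surjective y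
    obtain ⟨a, rfl⟩ := Ideal.Quotient.mk_surjective y'
    exact ⟨residue A a, rfl⟩
  exact Module.Finite.of_surjective g'.toLinearMap hg'

/-- generation at `p` passes to the completed differentials of a quotient. -/
theorem exists_genAt_quotient (q p : Ideal A) [IsLocalRing (A ⧸ q)]
    [IsAdicComplete (maximalIdeal (A ⧸ q)) (A ⧸ q)] [Module.Finite k (ResidueField (A ⧸ q))]
    {r : ℕ}
    (x : Fin r → AdicCompletion (maximalIdeal A) (Ω[A⁄k])) (hx : GenAt p x)
    (P : Ideal (A ⧸ q)) (hP : P.comap (Ideal.Quotient.mk q) ≤ p) :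
    ∃ x' : Fin r → AdicCompletion (maximalIdeal (A ⧸ q)) (Ω[(A ⧸ q)⁄k]), GenAt P x' := by
  haveI := finite_mhat' (k := k) (A := A ⧸ q)
  haveI : Module.Finite A (AdicCompletion (maximalIdeal (A ⧸ q)) (Ω[(A ⧸ q)⁄k])) :=
    Module.Finite.trans (A ⧸ q) _
  obtain ⟨l, hl⟩ := exists_lift (k := k) (A := A)
    ((dhat (k := k) (A := A ⧸ q)).compAlgebraMap A)
  have hlsurj : Function.Surjective l := by
    apply lift_surjective (k := k) l
    have h1 : (Set.range fun a => l (dhat (k := k) a)) =
        Set.range (dhat (k := k) (A := A ⧸ q)) := by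
      ext y
      constructor
      · rintro ⟨a, rfl⟩
        exact ⟨Ideal.Quotient.mk q a, (hl a).symm⟩
      · rintro ⟨b, rfl⟩
        obtain ⟨a, rfl⟩ := Ideal.Quotient.mk_surjective b
        exact ⟨a, hl a⟩
    rw [h1, ← Submodule.restrictScalars_span A (A ⧸ q) Ideal.Quotient.mk_surjective,
      span_dhat (k := k) (A := A ⧸ q)]
    rfl
  exact ⟨l ∘ x, (hx.map l hlsurj).of_surjective P hP⟩

end Quot

section Main

theorem t3847 (k A : Type u) [Field k] [CommRing A]
    [IsLocalRing A] [IsNoetherianRing A] [Algebra k A]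
    [IsAdicComplete (IsLocalRing.maximalIdeal A) A]
    [Module.Finite k (IsLocalRing.ResidueField A)]
    (p q : Ideal A) [p.IsPrime] (hq : q ∈ minimalPrimes A) (hqp : q ≤ p) :
    ringKrullDim (A ⧸ q) ≤
      (Cardinal.toENat (Module.rank p.ResidueField
        (TensorProduct A p.ResidueField
          (AdicCompletion (IsLocalRing.maximalIdeal A) (KaehlerDifferential k A)))) : WithBot ℕ∞) := by
  haveI hqprime : q.IsPrime := Ideal.minimalPrimes_isPrime hq
  haveI : Nontrivial (A ⧸ q) := Ideal.Quotient.nontrivial_iff.mpr hqprime.ne_top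
  haveI : IsLocalRing (A ⧸ q) :=
    IsLocalRing.of_surjective' (Ideal.Quotient.mk q) Ideal.Quotient.mk_surjective
  haveI : IsAdicComplete (maximalIdeal (A ⧸ q)) (A ⧸ q) :=
    Groth.Agent.Lib.Helper9.SemiLocalProd.isAdicComplete_maximalIdeal_of_finite A (A ⧸ q)
  haveI : Module.Finite k (ResidueField (A ⧸ q)) := finite_residueField_quotient q
  haveI := finite_mhat' (k := k) (A := A)
  obtain ⟨x, hx⟩ := exists_genAt_finrank (p := p)
    (M := AdicCompletion (maximalIdeal A) (Ω[A⁄k]))
  obtain ⟨x', hx'⟩ := exists_genAt_quotient (k := k) q p x hx ⊥ (by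
    intro a ha
    rw [Ideal.mem_comap, Ideal.mem_bot, Ideal.Quotient.eq_zero_iff_mem] at ha
    exact hqp ha)
  have h1 := dim_le_of_genAt_bot (k := k) (B := A ⧸ q) x' hx'
  have h2 : Module.rank p.ResidueField
      (p.ResidueField ⊗[A] AdicCompletion (maximalIdeal A) (Ω[A⁄k])) =
      ((Module.finrank p.ResidueField
        (p.ResidueField ⊗[A] AdicCompletion (maximalIdeal A) (Ω[A⁄k])) : ℕ) : Cardinal) :=
    (Module.finrank_eq_rank _ _).symm
  rw [h2, Cardinal.toENat_nat]
  exact h1

end Main

end Groth.Agent.Lib.Helper23.CK
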