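import Mathlib
import Groth.Agent.Lib.Helper23.CK5

/-!
EGA IV 18.11: completed differentials generated at p by m elements iff finite local k[[T_1..T_m]] -> A unramified at p. derQuot (R-derivation A -> Ω̂/(dt_i)), genAt_of_isUnramifiedAt, isUnramifiedAt_of_genAt, delta (a ↦ 1⊗d̂a in the fibre at p), span_delta_image (d̂ of any ideal not in p spans the fibre), exists_sop_genAt (perturbed system of parameters with differentials generating at p), dim_quotient_le_of_genAt, exists_unramified_of_genAt, t5054.
-/

set_option autoImplicit false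
universe u


namespace Groth.Agent.Lib.Helper23.CK


open IsLocalRing TensorProduct KaehlerDifferential MvPowerSeries
open Groth.Agent.Lib.Helper23.CompletedKaehlerSep Groth.Agent.Lib.Helper23.CK

section Unram

variable {k : Type u} [Field k] {m : ℕ} {A : Type u} [CommRing A] [IsLocalRing A]
  [IsNoetherianRing A] [IsAdicComplete (maximalIdeal A) A]
  [Algebra (MvPowerSeries (Fin m) k) A] [Algebra k A] [IsScalarTower k (MvPowerSeries (Fin m) k) A]
  [Module.Finite (MvPowerSeries (Fin m) k) A]

/-- the `R`-derivation `A → Ω̂ / (dt_i)`. -/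
noncomputable def derQuot :
    Derivation (MvPowerSeries (Fin m) k) A
      (AdicCompletion (maximalIdeal A) (Ω[A⁄k]) ⧸ Nsub k m A) :=
  Derivation.mk'
    ({ toFun := fun a => (Nsub k m A).mkQ (dhat (k := k) a)
       map_add' := fun a b => by rw [map_add, map_add]
       map_smul' := fun f a => by
        rw [RingHom.id_apply, Algebra.smul_def, Derivation.leibniz, map_add,
          ← algebraMap_smul A f ((Nsub k m A).mkQ (dhat (k := k) a)), map_smul]
        have h1 : (Nsub k m A).mkQ (a • dhat (k := k) (algebraMap (MvPowerSeries (Fin m) k) A f)) = 0 := by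
          rw [Submodule.mkQ_apply, Submodule.Quotient.mk_eq_zero]
          exact Submodule.smul_mem _ _ (dhat_algebraMap_mem f)
        rw [h1, add_zero] } :
      A →ₗ[MvPowerSeries (Fin m) k] (AdicCompletion (maximalIdeal A) (Ω[A⁄k]) ⧸ Nsub k m A))
    (fun a b => by
      show (Nsub k m A).mkQ (dhat (k := k) (a * b)) =
        a • (Nsub k m A).mkQ (dhat (k := k) b) + b • (Nsub k m A).mkQ (dhat (k := k) a)
      rw [Derivation.leibniz, map_add, map_smul, map_smul])

theorem derQuot_apply (a : A) :
    derQuot (k := k) (m := m) a = (Nsub k m A).mkQ (dhat (k := k) a) := rfl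

/-- unramified at `p` ⇒ the `dt_i` generate the completed differentials at `p`. -/
theorem genAt_of_isUnramifiedAt (p : Ideal A) [p.IsPrime]
    [hun : Algebra.IsUnramifiedAt (MvPowerSeries (Fin m) k) p] :
    GenAt p (fun i : Fin m => dhat (k := k) (algebraMap (MvPowerSeries (Fin m) k) A (X i))) := by
  haveI : Module.Finite k (ResidueField A) := finite_residueField (r := m)
  have hmem : (⟨p, inferInstance⟩ : PrimeSpectrum A) ∈
      Algebra.unramifiedLocus (MvPowerSeries (Fin m) k) A := hun
  rw [Algebra.unramifiedLocus_eq_compl_support, Set.mem_compl_iff,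
    Module.notMem_support_iff'] at hmem
  let g : Ω[A⁄MvPowerSeries (Fin m) k] →ₗ[A]
      (AdicCompletion (maximalIdeal A) (Ω[A⁄k]) ⧸ Nsub k m A) :=
    (derQuot (k := k) (m := m) (A := A)).liftKaehlerDifferential
  have hg : ∀ a, g (D _ A a) = (Nsub k m A).mkQ (dhat (k := k) a) := fun a =>
    Derivation.liftKaehlerDifferential_comp_D _ a
  have hgsurj : Function.Surjective g := by
    have key : ∀ y' : AdicCompletion (maximalIdeal A) (Ω[A⁄k]),
        (Nsub k m A).mkQ y' ∈ LinearMap.range g := by
      intro y'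
      have hy' : y' ∈ Submodule.span A (Set.range (dhat (k := k) (A := A))) := by
        rw [span_dhat]; trivial
      induction hy' using Submodule.span_induction with
      | mem z hz =>
        obtain ⟨a, rfl⟩ := hz
        exact ⟨_, hg a⟩
      | zero => rw [map_zero]; exact Submodule.zero_mem _
      | add a b _ _ ha hb => rw [map_add]; exact Submodule.add_mem _ ha hb
      | smul c a _ ha => rw [map_smul]; exact Submodule.smul_mem _ c ha
    intro y
    obtain ⟨y', rfl⟩ := Submodule.mkQ_surjective _ y
    exact key y'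
  intro y
  obtain ⟨ω, hω⟩ := hgsurj ((Nsub k m A).mkQ y)
  obtain ⟨s, hs, hsω⟩ := hmem ω
  refine ⟨s, hs, ?_⟩
  have h1 : (Nsub k m A).mkQ (s • y) = 0 := by
    rw [map_smul, ← hω, ← map_smul, hsω, map_zero]
  rw [Submodule.mkQ_apply, Submodule.Quotient.mk_eq_zero] at h1
  exact h1

/-- the `dt_i` generate the completed differentials at `p` ⇒ unramified at `p`. -/
theorem isUnramifiedAt_of_genAt (p : Ideal A) [p.IsPrime]
    (h : GenAt p (fun i : Fin m => dhat (k := k) (algebraMap (MvPowerSeries (Fin m) k) A (X i)))) :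
    Algebra.IsUnramifiedAt (MvPowerSeries (Fin m) k) p := by
  haveI : Module.Finite k (ResidueField A) := finite_residueField (r := m)
  obtain ⟨l, hl⟩ := exists_lift (k := k) (A := A)
    ((D (MvPowerSeries (Fin m) k) A).restrictScalars k)
  have hlsurj : Function.Surjective l := by
    apply lift_surjective (k := k) l
    have : (fun a => l (dhat (k := k) a)) = fun a => D (MvPowerSeries (Fin m) k) A a :=
      funext fun a => hl a
    rw [this]
    exact KaehlerDifferential.span_range_derivation _ _
  have hl0 : ∀ y ∈ Submodule.span A (Set.range fun i : Fin m =>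
      dhat (k := k) (algebraMap (MvPowerSeries (Fin m) k) A (X i))), l y = 0 := by
    intro y hy
    induction hy using Submodule.span_induction with
    | mem z hz =>
      obtain ⟨i, rfl⟩ := hz
      rw [hl]
      exact Derivation.map_algebraMap (D (MvPowerSeries (Fin m) k) A) (X i)
    | zero => exact map_zero _
    | add a b _ _ ha hb => rw [map_add, ha, hb, add_zero]
    | smul c a _ ha => rw [map_smul, ha, smul_zero]
  have hmem : (⟨p, inferInstance⟩ : PrimeSpectrum A) ∈
      Algebra.unramifiedLocus (MvPowerSeries (Fin m) k) A := by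
    rw [Algebra.unramifiedLocus_eq_compl_support, Set.mem_compl_iff, Module.notMem_support_iff']
    intro ω
    obtain ⟨y, rfl⟩ := hlsurj ω
    obtain ⟨s, hs, hsy⟩ := h y
    exact ⟨s, hs, by rw [← map_smul]; exact hl0 _ hsy⟩
  exact hmem

end Unram



open IsLocalRing TensorProduct KaehlerDifferential MvPowerSeries
open Groth.Agent.Lib.Helper23.CompletedKaehlerSep Groth.Agent.Lib.Helper23.CK

section ClaimB

variable {k A : Type u} [Field k] [CommRing A] [IsLocalRing A] [IsNoetherianRing A]
  [IsAdicComplete (maximalIdeal A) A] [Algebra k A] [Module.Finite k (ResidueField A)]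

variable (k) in
/-- the additive map `a ↦ 1 ⊗ d̂a` into the fibre at `p`. -/
noncomputable def delta (p : Ideal A) [p.IsPrime] (a : A) :
    p.ResidueField ⊗[A] AdicCompletion (maximalIdeal A) (Ω[A⁄k]) :=
  (1 : p.ResidueField) ⊗ₜ[A] dhat (k := k) a

omit [IsNoetherianRing A] [IsAdicComplete (maximalIdeal A) A] [Module.Finite k (ResidueField A)] in
theorem delta_add (p : Ideal A) [p.IsPrime] (a b : A) :
    delta k p (a + b) = delta k p a + delta k p b := by
  unfold delta
  rw [map_add, TensorProduct.tmul_add]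

omit [IsNoetherianRing A] [IsAdicComplete (maximalIdeal A) A] [Module.Finite k (ResidueField A)] in
theorem delta_mul (p : Ideal A) [p.IsPrime] (a b : A) :
    delta k p (a * b) = algebraMap A p.ResidueField a • delta k p b +
      algebraMap A p.ResidueField b • delta k p a := by
  unfold delta
  rw [Derivation.leibniz, TensorProduct.tmul_add, TensorProduct.tmul_smul, TensorProduct.tmul_smul,
    algebraMap_smul, algebraMap_smul]

theorem span_delta (p : Ideal A) [p.IsPrime] :
    Submodule.span p.ResidueField (Set.range (delta k p)) = ⊤ := by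
  have h : GenAt p (dhat (k := k) (A := A)) := by
    intro y
    refine ⟨1, fun h1 => (Ideal.IsPrime.ne_top inferInstance) ((Ideal.eq_top_iff_one p).mpr h1), ?_⟩
    rw [one_smul, span_dhat]
    trivial
  exact h.span_tmul

/-- the differentials of the elements of any ideal not contained in `p` span the fibre. -/
theorem span_delta_image (p : Ideal A) [p.IsPrime] (J : Ideal A) (σ : A) (hσJ : σ ∈ J)
    (hσp : σ ∉ p) :
    Submodule.span p.ResidueField (delta k p '' (J : Set A)) = ⊤ := by
  rw [eq_top_iff, ← span_delta (k := k) p, Submodule.span_le]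
  rintro _ ⟨a, rfl⟩
  have hu : algebraMap A p.ResidueField σ ≠ 0 := by
    rw [Ne, Ideal.algebraMap_residueField_eq_zero]; exact hσp
  have h1 : delta k p (σ * a) ∈ Submodule.span p.ResidueField (delta k p '' (J : Set A)) :=
    Submodule.subset_span ⟨σ * a, J.mul_mem_right a hσJ, rfl⟩
  have h2 : delta k p σ ∈ Submodule.span p.ResidueField (delta k p '' (J : Set A)) :=
    Submodule.subset_span ⟨σ, hσJ, rfl⟩
  have h3 : delta k p a = (algebraMap A p.ResidueField σ)⁻¹ •
      (delta k p (σ * a) - algebraMap A p.ResidueField a • delta k p σ) := by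
    rw [delta_mul, add_sub_cancel_right, smul_smul, inv_mul_cancel₀ hu, one_smul]
  rw [SetLike.mem_coe, h3]
  exact Submodule.smul_mem _ _ (Submodule.sub_mem _ h1 (Submodule.smul_mem _ _ h2))

end ClaimB



open IsLocalRing TensorProduct KaehlerDifferential MvPowerSeries
open Groth.Agent.Lib.Helper23.CompletedKaehlerSep Groth.Agent.Lib.Helper23.CK

section Sop

variable {k A : Type u} [Field k] [CommRing A] [IsLocalRing A] [IsNoetherianRing A]
  [IsAdicComplete (maximalIdeal A) A] [Algebra k A] [Module.Finite k (ResidueField A)]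

/-- a system of parameters (padded to `m` elements) whose completed differentials generate at `p`. -/
theorem exists_sop_genAt (p : Ideal A) [p.IsPrime] (hp : p ≠ maximalIdeal A) (m : ℕ)
    (hht : (maximalIdeal A).height ≤ (m : ℕ∞))
    (hrk : Module.finrank p.ResidueField
      (p.ResidueField ⊗[A] AdicCompletion (maximalIdeal A) (Ω[A⁄k])) ≤ m) :
    ∃ t : Fin m → A, (∀ i, t i ∈ maximalIdeal A) ∧
      maximalIdeal A ∈ (Ideal.span (Set.range t)).minimalPrimes ∧
      GenAt p (fun i => dhat (k := k) (t i)) := by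
  classical
  obtain ⟨s, hsmin, hscard⟩ :=
    Ideal.exists_finset_card_eq_height_of_isNoetherianRing (maximalIdeal A)
  have hcard : s.card ≤ m := by
    have : (s.card : ℕ∞) ≤ (m : ℕ∞) := hscard ▸ hht
    exact_mod_cast this
  set I : Ideal A := Ideal.span (s : Set A) with hI
  have hIm : I ≤ maximalIdeal A := hsmin.1.2
  let t₀ : Fin m → A := fun i =>
    if h : (i : ℕ) < s.card then ((s.equivFin.symm ⟨i, h⟩ : s) : A) else 0
  have ht₀I : ∀ i, t₀ i ∈ I := by
    intro i
    simp only [t₀]
    split_ifs with h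
    · exact Ideal.subset_span (s.equivFin.symm ⟨i, h⟩).2
    · exact I.zero_mem
  have hIt₀ : I ≤ Ideal.span (Set.range t₀) := by
    rw [hI, Ideal.span_le]
    intro a ha
    set j := s.equivFin ⟨a, ha⟩ with hj
    have hjm : (j : ℕ) < m := lt_of_lt_of_le j.2 hcard
    refine Ideal.subset_span ⟨⟨j, hjm⟩, ?_⟩
    simp only [t₀]
    rw [dif_pos j.2]
    have : (⟨(j : ℕ), j.2⟩ : Fin s.card) = j := rfl
    rw [this, hj, Equiv.symm_apply_apply]
  -- `I` is `𝔪`-primary
  have hrad : maximalIdeal A ≤ I.radical := by
    rw [Ideal.radical_eq_sInf]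
    refine le_sInf ?_
    rintro J ⟨hIJ, hJ⟩
    exact hsmin.2 ⟨hJ, hIJ⟩ (le_maximalIdeal hJ.ne_top)
  obtain ⟨e, he⟩ := Ideal.exists_pow_le_of_le_radical_of_fg_radical hrad
    (IsNoetherian.noetherian _)
  -- an element of `𝔪 ∖ p`
  have hlt : p < maximalIdeal A :=
    lt_of_le_of_ne (le_maximalIdeal (Ideal.IsPrime.ne_top inferInstance)) hp
  obtain ⟨σ, hσm, hσp⟩ := SetLike.exists_of_lt hlt
  set J : Ideal A := maximalIdeal A * I with hJ
  have hσJ : σ ^ (e + 1) ∈ J := by
    rw [pow_succ']
    exact Ideal.mul_mem_mul hσm (he (Ideal.pow_mem_pow hσm e))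
  have hσJp : σ ^ (e + 1) ∉ p := fun h => hσp (Ideal.IsPrime.mem_of_pow_mem inferInstance _ h)
  have hJI : J ≤ I := Ideal.mul_le_right
  -- perturbation
  haveI := finite_mhat' (k := k) (A := A)
  have hS := span_delta_image (k := k) p J (σ ^ (e + 1)) hσJ hσJp
  have h0 : (0 : p.ResidueField ⊗[A] AdicCompletion (maximalIdeal A) (Ω[A⁄k])) ∈
      delta k p '' (J : Set A) :=
    ⟨0, J.zero_mem, by unfold delta; rw [map_zero, TensorProduct.tmul_zero]⟩
  obtain ⟨w, hwS, hwspan⟩ := exists_perturbation (delta k p '' (J : Set A)) hS h0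
    (ι := Fin m) (by rw [Fintype.card_fin]; exact hrk) (fun i => delta k p (t₀ i))
  choose z hzJ hzw using hwS
  refine ⟨fun i => t₀ i + z i, ?_, ?_, ?_⟩
  · intro i
    exact hIm (I.add_mem (ht₀I i) (hJI (hzJ i)))
  · have hspan : Ideal.span (Set.range fun i => t₀ i + z i) = I := by
      apply le_antisymm
      · rw [Ideal.span_le]
        rintro _ ⟨i, rfl⟩
        exact I.add_mem (ht₀I i) (hJI (hzJ i))
      · have hfg : (I : Submodule A A).FG := IsNoetherian.noetherian _
        refine Submodule.le_of_le_smul_of_le_jacobson_bot (I := maximalIdeal A) hfg ?_ ?_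
        · rw [IsLocalRing.jacobson_eq_maximalIdeal ⊥ bot_ne_top]
        · refine hIt₀.trans ?_
          rw [Ideal.span_le]
          rintro _ ⟨i, rfl⟩
          have h1 : t₀ i = (t₀ i + z i) + (-(z i)) := by ring
          rw [SetLike.mem_coe, h1]
          refine Submodule.add_mem_sup (Ideal.subset_span ⟨i, rfl⟩) ?_
          rw [smul_eq_mul]
          exact Ideal.neg_mem_iff _ |>.mpr (hzJ i)
    rw [hspan]
    exact hsmin
  · apply genAt_of_span_tmul
    have : (fun i : Fin m => (1 : p.ResidueField) ⊗ₜ[A] dhat (k := k) (t₀ i + z i)) =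
        (fun i => delta k p (t₀ i)) + w := by
      funext i
      rw [Pi.add_apply, ← hzw i, ← delta_add]
      rfl
    rw [this]
    exact hwspan

end Sop



open IsLocalRing TensorProduct KaehlerDifferential MvPowerSeries
open Groth.Agent.Lib.Helper23.CompletedKaehlerSep Groth.Agent.Lib.Helper23.CK
open Groth.Agent.Lib.Helper20

section Main

variable {k A : Type u} [Field k] [CommRing A] [IsLocalRing A] [IsNoetherianRing A]
  [IsAdicComplete (maximalIdeal A) A] [Algebra k A] [Module.Finite k (ResidueField A)]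

/-- `dim A/q ≤ r` whenever the completed differentials are generated at `p ⊇ q` by `r` elements. -/
theorem dim_quotient_le_of_genAt (p q : Ideal A) [p.IsPrime] (hq : q ∈ minimalPrimes A)
    (hqp : q ≤ p) {r : ℕ} (x : Fin r → AdicCompletion (maximalIdeal A) (Ω[A⁄k]))
    (hx : GenAt p x) : ringKrullDim (A ⧸ q) ≤ (r : WithBot ℕ∞) := by
  haveI := finite_mhat' (k := k) (A := A)
  have h1 := t3847 k A p q hq hqp
  have h2 : Module.rank p.ResidueField
      (p.ResidueField ⊗[A] AdicCompletion (maximalIdeal A) (Ω[A⁄k])) =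
      ((Module.finrank p.ResidueField
        (p.ResidueField ⊗[A] AdicCompletion (maximalIdeal A) (Ω[A⁄k])) : ℕ) : Cardinal) :=
    (Module.finrank_eq_rank _ _).symm
  rw [h2, Cardinal.toENat_nat] at h1
  refine h1.trans ?_
  exact_mod_cast hx.finrank_le

/-- existence of a finite local map from `k[[T_1..T_m]]` unramified at `p`, from generation of the
completed differentials at `p` by `m` elements. -/
theorem exists_unramified_of_genAt (p : Ideal A) [p.IsPrime] (hp : p ≠ maximalIdeal A)
    (hq : ∃ q ∈ minimalPrimes A, q ≤ p ∧ ringKrullDim (A ⧸ q) = ringKrullDim A) (m : ℕ)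
    (x : Fin m → AdicCompletion (maximalIdeal A) (Ω[A⁄k])) (hx : GenAt p x) :
    ∃ (t : Fin m → A) (ht : ∀ i, t i ∈ maximalIdeal A),
      (CohenReg.Phi k t ht).toRingHom.Finite ∧
      GenAt p (fun i => dhat (k := k) (t i)) := by
  have hrk := hx.finrank_le
  obtain ⟨q, hqmin, hqp, hqdim⟩ := hq
  have h1 := dim_quotient_le_of_genAt (k := k) p q hqmin hqp x hx
  rw [hqdim, ← IsLocalRing.maximalIdeal_height_eq_ringKrullDim] at h1
  have hht : (maximalIdeal A).height ≤ (m : ℕ∞) := by exact_mod_cast h1
  obtain ⟨t, htm, htmin, htgen⟩ := exists_sop_genAt (k := k) p hp m hht hrk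
  exact ⟨t, htm, Groth.Agent.Lib.Helper23.CohenDomain.finite_Phi (k₀ := k) t htm htmin, htgen⟩

end Main

theorem t5054 (k A : Type u) [Field k] [CommRing A]
    [IsLocalRing A] [IsNoetherianRing A] [Algebra k A] [IsAdicComplete (IsLocalRing.maximalIdeal A) A]
    [Module.Finite k (IsLocalRing.ResidueField A)]
    (p : Ideal A) [p.IsPrime] (hp : p ≠ IsLocalRing.maximalIdeal A)
    (hq : ∃ q ∈ minimalPrimes A, q ≤ p ∧ ringKrullDim (A ⧸ q) = ringKrullDim A) (m : ℕ) :
    (∃ s : Fin m → (LocalizedModule p.primeCompl (AdicCompletion (IsLocalRing.maximalIdeal A) (KaehlerDifferential k A))), Submodule.span (Localization.AtPrime p) (Set.range s) = ⊤) ↔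
      ∃ (_ : Algebra (MvPowerSeries (Fin m) k) A) (_ : IsScalarTower k (MvPowerSeries (Fin m) k) A),
        IsLocalHom (algebraMap (MvPowerSeries (Fin m) k) A) ∧ Module.Finite (MvPowerSeries (Fin m) k) A ∧
          Algebra.IsUnramifiedAt (MvPowerSeries (Fin m) k) p := by
  constructor
  · rintro ⟨s, hs⟩
    obtain ⟨x, hx⟩ := exists_genAt_of_span_localized s hs
    obtain ⟨t, ht, hfin, hgen⟩ := exists_unramified_of_genAt (k := k) p hp hq m x hx
    letI inst : Algebra (MvPowerSeries (Fin m) k) A := (CohenReg.Phi k t ht).toRingHom.toAlgebra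
    haveI tower : IsScalarTower k (MvPowerSeries (Fin m) k) A :=
      IsScalarTower.of_algebraMap_eq (fun c => ((CohenReg.Phi k t ht).commutes c).symm)
    haveI hfin' : Module.Finite (MvPowerSeries (Fin m) k) A := hfin
    have hloc : IsLocalHom (algebraMap (MvPowerSeries (Fin m) k) A) := by
      refine ⟨fun f hf => ?_⟩
      by_contra hnu
      have h1 : f ∈ maximalIdeal (MvPowerSeries (Fin m) k) := (mem_maximalIdeal f).mpr hnu
      rw [← comap_maximalIdeal (k := k) (r := m) (A := A), Ideal.mem_comap] at h1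
      exact (mem_maximalIdeal _).mp h1 hf
    have hX : (fun i : Fin m => dhat (k := k) (algebraMap (MvPowerSeries (Fin m) k) A (X i))) =
        fun i => dhat (k := k) (t i) :=
      funext fun i => congrArg _ (CohenReg.Phi_X k t ht i)
    have hun : Algebra.IsUnramifiedAt (MvPowerSeries (Fin m) k) p :=
      isUnramifiedAt_of_genAt (k := k) (m := m) p (hX ▸ hgen)
    exact ⟨inst, tower, hloc, hfin', hun⟩
  · rintro ⟨inst, tower, hloc, hfin, hun⟩
    have h := genAt_of_isUnramifiedAt (k := k) (m := m) (A := A) p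
    exact ⟨_, h.span_localized⟩

end Groth.Agent.Lib.Helper23.CK
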