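import Mathlib

/-!
Flat + formally unramified + essentially of finite type ⇒ formally smooth (hence formally étale), WITHOUT finite presentation.
* bijective_of_flat_of_sq_zero: C-linear φ : C → P, P flat, iso mod a square-zero ideal ⇒ bijective.
* formallySmooth_of_flat: [Module.Flat R A] [Algebra.EssFiniteType R A] [Algebra.FormallyUnramified R A] ⇒ Algebra.FormallySmooth R A
  (proof: lift the diagonal idempotent of A ⊗ A through C ⊗ A → (C/N) ⊗ A).
-/

set_option autoImplicit false
universe u
open TensorProduct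

namespace Groth.Agent.Lib.Helper23.FlatUnram


/-- Key lemma: a linear map `φ : C → P` to a flat module which is an isomorphism modulo a square-zero ideal
is bijective. -/
theorem bijective_of_flat_of_sq_zero {C P : Type*} [CommRing C] [AddCommGroup P] [Module C P]
    [Module.Flat C P] (N : Ideal C) (hN : N ^ 2 = ⊥) (φ : C →ₗ[C] P) (ν : P →ₗ[C] C ⧸ N)
    (hν : ∀ c, ν (φ c) = Ideal.Quotient.mk N c)
    (hker : LinearMap.ker ν ≤ N • (⊤ : Submodule C P)) : Function.Bijective φ := by
  constructor
  · rw [injective_iff_map_eq_zero]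
    intro x hx
    have hxN : x ∈ N := by
      rw [← Ideal.Quotient.eq_zero_iff_mem, ← hν, hx, map_zero]
    have hinj : Function.Injective (N.subtype.rTensor P) :=
      Module.Flat.rTensor_preserves_injective_linearMap _ N.injective_subtype
    have h0 : (⟨x, hxN⟩ : N) ⊗ₜ[C] φ 1 = 0 := by
      apply hinj
      rw [map_zero]
      apply (TensorProduct.lid C P).injective
      rw [map_zero, LinearMap.rTensor_tmul, TensorProduct.lid_tmul]
      simp only [Submodule.subtype_apply]
      rw [← map_smul, smul_eq_mul, mul_one, hx]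
    have h1 := congrArg (fun t => TensorProduct.tensorQuotEquivQuotSMul N N (ν.lTensor N t)) h0
    simp only [LinearMap.lTensor_tmul, map_zero, hν] at h1
    rw [TensorProduct.tensorQuotEquivQuotSMul_tmul_mk, one_smul, Submodule.Quotient.mk_eq_zero] at h1
    have h2 : (N.subtype) ⟨x, hxN⟩ ∈ Submodule.map N.subtype (N • (⊤ : Submodule C N)) :=
      Submodule.mem_map_of_mem h1
    rw [Submodule.map_smul'', Submodule.map_top, Submodule.range_subtype] at h2
    have h3 : N • N = (⊥ : Ideal C) := by rw [smul_eq_mul, ← pow_two, hN]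
    rw [h3] at h2
    simpa using h2
  · rw [← LinearMap.range_eq_top, eq_top_iff]
    have h1 : (⊤ : Submodule C P) ≤ LinearMap.range φ ⊔ N • (⊤ : Submodule C P) := by
      intro p _
      obtain ⟨c, hc⟩ := Ideal.Quotient.mk_surjective (ν p)
      have : p - φ c ∈ LinearMap.ker ν := by
        rw [LinearMap.mem_ker, map_sub, hν, hc, sub_self]
      have h2 := hker this
      have : p = φ c + (p - φ c) := by abel
      rw [this]
      exact Submodule.add_mem_sup (LinearMap.mem_range_self _ _) h2
    have h2 : N • (⊤ : Submodule C P) ≤ LinearMap.range φ := by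
      calc N • (⊤ : Submodule C P) ≤ N • (LinearMap.range φ ⊔ N • (⊤ : Submodule C P)) :=
            Submodule.smul_mono le_rfl h1
        _ = N • LinearMap.range φ ⊔ N • (N • (⊤ : Submodule C P)) := Submodule.smul_sup _ _ _
        _ ≤ LinearMap.range φ := by
            rw [← Submodule.smul_assoc, smul_eq_mul, ← pow_two, hN, Submodule.bot_smul, sup_bot_eq]
            exact Submodule.smul_le_right
    exact h1.trans (sup_le le_rfl h2)



set_option maxHeartbeats 1600000 in
theorem formallySmooth_of_flat {R A : Type u} [CommRing R] [CommRing A] [Algebra R A]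
    [Module.Flat R A] [Algebra.EssFiniteType R A] [Algebra.FormallyUnramified R A] :
    Algebra.FormallySmooth R A := by
  refine Algebra.FormallySmooth.of_comp_surjective fun C _ _ N hN g => ?_
  obtain ⟨e, he, hsp⟩ : ∃ e, IsIdempotentElem e ∧
      KaehlerDifferential.ideal R A = Ideal.span {e} := by
    obtain ⟨e, he, hsp⟩ := (Ideal.isIdempotentElem_iff_of_fg _ (KaehlerDifferential.ideal_fg R A)).mp <|
      (Ideal.cotangent_subsingleton_iff _).mp <| inferInstanceAs <| Subsingleton Ω[A⁄R]
    exact ⟨e, he, hsp⟩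
  let T := C ⊗[R] A
  let NT : Ideal T := N.map (algebraMap C T)
  have hNT : NT ^ 2 = ⊥ := by
    rw [← Ideal.map_pow, hN, Ideal.map_bot]
  let μ : T →ₐ[C] C ⧸ N :=
    Algebra.TensorProduct.lift (Algebra.ofId C (C ⧸ N)) g (fun _ _ => Commute.all _ _)
  have hμ : ∀ (c : C) (a : A), μ (c ⊗ₜ a) = Ideal.Quotient.mk N c * g a := fun c a => by
    show (Algebra.TensorProduct.lift (Algebra.ofId C (C ⧸ N)) g _) (c ⊗ₜ[R] a) = _
    rw [Algebra.TensorProduct.lift_tmul]
    rfl
  have hμNT : ∀ x ∈ NT, μ x = 0 := by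
    intro x hx
    have : NT ≤ RingHom.ker μ.toRingHom := by
      rw [Ideal.map_le_iff_le_comap]
      intro n hn
      rw [Ideal.mem_comap, RingHom.mem_ker]
      show μ (algebraMap C T n) = 0
      rw [AlgHom.commutes, Ideal.Quotient.algebraMap_eq, Ideal.Quotient.eq_zero_iff_mem]
      exact hn
    exact this hx
  let Tbar := T ⧸ NT
  let j : C ⧸ N →ₐ[R] Tbar :=
    Ideal.Quotient.liftₐ N ((Ideal.Quotient.mkₐ R NT).comp ((Algebra.ofId C T).restrictScalars R))
      (fun n hn => by
        show Ideal.Quotient.mk NT (algebraMap C T n) = 0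
        rw [Ideal.Quotient.eq_zero_iff_mem]
        exact Ideal.mem_map_of_mem _ hn)
  have hj : ∀ c : C, j (Ideal.Quotient.mk N c) = Ideal.Quotient.mk NT (c ⊗ₜ 1) := fun c => rfl
  let G : A ⊗[R] A →ₐ[R] Tbar :=
    Algebra.TensorProduct.lift (j.comp g)
      ((Ideal.Quotient.mkₐ R NT).comp Algebra.TensorProduct.includeRight)
      (fun _ _ => Commute.all _ _)
  have hG : ∀ a b : A, G (a ⊗ₜ b) = j (g a) * Ideal.Quotient.mk NT (1 ⊗ₜ b) := fun a b => by
    show (Algebra.TensorProduct.lift (j.comp g)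
      ((Ideal.Quotient.mkₐ R NT).comp Algebra.TensorProduct.includeRight) _) (a ⊗ₜ[R] b) = _
    rw [Algebra.TensorProduct.lift_tmul]
    rfl
  let μbar : Tbar →ₐ[R] C ⧸ N := Ideal.Quotient.liftₐ NT (μ.restrictScalars R) hμNT
  have hμbar : ∀ t : T, μbar (Ideal.Quotient.mk NT t) = μ t := fun t => rfl
  have hμbarj : ∀ y : C ⧸ N, μbar (j y) = y := by
    intro y
    obtain ⟨c, rfl⟩ := Ideal.Quotient.mk_surjective y
    rw [hj, hμbar, hμ, map_one, mul_one]
  have F1 : ∀ x : A ⊗[R] A, μbar (G x) = g (Algebra.TensorProduct.lmul' R x) := by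
    intro x
    induction x using TensorProduct.induction_on with
    | zero => simp
    | tmul a b =>
      rw [hG, map_mul, hμbarj, hμbar, hμ, map_one, one_mul, Algebra.TensorProduct.lmul'_apply_tmul, map_mul]
    | add x y hx hy => rw [map_add, map_add, hx, hy, map_add, map_add]
  have hGe : ∀ x ∈ KaehlerDifferential.ideal R A, G x ∈ Ideal.span {G e} := by
    intro x hx
    rw [hsp] at hx
    have := Ideal.mem_map_of_mem G.toRingHom hx
    rw [Ideal.map_span, Set.image_singleton] at this
    exact this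
  have F2 : ∀ tb : Tbar, tb - j (μbar tb) ∈ Ideal.span {G e} := by
    intro tb
    obtain ⟨t, rfl⟩ := Ideal.Quotient.mk_surjective tb
    induction t using TensorProduct.induction_on with
    | zero => simp
    | tmul c a =>
      have h1 : Ideal.Quotient.mk NT (c ⊗ₜ[R] a) =
          j (Ideal.Quotient.mk N c) * Ideal.Quotient.mk NT (1 ⊗ₜ a) := by
        rw [hj, ← map_mul, Algebra.TensorProduct.tmul_mul_tmul, mul_one, one_mul]
      have h2 : Ideal.Quotient.mk NT ((1 : C) ⊗ₜ[R] a) - j (g a) = G (1 ⊗ₜ a - a ⊗ₜ 1) := by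
        rw [map_sub, hG, hG, map_one, map_one, one_mul]
        have : Ideal.Quotient.mk NT ((1 : C) ⊗ₜ[R] (1 : A)) = 1 := map_one _
        rw [this, mul_one]
      have h3 : (1 : A) ⊗ₜ[R] a - a ⊗ₜ[R] 1 ∈ KaehlerDifferential.ideal R A := by
        show _ ∈ RingHom.ker _
        rw [RingHom.mem_ker]
        simp
      rw [hμbar, hμ, map_mul, h1, ← mul_sub, h2]
      exact Ideal.mul_mem_left _ _ (hGe _ h3)
    | add x y hx hy =>
      have : Ideal.Quotient.mk NT (x + y) - j (μbar (Ideal.Quotient.mk NT (x + y))) =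
          (Ideal.Quotient.mk NT x - j (μbar (Ideal.Quotient.mk NT x))) +
          (Ideal.Quotient.mk NT y - j (μbar (Ideal.Quotient.mk NT y))) := by
        simp only [map_add]; ring
      rw [this]
      exact Ideal.add_mem _ hx hy
  -- lift the idempotent
  have hnil : ∀ x ∈ RingHom.ker (Ideal.Quotient.mk NT), IsNilpotent x := by
    intro x hx
    rw [Ideal.mk_ker] at hx
    refine ⟨2, ?_⟩
    have : x ^ 2 ∈ NT ^ 2 := Ideal.pow_mem_pow hx 2
    rw [hNT] at this
    exact this
  obtain ⟨δ, hδ, hδe⟩ := exists_isIdempotentElem_eq_of_ker_isNilpotent (Ideal.Quotient.mk NT) hnil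
    (G (1 - e)) (Ideal.Quotient.mk_surjective _) (he.one_sub.map G)
  have hGe' : G e = Ideal.Quotient.mk NT (1 - δ) := by
    rw [map_sub, hδe, map_sub, map_one, map_one]; ring
  have hμδ : μ δ = 1 := by
    rw [← hμbar, hδe, F1, map_sub, map_one]
    have : Algebra.TensorProduct.lmul' R e = 0 := by
      have : e ∈ KaehlerDifferential.ideal R A := by rw [hsp]; exact Ideal.mem_span_singleton_self e
      exact this
    rw [this, sub_zero, map_one]
  let K : Ideal T := Ideal.span {1 - δ}
  have hflat : Module.Flat C (T ⧸ K) := by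
    let i : (T ⧸ K) →ₗ[C] T :=
      (Submodule.liftQ K (LinearMap.mulLeft T δ) (by
        rw [Ideal.span_le] 
        intro x hx
        rw [Set.mem_singleton_iff] at hx
        subst hx
        show δ * (1 - δ) = 0
        rw [mul_sub, mul_one, hδ.eq, sub_self])).restrictScalars C
    refine Module.Flat.of_retract i (Ideal.Quotient.mkₐ C K).toLinearMap ?_
    ext x
    obtain ⟨t, rfl⟩ := Ideal.Quotient.mk_surjective x
    show Ideal.Quotient.mk K (δ * t) = Ideal.Quotient.mk K t
    rw [Ideal.Quotient.mk_eq_mk_iff_sub_mem]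
    have : δ * t - t = (-t) * (1 - δ) := by ring
    rw [this]
    exact Ideal.mul_mem_left _ _ (Ideal.mem_span_singleton_self _)
  let ν : (T ⧸ K) →ₐ[C] C ⧸ N := Ideal.Quotient.liftₐ K μ (by
    intro x hx
    obtain ⟨s, rfl⟩ := Ideal.mem_span_singleton'.mp hx
    rw [map_mul, map_sub, map_one, hμδ, sub_self, mul_zero])
  have hνmk : ∀ t : T, ν (Ideal.Quotient.mk K t) = μ t := fun t => rfl
  have hbij : Function.Bijective (Algebra.linearMap C (T ⧸ K)) := by
    refine bijective_of_flat_of_sq_zero N hN _ ν.toLinearMap ?_ ?_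
    · intro c
      show ν (algebraMap C (T ⧸ K) c) = _
      rw [AlgHom.commutes]; rfl
    · intro p hp
      rw [Ideal.smul_top_eq_map]
      show p ∈ N.map (algebraMap C (T ⧸ K))
      obtain ⟨t, rfl⟩ := Ideal.Quotient.mk_surjective p
      have hp' : μ t = 0 := hp
      have h1 := F2 (Ideal.Quotient.mk NT t)
      rw [hμbar, hp', map_zero, sub_zero, hGe'] at h1
      obtain ⟨sb, hs⟩ := Ideal.mem_span_singleton'.mp h1
      obtain ⟨s, rfl⟩ := Ideal.Quotient.mk_surjective sb
      rw [← map_mul, Ideal.Quotient.mk_eq_mk_iff_sub_mem] at hs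
      have h2 : Ideal.Quotient.mk K t = Ideal.Quotient.mk K (t - s * (1 - δ)) := by
        rw [Ideal.Quotient.mk_eq_mk_iff_sub_mem]
        have : t - (t - s * (1 - δ)) = s * (1 - δ) := by ring
        rw [this]
        exact Ideal.mul_mem_left _ _ (Ideal.mem_span_singleton_self _)
      rw [h2]
      have h3 : N.map (algebraMap C (T ⧸ K)) = NT.map (Ideal.Quotient.mk K) := by
        rw [Ideal.map_map]; rfl
      rw [h3]
      apply Ideal.mem_map_of_mem
      have : t - s * (1 - δ) = -(s * (1 - δ) - t) := by ring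
      rw [this]
      exact Ideal.neg_mem_iff _ |>.mpr hs
  let Φ : C ≃ₐ[C] (T ⧸ K) := AlgEquiv.ofBijective (Algebra.ofId C (T ⧸ K)) hbij
  have hΦ : ∀ x : T ⧸ K, Ideal.Quotient.mk N (Φ.symm x) = ν x := by
    intro x
    obtain ⟨c, rfl⟩ := Φ.surjective x
    rw [AlgEquiv.symm_apply_apply]
    show _ = ν (algebraMap C (T ⧸ K) c)
    rw [AlgHom.commutes]; rfl
  let l : A →ₐ[R] C :=
    ((Φ.symm.toAlgHom.comp (Ideal.Quotient.mkₐ C K)).restrictScalars R).comp
      Algebra.TensorProduct.includeRight
  refine ⟨l, ?_⟩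
  ext a
  show Ideal.Quotient.mk N (Φ.symm (Ideal.Quotient.mk K (1 ⊗ₜ a))) = g a
  rw [hΦ, hνmk, hμ, map_one, one_mul]

end Groth.Agent.Lib.Helper23.FlatUnram
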