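import Mathlib
import Groth.Agent.Lib.Helper12.IntegralDim
import Groth.Agent.Lib.Helper10.RegularNormal
import Groth.Agent.Lib.Helper9.SmoothRed
import Groth.Agent.Lib.Helper18.SerreReg2
import Groth.Agent.Lib.Helper18.Miracle
import Groth.Agent.Lib.Helper6.CMChart1
import Groth.Agent.Lib.Helper23.FlatUnram

/-!
Unramified ⇒ étale over a regular local base on a full-dimensional component: injective_of_dim_eq, height_comap_le_of_goingDown, height_under_le, spanFinrank_map_le, flat_localization_of_unramified (R regular local of dim n, A finite R-algebra, p prime of A unramified over R, q ⊆ p prime with dim A/q = n ⇒ A_p flat over R; via A_p regular + miracle flatness), isEtaleAt_of_isUnramifiedAt.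
-/

set_option autoImplicit false
universe u


namespace Groth.Agent.Lib.Helper23.CK


open IsLocalRing

section Dim

/-- an integral algebra of the same finite dimension over a domain has injective structure map. -/
theorem injective_of_dim_eq {R D : Type*} [CommRing R] [IsDomain R] [CommRing D] [Algebra R D]
    [Algebra.IsIntegral R D] (n : ℕ) (hR : ringKrullDim R = n) (hD : ringKrullDim D = n) :
    Function.Injective (algebraMap R D) := by
  rw [injective_iff_map_eq_zero]
  intro F hF
  by_contra hF0
  obtain ⟨𝔨, h𝔨⟩ : ∃ 𝔨 : Ideal R, 𝔨 = RingHom.ker (algebraMap R D) := ⟨_, rfl⟩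
  have hF𝔨 : F ∈ 𝔨 := by rw [h𝔨]; exact hF
  letI : Algebra (R ⧸ 𝔨) D :=
    (Ideal.Quotient.lift 𝔨 (algebraMap R D) (fun a ha => by rw [h𝔨] at ha; exact ha)).toAlgebra
  haveI : IsScalarTower R (R ⧸ 𝔨) D :=
    IsScalarTower.of_algebraMap_eq (R := R) (S := R ⧸ 𝔨) (A := D) (fun _ => rfl)
  haveI : Algebra.IsIntegral (R ⧸ 𝔨) D := Algebra.IsIntegral.tower_top (R := R)
  have hinj : Function.Injective (algebraMap (R ⧸ 𝔨) D) := by
    rw [injective_iff_map_eq_zero]
    intro y hy
    obtain ⟨G, rfl⟩ := Ideal.Quotient.mk_surjective y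
    rw [Ideal.Quotient.eq_zero_iff_mem, h𝔨]
    exact hy
  have hdim1 := Groth.Agent.Lib.Helper12.ringKrullDim_eq_of_isIntegral_of_injective (R ⧸ 𝔨) D hinj
  have hdim2 : ringKrullDim (R ⧸ 𝔨) + 1 ≤ ringKrullDim R :=
    ringKrullDim_succ_le_of_surjective (Ideal.Quotient.mk 𝔨) Ideal.Quotient.mk_surjective
      (mem_nonZeroDivisors_of_ne_zero hF0) (Ideal.Quotient.eq_zero_iff_mem.mpr hF𝔨)
  rw [hdim1, hD, hR] at hdim2
  have h6 : ((n + 1 : ℕ) : WithBot ℕ∞) ≤ (n : ℕ) := by exact_mod_cast hdim2
  have h7 : n + 1 ≤ n := by exact_mod_cast h6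
  omega

/-- going-down: contraction does not decrease heights. -/
theorem height_comap_le_of_goingDown {A R : Type*} [CommRing A] [CommRing R] [Algebra A R]
    [Algebra.HasGoingDown A R] (P : Ideal R) [hP : P.IsPrime] :
    (P.comap (algebraMap A R)).height ≤ P.height := by
  haveI hcp : (P.comap (algebraMap A R)).IsPrime := Ideal.comap_isPrime _ _
  rw [PrimeSpectrum.height_eq_orderHeight (⟨P.comap (algebraMap A R), hcp⟩ : PrimeSpectrum _),
    PrimeSpectrum.height_eq_orderHeight (⟨P, hP⟩ : PrimeSpectrum R)]
  apply Order.height_le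
  intro l hl
  haveI : P.LiesOver l.last.asIdeal := ⟨by rw [hl]⟩
  obtain ⟨L, hlen, hlast, -⟩ := Ideal.exists_ltSeries_of_hasGoingDown l P
  rw [← hlen]
  exact Order.length_le_height hlast.le

/-- over a regular local ring `R`, for an integral algebra `A` and a prime `p` containing a prime
`q` with `dim A/q = dim R`: `ht (p ∩ R) ≤ ht p`. -/
theorem height_under_le {R A : Type u} [CommRing R] [IsRegularLocalRing R] [CommRing A]
    [Algebra R A] [Algebra.IsIntegral R A] (n : ℕ) (hR : ringKrullDim R = n)
    (p q : Ideal A) [p.IsPrime] [q.IsPrime] (hqp : q ≤ p) (hq : ringKrullDim (A ⧸ q) = n) :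
    (p.comap (algebraMap R A)).height ≤ p.height := by
  haveI : IsDomain R := Groth.Agent.Lib.Helper21.isDomain_of_isRegularLocalRing R
  haveI : Algebra.IsIntegral R (A ⧸ q) := Algebra.IsIntegral.trans A
  have hinj : Function.Injective (algebraMap R (A ⧸ q)) := injective_of_dim_eq n hR hq
  haveI : Algebra.HasGoingDown R (A ⧸ q) :=
    Groth.Agent.Lib.Helper10.RegularNormal.hasGoingDown_of_isRegularLocalRing R (A ⧸ q) hinj
  set P' : Ideal (A ⧸ q) := p.map (Ideal.Quotient.mk q) with hP'
  have hcomap : P'.comap (Ideal.Quotient.mk q) = p := by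
    rw [hP', Ideal.comap_map_of_surjective _ Ideal.Quotient.mk_surjective]
    rw [← RingHom.ker_eq_comap_bot, Ideal.mk_ker, sup_eq_left]
    exact hqp
  haveI hP'prime : P'.IsPrime := by
    rw [hP']
    exact Ideal.map_isPrime_of_surjective Ideal.Quotient.mk_surjective
      (by rw [Ideal.mk_ker]; exact hqp)
  have h1 : (P'.comap (algebraMap R (A ⧸ q))).height ≤ P'.height :=
    height_comap_le_of_goingDown P'
  have h2 : P'.height ≤ (P'.comap (Ideal.Quotient.mk q)).height :=
    Groth.Agent.Lib.Helper9.SmoothRed.height_le_height_comap_of_surjective _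
      Ideal.Quotient.mk_surjective P'
  have h3 : P'.comap (algebraMap R (A ⧸ q)) = p.comap (algebraMap R A) := by
    rw [IsScalarTower.algebraMap_eq R A (A ⧸ q), ← Ideal.comap_comap]
    congr 1
  rw [h3] at h1
  rw [hcomap] at h2
  exact h1.trans h2

end Dim



open IsLocalRing

section Star

variable {R A : Type u} [CommRing R] [IsRegularLocalRing R] [CommRing A]
  [Algebra R A] [Module.Finite R A]

/-- image of generators bound. -/
theorem spanFinrank_map_le {S T : Type*} [CommRing S] [CommRing T] [IsNoetherianRing S]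
    (f : S →+* T) (I : Ideal S) :
    (I.map f).spanFinrank ≤ I.spanFinrank := by
  have hfg : (I : Submodule S S).FG := IsNoetherian.noetherian I
  have h1 : I.map f = Ideal.span (f '' (Submodule.generators I)) := by
    conv_lhs => rw [← Submodule.span_generators I]
    exact Ideal.map_span f _
  rw [h1]
  have hfin : (Submodule.generators I).Finite := Submodule.FG.finite_generators hfg
  refine (Submodule.spanFinrank_span_le_ncard_of_finite (hfin.image f)).trans ?_
  rw [← Submodule.FG.generators_ncard hfg]
  exact Set.ncard_image_le hfin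

set_option maxHeartbeats 800000 in
/-- **(★)** a finite algebra over a regular local ring, unramified at a prime `p` lying on a
component of full dimension, is flat at `p`. -/
theorem flat_localization_of_unramified (n : ℕ) (hR : ringKrullDim R = n)
    (p q : Ideal A) [p.IsPrime] [q.IsPrime] (hqp : q ≤ p) (hq : ringKrullDim (A ⧸ q) = n)
    [Algebra.IsUnramifiedAt R p] :
    Module.Flat R (Localization.AtPrime p) := by
  haveI : IsNoetherianRing A := IsNoetherianRing.of_finite R A
  set 𝔯 : Ideal R := p.under R with h𝔯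
  haveI : p.LiesOver 𝔯 := ⟨rfl⟩
  letI : Algebra (Localization.AtPrime 𝔯) (Localization.AtPrime p) :=
    Localization.AtPrime.algebraOfLiesOver 𝔯 p
  haveI : IsLocalHom (algebraMap (Localization.AtPrime 𝔯) (Localization.AtPrime p)) :=
    Localization.isLocalHom_localRingHom 𝔯 p (algebraMap R A) Ideal.LiesOver.over
  haveI : IsRegularLocalRing (Localization.AtPrime 𝔯) :=
    Groth.Agent.Lib.Helper18.SerreReg.isRegularLocalRing_localization_atPrime R 𝔯
  have hmap : 𝔯.map (algebraMap R (Localization.AtPrime p)) = maximalIdeal _ :=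
    ((Algebra.isUnramifiedAt_iff_map_eq R 𝔯 p).mp inferInstance).2
  have hmap' : (maximalIdeal (Localization.AtPrime 𝔯)).map
      (algebraMap (Localization.AtPrime 𝔯) (Localization.AtPrime p)) = maximalIdeal _ := by
    rw [← Localization.AtPrime.map_eq_maximalIdeal, Ideal.map_map, ← IsScalarTower.algebraMap_eq]
    exact hmap
  have hdR : ringKrullDim (Localization.AtPrime 𝔯) = 𝔯.height :=
    IsLocalization.AtPrime.ringKrullDim_eq_height 𝔯 _
  have hdA : ringKrullDim (Localization.AtPrime p) = p.height :=
    IsLocalization.AtPrime.ringKrullDim_eq_height p _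
  have hle : 𝔯.height ≤ p.height := height_under_le n hR p q hqp hq
  have hsf : (maximalIdeal (Localization.AtPrime p)).spanFinrank ≤
      (maximalIdeal (Localization.AtPrime 𝔯)).spanFinrank := by
    rw [← hmap']
    exact spanFinrank_map_le _ _
  have hreg : ((maximalIdeal (Localization.AtPrime 𝔯)).spanFinrank : WithBot ℕ∞) =
      ringKrullDim (Localization.AtPrime 𝔯) :=
    (isRegularLocalRing_iff _).mp inferInstance
  have hge : ringKrullDim (Localization.AtPrime 𝔯) ≤ ringKrullDim (Localization.AtPrime p) := by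
    rw [hdR, hdA]
    exact_mod_cast hle
  have hsf' : ((maximalIdeal (Localization.AtPrime p)).spanFinrank : WithBot ℕ∞) ≤
      ringKrullDim (Localization.AtPrime 𝔯) := by
    rw [← hreg]
    exact_mod_cast hsf
  haveI : IsRegularLocalRing (Localization.AtPrime p) :=
    IsRegularLocalRing.of_spanFinrank_maximalIdeal_le _ (hsf'.trans hge)
  haveI : LocCoh.IsCohenMacaulayLocalRing (Localization.AtPrime p) :=
    Groth.Agent.Lib.Helper6.CMChart.isCohenMacaulayLocalRing_of_isRegularLocalRing _
  have hdimeq : ringKrullDim (Localization.AtPrime p) = ringKrullDim (Localization.AtPrime 𝔯) :=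
    le_antisymm ((ringKrullDim_le_spanFinrank_maximalIdeal _).trans hsf') hge
  have hfib : ringKrullDim (Localization.AtPrime p ⧸ (maximalIdeal (Localization.AtPrime 𝔯)).map
      (algebraMap (Localization.AtPrime 𝔯) (Localization.AtPrime p))) = 0 := by
    rw [hmap']
    exact ringKrullDim_eq_zero_of_isField
      ((Ideal.Quotient.maximal_ideal_iff_isField_quotient _).mp (maximalIdeal.isMaximal _))
  haveI hflat : Module.Flat (Localization.AtPrime 𝔯) (Localization.AtPrime p) :=
    Groth.Agent.Lib.Helper18.CM.miracle_flatness (by rw [hfib, add_zero]; exact hdimeq)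
  exact Module.Flat.trans R (Localization.AtPrime 𝔯) (Localization.AtPrime p)

/-- (★) in the form: unramified at `p` ⇒ étale at `p`. -/
theorem isEtaleAt_of_isUnramifiedAt (n : ℕ) (hR : ringKrullDim R = n)
    (p q : Ideal A) [p.IsPrime] [q.IsPrime] (hqp : q ≤ p) (hq : ringKrullDim (A ⧸ q) = n)
    [Algebra.IsUnramifiedAt R p] : Algebra.IsEtaleAt R p := by
  haveI := flat_localization_of_unramified n hR p q hqp hq
  haveI : Algebra.EssFiniteType R (Localization.AtPrime p) :=
    Algebra.EssFiniteType.comp R A (Localization.AtPrime p)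
  haveI : Algebra.FormallySmooth R (Localization.AtPrime p) :=
    Groth.Agent.Lib.Helper23.FlatUnram.formallySmooth_of_flat
  exact Algebra.FormallyEtale.of_formallyUnramified_and_formallySmooth

end Star

end Groth.Agent.Lib.Helper23.CK
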