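import Mathlib
import Groth.Agent.Lib.Helper23.CK6
import Groth.Agent.Lib.Helper23.CK7
import Groth.Agent.Lib.Helper23.CK2
import Groth.Agent.Lib.Helper23.CK6

/-!
EGA IV 18.11 (étale form): IndepAt p x (elementwise linear independence at a prime), free_of_genAt_of_indepAt (basis of the localized module), derCod, exists_fg_submodule, indepAt_of_isEtaleAt (for finite k[[T]] -> A étale at p the dt_i are independent in Ω̂ at p), exists_etale_of_genAt, free_of_isEtaleAt, t3850.
-/

set_option autoImplicit false
universe u


namespace Groth.Agent.Lib.Helper23.CK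


open Groth.Agent.Lib.Helper23.CK

section Indep

variable {A : Type*} [CommRing A] (p : Ideal A) {M : Type*} [AddCommGroup M] [Module A M]

/-- the family `x` is linearly independent at the prime `p` (elementwise form). -/
def IndepAt {ι : Type*} [Fintype ι] (x : ι → M) : Prop :=
  ∀ (a : ι → A) (s : A), s ∉ p → s • ∑ i, a i • x i = 0 → ∀ j, ∃ s' : A, s' ∉ p ∧ s' * a j = 0

variable {p}

/-- a family generating and independent at `p` gives a basis of the localized module. -/
theorem free_of_genAt_of_indepAt [p.IsPrime] {n : ℕ} (x : Fin n → M) (hg : GenAt p x)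
    (hi : IndepAt p x) :
    Module.Free (Localization.AtPrime p) (LocalizedModule p.primeCompl M) ∧
      Module.finrank (Localization.AtPrime p) (LocalizedModule p.primeCompl M) = n := by
  classical
  have hli : LinearIndependent (Localization.AtPrime p)
      (fun i => LocalizedModule.mkLinearMap p.primeCompl M (x i)) := by
    rw [Fintype.linearIndependent_iff]
    intro c hc j
    obtain ⟨d, hd⟩ := IsLocalization.exist_integer_multiples_of_finite p.primeCompl c
    choose a ha using hd
    have h1 : LocalizedModule.mkLinearMap p.primeCompl M (∑ i, a i • x i) = 0 := by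
      rw [map_sum]
      have h2 : ∀ i, LocalizedModule.mkLinearMap p.primeCompl M (a i • x i) =
          (d : A) • (c i • LocalizedModule.mkLinearMap p.primeCompl M (x i)) := by
        intro i
        rw [map_smul, ← algebraMap_smul (Localization.AtPrime p) (a i), ha i, smul_assoc]
      rw [Finset.sum_congr rfl fun i _ => h2 i, ← Finset.smul_sum, hc, smul_zero]
    obtain ⟨s', hs'⟩ := (IsLocalizedModule.eq_zero_iff p.primeCompl
      (LocalizedModule.mkLinearMap p.primeCompl M)).mp h1
    obtain ⟨s'', hs''p, hs''⟩ := hi a (s' : A) s'.2 hs' j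
    have h3 : algebraMap A (Localization.AtPrime p) (a j) = 0 := by
      rw [IsLocalization.map_eq_zero_iff p.primeCompl]
      exact ⟨⟨s'', hs''p⟩, hs''⟩
    have h4 : (d : A) • c j = 0 := by rw [← ha j, h3]
    have hu : IsUnit (algebraMap A (Localization.AtPrime p) (d : A)) :=
      IsLocalization.map_units (M := p.primeCompl) _ d
    rw [Algebra.smul_def] at h4
    exact (hu.mul_right_eq_zero).mp h4
  let b := Module.Basis.mk hli (hg.span_localized).ge
  exact ⟨Module.Free.of_basis b, by rw [Module.finrank_eq_card_basis b, Fintype.card_fin]⟩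

end Indep



open IsLocalRing TensorProduct KaehlerDifferential MvPowerSeries
open Groth.Agent.Lib.Helper23.CompletedKaehlerSep Groth.Agent.Lib.Helper23.CK

section Et

variable {k : Type u} [Field k] {m : ℕ} {A : Type u} [CommRing A] [IsLocalRing A]
  [IsNoetherianRing A] [IsAdicComplete (maximalIdeal A) A]
  [Algebra (MvPowerSeries (Fin m) k) A] [Algebra k A] [IsScalarTower k (MvPowerSeries (Fin m) k) A]
  [Module.Finite (MvPowerSeries (Fin m) k) A]

/-- restriction of the codomain of a derivation to a submodule containing its values. -/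
noncomputable def derCod {M : Type*} [AddCommGroup M] [Module A M] [Module k M]
    [IsScalarTower k A M] (D' : Derivation k A M) (N : Submodule A M) (h : ∀ a, D' a ∈ N) :
    Derivation k A N :=
  Derivation.mk'
    ({ toFun := fun a => ⟨D' a, h a⟩
       map_add' := fun a b => Subtype.ext (map_add D' a b)
       map_smul' := fun c a => Subtype.ext (D'.map_smul c a) } : A →ₗ[k] N)
    (fun a b => Subtype.ext (D'.leibniz a b))

omit [IsLocalRing A] [IsNoetherianRing A] [IsAdicComplete (maximalIdeal A) A] in
/-- the values on `A` of a derivation of `A_p` extending `∂_j` lie in a finite `A`-submodule. -/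
theorem exists_fg_submodule (p : Ideal A) [p.IsPrime] (j : Fin m)
    (Dj : Derivation k (Localization.AtPrime p) (Localization.AtPrime p))
    (hDj : ∀ f : MvPowerSeries (Fin m) k,
      Dj (algebraMap A (Localization.AtPrime p) (algebraMap (MvPowerSeries (Fin m) k) A f)) =
        algebraMap A (Localization.AtPrime p)
          (algebraMap (MvPowerSeries (Fin m) k) A (pderiv k j f))) :
    ∃ N : Submodule A (Localization.AtPrime p), N.FG ∧
      ∀ a : A, Dj (algebraMap A (Localization.AtPrime p) a) ∈ N := by
  classical
  obtain ⟨r, g, hg⟩ := Module.Finite.exists_fin (R := MvPowerSeries (Fin m) k) (M := A)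
  let S : Set (Localization.AtPrime p) :=
    insert 1 (Set.range fun l : Fin r => Dj (algebraMap A (Localization.AtPrime p) (g l)))
  refine ⟨Submodule.span A S, ?_, ?_⟩
  · exact Submodule.fg_span ((Set.finite_range _).insert 1)
  · intro a
    have ha : a ∈ Submodule.span (MvPowerSeries (Fin m) k) (Set.range g) := by rw [hg]; trivial
    rw [Submodule.mem_span_range_iff_exists_fun] at ha
    obtain ⟨c, rfl⟩ := ha
    rw [map_sum, map_sum]
    refine Submodule.sum_mem _ fun l _ => ?_
    rw [Algebra.smul_def, map_mul, Derivation.leibniz, hDj]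
    refine Submodule.add_mem _ ?_ ?_
    · rw [smul_eq_mul, ← Algebra.smul_def]
      exact Submodule.smul_mem _ _ (Submodule.subset_span (Set.mem_insert_of_mem _ ⟨l, rfl⟩))
    · have h1 : algebraMap A (Localization.AtPrime p) (g l) •
          algebraMap A (Localization.AtPrime p)
            (algebraMap (MvPowerSeries (Fin m) k) A (pderiv k j (c l))) =
          (g l * algebraMap (MvPowerSeries (Fin m) k) A (pderiv k j (c l))) •
            (1 : Localization.AtPrime p) := by
        rw [smul_eq_mul, Algebra.smul_def, map_mul, mul_one]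
      rw [h1]
      exact Submodule.smul_mem _ _ (Submodule.subset_span (Set.mem_insert _ _))

/-- étale at `p` ⇒ the `dt_i` are linearly independent at `p`. -/
theorem indepAt_of_isEtaleAt (p : Ideal A) [p.IsPrime]
    [het : Algebra.IsEtaleAt (MvPowerSeries (Fin m) k) p] :
    IndepAt p (fun i : Fin m => dhat (k := k) (algebraMap (MvPowerSeries (Fin m) k) A (X i))) := by
  classical
  haveI : Module.Finite k (ResidueField A) := finite_residueField (r := m)
  haveI : Algebra.FormallyEtale (MvPowerSeries (Fin m) k) (Localization.AtPrime p) := het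
  intro a s hs hzero j
  obtain ⟨Dj, hDj⟩ := exists_derivation_extension_etale (k := k) (P := MvPowerSeries (Fin m) k)
    (E := Localization.AtPrime p) (pderiv k j)
  have hDj' : ∀ f : MvPowerSeries (Fin m) k,
      Dj (algebraMap A (Localization.AtPrime p) (algebraMap (MvPowerSeries (Fin m) k) A f)) =
        algebraMap A (Localization.AtPrime p)
          (algebraMap (MvPowerSeries (Fin m) k) A (pderiv k j f)) := by
    intro f
    rw [← IsScalarTower.algebraMap_apply, ← IsScalarTower.algebraMap_apply]
    exact hDj f
  obtain ⟨N, hNfg, hN⟩ := exists_fg_submodule (k := k) p j Dj hDj'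
  haveI : Module.Finite A N := Module.Finite.iff_fg.mpr hNfg
  let D' : Derivation k A (Localization.AtPrime p) := Dj.compAlgebraMap A
  obtain ⟨l, hl⟩ := exists_lift (k := k) (A := A) (derCod D' N hN)
  have h1 := congrArg (fun z => ((l z : N) : Localization.AtPrime p)) hzero
  simp only [map_smul, map_sum, map_zero, hl] at h1
  have h2 : ∀ i, ((derCod D' N hN (algebraMap (MvPowerSeries (Fin m) k) A (X i)) : N) :
      Localization.AtPrime p) = if i = j then 1 else 0 := by
    intro i
    show Dj (algebraMap A (Localization.AtPrime p)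
      (algebraMap (MvPowerSeries (Fin m) k) A (X i))) = _
    rw [hDj']
    split_ifs with h
    · subst h; rw [pderiv_X_self, map_one, map_one]
    · rw [pderiv_X_of_ne h, map_zero, map_zero]
  simp only [Submodule.coe_smul, Submodule.coe_sum, Submodule.coe_zero, h2] at h1
  rw [Finset.sum_eq_single j (fun i _ hij => by rw [if_neg hij, smul_zero])
    (fun h => absurd (Finset.mem_univ j) h), if_pos rfl, ← mul_smul, Algebra.smul_def, mul_one,
    IsLocalization.map_eq_zero_iff p.primeCompl] at h1
  obtain ⟨s'', hs''⟩ := h1
  refine ⟨(s'' : A) * s, p.primeCompl.mul_mem s''.2 hs, ?_⟩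
  rw [mul_assoc]
  exact hs''

end Et



open IsLocalRing TensorProduct KaehlerDifferential MvPowerSeries
open Groth.Agent.Lib.Helper23.CompletedKaehlerSep Groth.Agent.Lib.Helper23.CK
open Groth.Agent.Lib.Helper20

section Main

variable {k A : Type u} [Field k] [CommRing A] [IsLocalRing A] [IsNoetherianRing A]
  [IsAdicComplete (maximalIdeal A) A] [Algebra k A] [Module.Finite k (ResidueField A)]

/-- from generation at `p` by `n = dim A` elements to a finite local map étale at `p`. -/
theorem exists_etale_of_genAt (n : ℕ) (hn : ringKrullDim A = n) (p : Ideal A) [p.IsPrime]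
    (hp : p ≠ maximalIdeal A)
    (hq : ∃ q ∈ minimalPrimes A, q ≤ p ∧ ringKrullDim (A ⧸ q) = n)
    (x : Fin n → AdicCompletion (maximalIdeal A) (Ω[A⁄k])) (hx : GenAt p x) :
    ∃ (_ : Algebra (MvPowerSeries (Fin n) k) A) (_ : IsScalarTower k (MvPowerSeries (Fin n) k) A),
      IsLocalHom (algebraMap (MvPowerSeries (Fin n) k) A) ∧ Module.Finite (MvPowerSeries (Fin n) k) A ∧
        Algebra.IsEtaleAt (MvPowerSeries (Fin n) k) p := by
  obtain ⟨q, hqmin, hqp, hqdim⟩ := hq
  obtain ⟨t, ht, hfin, hgen⟩ := exists_unramified_of_genAt (k := k) p hp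
    ⟨q, hqmin, hqp, by rw [hqdim, hn]⟩ n x hx
  letI inst : Algebra (MvPowerSeries (Fin n) k) A := (CohenReg.Phi k t ht).toRingHom.toAlgebra
  haveI tower : IsScalarTower k (MvPowerSeries (Fin n) k) A :=
    IsScalarTower.of_algebraMap_eq (fun c => ((CohenReg.Phi k t ht).commutes c).symm)
  haveI hfin' : Module.Finite (MvPowerSeries (Fin n) k) A := hfin
  have hloc : IsLocalHom (algebraMap (MvPowerSeries (Fin n) k) A) := by
    refine ⟨fun f hf => ?_⟩
    by_contra hnu
    have h1 : f ∈ maximalIdeal (MvPowerSeries (Fin n) k) := (mem_maximalIdeal f).mpr hnu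
    rw [← comap_maximalIdeal (k := k) (r := n) (A := A), Ideal.mem_comap] at h1
    exact (mem_maximalIdeal _).mp h1 hf
  have hX : (fun i : Fin n => dhat (k := k) (algebraMap (MvPowerSeries (Fin n) k) A (X i))) =
      fun i => dhat (k := k) (t i) :=
    funext fun i => congrArg _ (CohenReg.Phi_X k t ht i)
  haveI hun : Algebra.IsUnramifiedAt (MvPowerSeries (Fin n) k) p :=
    isUnramifiedAt_of_genAt (k := k) (m := n) p (hX ▸ hgen)
  haveI : q.IsPrime := Ideal.minimalPrimes_isPrime hqmin
  have het : Algebra.IsEtaleAt (MvPowerSeries (Fin n) k) p :=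
    isEtaleAt_of_isUnramifiedAt n
      (Groth.Agent.Lib.Helper1.ArtFunLib.ringKrullDim_mvPowerSeries k n) p q hqp hqdim
  exact ⟨inst, tower, hloc, hfin', het⟩

/-- a finite `k[[T_1..T_n]]`-algebra structure étale at `p` makes `Ω̂_p` free of rank `n`. -/
theorem free_of_isEtaleAt {n : ℕ} [Algebra (MvPowerSeries (Fin n) k) A]
    [IsScalarTower k (MvPowerSeries (Fin n) k) A] [Module.Finite (MvPowerSeries (Fin n) k) A]
    (p : Ideal A) [p.IsPrime] [het : Algebra.IsEtaleAt (MvPowerSeries (Fin n) k) p] :
    Module.Free (Localization.AtPrime p)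
        (LocalizedModule p.primeCompl (AdicCompletion (maximalIdeal A) (Ω[A⁄k]))) ∧
      Module.finrank (Localization.AtPrime p)
        (LocalizedModule p.primeCompl (AdicCompletion (maximalIdeal A) (Ω[A⁄k]))) = n := by
  haveI : Algebra.FormallyEtale (MvPowerSeries (Fin n) k) (Localization.AtPrime p) := het
  haveI : Algebra.IsUnramifiedAt (MvPowerSeries (Fin n) k) p :=
    (inferInstance : Algebra.FormallyUnramified (MvPowerSeries (Fin n) k) (Localization.AtPrime p))
  exact free_of_genAt_of_indepAt _ (genAt_of_isUnramifiedAt (k := k) (m := n) (A := A) p)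
    (indepAt_of_isEtaleAt (k := k) (m := n) (A := A) p)

end Main

theorem t3850 (k A : Type u) [Field k] [CommRing A]
    [IsLocalRing A] [IsNoetherianRing A] [Algebra k A] [IsAdicComplete (IsLocalRing.maximalIdeal A) A]
    [Module.Finite k (IsLocalRing.ResidueField A)] (n : ℕ) (hn : ringKrullDim A = n)
    (p : Ideal A) [p.IsPrime] (hp : p ≠ IsLocalRing.maximalIdeal A)
    (hq : ∃ q ∈ minimalPrimes A, q ≤ p ∧ ringKrullDim (A ⧸ q) = n) :
    (Module.Free (Localization.AtPrime p)
        (LocalizedModule p.primeCompl (AdicCompletion (IsLocalRing.maximalIdeal A) (KaehlerDifferential k A))) ∧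
      Module.finrank (Localization.AtPrime p)
        (LocalizedModule p.primeCompl (AdicCompletion (IsLocalRing.maximalIdeal A) (KaehlerDifferential k A))) = n) ↔
      ∃ (_ : Algebra (MvPowerSeries (Fin n) k) A) (_ : IsScalarTower k (MvPowerSeries (Fin n) k) A),
        IsLocalHom (algebraMap (MvPowerSeries (Fin n) k) A) ∧ Module.Finite (MvPowerSeries (Fin n) k) A ∧
          Algebra.IsEtaleAt (MvPowerSeries (Fin n) k) p := by
  constructor
  · rintro ⟨hfree, hrank⟩
    haveI := finite_mhat' (k := k) (A := A)
    haveI := hfree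
    let b := Module.finBasis (Localization.AtPrime p)
      (LocalizedModule p.primeCompl (AdicCompletion (maximalIdeal A) (Ω[A⁄k])))
    let s : Fin n → LocalizedModule p.primeCompl (AdicCompletion (maximalIdeal A) (Ω[A⁄k])) :=
      fun i => b (Fin.cast hrank.symm i)
    have hs : Submodule.span (Localization.AtPrime p) (Set.range s) = ⊤ := by
      have : Set.range s = Set.range b := by
        ext y
        constructor
        · rintro ⟨i, rfl⟩; exact ⟨_, rfl⟩
        · rintro ⟨i, rfl⟩; exact ⟨Fin.cast hrank i, by simp [s]⟩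
      rw [this, b.span_eq]
    obtain ⟨x, hx⟩ := exists_genAt_of_span_localized s hs
    exact exists_etale_of_genAt (k := k) n hn p hp hq x hx
  · rintro ⟨inst, tower, hloc, hfin, het⟩
    exact free_of_isEtaleAt (k := k) (n := n) p

end Groth.Agent.Lib.Helper23.CK
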