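import Mathlib
import Groth.Agent.Lib.Helper23.GeomRegular
import Groth.Agent.Lib.Helper23.FlatFibreSmooth
import Groth.Agent.Lib.Helper23.CK8
import Groth.Agent.Lib.Helper23.CompletedKaehlerPS

/-!
EGA IV 18.11 (geometric regularity): geomRegular_of_formallySmooth (R Noetherian geometrically regular k-algebra, A an R-algebra, p prime with A_p Noetherian and formally smooth over R ⇒ A_p geometrically regular over k; via adic formal smoothness of R_r and lifting), geomRegular_mvPowerSeries, t5055.
-/

set_option autoImplicit false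
universe u


namespace Groth.Agent.Lib.Helper23.CK


open IsLocalRing

section GR

variable {k R A : Type u} [Field k] [CommRing R] [IsNoetherianRing R] [Algebra k R]
  [CommRing A] [Algebra R A] [Algebra k A] [IsScalarTower k R A]

set_option maxHeartbeats 800000 in
/-- a Noetherian local ring formally smooth over a localization-closed geometrically regular
`k`-algebra is geometrically regular over `k`. -/
theorem geomRegular_of_formallySmooth (hR : CAlg.IsGeometricallyRegular k R)
    (p : Ideal A) [p.IsPrime] [IsNoetherianRing (Localization.AtPrime p)]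
    [Algebra.FormallySmooth R (Localization.AtPrime p)] :
    CAlg.IsGeometricallyRegular k (Localization.AtPrime p) := by
  set 𝔯 : Ideal R := p.under R with h𝔯
  haveI : p.LiesOver 𝔯 := ⟨rfl⟩
  letI : Algebra (Localization.AtPrime 𝔯) (Localization.AtPrime p) :=
    Localization.AtPrime.algebraOfLiesOver 𝔯 p
  haveI : IsLocalHom (algebraMap (Localization.AtPrime 𝔯) (Localization.AtPrime p)) :=
    Localization.isLocalHom_localRingHom 𝔯 p (algebraMap R A) Ideal.LiesOver.over
  have hR𝔯 : CAlg.IsGeometricallyRegular k (Localization.AtPrime 𝔯) :=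
    Groth.Agent.Lib.Helper23.FlatFibreSmooth.geomRegular_localization hR 𝔯.primeCompl
  haveI : IsNoetherianRing (Localization.AtPrime 𝔯) :=
    IsLocalization.isNoetherianRing 𝔯.primeCompl _ inferInstance
  have hadic : CAlgX.IsAdicFormallySmooth k (Localization.AtPrime 𝔯)
      (maximalIdeal (Localization.AtPrime 𝔯)) :=
    Groth.Agent.Lib.Helper23.GeomRegular.geomRegular_iff_adic.mp hR𝔯
  rw [Groth.Agent.Lib.Helper23.GeomRegular.geomRegular_iff_adic]
  intro C _ _ N hN ψ hψ
  obtain ⟨j, hj⟩ := hψ
  let ι : Localization.AtPrime 𝔯 →ₐ[k] Localization.AtPrime p :=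
    { (algebraMap (Localization.AtPrime 𝔯) (Localization.AtPrime p)) with
      commutes' := fun c => by
        show algebraMap (Localization.AtPrime 𝔯) (Localization.AtPrime p)
          (algebraMap k (Localization.AtPrime 𝔯) c) = algebraMap k (Localization.AtPrime p) c
        rw [IsScalarTower.algebraMap_apply k R (Localization.AtPrime 𝔯),
          ← IsScalarTower.algebraMap_apply R (Localization.AtPrime 𝔯) (Localization.AtPrime p),
          IsScalarTower.algebraMap_apply R A (Localization.AtPrime p),
          ← IsScalarTower.algebraMap_apply k R A,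
          ← IsScalarTower.algebraMap_apply k A (Localization.AtPrime p)] }
  have hι : ∀ y, ι y = algebraMap (Localization.AtPrime 𝔯) (Localization.AtPrime p) y :=
    fun _ => rfl
  obtain ⟨χ₀, hχ₀⟩ := hadic C N hN (ψ.comp ι) ⟨j, fun y hy => by
    show ψ (ι y) = 0
    apply hj
    have h1 : (maximalIdeal (Localization.AtPrime 𝔯) ^ j).map
        (algebraMap (Localization.AtPrime 𝔯) (Localization.AtPrime p)) ≤
        maximalIdeal (Localization.AtPrime p) ^ j := by
      rw [Ideal.map_pow]
      exact Ideal.pow_right_mono (IsLocalRing.map_maximalIdeal_le _) j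
    exact h1 (Ideal.mem_map_of_mem _ hy)⟩
  have hχ₀' : ∀ y, Ideal.Quotient.mk N (χ₀ y) = ψ (ι y) := fun y =>
    AlgHom.congr_fun hχ₀ y
  letI : Algebra R C := (χ₀.toRingHom.comp (algebraMap R (Localization.AtPrime 𝔯))).toAlgebra
  have halg : ∀ r : R, algebraMap R C r = χ₀ (algebraMap R (Localization.AtPrime 𝔯) r) :=
    fun _ => rfl
  let ψ' : Localization.AtPrime p →ₐ[R] C ⧸ N :=
    { (ψ : Localization.AtPrime p →+* C ⧸ N) with
      commutes' := fun r => by
        show ψ (algebraMap R (Localization.AtPrime p) r) = algebraMap R (C ⧸ N) r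
        rw [IsScalarTower.algebraMap_apply R (Localization.AtPrime 𝔯) (Localization.AtPrime p),
          ← hι, ← hχ₀', IsScalarTower.algebraMap_apply R C (C ⧸ N), halg]
        rfl }
  let χ' : Localization.AtPrime p →ₐ[R] C := Algebra.FormallySmooth.lift N ⟨2, hN⟩ ψ'
  have hχ' : ∀ y, Ideal.Quotient.mk N (χ' y) = ψ y := fun y =>
    Algebra.FormallySmooth.mk_lift N ⟨2, hN⟩ ψ' y
  let χ : Localization.AtPrime p →ₐ[k] C :=
    { (χ' : Localization.AtPrime p →+* C) with
      commutes' := fun c => by
        show χ' (algebraMap k (Localization.AtPrime p) c) = algebraMap k C c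
        rw [IsScalarTower.algebraMap_apply k A (Localization.AtPrime p),
          IsScalarTower.algebraMap_apply k R A,
          ← IsScalarTower.algebraMap_apply R A (Localization.AtPrime p), χ'.commutes, halg,
          ← IsScalarTower.algebraMap_apply k R (Localization.AtPrime 𝔯), χ₀.commutes] }
  refine ⟨χ, AlgHom.ext fun y => ?_⟩
  exact hχ' y

end GR



open IsLocalRing TensorProduct KaehlerDifferential MvPowerSeries
open Groth.Agent.Lib.Helper23.CompletedKaehlerSep Groth.Agent.Lib.Helper23.CK

/-- power series rings over a field are geometrically regular. -/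
theorem geomRegular_mvPowerSeries (k : Type u) [Field k] (n : ℕ) :
    CAlg.IsGeometricallyRegular k (MvPowerSeries (Fin n) k) := by
  rw [Groth.Agent.Lib.Helper23.GeomRegular.geomRegular_iff_adic]
  exact Groth.Agent.Lib.Helper23.CohenEq2.adic_of_regular_of_sep
    (Groth.Agent.Lib.Helper1.ArtFunLib.isRegularLocalRing_mvPowerSeries k n)

theorem t5055 (k A : Type u) [Field k] [CommRing A]
    [IsLocalRing A] [IsNoetherianRing A] [Algebra k A] [IsAdicComplete (IsLocalRing.maximalIdeal A) A]
    [Module.Finite k (IsLocalRing.ResidueField A)]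
    (n : ℕ) (hn : ringKrullDim A = n) (p : Ideal A) [p.IsPrime] (hp : p ≠ IsLocalRing.maximalIdeal A)
    (hq : ∃ q ∈ minimalPrimes A, q ≤ p ∧ ringKrullDim (A ⧸ q) = n)
    (hgen : ∃ s : Fin n → (LocalizedModule p.primeCompl (AdicCompletion (IsLocalRing.maximalIdeal A) (KaehlerDifferential k A))), Submodule.span (Localization.AtPrime p) (Set.range s) = ⊤) :
    (Module.Free (Localization.AtPrime p) (LocalizedModule p.primeCompl (AdicCompletion (IsLocalRing.maximalIdeal A) (KaehlerDifferential k A))) ∧
      Module.finrank (Localization.AtPrime p) (LocalizedModule p.primeCompl (AdicCompletion (IsLocalRing.maximalIdeal A) (KaehlerDifferential k A))) = n) ∧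
      CAlg.IsGeometricallyRegular k (Localization.AtPrime p) := by
  obtain ⟨s, hs⟩ := hgen
  obtain ⟨x, hx⟩ := exists_genAt_of_span_localized s hs
  obtain ⟨inst, tower, hloc, hfin, het⟩ := exists_etale_of_genAt (k := k) n hn p hp hq x hx
  refine ⟨free_of_isEtaleAt (k := k) (n := n) p, ?_⟩
  haveI : Algebra.FormallyEtale (MvPowerSeries (Fin n) k) (Localization.AtPrime p) := het
  haveI : IsNoetherianRing (Localization.AtPrime p) :=
    IsLocalization.isNoetherianRing p.primeCompl _ inferInstance
  haveI : IsRegularLocalRing (MvPowerSeries (Fin n) k) :=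
    Groth.Agent.Lib.Helper1.ArtFunLib.isRegularLocalRing_mvPowerSeries k n
  haveI : IsNoetherianRing (MvPowerSeries (Fin n) k) := inferInstance
  exact geomRegular_of_formallySmooth (geomRegular_mvPowerSeries k n) p

end Groth.Agent.Lib.Helper23.CK
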