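import Mathlib
import Groth.Agent.Lib.Helper23.LinIndex
import Groth.Agent.Lib.Helper23.FormalFibreCharP3
import Groth.Agent.Lib.Helper23.Cartier
import Groth.Agent.Lib.Helper23.CohenDomain
import Groth.Agent.Lib.Helper23.CMFibres
import Groth.Agent.Lib.Helper12.IntegralDim

/-!
Module of imperfection of the fraction field L of a complete local domain C over k (EGA 0_IV 21.9.4): rank_coker_comp_of_index_zero (linear algebra), exists_functional / exists_extension (derivations of k extend to Frac k[[T]]), mapBaseChange_injective (Υ_{E/k}=0 for E = Frac k[[T]]), exists_pderiv_functional, fmap / comp_fmap / fmap_injective / rank_eq (rank Ω_{L/k} = rank coker(L⊗Ω_k → L⊗_EΩ_E) + rank Υ_{L/k}), le_rank_coker (≥ n), exists_field_tower (Cohen normalization with n = dim C and Frac tower).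
-/

set_option autoImplicit false
universe u v


namespace Groth.Agent.Lib.Helper23.Imperf


open Module Cardinal Groth.Agent.Lib.Helper23.LinIndex

/-- kernel and cokernel of `g ∘ f` for injective `f` and `g` of index zero. -/
theorem rank_coker_comp_of_index_zero {L : Type u} [Field L] {V W X : Type v} [AddCommGroup V]
    [Module L V] [AddCommGroup W] [Module L W] [AddCommGroup X] [Module L X]
    (f : V →ₗ[L] W) (g : W →ₗ[L] X) (hf : Function.Injective f) (hg : HasIndex g 0) :
    Module.Finite L (LinearMap.ker (g ∘ₗ f)) ∧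
      Module.rank L (X ⧸ LinearMap.range (g ∘ₗ f)) =
        Module.rank L (W ⧸ LinearMap.range f) + Module.rank L (LinearMap.ker (g ∘ₗ f)) := by
  have h1 := rank_ker_comp f g
  have h2 := rank_ker_eq f g
  have h3 := rank_coker_eq f g
  have h4 := rank_coker_comp f g
  have hkf : Module.rank L (LinearMap.ker f) = 0 := by
    rw [LinearMap.ker_eq_bot.mpr hf]
    exact rank_bot L V
  rw [hkf, zero_add] at h1
  obtain ⟨a', c', ha', hc', hac⟩ := hasIndex_iff_rank.mp hg
  have hac' : c' = a' := by omega
  subst hac'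
  set a := Module.rank L ↥(LinearMap.ker g ⊓ LinearMap.range f) with ha
  set r := Module.rank L ↥(LinearMap.range ((LinearMap.range f).mkQ ∘ₗ (LinearMap.ker g).subtype))
    with hr
  set t := Module.rank L ↥(LinearMap.range (cokerMap f g)) with ht
  constructor
  · rw [← Module.rank_lt_aleph0_iff, h1]
    calc a ≤ a + r := le_self_add
      _ = (c' : Cardinal) := by rw [← h2, ha']
      _ < Cardinal.aleph0 := Cardinal.nat_lt_aleph0 c'
  · rw [h4, h3, h1, hc', ← ha', h2]
    rw [add_comm t, add_assoc]
    exact add_comm _ _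



open Module Cardinal TensorProduct KaehlerDifferential MvPowerSeries
open Groth.Agent.Lib.Helper23.FormalFibreCharP

section PS

variable (k : Type u) [Field k] (n : ℕ) (E : Type u) [Field E] [Algebra (MvPowerSeries (Fin n) k) E]
  [IsFractionRing (MvPowerSeries (Fin n) k) E]

/-- a derivation of `k[[T]]` (over `ℤ`) induces a functional on `Ω_{E/ℤ}`, `E = Frac k[[T]]`. -/
theorem exists_functional (D₀ : Derivation ℤ (MvPowerSeries (Fin n) k) (MvPowerSeries (Fin n) k)) :
    ∃ Lam : Ω[E⁄ℤ] →ₗ[E] E, ∀ f : MvPowerSeries (Fin n) k,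
        Lam (D ℤ E (algebraMap (MvPowerSeries (Fin n) k) E f)) =
        algebraMap (MvPowerSeries (Fin n) k) E (D₀ f) := by
  haveI : Algebra.FormallyEtale (MvPowerSeries (Fin n) k) E :=
    Algebra.FormallyEtale.of_isLocalization (nonZeroDivisors (MvPowerSeries (Fin n) k))
  obtain ⟨D', hD'⟩ := exists_derivation_of_formallyEtale
    (A := MvPowerSeries (Fin n) k) (B := E) D₀
  refine ⟨D'.liftKaehlerDifferential, fun f => ?_⟩
  rw [Derivation.liftKaehlerDifferential_comp_D, hD']

variable [Algebra k E] [IsScalarTower k (MvPowerSeries (Fin n) k) E]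

include n in
/-- every functional on `Ω_{k/ℤ}` extends to `Ω_{E/ℤ}`. -/
theorem exists_extension (lam : Ω[k⁄ℤ] →ₗ[k] k) :
    ∃ Lam : Ω[E⁄ℤ] →ₗ[E] E, ∀ ω : Ω[k⁄ℤ],
      Lam (KaehlerDifferential.map ℤ ℤ k E ω) = algebraMap k E (lam ω) := by
  let D₁ : Derivation ℤ k k := lam.compDer (D ℤ k)
  obtain ⟨Lam, hLam⟩ := exists_functional k n E (Dco n D₁)
  refine ⟨Lam, fun ω => ?_⟩
  have hspan := KaehlerDifferential.span_range_derivation ℤ k
  have hω : ω ∈ Submodule.span k (Set.range (D ℤ k)) := by rw [hspan]; trivial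
  induction hω using Submodule.span_induction with
  | mem x hx =>
    obtain ⟨c, rfl⟩ := hx
    rw [KaehlerDifferential.map_D]
    have h1 : algebraMap k E c = algebraMap (MvPowerSeries (Fin n) k) E (C c) := by
      rw [IsScalarTower.algebraMap_apply k (MvPowerSeries (Fin n) k) E,
        MvPowerSeries.algebraMap_apply, Algebra.algebraMap_self, RingHom.id_apply]
    rw [h1, hLam, Dco_C]
    have h2 : algebraMap k E (D₁ c) = algebraMap (MvPowerSeries (Fin n) k) E (C (D₁ c)) := by
      rw [IsScalarTower.algebraMap_apply k (MvPowerSeries (Fin n) k) E,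
        MvPowerSeries.algebraMap_apply, Algebra.algebraMap_self, RingHom.id_apply]
    rw [← h2]
    rfl
  | zero => simp
  | add x y _ _ hx hy => rw [map_add, map_add, hx, hy, map_add, map_add]
  | smul a x _ hx =>
    rw [map_smul, ← algebraMap_smul E a ((KaehlerDifferential.map ℤ ℤ k E) x), map_smul, hx,
      smul_eq_mul, map_smul, smul_eq_mul, map_mul]

end PS



open Module Cardinal TensorProduct KaehlerDifferential MvPowerSeries
open Groth.Agent.Lib.Helper23.FormalFibreCharP

section PS

variable (k : Type u) [Field k] (n : ℕ) (E : Type u) [Field E] [Algebra (MvPowerSeries (Fin n) k) E]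
  [IsFractionRing (MvPowerSeries (Fin n) k) E] [Algebra k E]
  [IsScalarTower k (MvPowerSeries (Fin n) k) E]

include n in
/-- the module of imperfection of `Frac k[[T]]` over `k` vanishes. -/
theorem mapBaseChange_injective : Function.Injective (mapBaseChange ℤ k E) := by
  classical
  rw [injective_iff_map_eq_zero]
  intro x hx
  let b := Module.Free.chooseBasis k (Ω[k⁄ℤ])
  apply (b.baseChange E).repr.injective
  rw [map_zero]
  ext i
  obtain ⟨Lam, hLam⟩ := exists_extension k n E (b.coord i)
  have h : ∀ y : E ⊗[k] Ω[k⁄ℤ], (b.baseChange E).repr y i = Lam (mapBaseChange ℤ k E y) := by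
    intro y
    induction y using TensorProduct.induction_on with
    | zero => simp
    | tmul e ω =>
      rw [Module.Basis.baseChange_repr_tmul, mapBaseChange_tmul, map_smul, hLam,
        Module.Basis.coord_apply, Algebra.smul_def, smul_eq_mul, mul_comm]
    | add y z hy hz => rw [map_add, Finsupp.add_apply, hy, hz, map_add, map_add]
  rw [h, hx, map_zero]
  rfl

include n in
/-- the functionals induced by the partial derivatives. -/
theorem exists_pderiv_functional (i : Fin n) :
    ∃ Lam : Ω[E⁄ℤ] →ₗ[E] E, (∀ ω : Ω[k⁄ℤ], Lam (KaehlerDifferential.map ℤ ℤ k E ω) = 0) ∧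
      ∀ j, Lam (D ℤ E (algebraMap (MvPowerSeries (Fin n) k) E (X j))) = if j = i then 1 else 0 := by
  classical
  obtain ⟨Lam, hLam⟩ := exists_functional k n E ((pderiv k i).restrictScalars ℤ)
  refine ⟨Lam, fun ω => ?_, fun j => ?_⟩
  · have hspan := KaehlerDifferential.span_range_derivation ℤ k
    have hω : ω ∈ Submodule.span k (Set.range (D ℤ k)) := by rw [hspan]; trivial
    induction hω using Submodule.span_induction with
    | mem x hx =>
      obtain ⟨c, rfl⟩ := hx
      rw [KaehlerDifferential.map_D]
      have h1 : algebraMap k E c = algebraMap (MvPowerSeries (Fin n) k) E (C c) := by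
        rw [IsScalarTower.algebraMap_apply k (MvPowerSeries (Fin n) k) E,
          MvPowerSeries.algebraMap_apply, Algebra.algebraMap_self, RingHom.id_apply]
      rw [h1, hLam]
      change algebraMap (MvPowerSeries (Fin n) k) E (pderiv k i (C c)) = 0
      rw [pderiv_C, map_zero]
    | zero => simp
    | add x y _ _ hx hy => rw [map_add, map_add, hx, hy, add_zero]
    | smul a x _ hx =>
      rw [map_smul, ← algebraMap_smul E a ((KaehlerDifferential.map ℤ ℤ k E) x), map_smul, hx,
        smul_zero]
  · rw [hLam]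
    change algebraMap (MvPowerSeries (Fin n) k) E (pderiv k i (X j)) = _
    split_ifs with h
    · subst h
      rw [pderiv_X_self, map_one]
    · rw [pderiv_X_of_ne h, map_zero]

end PS



open Module Cardinal TensorProduct KaehlerDifferential MvPowerSeries
open Groth.Agent.Lib.Helper23.FormalFibreCharP Groth.Agent.Lib.Helper23.LinIndex

section L

variable (k : Type u) [Field k] (E : Type u) [Field E] [Algebra k E]
  (L : Type u) [Field L] [Algebra E L] [Algebra k L] [IsScalarTower k E L]

/-- the canonical map `L ⊗_k Ω_k → L ⊗_E Ω_E`. -/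
noncomputable def fmap : L ⊗[k] Ω[k⁄ℤ] →ₗ[L] L ⊗[E] Ω[E⁄ℤ] :=
  ((mapBaseChange ℤ k E).baseChange L) ∘ₗ
    (AlgebraTensorModule.cancelBaseChange k E L L (Ω[k⁄ℤ])).symm.toLinearMap

theorem fmap_tmul (l : L) (ω : Ω[k⁄ℤ]) :
    fmap k E L (l ⊗ₜ[k] ω) = l ⊗ₜ[E] (KaehlerDifferential.map ℤ ℤ k E ω) := by
  change ((mapBaseChange ℤ k E).baseChange L)
    ((AlgebraTensorModule.cancelBaseChange k E L L (Ω[k⁄ℤ])).symm (l ⊗ₜ[k] ω)) = _
  rw [AlgebraTensorModule.cancelBaseChange_symm_tmul, LinearMap.baseChange_tmul,
    mapBaseChange_tmul, one_smul]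

theorem map_map (ω : Ω[k⁄ℤ]) :
    KaehlerDifferential.map ℤ ℤ E L (KaehlerDifferential.map ℤ ℤ k E ω) =
      KaehlerDifferential.map ℤ ℤ k L ω := by
  have hspan := KaehlerDifferential.span_range_derivation ℤ k
  have hω : ω ∈ Submodule.span k (Set.range (D ℤ k)) := by rw [hspan]; trivial
  induction hω using Submodule.span_induction with
  | mem x hx =>
    obtain ⟨c, rfl⟩ := hx
    rw [KaehlerDifferential.map_D, KaehlerDifferential.map_D, KaehlerDifferential.map_D,
      ← IsScalarTower.algebraMap_apply]
  | zero => simp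
  | add x y _ _ hx hy => rw [map_add, map_add, map_add, hx, hy]
  | smul a x _ hx =>
    have e1 : KaehlerDifferential.map ℤ ℤ k E (a • x) =
        algebraMap k E a • KaehlerDifferential.map ℤ ℤ k E x := by
      rw [map_smul, algebraMap_smul]
    rw [e1, map_smul, hx, map_smul, algebraMap_smul]

theorem comp_fmap : (mapBaseChange ℤ E L) ∘ₗ (fmap k E L) = mapBaseChange ℤ k L := by
  apply TensorProduct.AlgebraTensorModule.ext
  intro l ω
  rw [LinearMap.comp_apply, fmap_tmul, mapBaseChange_tmul, mapBaseChange_tmul, map_map]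

theorem fmap_injective (h : Function.Injective (mapBaseChange ℤ k E)) :
    Function.Injective (fmap k E L) := by
  have h1 : Function.Injective ((mapBaseChange ℤ k E).baseChange L) := by
    rw [LinearMap.baseChange_eq_ltensor]
    exact Module.Flat.lTensor_preserves_injective_linearMap _ h
  exact h1.comp (AlgebraTensorModule.cancelBaseChange k E L L (Ω[k⁄ℤ])).symm.injective

/-- the main rank identity. -/
theorem rank_eq [Algebra.EssFiniteType E L] (htr : Algebra.trdeg E L = 0)
    (h : Function.Injective (mapBaseChange ℤ k E)) :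
    Module.Finite L (LinearMap.ker (mapBaseChange ℤ k L)) ∧
      Module.rank L (Ω[L⁄k]) = Module.rank L ((L ⊗[E] Ω[E⁄ℤ]) ⧸ LinearMap.range (fmap k E L)) +
        Module.rank L (LinearMap.ker (mapBaseChange ℤ k L)) := by
  obtain ⟨m, hm, hidx⟩ := Groth.Agent.Lib.Helper23.Cartier.cartier E L
  have hm0 : m = 0 := by
    rw [htr] at hm
    exact_mod_cast hm.symm
  subst hm0
  have hidx' : HasIndex (mapBaseChange ℤ E L) 0 := by exact_mod_cast hidx
  obtain ⟨h1, h2⟩ := rank_coker_comp_of_index_zero (fmap k E L) (mapBaseChange ℤ E L)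
    (fmap_injective k E L h) hidx'
  rw [comp_fmap] at h1 h2
  refine ⟨h1, ?_⟩
  let e : (Ω[L⁄ℤ] ⧸ LinearMap.range (mapBaseChange ℤ k L)) ≃ₗ[L] Ω[L⁄k] :=
    (exact_mapBaseChange_map ℤ k L).linearEquivOfSurjective (map_surjective ℤ k L)
  rw [← e.rank_eq, h2]

end L



open Module Cardinal TensorProduct KaehlerDifferential MvPowerSeries
open Groth.Agent.Lib.Helper23.FormalFibreCharP Groth.Agent.Lib.Helper23.LinIndex

section LB

variable (k : Type u) [Field k] (n : ℕ) (E : Type u) [Field E] [Algebra (MvPowerSeries (Fin n) k) E]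
  [IsFractionRing (MvPowerSeries (Fin n) k) E] [Algebra k E]
  [IsScalarTower k (MvPowerSeries (Fin n) k) E]
  (L : Type u) [Field L] [Algebra E L] [Algebra k L] [IsScalarTower k E L]

include n in
/-- the classes of `dT_i` are independent modulo the image of `L ⊗ Ω_k`. -/
theorem le_rank_coker :
    (n : Cardinal.{u}) ≤ Module.rank L ((L ⊗[E] Ω[E⁄ℤ]) ⧸ LinearMap.range (fmap k E L)) := by
  classical
  choose Lam hLam1 hLam2 using exists_pderiv_functional k n E
  let LamL : Fin n → (L ⊗[E] Ω[E⁄ℤ] →ₗ[L] L) := fun i =>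
    LinearMap.liftBaseChange L ((Algebra.linearMap E L) ∘ₗ (Lam i))
  let Φ : L ⊗[E] Ω[E⁄ℤ] →ₗ[L] (Fin n → L) := LinearMap.pi LamL
  have hΦ0 : LinearMap.range (fmap k E L) ≤ LinearMap.ker Φ := by
    rintro _ ⟨x, rfl⟩
    rw [LinearMap.mem_ker]
    induction x using TensorProduct.induction_on with
    | zero => simp
    | tmul l ω =>
      ext i
      rw [fmap_tmul]
      change LinearMap.liftBaseChange L ((Algebra.linearMap E L) ∘ₗ (Lam i))
        (l ⊗ₜ[E] (KaehlerDifferential.map ℤ ℤ k E ω)) = 0
      rw [LinearMap.liftBaseChange_tmul, LinearMap.comp_apply, hLam1, map_zero, smul_zero]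
    | add x y hx hy => rw [map_add, map_add, hx, hy, add_zero]
  let Φq : ((L ⊗[E] Ω[E⁄ℤ]) ⧸ LinearMap.range (fmap k E L)) →ₗ[L] (Fin n → L) :=
    (LinearMap.range (fmap k E L)).liftQ Φ hΦ0
  have hsurj : Function.Surjective Φq := by
    intro c
    refine ⟨Submodule.Quotient.mk (∑ j, (c j) ⊗ₜ[E]
      (D ℤ E (algebraMap (MvPowerSeries (Fin n) k) E (X j)))), ?_⟩
    ext i
    change Φ _ i = c i
    rw [map_sum, Finset.sum_apply, Finset.sum_eq_single i]
    · change LinearMap.liftBaseChange L ((Algebra.linearMap E L) ∘ₗ (Lam i))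
        ((c i) ⊗ₜ[E] (D ℤ E (algebraMap (MvPowerSeries (Fin n) k) E (X i)))) = c i
      rw [LinearMap.liftBaseChange_tmul, LinearMap.comp_apply, hLam2, if_pos rfl,
        Algebra.linearMap_apply, map_one, smul_eq_mul, mul_one]
    · intro j _ hji
      change LinearMap.liftBaseChange L ((Algebra.linearMap E L) ∘ₗ (Lam i))
        ((c j) ⊗ₜ[E] (D ℤ E (algebraMap (MvPowerSeries (Fin n) k) E (X j)))) = 0
      rw [LinearMap.liftBaseChange_tmul, LinearMap.comp_apply, hLam2, if_neg hji, map_zero,
        smul_zero]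
    · intro h; exact absurd (Finset.mem_univ i) h
  have h := LinearMap.rank_le_of_surjective Φq hsurj
  rwa [rank_fin_fun] at h

end LB



open Module Cardinal TensorProduct KaehlerDifferential MvPowerSeries IsLocalRing
open Groth.Agent.Lib.Helper23.FormalFibreCharP Groth.Agent.Lib.Helper23.LinIndex

/-- structure: the fraction field of a complete local domain `C` over `k` (residue field finite over
`k`) of dimension `n` is a finite extension of a field `E = Frac k[[T_1..T_n]]`. -/
theorem exists_field_tower (k C L : Type u) [Field k] [CommRing C] [IsDomain C] [IsNoetherianRing C]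
    [IsLocalRing C] [Algebra k C] [IsAdicComplete (IsLocalRing.maximalIdeal C) C]
    [Module.Finite k (IsLocalRing.ResidueField C)] (n : ℕ) (hn : ringKrullDim C = n)
    [Field L] [Algebra C L] [IsFractionRing C L] [Algebra k L] [IsScalarTower k C L] :
    ∃ (_ : Algebra (MvPowerSeries (Fin n) k) C) (_ : IsScalarTower k (MvPowerSeries (Fin n) k) C)
      (_ : Module.Finite (MvPowerSeries (Fin n) k) C)
      (_ : Function.Injective (algebraMap (MvPowerSeries (Fin n) k) C))
      (E : Type u) (_ : Field E) (_ : Algebra (MvPowerSeries (Fin n) k) E)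
      (_ : IsFractionRing (MvPowerSeries (Fin n) k) E) (_ : Algebra k E)
      (_ : IsScalarTower k (MvPowerSeries (Fin n) k) E) (_ : Algebra E L) (_ : IsScalarTower k E L),
      Module.Finite E L := by
  classical
  obtain ⟨n', w, hwinj, hwloc, hwfin⟩ :=
    Groth.Agent.Lib.Helper23.CohenDomain.t2460main (k₀ := k) (A := C)
  have hnn : n' = n := by
    letI : Algebra (MvPowerSeries (Fin n') k) C := w.toRingHom.toAlgebra
    haveI : Module.Finite (MvPowerSeries (Fin n') k) C := hwfin
    have h1 := Groth.Agent.Lib.Helper12.ringKrullDim_eq_of_isIntegral_of_injective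
      (MvPowerSeries (Fin n') k) C hwinj
    rw [(Groth.Agent.Lib.Helper23.CMFibres.ringKrullDim_ps_field (n := n') k).2, hn] at h1
    exact_mod_cast h1
  subst hnn
  set P := MvPowerSeries (Fin n') k with hP
  letI algPC : Algebra P C := w.toRingHom.toAlgebra
  haveI towPC : IsScalarTower k P C := IsScalarTower.of_algebraMap_eq (fun c => (w.commutes c).symm)
  haveI finPC : Module.Finite P C := hwfin
  have hinjPC : Function.Injective (algebraMap P C) := hwinj
  letI algPL : Algebra P L := ((algebraMap C L).comp (algebraMap P C)).toAlgebra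
  haveI : IsScalarTower P C L := IsScalarTower.of_algebraMap_eq (fun _ => rfl)
  haveI : IsScalarTower k P L := IsScalarTower.of_algebraMap_eq (fun c => by
    rw [IsScalarTower.algebraMap_apply k C L, IsScalarTower.algebraMap_apply k P C,
      ← IsScalarTower.algebraMap_apply P C L])
  have hinjPL : Function.Injective (algebraMap P L) :=
    (IsFractionRing.injective C L).comp hinjPC
  obtain ⟨E, hE1, hE2, hE3⟩ : ∃ (E : Type u) (_ : Field E) (_ : Algebra P E), IsFractionRing P E :=
    ⟨FractionRing P, inferInstance, inferInstance, inferInstance⟩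
  letI algEL : Algebra E L := (IsFractionRing.lift (g := algebraMap P L) hinjPL).toAlgebra
  haveI towPEL : IsScalarTower P E L := IsScalarTower.of_algebraMap_eq (fun x =>
    (IsFractionRing.lift_algebraMap hinjPL x).symm)
  letI algkE : Algebra k E := ((algebraMap P E).comp (algebraMap k P)).toAlgebra
  haveI towkPE : IsScalarTower k P E := IsScalarTower.of_algebraMap_eq (fun _ => rfl)
  haveI towkEL : IsScalarTower k E L := IsScalarTower.of_algebraMap_eq (fun c => by
    rw [IsScalarTower.algebraMap_apply k P E, ← IsScalarTower.algebraMap_apply P E L,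
      ← IsScalarTower.algebraMap_apply k P L])
  haveI : FaithfulSMul P C := (faithfulSMul_iff_algebraMap_injective P C).mpr hinjPC
  haveI : Algebra.IsAlgebraic P C := inferInstance
  haveI : IsLocalization (Algebra.algebraMapSubmonoid C (nonZeroDivisors P)) L := inferInstance
  have hfinEL : Module.Finite E L := Module.Finite.of_isLocalization P C (nonZeroDivisors P)
  exact ⟨algPC, towPC, finPC, hinjPC, E, hE1, hE2, hE3, algkE, towkPE, algEL, towkEL, hfinEL⟩

end Groth.Agent.Lib.Helper23.Imperf
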