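import Mathlib
import Groth.Agent.Lib.Helper23.Imperf1

/-!
Fields finite over k^p (EGA 0_IV 21.9.5): finite_kp, derivation_mem_span (derivations of k[[X]] are determined by constants and variables), span_eq_top (Ω_E spanned by Ω_k and dT_i, E = Frac k[[T]]), rank_coker_le, finite_kaehler_ps (Ω_{k[[X]]/k} finite).
-/

set_option autoImplicit false
universe u v


namespace Groth.Agent.Lib.Helper23.Imperf2


open Module Cardinal TensorProduct KaehlerDifferential MvPowerSeries IsLocalRing
open Groth.Agent.Lib.Helper23.FormalFibreCharP Groth.Agent.Lib.Helper23.LinIndex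
  Groth.Agent.Lib.Helper23.Imperf

section Q

variable (p : ℕ) [hp : Fact p.Prime] (k : Type u) [Field k] [CharP k p]

/-- `k` is finite over `k^p` when the Frobenius is a finite ring map. -/
theorem finite_kp (hk : (frobenius k p).Finite) : Module.Finite ↥(kp p k) k := by
  have h1 : ((frobenius k p).fieldRange.subtype.comp (frobenius k p).rangeRestrictField) =
      frobenius k p := by
    ext x; rfl
  have h2 : ((frobenius k p).fieldRange.subtype).Finite := by
    apply RingHom.Finite.of_comp_finite (f := (frobenius k p).rangeRestrictField)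
    rw [h1]; exact hk
  exact RingHom.finite_algebraMap.mp h2

variable {k} (n : ℕ)

/-- when `k` is finite over `k^p`, every (additive) derivation of `k[[X]]` takes values in the span
of its values on the constants and the variables. -/
theorem derivation_mem_span (hk : (frobenius k p).Finite) {M : Type*} [AddCommGroup M]
    [Module (MvPowerSeries (Fin n) k) M] (d : Derivation ℤ (MvPowerSeries (Fin n) k) M)
    (f : MvPowerSeries (Fin n) k) :
    d f ∈ Submodule.span (MvPowerSeries (Fin n) k)
      (Set.range (fun c : k => d (C c)) ∪ Set.range (fun i : Fin n => d (X i))) := by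
  classical
  set N := Submodule.span (MvPowerSeries (Fin n) k)
      (Set.range (fun c : k => d (C c)) ∪ Set.range (fun i : Fin n => d (X i))) with hN
  haveI := finite_kp p k hk
  let β := Module.Free.chooseBasis ↥(kp p k) k
  haveI : CharP (MvPowerSeries (Fin n) k) p :=
    charP_of_injective_algebraMap (algebraMap k (MvPowerSeries (Fin n) k)).injective p
  haveI h1 := IsScalarTower.of_algebraMap_smul (R := ℤ) (A := MvPowerSeries (Fin n) k) (M := M)
    (fun r x => by rw [eq_intCast, Int.cast_smul_eq_zsmul])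
  haveI h2 := IsScalarTower.of_algebraMap_smul (R := ℤ) (A := MvPowerSeries (Fin n) k) (M := M ⧸ N)
    (fun r x => by rw [eq_intCast, Int.cast_smul_eq_zsmul])
  let d' : Derivation ℤ (MvPowerSeries (Fin n) k) (M ⧸ N) := N.mkQ.compDer d
  have hd' : ∀ g, d' g = N.mkQ (d g) := fun g => rfl
  have h0 := derivation_eq_zero p n (kp p k) β d' Set.univ
    (fun s => Submonoid.subset_closure (Set.mem_univ _))
    (fun g hg => by
      obtain ⟨g₀, rfl⟩ := exists_pow_eq_of_mem p n g hg
      rw [Derivation.leibniz_pow]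
      have : (p : ℕ) • (g₀ ^ (p - 1) • d' g₀) =
          ((p : ℕ) : MvPowerSeries (Fin n) k) • (g₀ ^ (p - 1) • d' g₀) :=
        (Nat.cast_smul_eq_nsmul _ _ _).symm
      rw [this, CharP.cast_eq_zero, zero_smul])
    (fun b _ => by
      rw [hd', Submodule.mkQ_apply, Submodule.Quotient.mk_eq_zero]
      exact Submodule.subset_span (Or.inl ⟨b, rfl⟩))
    (fun j => by
      rw [hd', Submodule.mkQ_apply, Submodule.Quotient.mk_eq_zero]
      exact Submodule.subset_span (Or.inr ⟨j, rfl⟩))
    f
  rw [hd', Submodule.mkQ_apply, Submodule.Quotient.mk_eq_zero] at h0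
  exact h0

end Q



open Module Cardinal TensorProduct KaehlerDifferential MvPowerSeries IsLocalRing
open Groth.Agent.Lib.Helper23.FormalFibreCharP Groth.Agent.Lib.Helper23.LinIndex
  Groth.Agent.Lib.Helper23.Imperf

section Q3

variable (p : ℕ) [hp : Fact p.Prime] (k : Type u) [Field k] [CharP k p] (n : ℕ)
  (E : Type u) [Field E] [Algebra (MvPowerSeries (Fin n) k) E]
  [IsFractionRing (MvPowerSeries (Fin n) k) E] [Algebra k E]
  [IsScalarTower k (MvPowerSeries (Fin n) k) E]

/-- `Ω_E` is spanned by the image of `Ω_k` and the `dT_i`. -/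
theorem span_eq_top (hk : (frobenius k p).Finite) :
    Submodule.span E (Set.range (KaehlerDifferential.map ℤ ℤ k E) ∪
      Set.range (fun i : Fin n => D ℤ E (algebraMap (MvPowerSeries (Fin n) k) E (X i)))) = ⊤ := by
  set NE := Submodule.span E (Set.range (KaehlerDifferential.map ℤ ℤ k E) ∪
      Set.range (fun i : Fin n => D ℤ E (algebraMap (MvPowerSeries (Fin n) k) E (X i)))) with hNE
  -- the derivation `f ↦ d(f)` of `P` into `Ω_E`
  have hP : ∀ f : MvPowerSeries (Fin n) k, D ℤ E (algebraMap (MvPowerSeries (Fin n) k) E f) ∈ NE := by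
    intro f
    haveI h1 := IsScalarTower.of_algebraMap_smul (R := ℤ) (A := MvPowerSeries (Fin n) k) (M := E)
      (fun r x => by rw [eq_intCast, Int.cast_smul_eq_zsmul])
    let d : Derivation ℤ (MvPowerSeries (Fin n) k) (Ω[E⁄ℤ]) :=
      (D ℤ E).compAlgebraMap (MvPowerSeries (Fin n) k)
    have hd : ∀ g, d g = D ℤ E (algebraMap (MvPowerSeries (Fin n) k) E g) := fun g => rfl
    have h := derivation_mem_span p n hk d f
    rw [hd] at h
    have hle : Submodule.span (MvPowerSeries (Fin n) k)
        (Set.range (fun c : k => d (C c)) ∪ Set.range (fun i : Fin n => d (X i))) ≤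
        NE.restrictScalars (MvPowerSeries (Fin n) k) := by
      rw [Submodule.span_le]
      rintro _ (⟨c, rfl⟩ | ⟨i, rfl⟩)
      · apply Submodule.subset_span
        left
        refine ⟨D ℤ k c, ?_⟩
        rw [KaehlerDifferential.map_D]
        change _ = D ℤ E (algebraMap (MvPowerSeries (Fin n) k) E (C c))
        congr 1
        rw [IsScalarTower.algebraMap_apply k (MvPowerSeries (Fin n) k) E,
          MvPowerSeries.algebraMap_apply, Algebra.algebraMap_self, RingHom.id_apply]
      · apply Submodule.subset_span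
        right
        exact ⟨i, rfl⟩
    exact hle h
  rw [eq_top_iff, ← KaehlerDifferential.span_range_derivation ℤ E, Submodule.span_le]
  rintro _ ⟨x, rfl⟩
  obtain ⟨a, b, hb, rfl⟩ := IsFractionRing.div_surjective (A := MvPowerSeries (Fin n) k) x
  rw [SetLike.mem_coe, Derivation.leibniz_div]
  exact Submodule.smul_mem _ _ (Submodule.sub_mem _ (Submodule.smul_mem _ _ (hP a))
    (Submodule.smul_mem _ _ (hP b)))

end Q3



open Module Cardinal TensorProduct KaehlerDifferential MvPowerSeries IsLocalRing
open Groth.Agent.Lib.Helper23.FormalFibreCharP Groth.Agent.Lib.Helper23.LinIndex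
  Groth.Agent.Lib.Helper23.Imperf

section Q4

variable (p : ℕ) [hp : Fact p.Prime] (k : Type u) [Field k] [CharP k p] (n : ℕ)
  (E : Type u) [Field E] [Algebra (MvPowerSeries (Fin n) k) E]
  [IsFractionRing (MvPowerSeries (Fin n) k) E] [Algebra k E]
  [IsScalarTower k (MvPowerSeries (Fin n) k) E]
  (L : Type u) [Field L] [Algebra E L] [Algebra k L] [IsScalarTower k E L]

/-- the cokernel of `L ⊗ Ω_k → L ⊗_E Ω_E` is spanned by the `dT_i`. -/
theorem rank_coker_le (hk : (frobenius k p).Finite) :
    Module.rank L ((L ⊗[E] Ω[E⁄ℤ]) ⧸ LinearMap.range (fmap k E L)) ≤ (n : Cardinal.{u}) := by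
  classical
  set R := LinearMap.range (fmap k E L) with hR
  let v : Fin n → (L ⊗[E] Ω[E⁄ℤ]) ⧸ R := fun i =>
    R.mkQ ((1 : L) ⊗ₜ[E] (D ℤ E (algebraMap (MvPowerSeries (Fin n) k) E (X i))))
  let ψ : (Fin n → L) →ₗ[L] (L ⊗[E] Ω[E⁄ℤ]) ⧸ R := Fintype.linearCombination L v
  -- every `1 ⊗ ω` maps into the span of the `v i`
  have h1 : ∀ ω : Ω[E⁄ℤ], R.mkQ ((1 : L) ⊗ₜ[E] ω) ∈ Submodule.span L (Set.range v) := by
    intro ω
    have hω : ω ∈ Submodule.span E (Set.range (KaehlerDifferential.map ℤ ℤ k E) ∪
      Set.range (fun i : Fin n => D ℤ E (algebraMap (MvPowerSeries (Fin n) k) E (X i)))) := by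
      rw [span_eq_top p k n E hk]; trivial
    induction hω using Submodule.span_induction with
    | mem x hx =>
      rcases hx with ⟨ω', rfl⟩ | ⟨i, rfl⟩
      · have : R.mkQ ((1 : L) ⊗ₜ[E] (KaehlerDifferential.map ℤ ℤ k E ω')) = 0 := by
          rw [Submodule.mkQ_apply, Submodule.Quotient.mk_eq_zero]
          exact ⟨(1 : L) ⊗ₜ[k] ω', fmap_tmul k E L 1 ω'⟩
        rw [this]
        exact Submodule.zero_mem _
      · exact Submodule.subset_span ⟨i, rfl⟩
    | zero => rw [TensorProduct.tmul_zero, map_zero]; exact Submodule.zero_mem _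
    | add x y _ _ hx hy => rw [TensorProduct.tmul_add, map_add]; exact Submodule.add_mem _ hx hy
    | smul a x _ hx =>
      have : (1 : L) ⊗ₜ[E] (a • x) = (algebraMap E L a) • ((1 : L) ⊗ₜ[E] x) := by
        rw [TensorProduct.tmul_smul, TensorProduct.smul_tmul', TensorProduct.smul_tmul',
          Algebra.smul_def, mul_one, smul_eq_mul, mul_one]
      rw [this, map_smul]
      exact Submodule.smul_mem _ _ hx
  have hsurj : Function.Surjective ψ := by
    rw [← LinearMap.range_eq_top, Fintype.range_linearCombination, eq_top_iff]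
    rintro q -
    obtain ⟨x, rfl⟩ := R.mkQ_surjective q
    induction x using TensorProduct.induction_on with
    | zero => rw [map_zero]; exact Submodule.zero_mem _
    | tmul l ω =>
      have : l ⊗ₜ[E] ω = l • ((1 : L) ⊗ₜ[E] ω) := by
        rw [TensorProduct.smul_tmul', smul_eq_mul, mul_one]
      rw [this, map_smul]
      exact Submodule.smul_mem _ _ (h1 ω)
    | add x y hx hy => rw [map_add]; exact Submodule.add_mem _ hx hy
  have h := LinearMap.rank_le_of_surjective ψ hsurj
  rwa [rank_fin_fun] at h

end Q4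

section Q5

variable (p : ℕ) [hp : Fact p.Prime] (k : Type u) [Field k] [CharP k p] (n : ℕ)

/-- when `k` is finite over `k^p`, `Ω_{k[[X]]/k}` is a finite module. -/
theorem finite_kaehler_ps (hk : (frobenius k p).Finite) :
    Module.Finite (MvPowerSeries (Fin n) k) (Ω[MvPowerSeries (Fin n) k⁄k]) := by
  classical
  let d : Derivation ℤ (MvPowerSeries (Fin n) k) (Ω[MvPowerSeries (Fin n) k⁄k]) :=
    (D k (MvPowerSeries (Fin n) k)).restrictScalars ℤ
  have hd : ∀ g, d g = D k (MvPowerSeries (Fin n) k) g := fun g => rfl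
  refine ⟨⟨Finset.univ.image (fun i : Fin n => D k (MvPowerSeries (Fin n) k) (X i)), ?_⟩⟩
  rw [eq_top_iff, ← KaehlerDifferential.span_range_derivation k (MvPowerSeries (Fin n) k),
    Submodule.span_le]
  rintro _ ⟨f, rfl⟩
  have h := derivation_mem_span p n hk d f
  rw [hd] at h
  refine (Submodule.span_le.mpr ?_) h
  rintro _ (⟨c, rfl⟩ | ⟨i, rfl⟩)
  · change D k (MvPowerSeries (Fin n) k) (C c) ∈ _
    have : (C c : MvPowerSeries (Fin n) k) = algebraMap k (MvPowerSeries (Fin n) k) c := by
      rw [MvPowerSeries.algebraMap_apply, Algebra.algebraMap_self, RingHom.id_apply]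
    rw [this, Derivation.map_algebraMap]
    exact Submodule.zero_mem _
  · apply Submodule.subset_span
    rw [Finset.coe_image, Finset.coe_univ, Set.image_univ]
    exact ⟨i, rfl⟩

end Q5

end Groth.Agent.Lib.Helper23.Imperf2
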