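import Mathlib
import Groth.Agent.Lib.Helper23.Imperf2
import Groth.Agent.Lib.Helper23.CK9
import Groth.Agent.Lib.Helper23.FieldSep
import Groth.Agent.Lib.Helper18.PMor4
import Groth.Agent.Lib.Helper23.CohenDomain
import Groth.Agent.Lib.Helper9.SemiLocalProd
import Groth.Agent.Lib.Helper23.CompletedKaehler
import Groth.Agent.S2036
import Groth.Agent.S5989
import Groth.Agent.Lib.Helper23.CK5
import Groth.Agent.Lib.Helper23.FlatFibreSmooth
import Groth.Agent.Lib.Helper21.ChartPt5
import Groth.Agent.Lib.Helper23.CK8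
import Groth.Agent.Lib.Helper18.SerreReg2

/-!
EGA IV 18.11-type freeness (S5074): for a complete local k-algebra A with residue field finite over k and P with A_P geometrically regular, (Ω̂_{A/k})_P is free of rank dim A/q. ker_eq_of_isDomain, quotToFrac/isFractionRing_quot (Frac(A_P) = Frac(A/q)), finite_kaehler (char p, [k:k^p] finite), ofEquiv, free_kaehler_of_adic, locEquiv, finrank_frac, main_charP, hsep_char0, exists_genAt_bot_char0, NP, exists_smul_sub_mem_NP (conormal sequence for completed differentials, elementwise), finrank_fibre_le, exists_gens_at, height_map_mk_mono, height_add_dim_le, main_char0.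
-/

set_option autoImplicit false
set_option linter.unusedSectionVars false
set_option linter.style.haveILetI false
universe u


namespace Groth.Agent.Lib.Helper23.CKFree

open IsLocalRing TensorProduct KaehlerDifferential

section Ker

variable {A : Type u} [CommRing A] (P : Ideal A) [P.IsPrime]

/-- every element of the kernel of `A → A_P` lies in every prime below `P`. -/
theorem ker_le_of_le (Q : Ideal A) [Q.IsPrime] (hQ : Q ≤ P) :
    RingHom.ker (algebraMap A (Localization.AtPrime P)) ≤ Q := by
  intro a ha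
  rw [RingHom.mem_ker, IsLocalization.map_eq_zero_iff P.primeCompl] at ha
  obtain ⟨s, hs⟩ := ha
  have h1 : (s : A) * a ∈ Q := by rw [hs]; exact zero_mem _
  rcases Ideal.IsPrime.mem_or_mem inferInstance h1 with h | h
  · exact absurd (hQ h) s.2
  · exact h

theorem ker_eq_of_isDomain [IsDomain (Localization.AtPrime P)] (q : Ideal A)
    (hq : q ∈ minimalPrimes A) (hqP : q ≤ P) :
    RingHom.ker (algebraMap A (Localization.AtPrime P)) = q := by
  haveI : q.IsPrime := hq.1.1
  apply le_antisymm (ker_le_of_le P q hqP)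
  exact hq.2 ⟨RingHom.ker_isPrime _, bot_le⟩ (ker_le_of_le P q hqP)

variable [IsDomain (Localization.AtPrime P)] (q : Ideal A) (hq : q ∈ minimalPrimes A) (hqP : q ≤ P)
  (L : Type u) [Field L] [Algebra (Localization.AtPrime P) L]
  [IsFractionRing (Localization.AtPrime P) L]

/-- the map `A/q → Frac(A_P)`. -/
noncomputable def quotToFrac : A ⧸ q →+* L :=
  Ideal.Quotient.lift q ((algebraMap (Localization.AtPrime P) L).comp
    (algebraMap A (Localization.AtPrime P))) (fun a ha => by
      have h1 : a ∈ RingHom.ker (algebraMap A (Localization.AtPrime P)) := by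
        rw [ker_eq_of_isDomain P q hq hqP]; exact ha
      rw [RingHom.comp_apply, RingHom.mem_ker.mp h1, map_zero])

theorem quotToFrac_mk (a : A) : quotToFrac P q hq hqP L (Ideal.Quotient.mk q a) =
    algebraMap (Localization.AtPrime P) L (algebraMap A (Localization.AtPrime P) a) := rfl

theorem quotToFrac_injective : Function.Injective (quotToFrac P q hq hqP L) := by
  rw [injective_iff_map_eq_zero]
  intro x hx
  obtain ⟨a, rfl⟩ := Ideal.Quotient.mk_surjective x
  rw [quotToFrac_mk] at hx
  have h1 : algebraMap A (Localization.AtPrime P) a = 0 :=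
    (IsFractionRing.injective (Localization.AtPrime P) L) (by rw [hx, map_zero])
  rw [Ideal.Quotient.eq_zero_iff_mem, ← ker_eq_of_isDomain P q hq hqP]
  exact h1

theorem isFractionRing_quot :
    letI : Algebra (A ⧸ q) L := (quotToFrac P q hq hqP L).toAlgebra
    IsFractionRing (A ⧸ q) L := by
  letI : Algebra (A ⧸ q) L := (quotToFrac P q hq hqP L).toAlgebra
  haveI : FaithfulSMul (A ⧸ q) L :=
    (faithfulSMul_iff_algebraMap_injective (A ⧸ q) L).mpr (quotToFrac_injective P q hq hqP L)
  apply IsFractionRing.of_field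
  intro z
  obtain ⟨r, r', hr', rfl⟩ := IsFractionRing.div_surjective (A := Localization.AtPrime P) z
  obtain ⟨⟨a, s⟩, has⟩ := IsLocalization.surj P.primeCompl r
  obtain ⟨⟨a', s'⟩, has'⟩ := IsLocalization.surj P.primeCompl r'
  simp only at has has'
  refine ⟨Ideal.Quotient.mk q (a * s'), Ideal.Quotient.mk q (a' * s), ?_⟩
  have hs : algebraMap (Localization.AtPrime P) L (algebraMap A _ (s : A)) ≠ 0 := by
    intro h0
    have h1 := (IsFractionRing.injective (Localization.AtPrime P) L) (h0.trans (map_zero _).symm)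
    exact (IsLocalization.map_units (Localization.AtPrime P) s).ne_zero h1
  have hs' : algebraMap (Localization.AtPrime P) L (algebraMap A _ (s' : A)) ≠ 0 := by
    intro h0
    have h1 := (IsFractionRing.injective (Localization.AtPrime P) L) (h0.trans (map_zero _).symm)
    exact (IsLocalization.map_units (Localization.AtPrime P) s').ne_zero h1
  have hr'0 : algebraMap (Localization.AtPrime P) L r' ≠ 0 := by
    intro h0
    have h1 := (IsFractionRing.injective (Localization.AtPrime P) L) (h0.trans (map_zero _).symm)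
    exact (nonZeroDivisors.ne_zero hr') h1
  change _ = quotToFrac P q hq hqP L _ / quotToFrac P q hq hqP L _
  rw [quotToFrac_mk, quotToFrac_mk, map_mul, map_mul, map_mul, map_mul, ← has, ← has', map_mul,
    map_mul]
  field_simp

end Ker


open IsLocalRing TensorProduct KaehlerDifferential Groth.Agent.Lib.Helper20

section Fin

variable {k A : Type u} [Field k] [CommRing A] [IsLocalRing A] [IsNoetherianRing A] [Algebra k A]
  [IsAdicComplete (maximalIdeal A) A] [Module.Finite k (ResidueField A)]

/-- in characteristic `p` with `[k : k^p] < ∞`, the module of differentials of a complete local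
`k`-algebra with residue field finite over `k` is finite. -/
theorem finite_kaehler (p : ℕ) [Fact p.Prime] [CharP k p] (hk : (frobenius k p).Finite) :
    Module.Finite A (Ω[A⁄k]) := by
  obtain ⟨m, t, ht⟩ := Submodule.fg_iff_exists_fin_generating_family.mp
    (IsNoetherian.noetherian (maximalIdeal A))
  have htm : ∀ i, t i ∈ maximalIdeal A := fun i => ht ▸ Submodule.subset_span ⟨i, rfl⟩
  have htmin : maximalIdeal A ∈ (Ideal.span (Set.range t)).minimalPrimes := by
    have : Ideal.span (Set.range t) = maximalIdeal A := ht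
    rw [this, Ideal.minimalPrimes_eq_subsingleton_self]
    rfl
  have hfin := Groth.Agent.Lib.Helper23.CohenDomain.finite_Phi (k₀ := k) t htm htmin
  letI : Algebra (MvPowerSeries (Fin m) k) A := (CohenReg.Phi k t htm).toRingHom.toAlgebra
  haveI : IsScalarTower k (MvPowerSeries (Fin m) k) A := IsScalarTower.of_algebraMap_eq
    (fun c => ((CohenReg.Phi k t htm).commutes c).symm)
  haveI : Module.Finite (MvPowerSeries (Fin m) k) A := hfin
  haveI := Groth.Agent.Lib.Helper23.Imperf2.finite_kaehler_ps p k m hk
  let f := mapBaseChange k (MvPowerSeries (Fin m) k) A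
  haveI : Module.Finite A (LinearMap.range f) := Module.Finite.range f
  let e : (Ω[A⁄k] ⧸ LinearMap.range f) ≃ₗ[A] Ω[A⁄MvPowerSeries (Fin m) k] :=
    (exact_mapBaseChange_map k (MvPowerSeries (Fin m) k) A).linearEquivOfSurjective
      (map_surjective k (MvPowerSeries (Fin m) k) A)
  haveI : Module.Finite A (Ω[A⁄k] ⧸ LinearMap.range f) := Module.Finite.equiv e.symm
  exact Module.Finite.of_submodule_quotient (LinearMap.range f)

/-- a finite module over a complete local ring is its own completion. -/
noncomputable def ofEquiv (M : Type u) [AddCommGroup M] [Module A M] [Module.Finite A M] :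
    M ≃ₗ[A] AdicCompletion (maximalIdeal A) M :=
  haveI := Groth.Agent.Lib.Helper9.SemiLocalProd.isAdicComplete_of_finite A M
  LinearEquiv.ofBijective (AdicCompletion.of (maximalIdeal A) M)
    (AdicCompletion.of_bijective_iff.mpr inferInstance)

end Fin


open IsLocalRing TensorProduct KaehlerDifferential Groth.Agent.Lib.Helper20

section Free

variable {k R : Type u} [Field k] [CommRing R] [IsLocalRing R] [IsNoetherianRing R] [Algebra k R]

/-- a Noetherian local `k`-algebra, formally smooth for its adic topology, with finite module of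
differentials has free module of differentials. -/
theorem free_kaehler_of_adic (hfs : CAlgX.IsAdicFormallySmooth k R (maximalIdeal R))
    [Module.Finite R (Ω[R⁄k])] : Module.Free R (Ω[R⁄k]) := by
  classical
  set r := Module.finrank (ResidueField R) (ResidueField R ⊗[R] Ω[R⁄k]) with hr
  let b : Module.Basis (Fin r) (ResidueField R) (ResidueField R ⊗[R] Ω[R⁄k]) :=
    Module.finBasis _ _
  have hmk : Function.Surjective (TensorProduct.mk R (ResidueField R) Ω[R⁄k] 1) :=
    TensorProduct.mk_surjective R Ω[R⁄k] (ResidueField R) residue_surjective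
  choose ω hω using fun i => hmk (b i)
  have hb : ∀ i, b i = (1 : ResidueField R) ⊗ₜ[R] ω i := fun i => (hω i).symm
  have hspan : Submodule.span R (Set.range ω) = ⊤ :=
    IsLocalRing.span_eq_top_of_tmul_eq_basis ω b (fun i => (hb i).symm)
  have hli : LinearIndependent R ω := by
    rw [Fintype.linearIndependent_iff]
    intro c hc i
    have h1 : c i ∈ ⨅ n : ℕ, maximalIdeal R ^ n := by
      rw [Ideal.mem_iInf]
      intro n
      refine Groth.Agent.Lib.Helper23.CompletedKaehler.coeff_mem_of_sum_mem hfs b ω hb n c ?_ i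
      rw [hc]
      exact zero_mem _
    rw [Ideal.iInf_pow_eq_bot_of_isLocalRing _ (Ideal.IsPrime.ne_top')] at h1
    exact h1
  exact Module.Free.of_basis (Module.Basis.mk hli hspan.ge)

end Free


open IsLocalRing TensorProduct KaehlerDifferential Groth.Agent.Lib.Helper20

section Transfer

variable {A : Type u} [CommRing A] [IsLocalRing A] [IsNoetherianRing A]
  [IsAdicComplete (maximalIdeal A) A] (P : Ideal A) [P.IsPrime]
  {k : Type u} [Field k] [Algebra k A]

/-- for finite `Ω`, the localized completed differentials are the differentials of `A_P`. -/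
noncomputable def locEquiv [Module.Finite A (Ω[A⁄k])] :
    LocalizedModule P.primeCompl (AdicCompletion (maximalIdeal A) (Ω[A⁄k])) ≃ₗ[Localization.AtPrime P]
      Ω[Localization.AtPrime P⁄k] :=
  ((IsLocalizedModule.mapEquiv P.primeCompl
      (LocalizedModule.mkLinearMap P.primeCompl (Ω[A⁄k]))
      (LocalizedModule.mkLinearMap P.primeCompl (AdicCompletion (maximalIdeal A) (Ω[A⁄k])))
      (Localization.AtPrime P) (ofEquiv (Ω[A⁄k]))).symm.trans
    (IsLocalizedModule.isBaseChange P.primeCompl (Localization.AtPrime P)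
      (LocalizedModule.mkLinearMap P.primeCompl (Ω[A⁄k]))).equiv.symm).trans
    (tensorKaehlerEquivOfFormallyEtale k A (Localization.AtPrime P))

end Transfer

section CharP

variable {k A : Type u} [Field k] [CommRing A] [IsLocalRing A] [IsNoetherianRing A] [Algebra k A]
  [IsAdicComplete (maximalIdeal A) A] [Module.Finite k (ResidueField A)]

theorem finrank_frac (p : ℕ) [Fact p.Prime] [CharP k p] (hk : (frobenius k p).Finite)
    (P : Ideal A) [P.IsPrime] [IsDomain (Localization.AtPrime P)]
    (q : Ideal A) (hq : q ∈ minimalPrimes A) (hqP : q ≤ P) (n : ℕ)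
    (hn : ringKrullDim (A ⧸ q) = n)
    (L : Type u) [Field L] [Algebra (Localization.AtPrime P) L]
    [IsFractionRing (Localization.AtPrime P) L] [Algebra k L]
    [IsScalarTower k (Localization.AtPrime P) L] [Algebra.IsGeometricallyReduced k L] :
    Module.finrank L (Ω[L⁄k]) = n := by
  have hinj := Groth.Agent.Lib.Helper23.FieldSep.injective_mapBaseChange_of_isGeometricallyReduced
    ℤ k L
  haveI hqprime : q.IsPrime := Ideal.minimalPrimes_isPrime hq
  haveI : IsLocalRing (A ⧸ q) :=
    IsLocalRing.of_surjective' (Ideal.Quotient.mk q) Ideal.Quotient.mk_surjective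
  haveI : IsAdicComplete (maximalIdeal (A ⧸ q)) (A ⧸ q) :=
    Groth.Agent.Lib.Helper9.SemiLocalProd.isAdicComplete_maximalIdeal_of_finite A (A ⧸ q)
  haveI : Module.Finite k (ResidueField (A ⧸ q)) :=
    Groth.Agent.Lib.Helper23.CK.finite_residueField_quotient q
  letI : Algebra (A ⧸ q) L := (quotToFrac P q hq hqP L).toAlgebra
  haveI : IsFractionRing (A ⧸ q) L := isFractionRing_quot P q hq hqP L
  haveI : IsScalarTower k (A ⧸ q) L := IsScalarTower.of_algebraMap_eq (fun c => by
    show algebraMap k L c = quotToFrac P q hq hqP L (Ideal.Quotient.mk q (algebraMap k A c))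
    rw [quotToFrac_mk, ← IsScalarTower.algebraMap_apply k A (Localization.AtPrime P),
      ← IsScalarTower.algebraMap_apply k (Localization.AtPrime P) L])
  have h2 := (Groth.Agent.S5989.result p k (A ⧸ q) L hk n hn).1
  rw [h2, LinearMap.ker_eq_bot.mpr hinj, finrank_bot, add_zero]

theorem main_charP (p : ℕ) [Fact p.Prime] [CharP k p] (hk : (frobenius k p).Finite)
    (P : Ideal A) [P.IsPrime] (hP : CAlg.IsGeometricallyRegular k (Localization.AtPrime P))
    (q : Ideal A) (hq : q ∈ minimalPrimes A) (hqP : q ≤ P) (n : ℕ)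
    (hn : ringKrullDim (A ⧸ q) = n) :
    Module.Free (Localization.AtPrime P) (LocalizedModule P.primeCompl
      (AdicCompletion (maximalIdeal A) (Ω[A⁄k]))) ∧
    Module.finrank (Localization.AtPrime P) (LocalizedModule P.primeCompl
      (AdicCompletion (maximalIdeal A) (Ω[A⁄k]))) = n := by
  have hfs := (Groth.Agent.S2036.result p).mp hP
  haveI := Groth.Agent.Lib.Helper18.PMor.isRegularRing_of_isGeometricallyRegular hP
  haveI : IsRegularLocalRing (Localization.AtPrime P) :=
    .of_isRegularRing_of_isLocalRing _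
  haveI : IsDomain (Localization.AtPrime P) :=
    Groth.Agent.Lib.Helper21.isDomain_of_isRegularLocalRing _
  haveI : Module.Finite A (Ω[A⁄k]) := finite_kaehler p hk
  haveI : Module.Finite (Localization.AtPrime P) (Ω[Localization.AtPrime P⁄k]) :=
    Module.Finite.equiv (tensorKaehlerEquivOfFormallyEtale k A (Localization.AtPrime P))
  haveI : Module.Free (Localization.AtPrime P) (Ω[Localization.AtPrime P⁄k]) :=
    free_kaehler_of_adic hfs
  let e := locEquiv (k := k) P
  refine ⟨Module.Free.of_equiv e.symm, ?_⟩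
  rw [e.finrank_eq]
  have hGR : CAlg.IsGeometricallyRegular k (FractionRing (Localization.AtPrime P)) :=
    Groth.Agent.Lib.Helper23.FlatFibreSmooth.geomRegular_localization hP _
  haveI : Algebra.IsGeometricallyReduced k (FractionRing (Localization.AtPrime P)) :=
    Groth.Agent.Lib.Helper18.PMor.isGeometricallyReduced_of_isGeometricallyRegular hGR
  have h1 : Module.finrank (Localization.AtPrime P) (Ω[Localization.AtPrime P⁄k]) =
      Module.finrank (FractionRing (Localization.AtPrime P))
        (Ω[FractionRing (Localization.AtPrime P)⁄k]) := by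
    rw [← Module.finrank_baseChange (R := FractionRing (Localization.AtPrime P))
      (S := Localization.AtPrime P)]
    exact (tensorKaehlerEquivOfFormallyEtale k (Localization.AtPrime P)
      (FractionRing (Localization.AtPrime P))).finrank_eq
  rw [h1]
  exact finrank_frac p hk P q hq hqP n hn (FractionRing (Localization.AtPrime P))

end CharP


open IsLocalRing TensorProduct KaehlerDifferential MvPowerSeries
open Groth.Agent.Lib.Helper23.CompletedKaehlerSep Groth.Agent.Lib.Helper23.CK

section C1

variable {k B : Type u} [Field k] [CommRing B] [IsDomain B] [IsLocalRing B] [IsNoetherianRing B]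
  [IsAdicComplete (maximalIdeal B) B] [Algebra k B] [Module.Finite k (ResidueField B)]

/-- separability hypothesis in characteristic zero. -/
theorem hsep_char0 [CharZero k] {n : ℕ} [Algebra (MvPowerSeries (Fin n) k) B]
    [IsScalarTower k (MvPowerSeries (Fin n) k) B] [Module.Finite (MvPowerSeries (Fin n) k) B]
    (hinj : Function.Injective (algebraMap (MvPowerSeries (Fin n) k) B)) (a : B) :
    ∃ F : Polynomial (MvPowerSeries (Fin n) k), Polynomial.aeval a F = 0 ∧
      (F.map (algebraMap (MvPowerSeries (Fin n) k)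
        (FractionRing (MvPowerSeries (Fin n) k)))).Separable := by
  classical
  haveI : IsDomain (MvPowerSeries (Fin n) k) := NoZeroDivisors.to_isDomain _
  have hinjE : Function.Injective (algebraMap (MvPowerSeries (Fin n) k) (FractionRing B)) := by
    rw [IsScalarTower.algebraMap_eq (MvPowerSeries (Fin n) k) B (FractionRing B), RingHom.coe_comp]
    exact (IsFractionRing.injective B (FractionRing B)).comp hinj
  letI : Algebra (FractionRing (MvPowerSeries (Fin n) k)) (FractionRing B) :=
    (IsFractionRing.lift hinjE).toAlgebra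
  haveI : IsScalarTower (MvPowerSeries (Fin n) k) (FractionRing (MvPowerSeries (Fin n) k))
      (FractionRing B) :=
    IsScalarTower.of_algebraMap_eq (fun x => (IsFractionRing.lift_algebraMap hinjE x).symm)
  haveI : Algebra.IsIntegral (MvPowerSeries (Fin n) k) B := inferInstance
  haveI : Algebra.IsAlgebraic (FractionRing (MvPowerSeries (Fin n) k)) (FractionRing B) :=
    isAlgebraic_of_isFractionRing (MvPowerSeries (Fin n) k) B
      (FractionRing (MvPowerSeries (Fin n) k)) (FractionRing B)
  haveI : CharZero (FractionRing (MvPowerSeries (Fin n) k)) :=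
    charZero_of_injective_algebraMap
      (FaithfulSMul.algebraMap_injective k (FractionRing (MvPowerSeries (Fin n) k)))
  set α := algebraMap B (FractionRing B) a with hα
  have hint : IsIntegral (FractionRing (MvPowerSeries (Fin n) k)) α :=
    (Algebra.IsAlgebraic.isAlgebraic α).isIntegral
  set μ := minpoly (FractionRing (MvPowerSeries (Fin n) k)) α with hμ
  have hμsep : μ.Separable := (minpoly.irreducible hint).separable
  obtain ⟨b, hb, hF⟩ := IsLocalization.integerNormalization_spec
    (nonZeroDivisors (MvPowerSeries (Fin n) k)) μ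
  refine ⟨IsLocalization.integerNormalization (nonZeroDivisors (MvPowerSeries (Fin n) k)) μ,
    ?_, ?_⟩
  · apply IsFractionRing.injective B (FractionRing B)
    rw [map_zero, ← Polynomial.aeval_algebraMap_apply]
    exact IsLocalization.integerNormalization_aeval_eq_zero _ μ (minpoly.aeval _ _)
  · rw [hF, Algebra.smul_def]
    refine Polynomial.Separable.unit_mul ?_ hμsep
    rw [Polynomial.algebraMap_apply]
    refine Polynomial.isUnit_C.mpr (isUnit_iff_ne_zero.mpr ?_)
    intro h0
    exact nonZeroDivisors.ne_zero hb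
      ((IsFractionRing.injective (MvPowerSeries (Fin n) k) _) (h0.trans (map_zero _).symm))

/-- in characteristic zero the completed differentials of a complete local domain of dimension `d`
are generically generated by `d` differentials. -/
theorem exists_genAt_bot_char0 [CharZero k] (d : ℕ) (hd : ringKrullDim B = d) :
    ∃ t : Fin d → B, GenAt (⊥ : Ideal B) (fun j => dhat (k := k) (t j)) := by
  obtain ⟨n, w, hinj, hloc, hfin⟩ :=
    Groth.Agent.Lib.Helper23.CohenDomain.t2460main (k₀ := k) (A := B)
  letI : Algebra (MvPowerSeries (Fin n) k) B := w.toRingHom.toAlgebra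
  haveI : IsScalarTower k (MvPowerSeries (Fin n) k) B :=
    IsScalarTower.of_algebraMap_eq (fun c => (w.commutes c).symm)
  haveI : Module.Finite (MvPowerSeries (Fin n) k) B := hfin
  have hinj' : Function.Injective (algebraMap (MvPowerSeries (Fin n) k) B) := hinj
  have hdim : ringKrullDim B = (n : WithBot ℕ∞) := by
    rw [← Groth.Agent.Lib.Helper12.ringKrullDim_eq_of_isIntegral_of_injective
      (MvPowerSeries (Fin n) k) B hinj']
    exact Groth.Agent.Lib.Helper1.ArtFunLib.ringKrullDim_mvPowerSeries k n
  have hnd : n = d := by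
    rw [hdim] at hd
    exact_mod_cast hd
  subst hnd
  haveI : IsDomain (MvPowerSeries (Fin n) k) := NoZeroDivisors.to_isDomain _
  haveI := finite_mhat' (k := k) (A := B)
  refine ⟨fun j => algebraMap (MvPowerSeries (Fin n) k) B (X j), genAt_of_span_tmul _ ?_⟩
  exact span_eq_top (k := k) (r := n) (A := B) (E₀ := FractionRing (MvPowerSeries (Fin n) k))
    (E := (⊥ : Ideal B).ResidueField) hinj' (hsep_char0 hinj')

end C1


open IsLocalRing TensorProduct KaehlerDifferential MvPowerSeries
open Groth.Agent.Lib.Helper23.CompletedKaehlerSep Groth.Agent.Lib.Helper23.CK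

section C2

variable {k A : Type u} [Field k] [CommRing A] [IsLocalRing A] [IsNoetherianRing A]
  [IsAdicComplete (maximalIdeal A) A] [Algebra k A] [Module.Finite k (ResidueField A)]
  (P : Ideal A)

variable (k) in
/-- the submodule of the completed differentials generated by `d̂(P)` and `P·Ω̂`. -/
noncomputable def NP : Submodule A (AdicCompletion (maximalIdeal A) (Ω[A⁄k])) :=
  Submodule.span A (dhat (k := k) '' (P : Set A)) ⊔ P • ⊤

theorem dhat_mem_NP {a : A} (ha : a ∈ P) : dhat (k := k) a ∈ NP k P :=
  Submodule.mem_sup_left (Submodule.subset_span ⟨a, ha, rfl⟩)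

theorem isTorsionBySet_NP :
    Module.IsTorsionBySet A (AdicCompletion (maximalIdeal A) (Ω[A⁄k]) ⧸ NP k P) P := by
  intro x a
  obtain ⟨y, rfl⟩ := Submodule.mkQ_surjective _ x
  show (a : A) • Submodule.mkQ _ y = 0
  rw [← map_smul, Submodule.mkQ_apply, Submodule.Quotient.mk_eq_zero]
  exact Submodule.mem_sup_right (Submodule.smul_mem_smul a.2 Submodule.mem_top)

/-- the key relation: generic generators of `Ω̂_{(A/P)/k}` lift to generators of `Ω̂_{A/k}` modulo
`NP`. -/
theorem exists_smul_sub_mem_NP [P.IsPrime] [IsLocalRing (A ⧸ P)]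
    [IsAdicComplete (maximalIdeal (A ⧸ P)) (A ⧸ P)] [Module.Finite k (ResidueField (A ⧸ P))]
    {d : ℕ} (t : Fin d → A)
    (hgen : GenAt (⊥ : Ideal (A ⧸ P))
      (fun j => dhat (k := k) (A := A ⧸ P) (Ideal.Quotient.mk P (t j)))) (a : A) :
    ∃ s : A, s ∉ P ∧ ∃ c : Fin d → A,
      s • dhat (k := k) a - ∑ j, c j • dhat (k := k) (t j) ∈ NP k P := by
  classical
  have hM := isTorsionBySet_NP (k := k) P
  letI modB : Module (A ⧸ P) (AdicCompletion (maximalIdeal A) (Ω[A⁄k]) ⧸ NP k P) := hM.module
  haveI : IsScalarTower A (A ⧸ P) (AdicCompletion (maximalIdeal A) (Ω[A⁄k]) ⧸ NP k P) :=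
    hM.isScalarTower
  haveI : IsScalarTower k (A ⧸ P) (AdicCompletion (maximalIdeal A) (Ω[A⁄k]) ⧸ NP k P) :=
    hM.isScalarTower
  haveI := finite_mhat' (k := k) (A := A)
  haveI : Module.Finite (A ⧸ P) (AdicCompletion (maximalIdeal A) (Ω[A⁄k]) ⧸ NP k P) :=
    Module.Finite.of_restrictScalars_finite A (A ⧸ P) _
  -- the derivation `A → Ω̂/NP`
  let φ : A →ₗ[k] (AdicCompletion (maximalIdeal A) (Ω[A⁄k]) ⧸ NP k P) :=
    ((NP k P).mkQ.restrictScalars k) ∘ₗ (dhat (k := k) (A := A)).toLinearMap
  have hφ : ∀ a, φ a = Submodule.Quotient.mk (dhat (k := k) a) := fun a => rfl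
  let mkl : A →ₗ[k] A ⧸ P := (Ideal.Quotient.mkₐ k P).toLinearMap
  have hmkl : Function.Surjective mkl := Ideal.Quotient.mk_surjective
  have hker : LinearMap.ker mkl ≤ LinearMap.ker φ := by
    intro a ha
    rw [LinearMap.mem_ker] at ha ⊢
    have haP : a ∈ P := Ideal.Quotient.eq_zero_iff_mem.mp ha
    rw [hφ, Submodule.Quotient.mk_eq_zero]
    exact dhat_mem_NP P haP
  let e := LinearMap.quotKerEquivOfSurjective mkl hmkl
  let Dlin : (A ⧸ P) →ₗ[k] (AdicCompletion (maximalIdeal A) (Ω[A⁄k]) ⧸ NP k P) :=
    (Submodule.liftQ (LinearMap.ker mkl) φ hker) ∘ₗ e.symm.toLinearMap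
  have hDlin : ∀ a, Dlin (Ideal.Quotient.mk P a) = Submodule.Quotient.mk (dhat (k := k) a) := by
    intro a
    have h6 : e.symm (Ideal.Quotient.mk P a) = Submodule.Quotient.mk a := by
      rw [LinearEquiv.symm_apply_eq]
      rfl
    show Submodule.liftQ (LinearMap.ker mkl) φ hker (e.symm (Ideal.Quotient.mk P a)) = _
    rw [h6, Submodule.liftQ_apply, hφ]
  have hsm : ∀ (a : A) (z : AdicCompletion (maximalIdeal A) (Ω[A⁄k]) ⧸ NP k P),
      (Ideal.Quotient.mk P a) • z = a • z := fun a z => rfl
  let D' : Derivation k (A ⧸ P) (AdicCompletion (maximalIdeal A) (Ω[A⁄k]) ⧸ NP k P) :=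
    Derivation.mk' Dlin (by
      intro b₁ b₂
      obtain ⟨a₁, rfl⟩ := Ideal.Quotient.mk_surjective b₁
      obtain ⟨a₂, rfl⟩ := Ideal.Quotient.mk_surjective b₂
      rw [← map_mul, hDlin, hDlin, hDlin, Derivation.leibniz, hsm, hsm]
      rfl)
  have hD' : ∀ a, D' (Ideal.Quotient.mk P a) = Submodule.Quotient.mk (dhat (k := k) a) := hDlin
  obtain ⟨l, hl⟩ := exists_lift (k := k) (A := A ⧸ P) D'
  obtain ⟨sb, hsb, hmem⟩ := hgen (dhat (k := k) (A := A ⧸ P) (Ideal.Quotient.mk P a))
  obtain ⟨s, rfl⟩ := Ideal.Quotient.mk_surjective sb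
  have hsP : s ∉ P := by
    intro hs
    apply hsb
    rw [Ideal.mem_bot]
    exact Ideal.Quotient.eq_zero_iff_mem.mpr hs
  rw [Submodule.mem_span_range_iff_exists_fun] at hmem
  obtain ⟨cb, hcb⟩ := hmem
  choose c hc using fun j => Ideal.Quotient.mk_surjective (cb j)
  refine ⟨s, hsP, c, ?_⟩
  have h1 := congrArg l hcb
  rw [map_sum, map_smul, hl, hD'] at h1
  simp only [map_smul, hl, hD', ← hc, hsm] at h1
  rw [← Submodule.Quotient.mk_eq_zero, Submodule.Quotient.mk_sub, Submodule.Quotient.mk_smul,
    ← h1, sub_eq_zero, ← Submodule.mkQ_apply, map_sum]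
  refine (Finset.sum_congr rfl fun j _ => ?_).symm
  rw [map_smul]
  rfl

end C2


open IsLocalRing TensorProduct KaehlerDifferential MvPowerSeries
open Groth.Agent.Lib.Helper23.CompletedKaehlerSep Groth.Agent.Lib.Helper23.CK

section C2b

variable {k A : Type u} [Field k] [CommRing A] [IsLocalRing A] [IsNoetherianRing A]
  [IsAdicComplete (maximalIdeal A) A] [Algebra k A] [Module.Finite k (ResidueField A)]
  (P : Ideal A) [P.IsPrime]

theorem one_tmul_smul' (c : A) (m : AdicCompletion (maximalIdeal A) (Ω[A⁄k])) :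
    (1 : P.ResidueField) ⊗ₜ[A] (c • m) =
      algebraMap A P.ResidueField c • ((1 : P.ResidueField) ⊗ₜ[A] m) := by
  rw [TensorProduct.smul_tmul', ← TensorProduct.smul_tmul, smul_eq_mul, mul_one,
    Algebra.algebraMap_eq_smul_one]

theorem delta_sum {ι : Type*} (s : Finset ι) (f : ι → A) :
    delta k P (∑ i ∈ s, f i) = ∑ i ∈ s, delta k P (f i) := by
  show (TensorProduct.mk A P.ResidueField _ 1) (dhat (k := k) (∑ i ∈ s, f i)) = _
  rw [map_sum, map_sum]
  rfl

theorem smul_mem_cancel {W : Submodule P.ResidueField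
      (P.ResidueField ⊗[A] AdicCompletion (maximalIdeal A) (Ω[A⁄k]))} {s : A} (hs : s ∉ P)
    {z : P.ResidueField ⊗[A] AdicCompletion (maximalIdeal A) (Ω[A⁄k])}
    (h : algebraMap A P.ResidueField s • z ∈ W) : z ∈ W := by
  have hu : algebraMap A P.ResidueField s ≠ 0 := by
    rw [Ne, Ideal.algebraMap_residueField_eq_zero]; exact hs
  have := Submodule.smul_mem W (algebraMap A P.ResidueField s)⁻¹ h
  rwa [smul_smul, inv_mul_cancel₀ hu, one_smul] at this

theorem finrank_fibre_le [IsLocalRing (A ⧸ P)]
    [IsAdicComplete (maximalIdeal (A ⧸ P)) (A ⧸ P)] [Module.Finite k (ResidueField (A ⧸ P))]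
    {h d : ℕ} (a : Fin h → A) (ha : ∀ i, a i ∈ P)
    (hgenP : ∀ y ∈ P, ∃ s : A, s ∉ P ∧ s * y ∈ Ideal.span (Set.range a))
    (t : Fin d → A)
    (hgen : GenAt (⊥ : Ideal (A ⧸ P))
      (fun j => dhat (k := k) (A := A ⧸ P) (Ideal.Quotient.mk P (t j)))) :
    Module.finrank P.ResidueField
      (P.ResidueField ⊗[A] AdicCompletion (maximalIdeal A) (Ω[A⁄k])) ≤ h + d := by
  classical
  let x : Fin h ⊕ Fin d → P.ResidueField ⊗[A] AdicCompletion (maximalIdeal A) (Ω[A⁄k]) :=
    Sum.elim (fun i => delta k P (a i)) (fun j => delta k P (t j))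
  set W := Submodule.span P.ResidueField (Set.range x) with hW
  have hxa : ∀ i, delta k P (a i) ∈ W := fun i => Submodule.subset_span ⟨Sum.inl i, rfl⟩
  have hxt : ∀ j, delta k P (t j) ∈ W := fun j => Submodule.subset_span ⟨Sum.inr j, rfl⟩
  have h0 : ∀ y ∈ P, algebraMap A P.ResidueField y = 0 := fun y hy =>
    (Ideal.algebraMap_residueField_eq_zero).mpr hy
  -- step (i)
  have h1 : ∀ y ∈ P, delta k P y ∈ W := by
    intro y hy
    obtain ⟨s, hs, hsy⟩ := hgenP y hy
    rw [Ideal.span, Submodule.mem_span_range_iff_exists_fun] at hsy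
    obtain ⟨c, hc⟩ := hsy
    have e1 : delta k P (s * y) = algebraMap A P.ResidueField s • delta k P y := by
      rw [delta_mul, h0 y hy, zero_smul, add_zero]
    have e2 : delta k P (s * y) = ∑ i, algebraMap A P.ResidueField (c i) • delta k P (a i) := by
      rw [← hc, delta_sum]
      refine Finset.sum_congr rfl fun i _ => ?_
      rw [smul_eq_mul, delta_mul, h0 (a i) (ha i), zero_smul, add_zero]
    apply smul_mem_cancel P hs
    rw [← e1, e2]
    exact Submodule.sum_mem _ fun i _ => Submodule.smul_mem _ _ (hxa i)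
  -- step (ii)
  have h2a : ∀ u ∈ Submodule.span A (dhat (k := k) '' (P : Set A)),
      (1 : P.ResidueField) ⊗ₜ[A] u ∈ W := by
    intro u hu
    induction hu using Submodule.span_induction with
    | mem z hz =>
      obtain ⟨y, hy, rfl⟩ := hz
      exact h1 y hy
    | zero => rw [TensorProduct.tmul_zero]; exact Submodule.zero_mem _
    | add z w _ _ hz hw => rw [TensorProduct.tmul_add]; exact Submodule.add_mem _ hz hw
    | smul r z _ hz => rw [one_tmul_smul']; exact Submodule.smul_mem _ _ hz
  have h2b : ∀ v ∈ (P • ⊤ : Submodule A (AdicCompletion (maximalIdeal A) (Ω[A⁄k]))),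
      (1 : P.ResidueField) ⊗ₜ[A] v ∈ W := by
    intro v hv
    refine Submodule.smul_induction_on hv ?_ ?_
    · intro r hr m _
      rw [one_tmul_smul', h0 r hr, zero_smul]
      exact Submodule.zero_mem _
    · intro z w hz hw
      rw [TensorProduct.tmul_add]; exact Submodule.add_mem _ hz hw
  have h2 : ∀ ω ∈ NP k P, (1 : P.ResidueField) ⊗ₜ[A] ω ∈ W := by
    intro ω hω
    obtain ⟨u, hu, v, hv, rfl⟩ := Submodule.mem_sup.mp hω
    rw [TensorProduct.tmul_add]
    exact Submodule.add_mem _ (h2a u hu) (h2b v hv)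
  -- step (iii)
  have h3 : ∀ a' : A, delta k P a' ∈ W := by
    intro a'
    obtain ⟨s, hs, c, hmem⟩ := exists_smul_sub_mem_NP (k := k) P t hgen a'
    have h4 := h2 _ hmem
    rw [TensorProduct.tmul_sub, one_tmul_smul', TensorProduct.tmul_sum] at h4
    have h5 : ∑ j, (1 : P.ResidueField) ⊗ₜ[A] (c j • dhat (k := k) (t j)) ∈ W := by
      refine Submodule.sum_mem _ fun j _ => ?_
      rw [one_tmul_smul']
      exact Submodule.smul_mem _ _ (hxt j)
    have h6 := Submodule.add_mem _ h4 h5
    rw [sub_add_cancel] at h6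
    exact smul_mem_cancel P hs h6
  have hWtop : W = ⊤ := by
    rw [eq_top_iff, ← span_delta (k := k) P, Submodule.span_le]
    rintro _ ⟨a', rfl⟩
    exact h3 a'
  have h7 := finrank_range_le_card (R := P.ResidueField) x
  rw [Set.finrank, ← hW, hWtop, finrank_top, Fintype.card_sum, Fintype.card_fin,
    Fintype.card_fin] at h7
  exact h7

end C2b


open IsLocalRing TensorProduct KaehlerDifferential MvPowerSeries
open Groth.Agent.Lib.Helper23.CompletedKaehlerSep Groth.Agent.Lib.Helper23.CK
open Groth.Agent.Lib.Helper21.ChartPt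

section C3

variable {A : Type u} [CommRing A] (P : Ideal A) [P.IsPrime]

/-- a regular local ring `A_P` of dimension `h` has maximal ideal generated by `h` elements
of `P`, elementwise form. -/
theorem exists_gens_at [IsNoetherianRing A] [IsRegularLocalRing (Localization.AtPrime P)] (h : ℕ)
    (hh : ringKrullDim (Localization.AtPrime P) = h) :
    ∃ a : Fin h → A, (∀ i, a i ∈ P) ∧
      ∀ y ∈ P, ∃ s : A, s ∉ P ∧ s * y ∈ Ideal.span (Set.range a) := by
  classical
  have hfg : (maximalIdeal (Localization.AtPrime P)).FG :=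
    IsNoetherian.noetherian _
  obtain ⟨S, hcard, hspan⟩ := Submodule.FG.exists_span_finset_card_eq_spanFinrank hfg
  have hsf : (Submodule.spanFinrank (maximalIdeal (Localization.AtPrime P)) : WithBot ℕ∞) = h := by
    rw [IsRegularLocalRing.spanFinrank_maximalIdeal, hh]
  have hcard' : S.card = h := by
    rw [hcard]
    exact_mod_cast hsf
  let e : Fin h ≃ ↥S := (S.equivFin.trans (finCongr hcard')).symm
  have hr : ∀ i, ((e i : ↥S) : Localization.AtPrime P) ∈ maximalIdeal (Localization.AtPrime P) := by
    intro i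
    rw [← hspan]
    exact Submodule.subset_span (e i).2
  choose au hau using fun i => IsLocalization.surj P.primeCompl
    ((e i : ↥S) : Localization.AtPrime P)
  have haP : ∀ i, (au i).1 ∈ P := by
    intro i
    rw [← IsLocalization.AtPrime.to_map_mem_maximal_iff (Localization.AtPrime P) P, ← hau i]
    exact Ideal.mul_mem_right _ _ (hr i)
  refine ⟨fun i => (au i).1, haP, ?_⟩
  have hmap : Ideal.map (algebraMap A (Localization.AtPrime P))
      (Ideal.span (Set.range fun i => (au i).1)) = maximalIdeal (Localization.AtPrime P) := by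
    apply le_antisymm
    · rw [Ideal.map_le_iff_le_comap, Ideal.span_le]
      rintro _ ⟨i, rfl⟩
      rw [SetLike.mem_coe, Ideal.mem_comap,
        IsLocalization.AtPrime.to_map_mem_maximal_iff (Localization.AtPrime P) P]
      exact haP i
    · rw [← hspan]
      change Ideal.span _ ≤ _
      rw [Ideal.span_le]
      intro r hrS
      obtain ⟨i, hi⟩ := e.surjective ⟨r, hrS⟩
      have hri : r = ((e i : ↥S) : Localization.AtPrime P) := by rw [hi]
      obtain ⟨u, hu⟩ := IsLocalization.map_units (Localization.AtPrime P) (au i).2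
      have h1 : r = algebraMap A (Localization.AtPrime P) (au i).1 * ↑u⁻¹ := by
        rw [← hau i, ← hri, ← hu, mul_assoc, Units.mul_inv, mul_one]
      rw [SetLike.mem_coe, h1]
      exact Ideal.mul_mem_right _ _ (Ideal.mem_map_of_mem _ (Ideal.subset_span ⟨i, rfl⟩))
  intro y hy
  have hy' : algebraMap A (Localization.AtPrime P) y ∈
      Ideal.map (algebraMap A (Localization.AtPrime P))
        (Ideal.span (Set.range fun i => (au i).1)) := by
    rw [hmap, IsLocalization.AtPrime.to_map_mem_maximal_iff (Localization.AtPrime P) P]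
    exact hy
  rw [IsLocalization.mem_map_algebraMap_iff P.primeCompl] at hy'
  obtain ⟨⟨a', s⟩, has⟩ := hy'
  simp only at has
  rw [← map_mul, IsLocalization.eq_iff_exists P.primeCompl] at has
  obtain ⟨s', hs'⟩ := has
  refine ⟨(s' : A) * (s : A), P.primeCompl.mul_mem s'.2 s.2, ?_⟩
  have : (s' : A) * (s : A) * y = (s' : A) * (a' : A) := by
    rw [← hs']; ring
  rw [this]
  exact Ideal.mul_mem_left _ _ a'.2

/-- heights in quotients decrease with the ideal. -/
theorem height_map_mk_mono (I J : Ideal A) (hIJ : I ≤ J) (hJP : J ≤ P) :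
    (P.map (Ideal.Quotient.mk J)).height ≤ (P.map (Ideal.Quotient.mk I)).height := by
  haveI := map_mk_isPrime J P hJP
  haveI := map_mk_isPrime I P (hIJ.trans hJP)
  let f : PrimeSpectrum (A ⧸ J) → PrimeSpectrum (A ⧸ I) :=
    PrimeSpectrum.comap (Ideal.Quotient.factor hIJ)
  have hf : StrictMono f := by
    intro a b hab
    exact (Ideal.orderEmbeddingOfSurjective (Ideal.Quotient.factor hIJ)
      (Ideal.Quotient.factor_surjective hIJ)).strictMono hab
  have h1 := Order.height_le_height_apply_of_strictMono f hf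
    (⟨P.map (Ideal.Quotient.mk J), inferInstance⟩ : PrimeSpectrum (A ⧸ J))
  have h2 : f ⟨P.map (Ideal.Quotient.mk J), inferInstance⟩ =
      ⟨P.map (Ideal.Quotient.mk I), inferInstance⟩ := by
    apply PrimeSpectrum.ext
    show Ideal.comap (Ideal.Quotient.factor hIJ) (P.map (Ideal.Quotient.mk J)) = _
    ext x
    obtain ⟨a, rfl⟩ := Ideal.Quotient.mk_surjective x
    rw [Ideal.mem_comap, Ideal.Quotient.factor_mk]
    have e1 : ∀ (K : Ideal A) (hK : K ≤ P), Ideal.Quotient.mk K a ∈ P.map (Ideal.Quotient.mk K) ↔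
        a ∈ P := by
      intro K hK
      rw [← Ideal.mem_comap, comap_map_mk K P hK]
    rw [e1 J hJP, e1 I (hIJ.trans hJP)]
  rw [h2, ← PrimeSpectrum.height_eq_orderHeight, ← PrimeSpectrum.height_eq_orderHeight] at h1
  exact h1

/-- `ht P + dim A/P ≤ dim A/q` when `A_P` is a domain and `q ≤ P` is minimal. -/
theorem height_add_dim_le [IsNoetherianRing A] [IsDomain (Localization.AtPrime P)] (q : Ideal A)
    (hq : q ∈ minimalPrimes A) (hqP : q ≤ P) :
    (P.height : WithBot ℕ∞) + ringKrullDim (A ⧸ P) ≤ ringKrullDim (A ⧸ q) := by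
  haveI hqprime : q.IsPrime := Ideal.minimalPrimes_isPrime hq
  obtain ⟨p₀, hp₀, hp₀P, hht⟩ := exists_le_height_map_mk_eq P
  have hqp₀ : q ≤ p₀ := by
    rw [← ker_eq_of_isDomain P q hq hqP]
    exact ker_le_of_le P p₀ hp₀P
  have h1 : P.height ≤ (P.map (Ideal.Quotient.mk q)).height := by
    rw [← hht]
    exact height_map_mk_mono P q p₀ hqp₀ hp₀P
  haveI := map_mk_isPrime q P hqP
  have h2 := Groth.Agent.Lib.Helper23.NagataJacobian.height_add_ringKrullDim_quotient_le
    (P.map (Ideal.Quotient.mk q))
  rw [ringKrullDim_eq_of_ringEquiv (DoubleQuot.quotQuotEquivQuotOfLE hqP)] at h2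
  refine le_trans ?_ h2
  gcongr
  exact_mod_cast h1

end C3


open IsLocalRing TensorProduct KaehlerDifferential MvPowerSeries
open Groth.Agent.Lib.Helper23.CompletedKaehlerSep Groth.Agent.Lib.Helper23.CK
open Groth.Agent.Lib.Helper21.ChartPt

section Char0

variable {k A : Type u} [Field k] [CommRing A] [IsLocalRing A] [IsNoetherianRing A] [Algebra k A]
  [IsAdicComplete (maximalIdeal A) A] [Module.Finite k (ResidueField A)]

theorem main_char0 [CharZero k]
    (P : Ideal A) [P.IsPrime] (hP : CAlg.IsGeometricallyRegular k (Localization.AtPrime P))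
    (q : Ideal A) (hq : q ∈ minimalPrimes A) (hqP : q ≤ P) (n : ℕ)
    (hn : ringKrullDim (A ⧸ q) = n) :
    Module.Free (Localization.AtPrime P) (LocalizedModule P.primeCompl
      (AdicCompletion (maximalIdeal A) (Ω[A⁄k]))) ∧
    Module.finrank (Localization.AtPrime P) (LocalizedModule P.primeCompl
      (AdicCompletion (maximalIdeal A) (Ω[A⁄k]))) = n := by
  classical
  haveI := Groth.Agent.Lib.Helper18.PMor.isRegularRing_of_isGeometricallyRegular hP
  haveI : IsRegularLocalRing (Localization.AtPrime P) :=
    .of_isRegularRing_of_isLocalRing _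
  haveI : IsDomain (Localization.AtPrime P) :=
    Groth.Agent.Lib.Helper21.isDomain_of_isRegularLocalRing _
  haveI : IsNoetherianRing (Localization.AtPrime P) :=
    IsLocalization.isNoetherianRing P.primeCompl _ inferInstance
  haveI hqprime : q.IsPrime := Ideal.minimalPrimes_isPrime hq
  obtain ⟨h, hh⟩ := Groth.Agent.Lib.Helper18.SerreReg.exists_ringKrullDim_eq_nat
    (Localization.AtPrime P)
  obtain ⟨a, haP, hgenP⟩ := exists_gens_at P h hh
  -- the quotient `A ⧸ P`
  haveI : IsLocalRing (A ⧸ P) :=
    IsLocalRing.of_surjective' (Ideal.Quotient.mk P) Ideal.Quotient.mk_surjective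
  haveI : IsAdicComplete (maximalIdeal (A ⧸ P)) (A ⧸ P) :=
    Groth.Agent.Lib.Helper9.SemiLocalProd.isAdicComplete_maximalIdeal_of_finite A (A ⧸ P)
  haveI : Module.Finite k (ResidueField (A ⧸ P)) := finite_residueField_quotient P
  obtain ⟨d, hd⟩ := Groth.Agent.Lib.Helper18.SerreReg.exists_ringKrullDim_eq_nat (A ⧸ P)
  obtain ⟨tb, htb⟩ := exists_genAt_bot_char0 (k := k) (B := A ⧸ P) d hd
  choose t ht using fun j => Ideal.Quotient.mk_surjective (tb j)
  have hgen : GenAt (⊥ : Ideal (A ⧸ P))
      (fun j => dhat (k := k) (A := A ⧸ P) (Ideal.Quotient.mk P (t j))) := by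
    simpa only [ht] using htb
  have hle := finrank_fibre_le (k := k) P a haP hgenP t hgen
  -- numerics
  have hnum : h + d ≤ n := by
    have h1 := height_add_dim_le P q hq hqP
    rw [← IsLocalization.AtPrime.ringKrullDim_eq_height P (Localization.AtPrime P), hh, hd,
      hn] at h1
    exact_mod_cast h1
  haveI := finite_mhat' (k := k) (A := A)
  obtain ⟨m, hm, x, hx⟩ : ∃ m : ℕ, m = Module.finrank P.ResidueField
      (P.ResidueField ⊗[A] AdicCompletion (maximalIdeal A) (Ω[A⁄k])) ∧
      ∃ x : Fin m → AdicCompletion (maximalIdeal A) (Ω[A⁄k]), GenAt P x :=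
    ⟨_, rfl, exists_genAt_finrank (p := P) (M := AdicCompletion (maximalIdeal A) (Ω[A⁄k]))⟩
  have hxq : GenAt q x := hx.mono hqP
  have h1 : Module.finrank q.ResidueField
      (q.ResidueField ⊗[A] AdicCompletion (maximalIdeal A) (Ω[A⁄k])) ≤ m := hxq.finrank_le
  have h2 := t3847 k A q q hq le_rfl
  have h3 : Module.rank q.ResidueField
      (q.ResidueField ⊗[A] AdicCompletion (maximalIdeal A) (Ω[A⁄k])) =
      ((Module.finrank q.ResidueField
        (q.ResidueField ⊗[A] AdicCompletion (maximalIdeal A) (Ω[A⁄k])) : ℕ) : Cardinal) :=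
    (Module.finrank_eq_rank _ _).symm
  rw [h3, Cardinal.toENat_nat, hn] at h2
  have h4 : n ≤ Module.finrank q.ResidueField
      (q.ResidueField ⊗[A] AdicCompletion (maximalIdeal A) (Ω[A⁄k])) := by
    exact_mod_cast h2
  have hmn : m = n := by omega
  have hfr : Module.finrank q.ResidueField
      (q.ResidueField ⊗[A] AdicCompletion (maximalIdeal A) (Ω[A⁄k])) = m := by omega
  -- independence
  have hli : LinearIndependent q.ResidueField
      (fun i => (1 : q.ResidueField) ⊗ₜ[A] x i) := by
    apply linearIndependent_of_top_le_span_of_card_eq_finrank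
    · exact hxq.span_tmul.ge
    · rw [Fintype.card_fin, hfr]
  have hi : IndepAt P x := by
    intro c s hs hsum j
    have h5 := congrArg (TensorProduct.mk A q.ResidueField
      (AdicCompletion (maximalIdeal A) (Ω[A⁄k])) 1) hsum
    rw [map_zero, map_smul, map_sum] at h5
    have h6 : ∀ i, (TensorProduct.mk A q.ResidueField
        (AdicCompletion (maximalIdeal A) (Ω[A⁄k])) 1) (c i • x i) =
        algebraMap A q.ResidueField (c i) • ((1 : q.ResidueField) ⊗ₜ[A] x i) := by
      intro i
      rw [map_smul, algebraMap_smul]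
      rfl
    rw [Finset.sum_congr rfl fun i _ => h6 i, ← algebraMap_smul q.ResidueField s] at h5
    have hs0 : algebraMap A q.ResidueField s ≠ 0 := by
      rw [Ne, Ideal.algebraMap_residueField_eq_zero]
      exact fun hsq => hs (hqP hsq)
    have h7 := (smul_eq_zero.mp h5).resolve_left hs0
    have h8 := (Fintype.linearIndependent_iff.mp hli) _ h7 j
    rw [Ideal.algebraMap_residueField_eq_zero, ← ker_eq_of_isDomain P q hq hqP, RingHom.mem_ker,
      IsLocalization.map_eq_zero_iff P.primeCompl] at h8
    obtain ⟨s', hs'⟩ := h8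
    exact ⟨s', s'.2, hs'⟩
  have := free_of_genAt_of_indepAt x hx hi
  rw [hmn] at this
  exact this

end Char0

end Groth.Agent.Lib.Helper23.CKFree
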