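import Mathlib
import Groth.Agent.Lib.Helper23.CTens7

/-!
Completed tensor products, part 9: Lemma F (`flat_tensor_of_flat_quotients`: `MB ⊗[P] A` is flat over `B` when `MB` is `B`-flat and all `MB/J·MB` are `P`-flat), `flat_base_ps` (`B[[U]]` flat over Noetherian `B`), `ker_map_mk`, `flat_quot_ps`, `flat_B`, the swapped identification `exists_cTensor_equiv_swap`, `exists_equiv_residue` (`B ⊗[k] κ ≃ B[[U]] ⊗[k[[U]]] κ`), `finite_quotient_of_X_mem`.
-/

set_option autoImplicit false
set_option linter.style.haveILetI false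
set_option linter.unusedSectionVars false
universe u


namespace Groth.Agent.Lib.Helper23.CTensStr


open TensorProduct

section LemmaF

variable (P B MB A : Type u) [CommRing P] [CommRing B] [CommRing MB] [Algebra P MB] [Algebra B MB]
  [AddCommGroup A] [Module P A]

scoped instance smulCommClass_PB : SMulCommClass P B MB :=
  ⟨fun p b m => by
    rw [Algebra.smul_def, Algebra.smul_def, Algebra.smul_def, Algebra.smul_def]; ring⟩

scoped instance smulCommClass_BP : SMulCommClass B P MB :=
  ⟨fun b p m => by
    rw [Algebra.smul_def, Algebra.smul_def, Algebra.smul_def, Algebra.smul_def]; ring⟩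

/-- `id ⊗ f` as a `P`-linear map (`P` acting through the left factor). -/
noncomputable def lT {N N' : Type u} [AddCommGroup N] [Module B N] [AddCommGroup N'] [Module B N']
    (f : N →ₗ[B] N') : MB ⊗[B] N →ₗ[P] MB ⊗[B] N' :=
  { (LinearMap.lTensor MB f).toAddMonoidHom with
    map_smul' := fun p x => by
      induction x using TensorProduct.induction_on with
      | zero => simp
      | tmul m j =>
        change LinearMap.lTensor MB f (p • (m ⊗ₜ[B] j)) = p • LinearMap.lTensor MB f (m ⊗ₜ[B] j)
        rw [TensorProduct.smul_tmul', LinearMap.lTensor_tmul, LinearMap.lTensor_tmul,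
          TensorProduct.smul_tmul']
      | add x y hx hy =>
        change LinearMap.lTensor MB f (p • (x + y)) = p • LinearMap.lTensor MB f (x + y)
        change LinearMap.lTensor MB f (p • x) = p • LinearMap.lTensor MB f x at hx
        change LinearMap.lTensor MB f (p • y) = p • LinearMap.lTensor MB f y at hy
        rw [smul_add, map_add, map_add, hx, hy, smul_add] }

theorem lT_apply {N N' : Type u} [AddCommGroup N] [Module B N] [AddCommGroup N'] [Module B N']
    (f : N →ₗ[B] N') (x : MB ⊗[B] N) : lT P B MB f x = LinearMap.lTensor MB f x := rfl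

variable [Module.Flat B MB]
  (hq : ∀ J : Ideal B, Module.Flat P (MB ⧸ J.map (algebraMap B MB)))

include hq in
theorem flat_tensor_quot (J : Ideal B) : Module.Flat P (MB ⊗[B] (B ⧸ J)) := by
  haveI := hq J
  let e := Algebra.TensorProduct.quotIdealMapEquivTensorQuot MB J
  let e' : (MB ⧸ J.map (algebraMap B MB)) ≃ₗ[P] MB ⊗[B] (B ⧸ J) :=
    { e.toLinearEquiv.toAddEquiv with
      map_smul' := fun p x => by
        obtain ⟨m, rfl⟩ := Ideal.Quotient.mk_surjective x
        change e (p • Ideal.Quotient.mk _ m) = p • e (Ideal.Quotient.mk _ m)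
        have h1 : p • Ideal.Quotient.mk (J.map (algebraMap B MB)) m =
            Ideal.Quotient.mk (J.map (algebraMap B MB)) (p • m) := rfl
        rw [h1]
        change (p • m) ⊗ₜ[B] (1 : B ⧸ J) = p • (m ⊗ₜ[B] (1 : B ⧸ J))
        rw [TensorProduct.smul_tmul'] }
  exact Module.Flat.of_linearEquiv e'.symm

include hq in
/-- **Lemma F**: `MB ⊗[P] A` is flat over `B`. -/
theorem flat_tensor_of_flat_quotients : Module.Flat B (MB ⊗[P] A) := by
  rw [Module.Flat.iff_lTensor_injective']
  intro J
  haveI := flat_tensor_quot P B MB hq J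
  -- the `P`-linear maps
  let g : MB ⊗[B] J →ₗ[P] MB ⊗[B] B := lT P B MB J.subtype
  let f : MB ⊗[B] B →ₗ[P] MB ⊗[B] (B ⧸ J) := lT P B MB J.mkQ
  have hg : Function.Injective g :=
    Module.Flat.lTensor_preserves_injective_linearMap (M := MB) J.subtype
      (Submodule.injective_subtype _)
  have hf : Function.Surjective f :=
    LinearMap.lTensor_surjective MB (Submodule.mkQ_surjective J)
  have hex : Function.Exact g f :=
    lTensor_exact MB (LinearMap.exact_subtype_mkQ J) (Submodule.mkQ_surjective J)
  have hinj : Function.Injective (g.rTensor A) := by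
    rw [← LinearMap.lTensor_inj_iff_rTensor_inj]
    exact LinearMap.lTensor_injective_of_exact_of_flat f hf g hg hex A
  let rcJ := TensorProduct.AlgebraTensorModule.rightComm P B MB MB J A
  let rcB := TensorProduct.AlgebraTensorModule.rightComm P B MB MB B A
  have hcomm : ∀ y : (MB ⊗[B] J) ⊗[P] A,
      LinearMap.lTensor (MB ⊗[P] A) J.subtype (rcJ y) = rcB (g.rTensor A y) := by
    intro y
    induction y using TensorProduct.induction_on with
    | zero => simp
    | tmul z a =>
      induction z using TensorProduct.induction_on with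
      | zero => simp
      | tmul m j => rfl
      | add z w hz hw =>
        rw [TensorProduct.add_tmul, map_add, map_add, map_add, map_add, hz, hw]
    | add y z hy hz => rw [map_add, map_add, map_add, map_add, hy, hz]
  intro x x' hxx'
  have h1 : g.rTensor A (rcJ.symm x) = g.rTensor A (rcJ.symm x') := by
    apply rcB.injective
    rw [← hcomm, ← hcomm, LinearEquiv.apply_symm_apply, LinearEquiv.apply_symm_apply]
    exact hxx'
  exact rcJ.symm.injective (hinj h1)

end LemmaF



open TensorProduct MvPowerSeries Groth.Agent.Lib.Helper23.CTens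

section PSflat

variable (k B : Type u) [Field k] [CommRing B] [Algebra k B] [IsNoetherianRing B] (d : ℕ)

theorem flat_base_ps : Module.Flat B (MvPowerSeries (Fin d) B) := by
  haveI : Module.Flat (MvPolynomial (Fin d) B)
      (AdicCompletion (MvPolynomial.idealOfVars (Fin d) B) (MvPolynomial (Fin d) B)) :=
    AdicCompletion.flat_of_isNoetherian _
  haveI : Module.Flat (MvPolynomial (Fin d) B) (MvPowerSeries (Fin d) B) :=
    Module.Flat.of_linearEquiv
      (MvPowerSeries.toAdicCompletionAlgEquiv (Fin d) B).toLinearEquiv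
  haveI : IsScalarTower B (MvPolynomial (Fin d) B) (MvPowerSeries (Fin d) B) :=
    IsScalarTower.of_algebraMap_eq (fun b => by
      rw [MvPowerSeries.algebraMap_apply, MvPowerSeries.algebraMap_apply', MvPolynomial.algebraMap_eq]
      simp)
  exact Module.Flat.trans B (MvPolynomial (Fin d) B) (MvPowerSeries (Fin d) B)

/-- the kernel of reduction of coefficients modulo `J` -/
theorem ker_map_mk (J : Ideal B) :
    RingHom.ker (MvPowerSeries.map (σ := Fin d) (Ideal.Quotient.mk J)) =
      J.map (algebraMap B (MvPowerSeries (Fin d) B)) := by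
  classical
  apply le_antisymm
  · intro f hf
    rw [RingHom.mem_ker] at hf
    have hcoef : ∀ n, MvPowerSeries.coeff n f ∈ J := by
      intro n
      have := congrArg (MvPowerSeries.coeff n) hf
      rw [MvPowerSeries.coeff_map, map_zero, Ideal.Quotient.eq_zero_iff_mem] at this
      exact this
    have hfg : J.FG := (isNoetherianRing_iff_ideal_fg B).mp inferInstance J
    obtain ⟨r, v, hv⟩ := Submodule.fg_iff_exists_fin_generating_family.mp hfg
    have hc : ∀ n, ∃ c : Fin r → B, ∑ i, c i • v i = MvPowerSeries.coeff n f := by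
      intro n
      have h1 : MvPowerSeries.coeff n f ∈ Submodule.span B (Set.range v) := by
        rw [hv]; exact hcoef n
      exact (Submodule.mem_span_range_iff_exists_fun B).mp h1
    choose c hc using hc
    have hvJ : ∀ i, v i ∈ J := fun i => by
      rw [← hv]; exact Submodule.subset_span ⟨i, rfl⟩
    let g : Fin r → MvPowerSeries (Fin d) B := fun i n => c n i
    have hf' : f = ∑ i, algebraMap B (MvPowerSeries (Fin d) B) (v i) * g i := by
      ext n
      rw [map_sum, ← hc n]
      refine Finset.sum_congr rfl (fun i _ => ?_)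
      rw [MvPowerSeries.algebraMap_apply, Algebra.algebraMap_self, RingHom.id_apply,
        MvPowerSeries.coeff_C_mul, smul_eq_mul, mul_comm]
      rfl
    rw [hf']
    exact Ideal.sum_mem _ (fun i _ => Ideal.mul_mem_right _ _ (Ideal.mem_map_of_mem _ (hvJ i)))
  · rw [Ideal.map_le_iff_le_comap]
    intro b hb
    rw [Ideal.mem_comap, RingHom.mem_ker, MvPowerSeries.algebraMap_apply, Algebra.algebraMap_self,
      RingHom.id_apply, MvPowerSeries.map_C, Ideal.Quotient.eq_zero_iff_mem.mpr hb, map_zero]

theorem flat_quot_ps (J : Ideal B) :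
    Module.Flat (MvPowerSeries (Fin d) k)
      (MvPowerSeries (Fin d) B ⧸ J.map (algebraMap B (MvPowerSeries (Fin d) B))) := by
  haveI : Module.Flat (MvPowerSeries (Fin d) k) (MvPowerSeries (Fin d) (B ⧸ J)) :=
    flat_ps k (B ⧸ J) d
  let π : MvPowerSeries (Fin d) B →ₐ[MvPowerSeries (Fin d) k] MvPowerSeries (Fin d) (B ⧸ J) :=
    { MvPowerSeries.map (Ideal.Quotient.mk J) with
      commutes' := fun q => by
        change MvPowerSeries.map (Ideal.Quotient.mk J)
          (algebraMap (MvPowerSeries (Fin d) k) (MvPowerSeries (Fin d) B) q) =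
          algebraMap (MvPowerSeries (Fin d) k) (MvPowerSeries (Fin d) (B ⧸ J)) q
        rw [MvPowerSeries.algebraMap_apply'', MvPowerSeries.algebraMap_apply'']
        change ((MvPowerSeries.map (Ideal.Quotient.mk J)).comp
          (MvPowerSeries.map (algebraMap k B))) q = _
        rw [← MvPowerSeries.map_comp]
        rfl }
  have hπ : Function.Surjective π := by
    intro g
    refine ⟨fun n => Function.surjInv (Ideal.Quotient.mk_surjective (I := J))
      (MvPowerSeries.coeff n g), ?_⟩
    ext n
    change MvPowerSeries.coeff n (MvPowerSeries.map (Ideal.Quotient.mk J) _) = _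
    rw [MvPowerSeries.coeff_map]
    exact Function.surjInv_eq (Ideal.Quotient.mk_surjective (I := J)) _
  have hker : RingHom.ker π = J.map (algebraMap B (MvPowerSeries (Fin d) B)) := ker_map_mk B d J
  let e₁ := Ideal.quotientKerAlgEquivOfSurjective hπ
  let e₂ := Ideal.quotientEquivAlgOfEq (MvPowerSeries (Fin d) k) hker
  exact Module.Flat.of_linearEquiv (e₂.symm.trans e₁).toLinearEquiv

/-- `B[[U]] ⊗[k[[U]]] A` is flat over `B`. -/
theorem flat_B (A : Type u) [AddCommGroup A] [Module (MvPowerSeries (Fin d) k) A] :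
    Module.Flat B (MvPowerSeries (Fin d) B ⊗[MvPowerSeries (Fin d) k] A) := by
  haveI := flat_base_ps B d
  exact flat_tensor_of_flat_quotients (MvPowerSeries (Fin d) k) B (MvPowerSeries (Fin d) B) A
    (fun J => flat_quot_ps k B d J)

end PSflat



open IsLocalRing TensorProduct MvPowerSeries Groth.Agent.Lib.Helper23.CTens

section Swap

variable (k A B : Type u) [Field k] [CommRing A] [CommRing B] [Algebra k A] [Algebra k B]
  [IsLocalRing A] [IsLocalRing B]

theorem map_comm_cTensorIdeal :
    (EGA4.cTensorIdeal k A B).map (Algebra.TensorProduct.comm k A B).toRingEquiv.toRingHom =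
      EGA4.cTensorIdeal k B A := by
  apply le_antisymm
  · rw [Ideal.map_le_iff_le_comap]
    unfold EGA4.cTensorIdeal
    rw [sup_le_iff]
    constructor
    · rw [Ideal.map_le_iff_le_comap]
      intro a ha
      rw [Ideal.mem_comap, Ideal.mem_comap]
      change Algebra.TensorProduct.comm k A B (a ⊗ₜ[k] (1 : B)) ∈ _
      rw [Algebra.TensorProduct.comm_tmul]
      exact Ideal.mem_sup_right (Ideal.mem_map_of_mem _ ha)
    · rw [Ideal.map_le_iff_le_comap]
      intro b hb
      rw [Ideal.mem_comap, Ideal.mem_comap]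
      change Algebra.TensorProduct.comm k A B ((1 : A) ⊗ₜ[k] b) ∈ _
      rw [Algebra.TensorProduct.comm_tmul]
      exact Ideal.mem_sup_left (Ideal.mem_map_of_mem _ hb)
  · unfold EGA4.cTensorIdeal
    rw [sup_le_iff]
    constructor
    · rw [Ideal.map_le_iff_le_comap]
      intro b hb
      rw [Ideal.mem_comap]
      have h1 : (Algebra.TensorProduct.includeLeft : B →ₐ[k] B ⊗[k] A) b =
          (Algebra.TensorProduct.comm k A B).toRingEquiv.toRingHom ((1 : A) ⊗ₜ[k] b) := by
        change b ⊗ₜ[k] (1 : A) = Algebra.TensorProduct.comm k A B ((1 : A) ⊗ₜ[k] b)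
        rw [Algebra.TensorProduct.comm_tmul]
      rw [h1]
      apply Ideal.mem_map_of_mem
      exact Ideal.mem_sup_right (Ideal.mem_map_of_mem _ hb)
    · rw [Ideal.map_le_iff_le_comap]
      intro a ha
      rw [Ideal.mem_comap]
      have h1 : (Algebra.TensorProduct.includeRight : A →ₐ[k] B ⊗[k] A) a =
          (Algebra.TensorProduct.comm k A B).toRingEquiv.toRingHom (a ⊗ₜ[k] (1 : B)) := by
        change (1 : B) ⊗ₜ[k] a = Algebra.TensorProduct.comm k A B (a ⊗ₜ[k] (1 : B))
        rw [Algebra.TensorProduct.comm_tmul]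
      rw [h1]
      apply Ideal.mem_map_of_mem
      exact Ideal.mem_sup_left (Ideal.mem_map_of_mem _ ha)

variable (d : ℕ)
  [Algebra (MvPowerSeries (Fin d) k) A] [IsScalarTower k (MvPowerSeries (Fin d) k) A]
  [IsNoetherianRing B] [IsAdicComplete (maximalIdeal B) B]
  [Module.Finite (MvPowerSeries (Fin d) k) A]
  (hX : ∀ i, uu k A d i ∈ maximalIdeal A) (N : ℕ)
  (hN : maximalIdeal A ^ N ≤ Ideal.span (Set.range (uu k A d)))

include hX hN in
/-- the identification with the roles of the two factors exchanged -/
theorem exists_cTensor_equiv_swap :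
    ∃ e : EGA4.CTensor k A B ≃+* (MvPowerSeries (Fin d) B ⊗[MvPowerSeries (Fin d) k] A),
      ∀ x : A ⊗[k] B, e (AdicCompletion.of (EGA4.cTensorIdeal k A B) (A ⊗[k] B) x) =
        theta k B A d (Algebra.TensorProduct.comm k A B x) := by
  let c : A ⊗[k] B ≃+* B ⊗[k] A := (Algebra.TensorProduct.comm k A B).toRingEquiv
  let θ' : A ⊗[k] B →+* MvPowerSeries (Fin d) B ⊗[MvPowerSeries (Fin d) k] A :=
    (theta k B A d).toRingHom.comp c.toRingHom
  have hmap : (EGA4.cTensorIdeal k A B).map θ' =
      (EGA4.cTensorIdeal k B A).map (theta k B A d).toRingHom := by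
    rw [← map_comm_cTensorIdeal k A B, Ideal.map_map]
  haveI : IsAdicComplete ((EGA4.cTensorIdeal k A B).map θ')
      (MvPowerSeries (Fin d) B ⊗[MvPowerSeries (Fin d) k] A) := by
    rw [hmap]
    exact isAdicComplete_J k B A d hX N hN
  have hpow : ∀ n, (EGA4.cTensorIdeal k B A) ^ n =
      ((EGA4.cTensorIdeal k A B) ^ n).map c.toRingHom := by
    intro n
    rw [Ideal.map_pow]
    congr 1
    exact (map_comm_cTensorIdeal k A B).symm
  refine nonempty_equiv_of_levels θ' (EGA4.cTensorIdeal k A B) ?_ ?_
  · intro n x hx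
    rw [hmap] at hx
    have h1 : c x ∈ (EGA4.cTensorIdeal k B A) ^ n := theta_inj k B A d hX n (c x) hx
    rw [hpow n] at h1
    obtain ⟨y, hy, hyx⟩ := (Ideal.mem_map_iff_of_surjective c.toRingHom
      c.surjective).mp h1
    have : y = x := c.injective hyx
    rw [← this]; exact hy
  · intro n s
    obtain ⟨y, hy⟩ := theta_surj k B A d hX n s
    refine ⟨c.symm y, ?_⟩
    rw [hmap]
    have : θ' (c.symm y) = theta k B A d y := by
      change theta k B A d (c (c.symm y)) = _
      rw [c.apply_symm_apply]
    rw [this]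
    exact hy

end Swap



open IsLocalRing TensorProduct MvPowerSeries Groth.Agent.Lib.Helper23.CTens
  Groth.Agent.Lib.Helper1.ArtFunLib

section Gamma

variable (k A B : Type u) [Field k] [CommRing A] [CommRing B] [Algebra k A] [Algebra k B]
  [IsLocalRing A] [IsLocalRing B] (d : ℕ)
  [Algebra (MvPowerSeries (Fin d) k) A] [IsScalarTower k (MvPowerSeries (Fin d) k) A]
  [Module.Finite (MvPowerSeries (Fin d) k) A]
  (hX : ∀ i, uu k A d i ∈ maximalIdeal A)

include hX in
/-- the action of `k[[U]]` on the residue field factors through the constant coefficient -/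
theorem smul_residue (p : MvPowerSeries (Fin d) k) (c : A ⧸ maximalIdeal A) :
    p • c = (constantCoeff p) • c := by
  obtain ⟨a, rfl⟩ := Ideal.Quotient.mk_surjective c
  have h1 : algebraMap (MvPowerSeries (Fin d) k) A p - algebraMap k A (constantCoeff p) ∈
      maximalIdeal A := by
    have := algebraMap_sub_mem k A d p
    refine (Ideal.span_le.mpr ?_) this
    rintro _ ⟨i, rfl⟩
    exact hX i
  change Ideal.Quotient.mk _ (p • a) = Ideal.Quotient.mk _ ((constantCoeff p) • a)
  rw [Algebra.smul_def, Algebra.smul_def, Ideal.Quotient.eq, ← sub_mul]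
  exact Ideal.mul_mem_right _ _ h1

include hX in
theorem exists_equiv_residue :
    ∃ ε : B ⊗[k] (A ⧸ maximalIdeal A) ≃+*
        MvPowerSeries (Fin d) B ⊗[MvPowerSeries (Fin d) k] (A ⧸ maximalIdeal A),
      ∀ (b : B) (c : A ⧸ maximalIdeal A),
        ε (b ⊗ₜ[k] c) = (C b : MvPowerSeries (Fin d) B) ⊗ₜ[MvPowerSeries (Fin d) k] c := by
  set κ := A ⧸ maximalIdeal A with hκ
  set MB := MvPowerSeries (Fin d) B with hMB
  set P := MvPowerSeries (Fin d) k with hP
  -- the forward map
  let g₁ : B ⊗[k] κ →ₐ[k] MB ⊗[P] κ :=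
    Algebra.TensorProduct.lift
      ((Algebra.TensorProduct.includeLeft : MB →ₐ[k] MB ⊗[P] κ).comp
        (IsScalarTower.toAlgHom k B MB))
      ((Algebra.TensorProduct.includeRight : κ →ₐ[P] MB ⊗[P] κ).restrictScalars k)
      (fun _ _ => Commute.all _ _)
  have hg₁ : ∀ (b : B) (c : κ), g₁ (b ⊗ₜ[k] c) = (C b : MB) ⊗ₜ[P] c := by
    intro b c
    change ((algebraMap B MB b) ⊗ₜ[P] (1 : κ)) * ((1 : MB) ⊗ₜ[P] c) = _
    rw [Algebra.TensorProduct.tmul_mul_tmul, mul_one, one_mul, MvPowerSeries.algebraMap_apply,
      Algebra.algebraMap_self, RingHom.id_apply]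
  -- the backward additive map
  let f₀ : MB →+ κ →+ B ⊗[k] κ :=
    { toFun := fun m =>
        { toFun := fun c => (constantCoeff m) ⊗ₜ[k] c
          map_zero' := by simp
          map_add' := fun c c' => by rw [TensorProduct.tmul_add] }
      map_zero' := by ext c; simp
      map_add' := fun m m' => by
        ext c
        change (constantCoeff (m + m')) ⊗ₜ[k] c = _
        rw [map_add, TensorProduct.add_tmul]
        rfl }
  have hbal : ∀ (p : P) (m : MB) (c : κ), f₀ (p • m) c = f₀ m (p • c) := by
    intro p m c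
    change (constantCoeff (p • m)) ⊗ₜ[k] c = (constantCoeff m) ⊗ₜ[k] (p • c)
    rw [smul_residue k A d hX p c, Algebra.smul_def, map_mul, MvPowerSeries.algebraMap_apply'',
      ← MvPowerSeries.coeff_zero_eq_constantCoeff_apply, MvPowerSeries.coeff_map,
      MvPowerSeries.coeff_zero_eq_constantCoeff_apply, TensorProduct.tmul_smul,
      ← Algebra.smul_def, TensorProduct.smul_tmul']
  let f₁ : MB ⊗[P] κ →+ B ⊗[k] κ := TensorProduct.liftAddHom f₀ hbal
  have hf₁ : ∀ x, f₁ (g₁ x) = x := by
    intro x
    induction x using TensorProduct.induction_on with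
    | zero => simp
    | tmul b c =>
      rw [hg₁]
      change (constantCoeff (C b : MB)) ⊗ₜ[k] c = _
      rw [constantCoeff_C]
    | add x y hx hy => rw [map_add, map_add, hx, hy]
  have hinj : Function.Injective g₁ := Function.LeftInverse.injective hf₁
  have hsurj : Function.Surjective g₁ := by
    intro y
    induction y using TensorProduct.induction_on with
    | zero => exact ⟨0, map_zero _⟩
    | tmul m c =>
      refine ⟨(constantCoeff m) ⊗ₜ[k] c, ?_⟩
      rw [hg₁]
      have h1 := PS.sub_C_constantCoeff_mem m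
      obtain ⟨w, hw⟩ := (Submodule.mem_span_range_iff_exists_fun (MvPowerSeries (Fin d) B)).mp h1
      have h2 : m = C (constantCoeff m) + ∑ i, w i • (X i : MB) := by
        rw [hw]; ring
      have h3 : ∀ i, (w i • (X i : MB)) ⊗ₜ[P] c = 0 := by
        intro i
        have hXi : (X i : MB) = (X i : P) • (1 : MB) := by
          rw [Algebra.smul_def, mul_one, MvPowerSeries.algebraMap_apply'', MvPowerSeries.map_X]
        rw [smul_eq_mul, hXi, mul_smul_comm, mul_one, TensorProduct.smul_tmul,
          smul_residue k A d hX, constantCoeff_X, zero_smul, TensorProduct.tmul_zero]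
      conv_rhs => rw [h2]
      rw [TensorProduct.add_tmul, TensorProduct.sum_tmul, Finset.sum_eq_zero (fun i _ => h3 i),
        add_zero]
    | add x y hx hy =>
      obtain ⟨x', rfl⟩ := hx
      obtain ⟨y', rfl⟩ := hy
      exact ⟨x' + y', map_add _ _ _⟩
  exact ⟨RingEquiv.ofBijective g₁.toRingHom ⟨hinj, hsurj⟩, hg₁⟩

end Gamma



open IsLocalRing TensorProduct MvPowerSeries Groth.Agent.Lib.Helper23.CTens Groth.Agent.Lib.Helper1.ArtFunLib

section Fin

/-- a quotient of a finite `B[[U]]`-algebra killed by the variables is finite over `B`. -/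
theorem finite_quotient_of_X_mem (B : Type u) [CommRing B] [IsLocalRing B] (d : ℕ) (T : Type u) [CommRing T]
    [Algebra (MvPowerSeries (Fin d) B) T] [Algebra B T]
    [IsScalarTower B (MvPowerSeries (Fin d) B) T]
    [Module.Finite (MvPowerSeries (Fin d) B) T] (M : Ideal T)
    (hXM : ∀ i, algebraMap (MvPowerSeries (Fin d) B) T (X i) ∈ M) : Module.Finite B (T ⧸ M) := by
  set MB := MvPowerSeries (Fin d) B with hMB
  have hsmul : ∀ (f : MB) (y : T ⧸ M), f • y = (constantCoeff f) • y := by
    intro f y
    obtain ⟨c, rfl⟩ := Ideal.Quotient.mk_surjective y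
    have h1 := PS.sub_C_constantCoeff_mem f
    have h2 : algebraMap MB T (f - C (constantCoeff f)) ∈ M := by
      have h3 : (Ideal.span (Set.range (X : Fin d → MB))).map (algebraMap MB T) ≤ M := by
        rw [Ideal.map_span, Ideal.span_le]
        rintro _ ⟨_, ⟨i, rfl⟩, rfl⟩
        exact hXM i
      exact h3 (Ideal.mem_map_of_mem _ h1)
    change Ideal.Quotient.mk M (f • c) = Ideal.Quotient.mk M ((constantCoeff f) • c)
    rw [Ideal.Quotient.eq, Algebra.smul_def, Algebra.smul_def, ← sub_mul]
    have h4 : algebraMap B T (constantCoeff f) = algebraMap MB T (C (constantCoeff f)) := by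
      rw [IsScalarTower.algebraMap_apply B MB T, MvPowerSeries.algebraMap_apply,
        Algebra.algebraMap_self, RingHom.id_apply]
    rw [h4, ← map_sub]
    exact Ideal.mul_mem_right _ _ h2
  haveI : Module.Finite MB (T ⧸ M) :=
    Module.Finite.of_surjective (Ideal.Quotient.mkₐ MB M).toLinearMap
      (Ideal.Quotient.mkₐ_surjective MB M)
  obtain ⟨S, hS⟩ := (Module.Finite.fg_top : (⊤ : Submodule MB (T ⧸ M)).FG)
  refine ⟨⟨S, ?_⟩⟩
  rw [eq_top_iff]
  intro y _
  let W : Submodule MB (T ⧸ M) :=
    { carrier := (Submodule.span B (S : Set (T ⧸ M)) : Set (T ⧸ M))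
      add_mem' := fun ha hb => Submodule.add_mem _ ha hb
      zero_mem' := Submodule.zero_mem _
      smul_mem' := fun f x hx => by
        rw [hsmul]
        exact Submodule.smul_mem _ _ hx }
  have hW : Submodule.span MB (S : Set (T ⧸ M)) ≤ W :=
    Submodule.span_le.mpr (fun s hs => Submodule.subset_span hs)
  have : y ∈ W := hW (by rw [hS]; trivial)
  exact this

end Fin

end Groth.Agent.Lib.Helper23.CTensStr
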