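import Mathlib
import Groth.Agent.Lib.Helper23.CTens7
import Groth.Agent.Lib.Helper21.BrR2
import Groth.Agent.Lib.Helper23.CTens9
import Groth.Agent.Lib.Helper9.SemiLocalProd
import Groth.Agent.Lib.Helper25.CompleteDVR
import Groth.Agent.Lib.Helper21.BaseChg5
import Groth.Agent.S0499

/-!
Completed tensor product of a complete Noetherian local k-algebra A (residue field finite over k) with a field extension k': `ideal_eq` (m_A(A ⊗ k') is the cTensorIdeal), `structure_pkg` (CTensor k A k' is a finite k'[[U]]-algebra, flat over A, with m_{k'[[U]]} C = m_A C), `ringKrullDim_quot_eq_zero` (quotients of a local ring finite over a local ring R by an ideal containing m_R have dimension 0).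
-/

set_option autoImplicit false
universe u
open scoped TensorProduct

namespace Groth.Agent.Lib.Helper23.CTensFld


open IsLocalRing TensorProduct MvPowerSeries Groth.Agent.Lib.Helper23.CTens Groth.Agent.Lib.Helper1.ArtFunLib Groth.Agent.Lib.Helper23.CTensStr

/-- the ideal generated by `m_A` in `A ⊗ k'` is the ideal of definition of the completed tensor
product. -/
theorem ideal_eq (k A k' : Type u) [Field k] [CommRing A] [IsLocalRing A] [Algebra k A]
    [Field k'] [Algebra k k'] :
    (IsLocalRing.maximalIdeal A).map (algebraMap A (A ⊗[k] k')) = EGA4.cTensorIdeal k A k' := by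
  rw [EGA4.cTensorIdeal, IsLocalRing.maximalIdeal_eq_bot, Ideal.map_bot, sup_bot_eq]
  rfl

/-- the structural package for the completed tensor product with a field. -/
theorem structure_pkg (k A k' : Type u) [Field k]
    [CommRing A] [IsNoetherianRing A] [IsLocalRing A] [Algebra k A]
    [IsAdicComplete (IsLocalRing.maximalIdeal A) A] [Module.Finite k (IsLocalRing.ResidueField A)]
    [Field k'] [Algebra k k'] :
    ∃ (d : ℕ) (_ : Algebra (MvPowerSeries (Fin d) k') (EGA4.CTensor k A k'))
      (_ : Module.Finite (MvPowerSeries (Fin d) k') (EGA4.CTensor k A k')),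
      Module.Flat A (EGA4.CTensor k A k') ∧
      (maximalIdeal (MvPowerSeries (Fin d) k')).map
          (algebraMap (MvPowerSeries (Fin d) k') (EGA4.CTensor k A k')) =
        (maximalIdeal A).map (algebraMap A (EGA4.CTensor k A k')) ∧
      (∀ c : k', algebraMap (MvPowerSeries (Fin d) k') (EGA4.CTensor k A k') (C c) =
        AdicCompletion.of (EGA4.cTensorIdeal k A k') (A ⊗[k] k') ((1 : A) ⊗ₜ[k] c)) := by
  classical
  haveI : IsAdicComplete (maximalIdeal k') k' := by
    rw [IsLocalRing.maximalIdeal_eq_bot]; infer_instance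
  have hfg : (maximalIdeal A).FG := (isNoetherianRing_iff_ideal_fg A).mp inferInstance _
  obtain ⟨d, u, hspan⟩ := Submodule.fg_iff_exists_fin_generating_family.mp hfg
  have hu : ∀ i, u i ∈ maximalIdeal A := fun i => by
    rw [← hspan]; exact Submodule.subset_span ⟨i, rfl⟩
  letI algP : Algebra (MvPowerSeries (Fin d) k) A := psAlgebra k A d u hu
  haveI : IsScalarTower k (MvPowerSeries (Fin d) k) A := psAlgebra_tower k A d u hu
  have huu : uu k A d = u := funext (fun i => psAlgebra_X k A d u hu i)
  have hX : ∀ i, uu k A d i ∈ maximalIdeal A := fun i => by rw [huu]; exact hu i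
  have hN : maximalIdeal A ^ 1 ≤ Ideal.span (Set.range (uu k A d)) := by
    rw [huu, pow_one]; exact hspan.ge
  haveI hfin : Module.Finite (MvPowerSeries (Fin d) k) A := finite_ps k A d hX 1 hN
  obtain ⟨e, he⟩ := exists_cTensor_equiv_swap k A k' d hX 1 hN
  set P := MvPowerSeries (Fin d) k with hP
  set MB := MvPowerSeries (Fin d) k' with hMB
  set CC := EGA4.CTensor k A k' with hCC
  have heA : ∀ a : A, e (algebraMap A CC a) = (1 : MB) ⊗ₜ[P] a := by
    intro a
    have h1 : algebraMap A CC a =
        AdicCompletion.of (EGA4.cTensorIdeal k A k') (A ⊗[k] k') (a ⊗ₜ[k] (1 : k')) := rfl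
    rw [h1, he, Algebra.TensorProduct.comm_tmul, theta_tmul, map_one]
  have heB : ∀ b : k', e (AdicCompletion.of (EGA4.cTensorIdeal k A k') (A ⊗[k] k')
      ((1 : A) ⊗ₜ[k] b)) = (C b : MB) ⊗ₜ[P] (1 : A) := by
    intro b
    rw [he, Algebra.TensorProduct.comm_tmul, theta_tmul]
  letI algMB : Algebra MB CC :=
    ((e.symm : MB ⊗[P] A →+* CC).comp (algebraMap MB (MB ⊗[P] A))).toAlgebra
  have halg : ∀ f : MB, e (algebraMap MB CC f) = f ⊗ₜ[P] (1 : A) := by
    intro f
    change e (e.symm (algebraMap MB (MB ⊗[P] A) f)) = _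
    rw [e.apply_symm_apply, Algebra.TensorProduct.algebraMap_apply, Algebra.algebraMap_self,
      RingHom.id_apply]
  let eL : CC ≃ₗ[MB] MB ⊗[P] A :=
    { e with
      map_smul' := fun f x => by
        change e (f • x) = f • e x
        have h2 : f • e x = algebraMap MB (MB ⊗[P] A) f * e x := Algebra.smul_def f (e x)
        rw [Algebra.smul_def, map_mul, halg, h2,
          Algebra.TensorProduct.algebraMap_apply, Algebra.algebraMap_self, RingHom.id_apply] }
  have hfinMB : Module.Finite MB CC := Module.Finite.equiv eL.symm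
  have hAX : ∀ i, algebraMap A CC (u i) = algebraMap MB CC (X i) := by
    intro i
    apply e.injective
    rw [heA, halg, X_tmul, mul_one, ← huu]
  refine ⟨d, algMB, hfinMB, ?_, ?_, ?_⟩
  · -- flat over `A`
    haveI := flat_ps k k' d
    let ε' : CC ≃+* A ⊗[P] MB := e.trans (Algebra.TensorProduct.comm P MB A).toRingEquiv
    have h : algebraMap A CC = (ε'.symm : A ⊗[P] MB →+* CC).comp (algebraMap A (A ⊗[P] MB)) := by
      refine RingHom.ext (fun a => ?_)
      apply ε'.injective
      change (Algebra.TensorProduct.comm P MB A) (e (algebraMap A CC a)) =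
        ε' (ε'.symm (algebraMap A (A ⊗[P] MB) a))
      rw [ε'.apply_symm_apply, heA, Algebra.TensorProduct.comm_tmul,
        Algebra.TensorProduct.algebraMap_apply, Algebra.algebraMap_self, RingHom.id_apply]
    rw [← RingHom.flat_algebraMap_iff, h]
    exact RingHom.Flat.comp (RingHom.flat_algebraMap_iff.mpr inferInstance)
      (RingHom.Flat.of_bijective ε'.symm.bijective)
  · rw [maximalIdeal_mvPowerSeries_eq_span, ← hspan, Ideal.map_span, Ideal.map_span]
    congr 1
    ext x
    constructor
    · rintro ⟨_, ⟨i, rfl⟩, rfl⟩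
      exact ⟨u i, ⟨i, rfl⟩, hAX i⟩
    · rintro ⟨_, ⟨i, rfl⟩, rfl⟩
      exact ⟨X i, ⟨i, rfl⟩, (hAX i).symm⟩
  · intro c
    apply e.injective
    rw [heB, halg]



open IsLocalRing TensorProduct MvPowerSeries Groth.Agent.Lib.Helper23.CTens Groth.Agent.Lib.Helper1.ArtFunLib Groth.Agent.Lib.Helper23.CTensStr

/-- fibre of dimension zero. -/
theorem ringKrullDim_quot_eq_zero (R L : Type u) [CommRing R] [IsLocalRing R] [CommRing L] [IsLocalRing L]
    [Algebra R L] [Module.Finite R L] (J : Ideal L)
    (hJ : (maximalIdeal R).map (algebraMap R L) ≤ J) (hJ' : J ≠ ⊤) :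
    ringKrullDim (L ⧸ J) = 0 := by
  haveI : Nontrivial (L ⧸ J) := Ideal.Quotient.nontrivial_iff.mpr hJ'
  have hint : Algebra.IsIntegral R L := inferInstance
  have h0 : Ring.KrullDimLE 0 (L ⧸ J) := by
    refine Ring.KrullDimLE.mk₀ (fun q hq => ?_)
    set p : Ideal L := q.comap (Ideal.Quotient.mk J) with hp
    haveI : p.IsPrime := Ideal.comap_isPrime _ q
    have hJp : J ≤ p := by
      intro x hx
      rw [hp, Ideal.mem_comap, Ideal.Quotient.eq_zero_iff_mem.mpr hx]
      exact zero_mem _
    have hc : p.comap (algebraMap R L) = maximalIdeal R := by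
      apply le_antisymm
      · exact IsLocalRing.le_maximalIdeal (Ideal.IsPrime.ne_top (Ideal.comap_isPrime _ p))
      · rw [← Ideal.map_le_iff_le_comap]; exact hJ.trans hJp
    have hpmax : p.IsMaximal := by
      apply Ideal.isMaximal_of_isIntegral_of_isMaximal_comap (R := R) p
      rw [hc]; infer_instance
    have hq' : q = p.map (Ideal.Quotient.mk J) :=
      (Ideal.map_comap_of_surjective _ Ideal.Quotient.mk_surjective q).symm
    rcases Ideal.map_eq_top_or_isMaximal_of_surjective (Ideal.Quotient.mk J)
      Ideal.Quotient.mk_surjective hpmax with h | h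
    · exfalso; rw [← hq'] at h; exact hq.ne_top h
    · rw [hq']; exact h
  apply le_antisymm
  · exact (Ring.krullDimLE_iff.mp h0)
  · exact ringKrullDim_nonneg_of_nontrivial

end Groth.Agent.Lib.Helper23.CTensFld
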