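import Mathlib
import Groth.Agent.Lib.Helper23.CKFree
import Groth.Agent.Lib.Helper21.EquidimAt2
import Groth.Agent.Lib.Helper25.GeomRegSmooth1
import Groth.Agent.Lib.Helper23.CTens10
import Groth.Agent.S0499
import Groth.Agent.Lib.Helper18.Exc2
import Groth.Agent.S5074
import Groth.Agent.Lib.Helper18.SerreReg2

/-!
EGA IV 22.x-type TFAE for completed differentials (S3851): exists_ringEquiv_of_surjective, kerLoc / ringKrullDim_quot_kerLoc, lemmaG (n generators of the completed differentials at p => free of rank n, A_p geometrically regular, A/ker(A->A_p) finite over k[[T_1..T_n]] etale at p), exists_cTensor_quot, formallyEtale_tensor_atPrime, regular_of_etale, exists_extension / adic_hom_ext (extension of ring maps to adic completions), fst_pow_le, local_pkg (local rings of the completed tensor product A ⊗̂ k' at maximal ideals), exists_surjection_kaehler (Ω̂_{L/k'} ->> L ⊗_A Ω̂_{A/k}), GenAt.pad, exists_genAt_of_free, dim_quot_le, exists_genAt_of_regular ((a') => generators), nontrivial_cTensor,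 exists_prime_over.
-/

set_option autoImplicit false
set_option linter.unusedSectionVars false
set_option linter.style.haveILetI false
universe u


namespace Groth.Agent.Lib.Helper23.CKTfae

open IsLocalRing TensorProduct KaehlerDifferential

section LQ

variable {R S : Type u} [CommRing R] [CommRing S] (f : R →+* S) (P : Ideal S) [P.IsPrime]
  (p : Ideal R) [p.IsPrime]

/-- a surjection whose kernel dies at `p` induces an isomorphism of local rings. -/
theorem isLocalization_of_surjective (hf : Function.Surjective f) (hp : P.comap f = p)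
    (hker : ∀ r, f r = 0 → ∃ s, s ∉ p ∧ s * r = 0) :
    letI := ((algebraMap S (Localization.AtPrime P)).comp f).toAlgebra
    IsLocalization.AtPrime (Localization.AtPrime P) p := by
  letI := ((algebraMap S (Localization.AtPrime P)).comp f).toAlgebra
  have halg : ∀ r, algebraMap R (Localization.AtPrime P) r =
      algebraMap S (Localization.AtPrime P) (f r) := fun r => rfl
  have hmem : ∀ r, f r ∈ P ↔ r ∈ p := fun r => by rw [← hp, Ideal.mem_comap]
  refine ⟨?_, ?_, ?_⟩
  · rintro ⟨s, hs⟩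
    rw [halg]
    exact IsLocalization.map_units (Localization.AtPrime P)
      (⟨f s, fun h => hs ((hmem s).mp h)⟩ : P.primeCompl)
  · intro z
    obtain ⟨⟨x, t⟩, hxt⟩ := IsLocalization.surj P.primeCompl z
    obtain ⟨r, rfl⟩ := hf x
    obtain ⟨s, hs⟩ := hf (t : S)
    have hsp : s ∉ p := fun h => t.2 (hs ▸ (hmem s).mpr h)
    refine ⟨⟨r, ⟨s, hsp⟩⟩, ?_⟩
    simp only at hxt ⊢
    rw [halg, halg, hs]
    exact hxt
  · intro x y hxy
    rw [halg, halg, IsLocalization.eq_iff_exists P.primeCompl] at hxy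
    obtain ⟨t, ht⟩ := hxy
    obtain ⟨s, hs⟩ := hf (t : S)
    have hsp : s ∉ p := fun h => t.2 (hs ▸ (hmem s).mpr h)
    have h0 : f (s * (x - y)) = 0 := by
      rw [map_mul, map_sub, hs, mul_sub, ht, sub_self]
    obtain ⟨s', hs', hs0⟩ := hker _ h0
    refine ⟨⟨s' * s, p.primeCompl.mul_mem hs' hsp⟩, ?_⟩
    show s' * s * x = s' * s * y
    have : s' * s * x - s' * s * y = s' * (s * (x - y)) := by ring
    rw [← sub_eq_zero, this, hs0]

/-- the induced ring isomorphism. -/
theorem exists_ringEquiv_of_surjective (hf : Function.Surjective f) (hp : P.comap f = p)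
    (hker : ∀ r, f r = 0 → ∃ s, s ∉ p ∧ s * r = 0) :
    ∃ e : Localization.AtPrime p ≃+* Localization.AtPrime P,
      ∀ r, e (algebraMap R (Localization.AtPrime p) r) =
        algebraMap S (Localization.AtPrime P) (f r) := by
  letI := ((algebraMap S (Localization.AtPrime P)).comp f).toAlgebra
  haveI := isLocalization_of_surjective f P p hf hp hker
  let e := IsLocalization.algEquiv p.primeCompl (Localization.AtPrime p)
    (Localization.AtPrime P)
  exact ⟨e.toRingEquiv, fun r => e.commutes r⟩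

end LQ


open IsLocalRing TensorProduct KaehlerDifferential
open Groth.Agent.Lib.Helper23.CKFree Groth.Agent.Lib.Helper21.ChartPt

section Red

variable {A : Type u} [CommRing A] (p : Ideal A) [p.IsPrime]

/-- the kernel of `A → A_p`. -/
abbrev kerLoc : Ideal A := RingHom.ker (algebraMap A (Localization.AtPrime p))

theorem kerLoc_le : kerLoc p ≤ p := ker_le_of_le p p le_rfl

theorem mem_kerLoc_iff (a : A) : a ∈ kerLoc p ↔ ∃ s, s ∉ p ∧ s * a = 0 := by
  rw [RingHom.mem_ker, IsLocalization.map_eq_zero_iff p.primeCompl]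
  constructor
  · rintro ⟨s, hs⟩; exact ⟨s, s.2, hs⟩
  · rintro ⟨s, hs, h⟩; exact ⟨⟨s, hs⟩, h⟩

/-- minimal primes over `kerLoc p` are the minimal primes of `A` below `p`. -/
theorem minimalPrimes_kerLoc (Q : Ideal A) (hQ : Q ∈ (kerLoc p).minimalPrimes) :
    Q ∈ minimalPrimes A ∧ Q ≤ p := by
  haveI hQprime : Q.IsPrime := hQ.1.1
  have h0 : Disjoint ((⊥ : Ideal A) : Set A) ((p.primeCompl ⊔ Q.primeCompl : Submonoid A) : Set A) := by
    rw [Set.disjoint_left]
    intro x hx hxS
    rw [SetLike.mem_coe, Ideal.mem_bot] at hx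
    subst hx
    obtain ⟨s, hs, t, ht, hst⟩ := Submonoid.mem_sup.mp hxS
    have : t ∈ kerLoc p := (mem_kerLoc_iff p t).mpr ⟨s, hs, hst⟩
    exact ht (hQ.1.2 this)
  obtain ⟨q, hqprime, -, hqdisj⟩ := Ideal.exists_le_prime_disjoint ⊥ _ h0
  have hqp : q ≤ p := by
    intro x hx
    by_contra hxp
    exact Set.disjoint_left.mp hqdisj hx
      ((le_sup_left : p.primeCompl ≤ p.primeCompl ⊔ Q.primeCompl) hxp)
  have hqQ : q ≤ Q := by
    intro x hx
    by_contra hxQ
    exact Set.disjoint_left.mp hqdisj hx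
      ((le_sup_right : Q.primeCompl ≤ p.primeCompl ⊔ Q.primeCompl) hxQ)
  obtain ⟨q₀, hq₀, hq₀q⟩ := Ideal.exists_minimalPrimes_le (bot_le : (⊥ : Ideal A) ≤ q)
  haveI : q₀.IsPrime := hq₀.1.1
  have h1 : kerLoc p ≤ q₀ := ker_le_of_le p q₀ (hq₀q.trans hqp)
  have h2 : Q ≤ q₀ := hQ.2 ⟨inferInstance, h1⟩ (hq₀q.trans hqQ)
  have h3 : Q = q₀ := le_antisymm h2 (hq₀q.trans hqQ)
  rw [h3]
  exact ⟨hq₀, hq₀q.trans hqp⟩

/-- minimal primes of `A ⧸ kerLoc p`. -/
theorem comap_mem_minimalPrimes (Q₁ : Ideal (A ⧸ kerLoc p)) (hQ₁ : Q₁ ∈ minimalPrimes (A ⧸ kerLoc p)) :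
    Q₁.comap (Ideal.Quotient.mk (kerLoc p)) ∈ minimalPrimes A ∧
      Q₁.comap (Ideal.Quotient.mk (kerLoc p)) ≤ p := by
  apply minimalPrimes_kerLoc
  have h1 := Ideal.comap_minimalPrimes_eq_of_surjective
    (f := Ideal.Quotient.mk (kerLoc p)) Ideal.Quotient.mk_surjective ⊥
  rw [← RingHom.ker_eq_comap_bot, Ideal.mk_ker] at h1
  rw [h1]
  exact ⟨Q₁, hQ₁, rfl⟩

theorem map_mem_minimalPrimes (q : Ideal A) (hq : q ∈ minimalPrimes A) (hqp : q ≤ p) :
    q.map (Ideal.Quotient.mk (kerLoc p)) ∈ minimalPrimes (A ⧸ kerLoc p) := by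
  haveI : q.IsPrime := hq.1.1
  have hle : kerLoc p ≤ q := ker_le_of_le p q hqp
  haveI := map_mk_isPrime (kerLoc p) q hle
  refine ⟨⟨inferInstance, bot_le⟩, ?_⟩
  rintro Q' ⟨hQ', -⟩ hQ'q
  have h1 : Q'.comap (Ideal.Quotient.mk (kerLoc p)) ≤ q := by
    rw [← comap_map_mk (kerLoc p) q hle]
    exact Ideal.comap_mono hQ'q
  have h2 : q ≤ Q'.comap (Ideal.Quotient.mk (kerLoc p)) :=
    hq.2 ⟨Ideal.comap_isPrime _ _, bot_le⟩ h1
  rw [← Ideal.map_comap_of_surjective _ Ideal.Quotient.mk_surjective Q']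
  exact Ideal.map_mono h2

variable [IsNoetherianRing A] [IsLocalRing A]

/-- the dimension of `A ⧸ kerLoc p`. -/
theorem ringKrullDim_quot_kerLoc (n : ℕ)
    (hn₁ : ∀ q ∈ minimalPrimes A, q ≤ p → ringKrullDim (A ⧸ q) ≤ n)
    (hn₂ : ∃ q ∈ minimalPrimes A, q ≤ p ∧ ringKrullDim (A ⧸ q) = n) :
    ringKrullDim (A ⧸ kerLoc p) = n := by
  haveI : Nontrivial (A ⧸ kerLoc p) :=
    Ideal.Quotient.nontrivial_iff.mpr (fun h => (Ideal.IsPrime.ne_top inferInstance)
      (top_le_iff.mp (h ▸ kerLoc_le p)))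
  haveI : IsLocalRing (A ⧸ kerLoc p) :=
    IsLocalRing.of_surjective' (Ideal.Quotient.mk _) Ideal.Quotient.mk_surjective
  apply le_antisymm
  · obtain ⟨Q₁, hQ₁, hdim⟩ :=
      Groth.Agent.Lib.Helper21.EquidimAt.exists_minimalPrimes_ringKrullDim_quotient_eq
        (A ⧸ kerLoc p)
    obtain ⟨hmin, hle⟩ := comap_mem_minimalPrimes p Q₁ hQ₁
    have hle' : kerLoc p ≤ Q₁.comap (Ideal.Quotient.mk (kerLoc p)) := by
      intro a ha
      rw [Ideal.mem_comap, Ideal.Quotient.eq_zero_iff_mem.mpr ha]
      exact zero_mem _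
    have e := DoubleQuot.quotQuotEquivQuotOfLE hle'
    rw [Ideal.map_comap_of_surjective _ Ideal.Quotient.mk_surjective] at e
    rw [← hdim, ringKrullDim_eq_of_ringEquiv e]
    exact hn₁ _ hmin hle
  · obtain ⟨q, hq, hqp, hdim⟩ := hn₂
    haveI : q.IsPrime := hq.1.1
    have hle : kerLoc p ≤ q := ker_le_of_le p q hqp
    rw [← hdim, ← ringKrullDim_eq_of_ringEquiv (DoubleQuot.quotQuotEquivQuotOfLE hle)]
    exact ringKrullDim_quotient_le _

end Red


open IsLocalRing TensorProduct KaehlerDifferential MvPowerSeries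
open Groth.Agent.Lib.Helper23.CKFree Groth.Agent.Lib.Helper21.ChartPt
open Groth.Agent.Lib.Helper23.CompletedKaehlerSep Groth.Agent.Lib.Helper23.CK

section Indep

variable {A : Type u} [CommRing A] (p : Ideal A) [p.IsPrime] {M : Type u} [AddCommGroup M]
  [Module A M]

/-- `n` elements generating at `p` a module whose localization is free of rank `n` are independent
at `p`. -/
theorem indepAt_of_genAt_of_free {n : ℕ} (x : Fin n → M) (hx : GenAt p x)
    [Module.Free (Localization.AtPrime p) (LocalizedModule p.primeCompl M)]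
    (hrank : Module.finrank (Localization.AtPrime p) (LocalizedModule p.primeCompl M) = n) :
    IndepAt p x := by
  classical
  have hli : LinearIndependent (Localization.AtPrime p)
      (fun i => LocalizedModule.mkLinearMap p.primeCompl M (x i)) := by
    apply linearIndependent_of_top_le_span_of_card_eq_finrank
    · exact hx.span_localized.ge
    · rw [Fintype.card_fin, hrank]
  intro a s hs hsum j
  have h1 := congrArg (LocalizedModule.mkLinearMap p.primeCompl M) hsum
  rw [map_zero, map_smul, map_sum] at h1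
  have h2 : ∀ i, LocalizedModule.mkLinearMap p.primeCompl M (a i • x i) =
      algebraMap A (Localization.AtPrime p) (a i) •
        LocalizedModule.mkLinearMap p.primeCompl M (x i) := by
    intro i
    rw [map_smul, algebraMap_smul]
  rw [Finset.sum_congr rfl fun i _ => h2 i, ← algebraMap_smul (Localization.AtPrime p) s] at h1
  have hu : IsUnit (algebraMap A (Localization.AtPrime p) s) :=
    IsLocalization.map_units (M := p.primeCompl) _ ⟨s, hs⟩
  have h3 : ∑ i, algebraMap A (Localization.AtPrime p) (a i) •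
      LocalizedModule.mkLinearMap p.primeCompl M (x i) = 0 := by
    obtain ⟨u, hu'⟩ := hu
    have := congrArg (fun z => (↑u⁻¹ : Localization.AtPrime p) • z) h1
    simp only [smul_zero] at this
    rwa [smul_smul, ← hu', Units.inv_mul, one_smul] at this
  have h4 := (Fintype.linearIndependent_iff.mp hli) _ h3 j
  rw [IsLocalization.map_eq_zero_iff p.primeCompl] at h4
  obtain ⟨s', hs'⟩ := h4
  exact ⟨s', s'.2, hs'⟩

end Indep

section G

variable {k A : Type u} [Field k] [CommRing A] [IsLocalRing A] [IsNoetherianRing A] [Algebra k A]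
  [IsAdicComplete (maximalIdeal A) A] [Module.Finite k (ResidueField A)]
  (p : Ideal A) [p.IsPrime]

/-- Lemma G: if `Ω̂_p` is generated by `n` elements then it is free of rank `n`, `A_p` is
geometrically regular and `A ⧸ ker(A → A_p)` is finite over `k[[T_1..T_n]]`, étale at `p`. -/
theorem lemmaG [IsLocalRing (A ⧸ kerLoc p)]
    [IsAdicComplete (maximalIdeal (A ⧸ kerLoc p)) (A ⧸ kerLoc p)]
    [Module.Finite k (ResidueField (A ⧸ kerLoc p))]
    [(p.map (Ideal.Quotient.mk (kerLoc p))).IsPrime]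
    (hp : p ≠ maximalIdeal A) (n : ℕ)
    (hn₁ : ∀ q ∈ minimalPrimes A, q ≤ p → ringKrullDim (A ⧸ q) ≤ n)
    (hn₂ : ∃ q ∈ minimalPrimes A, q ≤ p ∧ ringKrullDim (A ⧸ q) = n)
    (x : Fin n → AdicCompletion (maximalIdeal A) (Ω[A⁄k])) (hx : GenAt p x) :
    (Module.Free (Localization.AtPrime p)
        (LocalizedModule p.primeCompl (AdicCompletion (maximalIdeal A) (Ω[A⁄k]))) ∧
      Module.finrank (Localization.AtPrime p)
        (LocalizedModule p.primeCompl (AdicCompletion (maximalIdeal A) (Ω[A⁄k]))) = n) ∧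
    CAlg.IsGeometricallyRegular k (Localization.AtPrime p) ∧
    ∃ (_ : Algebra (MvPowerSeries (Fin n) k) (A ⧸ kerLoc p))
      (_ : IsScalarTower k (MvPowerSeries (Fin n) k) (A ⧸ kerLoc p)),
      IsLocalHom (algebraMap (MvPowerSeries (Fin n) k) (A ⧸ kerLoc p)) ∧
      Module.Finite (MvPowerSeries (Fin n) k) (A ⧸ kerLoc p) ∧
      Algebra.IsEtaleAt (MvPowerSeries (Fin n) k) (p.map (Ideal.Quotient.mk (kerLoc p))) := by
  classical
  set 𝔞 := kerLoc p with h𝔞
  have h𝔞p : 𝔞 ≤ p := kerLoc_le p
  set p₁ := p.map (Ideal.Quotient.mk 𝔞) with hp₁def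
  have hcomap : p₁.comap (Ideal.Quotient.mk 𝔞) = p := comap_map_mk 𝔞 p h𝔞p
  have hdim := ringKrullDim_quot_kerLoc p n hn₁ hn₂
  have hp₁ : p₁ ≠ maximalIdeal (A ⧸ 𝔞) := by
    intro h
    apply hp
    apply le_antisymm (le_maximalIdeal (Ideal.IsPrime.ne_top inferInstance))
    intro a ha
    rw [← hcomap, Ideal.mem_comap, h, mem_maximalIdeal, mem_nonunits_iff]
    intro hu
    have hlh : IsLocalHom (Ideal.Quotient.mk 𝔞) :=
      IsLocalHom.of_surjective _ Ideal.Quotient.mk_surjective
    exact (mem_maximalIdeal a).mp ha (IsLocalHom.map_nonunit a hu)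
  have hq₁ : ∃ q₁ ∈ minimalPrimes (A ⧸ 𝔞), q₁ ≤ p₁ ∧ ringKrullDim ((A ⧸ 𝔞) ⧸ q₁) = n := by
    obtain ⟨q, hq, hqp, hqdim⟩ := hn₂
    haveI : q.IsPrime := hq.1.1
    have hle : 𝔞 ≤ q := ker_le_of_le p q hqp
    refine ⟨q.map (Ideal.Quotient.mk 𝔞), map_mem_minimalPrimes p q hq hqp, Ideal.map_mono hqp, ?_⟩
    rw [ringKrullDim_eq_of_ringEquiv (DoubleQuot.quotQuotEquivQuotOfLE hle), hqdim]
  -- the surjection on completed differentials
  haveI := finite_mhat' (k := k) (A := A ⧸ 𝔞)
  haveI : Module.Finite A (AdicCompletion (maximalIdeal (A ⧸ 𝔞)) (Ω[(A ⧸ 𝔞)⁄k])) :=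
    Module.Finite.trans (A ⧸ 𝔞) _
  obtain ⟨l, hl⟩ := exists_lift (k := k) (A := A)
    ((dhat (k := k) (A := A ⧸ 𝔞)).compAlgebraMap A)
  have hlsurj : Function.Surjective l := by
    apply lift_surjective (k := k) l
    have h1 : (Set.range fun a => l (dhat (k := k) a)) =
        Set.range (dhat (k := k) (A := A ⧸ 𝔞)) := by
      ext y
      constructor
      · rintro ⟨a, rfl⟩
        exact ⟨Ideal.Quotient.mk 𝔞 a, (hl a).symm⟩
      · rintro ⟨b, rfl⟩
        obtain ⟨a, rfl⟩ := Ideal.Quotient.mk_surjective b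
        exact ⟨a, hl a⟩
    rw [h1, ← Submodule.restrictScalars_span A (A ⧸ 𝔞) Ideal.Quotient.mk_surjective,
      span_dhat (k := k) (A := A ⧸ 𝔞)]
    rfl
  have hx₁ : GenAt p₁ (l ∘ x) := (hx.map l hlsurj).of_surjective p₁ (by
    show p₁.comap (Ideal.Quotient.mk 𝔞) ≤ p
    rw [hcomap])
  obtain ⟨inst, tower, hloc, hfin, het⟩ :=
    exists_etale_of_genAt (k := k) n hdim p₁ hp₁ hq₁ (l ∘ x) hx₁
  have hfree₁ := free_of_isEtaleAt (k := k) (n := n) p₁
  -- independence upstairs
  haveI := hfree₁.1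
  have hi₁ : IndepAt p₁ (l ∘ x) := indepAt_of_genAt_of_free p₁ (l ∘ x) hx₁ hfree₁.2
  have hi : IndepAt p x := by
    intro a s hs hsum j
    have h1 := congrArg l hsum
    rw [map_zero, map_smul, map_sum] at h1
    have h2 : (Ideal.Quotient.mk 𝔞 s) • ∑ i, (Ideal.Quotient.mk 𝔞 (a i)) • (l ∘ x) i = 0 := by
      rw [← h1]
      show _ = s • ∑ i, l (a i • x i)
      rw [← algebraMap_smul (A ⧸ 𝔞) s]
      congr 1
      refine Finset.sum_congr rfl fun i _ => ?_
      rw [map_smul, ← algebraMap_smul (A ⧸ 𝔞) (a i)]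
      rfl
    have hs₁ : Ideal.Quotient.mk 𝔞 s ∉ p₁ := by
      intro h
      apply hs
      rw [← hcomap]
      exact h
    obtain ⟨s', hs', hs'0⟩ := hi₁ (fun i => Ideal.Quotient.mk 𝔞 (a i)) _ hs₁ h2 j
    obtain ⟨t, rfl⟩ := Ideal.Quotient.mk_surjective s'
    have htp : t ∉ p := by
      intro h
      apply hs'
      exact Ideal.mem_map_of_mem _ h
    rw [← map_mul, Ideal.Quotient.eq_zero_iff_mem, mem_kerLoc_iff] at hs'0
    obtain ⟨t', ht', h0⟩ := hs'0
    exact ⟨t' * t, p.primeCompl.mul_mem ht' htp, by rw [mul_assoc]; exact h0⟩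
  refine ⟨free_of_genAt_of_indepAt x hx hi, ?_, ⟨inst, tower, hloc, hfin, het⟩⟩
  -- geometric regularity
  haveI : Algebra.FormallyEtale (MvPowerSeries (Fin n) k) (Localization.AtPrime p₁) := het
  haveI : IsNoetherianRing (Localization.AtPrime p₁) :=
    IsLocalization.isNoetherianRing p₁.primeCompl _ inferInstance
  have hgr₁ : CAlg.IsGeometricallyRegular k (Localization.AtPrime p₁) :=
    geomRegular_of_formallySmooth (geomRegular_mvPowerSeries k n) p₁
  obtain ⟨e, he⟩ := exists_ringEquiv_of_surjective (Ideal.Quotient.mk 𝔞) p₁ p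
    Ideal.Quotient.mk_surjective hcomap (fun r hr => by
      rw [Ideal.Quotient.eq_zero_iff_mem] at hr
      exact (mem_kerLoc_iff p r).mp hr)
  let e' : Localization.AtPrime p₁ ≃ₐ[k] Localization.AtPrime p :=
    { e.symm with
      commutes' := fun c => by
        show e.symm _ = _
        rw [RingEquiv.symm_apply_eq, IsScalarTower.algebraMap_apply k A (Localization.AtPrime p),
          he, IsScalarTower.algebraMap_apply k (A ⧸ 𝔞) (Localization.AtPrime p₁)]
        rfl }
  exact Groth.Agent.Lib.Helper25.GeomRegSmooth.geomRegular_of_algEquiv e' hgr₁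

end G


open IsLocalRing TensorProduct MvPowerSeries
open Groth.Agent.Lib.Helper23.CTens Groth.Agent.Lib.Helper1.ArtFunLib
  Groth.Agent.Lib.Helper23.CTensStr Groth.Agent.Lib.Helper23.CTensFld

section StepA

variable (k A k' : Type u) [Field k] [CommRing A] [IsNoetherianRing A] [IsLocalRing A] [Algebra k A]
  [IsAdicComplete (maximalIdeal A) A] [Module.Finite k (ResidueField A)]
  [Field k'] [Algebra k k']

set_option maxHeartbeats 1000000 in
/-- the completed tensor product of a quotient is a quotient of the completed tensor product,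
with kernel generated by the ideal. -/
theorem exists_cTensor_quot (𝔞 : Ideal A) [IsLocalRing (A ⧸ 𝔞)] :
    ∃ Ψ₁ : EGA4.CTensor k A k' →+* EGA4.CTensor k (A ⧸ 𝔞) k', Function.Surjective Ψ₁ ∧
      (∀ a : A, Ψ₁ (algebraMap A (EGA4.CTensor k A k') a) =
        algebraMap (A ⧸ 𝔞) (EGA4.CTensor k (A ⧸ 𝔞) k') (Ideal.Quotient.mk 𝔞 a)) ∧
      ∀ r, Ψ₁ r = 0 → r ∈ 𝔞.map (algebraMap A (EGA4.CTensor k A k')) := by
  classical
  haveI : IsAdicComplete (maximalIdeal k') k' := by
    rw [IsLocalRing.maximalIdeal_eq_bot]; infer_instance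
  have hfg : (maximalIdeal A).FG := (isNoetherianRing_iff_ideal_fg A).mp inferInstance _
  obtain ⟨d, u, hspan⟩ := Submodule.fg_iff_exists_fin_generating_family.mp hfg
  have hu : ∀ i, u i ∈ maximalIdeal A := fun i => by
    rw [← hspan]; exact Submodule.subset_span ⟨i, rfl⟩
  letI algP : Algebra (MvPowerSeries (Fin d) k) A := psAlgebra k A d u hu
  haveI : IsScalarTower k (MvPowerSeries (Fin d) k) A := psAlgebra_tower k A d u hu
  have huu : uu k A d = u := funext (fun i => psAlgebra_X k A d u hu i)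
  have hX : ∀ i, uu k A d i ∈ maximalIdeal A := fun i => by rw [huu]; exact hu i
  have hN : maximalIdeal A ^ 1 ≤ Ideal.span (Set.range (uu k A d)) := by
    rw [huu, pow_one]; exact hspan.ge
  haveI hfin : Module.Finite (MvPowerSeries (Fin d) k) A := finite_ps k A d hX 1 hN
  obtain ⟨e, he⟩ := exists_cTensor_equiv_swap k A k' d hX 1 hN
  -- the quotient
  have hlh : IsLocalHom (Ideal.Quotient.mk 𝔞) :=
    IsLocalHom.of_surjective _ Ideal.Quotient.mk_surjective
  have hmax : maximalIdeal (A ⧸ 𝔞) = (maximalIdeal A).map (Ideal.Quotient.mk 𝔞) := by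
    apply le_antisymm
    · intro y hy
      obtain ⟨a, rfl⟩ := Ideal.Quotient.mk_surjective y
      apply Ideal.mem_map_of_mem
      rw [mem_maximalIdeal, mem_nonunits_iff] at hy ⊢
      exact fun h => hy (h.map _)
    · rw [Ideal.map_le_iff_le_comap]
      intro a ha
      rw [Ideal.mem_comap, mem_maximalIdeal, mem_nonunits_iff]
      intro h
      exact (mem_maximalIdeal a).mp ha (IsLocalHom.map_nonunit a h)
  haveI : Module.Finite (MvPowerSeries (Fin d) k) (A ⧸ 𝔞) :=
    Module.Finite.of_surjective (Ideal.Quotient.mkₐ (MvPowerSeries (Fin d) k) 𝔞).toLinearMap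
      Ideal.Quotient.mk_surjective
  have huu₁ : ∀ i, uu k (A ⧸ 𝔞) d i = Ideal.Quotient.mk 𝔞 (uu k A d i) := fun i => rfl
  have hX₁ : ∀ i, uu k (A ⧸ 𝔞) d i ∈ maximalIdeal (A ⧸ 𝔞) := by
    intro i
    rw [huu₁, hmax]
    exact Ideal.mem_map_of_mem _ (hX i)
  have hN₁ : maximalIdeal (A ⧸ 𝔞) ^ 1 ≤ Ideal.span (Set.range (uu k (A ⧸ 𝔞) d)) := by
    rw [pow_one, hmax, ← hspan, ← huu]
    show Ideal.map _ (Ideal.span _) ≤ _
    rw [Ideal.map_span, ← Set.range_comp]
    exact Ideal.span_mono (by rintro _ ⟨i, rfl⟩; exact ⟨i, huu₁ i⟩)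
  haveI : IsAdicComplete (maximalIdeal (A ⧸ 𝔞)) (A ⧸ 𝔞) :=
    Groth.Agent.Lib.Helper9.SemiLocalProd.isAdicComplete_maximalIdeal_of_finite A (A ⧸ 𝔞)
  obtain ⟨e₁, he₁⟩ := exists_cTensor_equiv_swap k (A ⧸ 𝔞) k' d hX₁ 1 hN₁
  set P := MvPowerSeries (Fin d) k with hP
  set MB := MvPowerSeries (Fin d) k' with hMB
  have heA : ∀ a : A, e (algebraMap A (EGA4.CTensor k A k') a) = (1 : MB) ⊗ₜ[P] a := by
    intro a
    have h1 : algebraMap A (EGA4.CTensor k A k') a =
        AdicCompletion.of (EGA4.cTensorIdeal k A k') (A ⊗[k] k') (a ⊗ₜ[k] (1 : k')) := rfl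
    rw [h1, he, Algebra.TensorProduct.comm_tmul, theta_tmul, map_one]
  have heA₁ : ∀ a : A ⧸ 𝔞, e₁ (algebraMap (A ⧸ 𝔞) (EGA4.CTensor k (A ⧸ 𝔞) k') a) =
      (1 : MB) ⊗ₜ[P] a := by
    intro a
    have h1 : algebraMap (A ⧸ 𝔞) (EGA4.CTensor k (A ⧸ 𝔞) k') a =
        AdicCompletion.of (EGA4.cTensorIdeal k (A ⧸ 𝔞) k') ((A ⧸ 𝔞) ⊗[k] k')
          (a ⊗ₜ[k] (1 : k')) := rfl
    rw [h1, he₁, Algebra.TensorProduct.comm_tmul, theta_tmul, map_one]
  let τ : MB ⊗[P] A →ₐ[MB] MB ⊗[P] (A ⧸ 𝔞) :=
    Algebra.TensorProduct.map (AlgHom.id MB MB) (Ideal.Quotient.mkₐ P 𝔞)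
  have hτ : ∀ (m : MB) (a : A), τ (m ⊗ₜ[P] a) = m ⊗ₜ[P] (Ideal.Quotient.mk 𝔞 a) := fun m a => rfl
  have hτsurj : Function.Surjective τ := by
    intro z
    induction z using TensorProduct.induction_on with
    | zero => exact ⟨0, map_zero _⟩
    | tmul m b =>
      obtain ⟨a, rfl⟩ := Ideal.Quotient.mk_surjective b
      exact ⟨m ⊗ₜ[P] a, hτ m a⟩
    | add x y hx hy =>
      obtain ⟨x', rfl⟩ := hx
      obtain ⟨y', rfl⟩ := hy
      exact ⟨x' + y', map_add _ _ _⟩
  let Ψ₁ : EGA4.CTensor k A k' →+* EGA4.CTensor k (A ⧸ 𝔞) k' :=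
    (e₁.symm : MB ⊗[P] (A ⧸ 𝔞) →+* _).comp (τ.toRingHom.comp (e : _ →+* MB ⊗[P] A))
  have hΨ₁ : ∀ r, Ψ₁ r = e₁.symm (τ (e r)) := fun r => rfl
  refine ⟨Ψ₁, ?_, ?_, ?_⟩
  · intro y
    obtain ⟨z, hz⟩ := hτsurj (e₁ y)
    refine ⟨e.symm z, ?_⟩
    rw [hΨ₁, e.apply_symm_apply, hz, e₁.symm_apply_apply]
  · intro a
    rw [hΨ₁, heA, hτ, RingEquiv.symm_apply_eq, heA₁]
  · intro r hr
    rw [hΨ₁, RingEquiv.symm_apply_eq, map_zero] at hr
    -- kernel of τ
    let f : (𝔞.restrictScalars P) →ₗ[P] A := (𝔞.restrictScalars P).subtype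
    let g : A →ₗ[P] (A ⧸ 𝔞) := (Ideal.Quotient.mkₐ P 𝔞).toLinearMap
    have hfg : Function.Exact f g := by
      intro y
      constructor
      · intro hy
        exact ⟨⟨y, Ideal.Quotient.eq_zero_iff_mem.mp hy⟩, rfl⟩
      · rintro ⟨⟨y', hy'⟩, rfl⟩
        exact Ideal.Quotient.eq_zero_iff_mem.mpr hy'
    have hg : Function.Surjective g := Ideal.Quotient.mk_surjective
    have hex := lTensor_exact MB hfg hg
    have h1 : (LinearMap.lTensor MB g) (e r) = 0 := by
      have : ∀ z, (LinearMap.lTensor MB g) z = τ z := by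
        intro z
        induction z using TensorProduct.induction_on with
        | zero => rw [map_zero, map_zero]
        | tmul m a => rw [LinearMap.lTensor_tmul, hτ]; rfl
        | add x y hx hy => rw [map_add, map_add, hx, hy]
      rw [this, hr]
    obtain ⟨w, hw⟩ := (hex (e r)).mp h1
    have key : ∀ w : MB ⊗[P] (𝔞.restrictScalars P), e.symm ((LinearMap.lTensor MB f) w) ∈
        𝔞.map (algebraMap A (EGA4.CTensor k A k')) := by
      intro w
      induction w using TensorProduct.induction_on with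
      | zero => rw [map_zero, map_zero]; exact zero_mem _
      | tmul m a =>
        have h2 : (LinearMap.lTensor MB f) (m ⊗ₜ[P] a) =
            (m ⊗ₜ[P] (1 : A)) * ((1 : MB) ⊗ₜ[P] (a : A)) := by
          rw [LinearMap.lTensor_tmul, Algebra.TensorProduct.tmul_mul_tmul, mul_one, one_mul]
          rfl
        have h4 : e.symm ((1 : MB) ⊗ₜ[P] (a : A)) = algebraMap A (EGA4.CTensor k A k') (a : A) := by
          rw [RingEquiv.symm_apply_eq, heA]
        rw [h2, map_mul, h4]
        apply Ideal.mul_mem_left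
        exact Ideal.mem_map_of_mem _ a.2
      | add x y hx hy => rw [map_add, map_add]; exact Ideal.add_mem _ hx hy
    have h3 := key w
    rw [hw, e.symm_apply_apply] at h3
    exact h3

end StepA


open IsLocalRing TensorProduct MvPowerSeries

section EtBC

variable {R R' S : Type u} [CommRing R] [CommRing R'] [CommRing S] [Algebra R R'] [Algebra R S]
  (p : Ideal S) [p.IsPrime]

/-- étaleness at a prime is stable under base change. -/
theorem formallyEtale_tensor_atPrime [Algebra.FormallyEtale R (Localization.AtPrime p)]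
    (P : Ideal (R' ⊗[R] S)) [P.IsPrime]
    (hP : P.comap (Algebra.TensorProduct.includeRight : S →ₐ[R] R' ⊗[R] S).toRingHom = p) :
    Algebra.FormallyEtale R' (Localization.AtPrime P) := by
  set M' : Submonoid (R' ⊗[R] S) :=
    p.primeCompl.map (Algebra.TensorProduct.includeRight (R := R) (A := R')) with hM'
  have hle : M' ≤ P.primeCompl := by
    rintro _ ⟨s, hs, rfl⟩
    intro h
    apply hs
    rw [← hP]
    exact h
  let e := IsLocalization.tensorProductEquivOfMapIncludeRight R R' p.primeCompl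
    (Localization.AtPrime p) (Localization M')
  haveI h1 : Algebra.FormallyEtale R' (R' ⊗[R] Localization.AtPrime p) := inferInstance
  haveI h2 : Algebra.FormallyEtale R' (Localization M') := Algebra.FormallyEtale.of_equiv e
  -- the further localization
  let φ : Localization M' →+* Localization.AtPrime P :=
    IsLocalization.lift (M := M') (g := algebraMap (R' ⊗[R] S) (Localization.AtPrime P))
      (fun y => IsLocalization.map_units (Localization.AtPrime P) (⟨y, hle y.2⟩ : P.primeCompl))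
  letI : Algebra (Localization M') (Localization.AtPrime P) := φ.toAlgebra
  haveI : IsScalarTower (R' ⊗[R] S) (Localization M') (Localization.AtPrime P) := by
    refine ⟨fun x y z => ?_⟩
    rw [Algebra.smul_def, Algebra.smul_def, Algebra.smul_def, map_mul, mul_assoc]
    congr 1
    exact IsLocalization.lift_eq _ x
  haveI : IsLocalization (P.primeCompl.map (algebraMap (R' ⊗[R] S) (Localization M')))
      (Localization.AtPrime P) :=
    IsLocalization.isLocalization_of_submonoid_le (Localization M') (Localization.AtPrime P)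
      M' P.primeCompl hle
  haveI h3 : Algebra.FormallyEtale (Localization M') (Localization.AtPrime P) :=
    Algebra.FormallyEtale.of_isLocalization
      (P.primeCompl.map (algebraMap (R' ⊗[R] S) (Localization M')))
  haveI : IsScalarTower R' (Localization M') (Localization.AtPrime P) := by
    refine ⟨fun x y z => ?_⟩
    rw [Algebra.smul_def, Algebra.smul_def, Algebra.smul_def, map_mul, mul_assoc]
    congr 1
    rw [IsScalarTower.algebraMap_apply R' (R' ⊗[R] S) (Localization M'),
      ← IsScalarTower.algebraMap_apply (R' ⊗[R] S) (Localization M') (Localization.AtPrime P),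
      ← IsScalarTower.algebraMap_apply R' (R' ⊗[R] S) (Localization.AtPrime P)]
  exact Algebra.FormallyEtale.comp R' (Localization M') (Localization.AtPrime P)

end EtBC


open IsLocalRing TensorProduct MvPowerSeries
open Groth.Agent.Lib.Helper23.CTens Groth.Agent.Lib.Helper1.ArtFunLib
  Groth.Agent.Lib.Helper23.CTensStr Groth.Agent.Lib.Helper23.CTensFld
open Groth.Agent.Lib.Helper23.CK Groth.Agent.Lib.Helper21.ChartPt

section BA

variable (k A k' : Type u) [Field k] [CommRing A] [IsNoetherianRing A] [IsLocalRing A] [Algebra k A]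
  [IsAdicComplete (maximalIdeal A) A] [Module.Finite k (ResidueField A)]
  [Field k'] [Algebra k k'] (p : Ideal A) [p.IsPrime]

set_option maxHeartbeats 1000000 in
/-- (b) ⇒ (a), core: regularity of the completed base change at primes over `p`. -/
theorem regular_of_etale [IsLocalRing (A ⧸ kerLoc p)]
    [(p.map (Ideal.Quotient.mk (kerLoc p))).IsPrime] (n : ℕ)
    [Algebra (MvPowerSeries (Fin n) k) (A ⧸ kerLoc p)]
    [IsScalarTower k (MvPowerSeries (Fin n) k) (A ⧸ kerLoc p)]
    (hloc : IsLocalHom (algebraMap (MvPowerSeries (Fin n) k) (A ⧸ kerLoc p)))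
    [Module.Finite (MvPowerSeries (Fin n) k) (A ⧸ kerLoc p)]
    [het : Algebra.IsEtaleAt (MvPowerSeries (Fin n) k) (p.map (Ideal.Quotient.mk (kerLoc p)))]
    (p' : Ideal (EGA4.CTensor k A k')) [p'.IsPrime]
    (hp' : p'.comap (algebraMap A (EGA4.CTensor k A k')) = p) :
    IsRegularLocalRing (Localization.AtPrime p') := by
  classical
  have hKp : (kerLoc p) ≤ p := kerLoc_le p
  have hcomap : (p.map (Ideal.Quotient.mk (kerLoc p))).comap (Ideal.Quotient.mk (kerLoc p)) = p := comap_map_mk (kerLoc p) p hKp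
  haveI : IsAdicComplete (maximalIdeal k') k' := by
    rw [IsLocalRing.maximalIdeal_eq_bot]; infer_instance
  obtain ⟨Ψ₁, hsurj₁, hcompat₁, hker₁⟩ := exists_cTensor_quot k A k' (kerLoc p)
  have hXT : ∀ i, uu k (A ⧸ (kerLoc p)) n i ∈ maximalIdeal (A ⧸ (kerLoc p)) := by
    intro i
    rw [mem_maximalIdeal, mem_nonunits_iff]
    intro h
    have h1 := hloc.map_nonunit _ h
    exact (mem_maximalIdeal _).mp (PS.X_mem_maximalIdeal i) h1
  obtain ⟨N, hN⟩ := exists_pow_le_span k (A ⧸ (kerLoc p)) n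
  obtain ⟨eT, heT⟩ := exists_cTensor_equiv_swap k (A ⧸ (kerLoc p)) k' n hXT N hN
  set P := MvPowerSeries (Fin n) k with hP
  set MB := MvPowerSeries (Fin n) k' with hMB
  have heA₁ : ∀ a : A ⧸ (kerLoc p), eT (algebraMap (A ⧸ (kerLoc p)) (EGA4.CTensor k (A ⧸ (kerLoc p)) k') a) =
      (1 : MB) ⊗ₜ[P] a := by
    intro a
    have h1 : algebraMap (A ⧸ (kerLoc p)) (EGA4.CTensor k (A ⧸ (kerLoc p)) k') a =
        AdicCompletion.of (EGA4.cTensorIdeal k (A ⧸ (kerLoc p)) k') ((A ⧸ (kerLoc p)) ⊗[k] k')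
          (a ⊗ₜ[k] (1 : k')) := rfl
    rw [h1, heT, Algebra.TensorProduct.comm_tmul, theta_tmul, map_one]
  let Ψ : EGA4.CTensor k A k' →+* MB ⊗[P] (A ⧸ (kerLoc p)) := (eT : _ →+* MB ⊗[P] (A ⧸ (kerLoc p))).comp Ψ₁
  have hΨ : ∀ r, Ψ r = eT (Ψ₁ r) := fun r => rfl
  have hΨsurj : Function.Surjective Ψ := eT.surjective.comp hsurj₁
  have hΨcompat : ∀ a : A, Ψ (algebraMap A (EGA4.CTensor k A k') a) =
      (1 : MB) ⊗ₜ[P] (Ideal.Quotient.mk (kerLoc p) a) := by
    intro a
    rw [hΨ, hcompat₁, heA₁]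
  have hΨker : ∀ r, Ψ r = 0 → r ∈ (kerLoc p).map (algebraMap A (EGA4.CTensor k A k')) := by
    intro r hr
    apply hker₁
    rw [hΨ] at hr
    exact eT.injective (hr.trans (map_zero _).symm)
  have hkill : ∀ r ∈ (kerLoc p).map (algebraMap A (EGA4.CTensor k A k')), ∃ s, s ∉ p' ∧ s * r = 0 := by
    intro r hr
    have key : ∃ s : A, s ∉ p ∧ algebraMap A (EGA4.CTensor k A k') s * r = 0 := by
      unfold Ideal.map at hr
      induction hr using Submodule.span_induction with
      | mem x hx =>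
        obtain ⟨a, ha, rfl⟩ := hx
        obtain ⟨s, hs, hsa⟩ := (mem_kerLoc_iff p a).mp ha
        exact ⟨s, hs, by rw [← map_mul, hsa, map_zero]⟩
      | zero => exact ⟨1, fun h => (Ideal.IsPrime.ne_top inferInstance)
          ((Ideal.eq_top_iff_one p).mpr h), mul_zero _⟩
      | add x y _ _ hx hy =>
        obtain ⟨s, hs, hsx⟩ := hx
        obtain ⟨t, ht, hty⟩ := hy
        refine ⟨s * t, p.primeCompl.mul_mem hs ht, ?_⟩
        rw [map_mul, mul_add]
        have e1 : algebraMap A (EGA4.CTensor k A k') s * algebraMap A _ t * x =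
            algebraMap A _ t * (algebraMap A _ s * x) := by ring
        have e2 : algebraMap A (EGA4.CTensor k A k') s * algebraMap A _ t * y =
            algebraMap A _ s * (algebraMap A _ t * y) := by ring
        rw [e1, e2, hsx, hty, mul_zero, mul_zero, add_zero]
      | smul c x _ hx =>
        obtain ⟨s, hs, hsx⟩ := hx
        refine ⟨s, hs, ?_⟩
        rw [smul_eq_mul, mul_left_comm, hsx, mul_zero]
    obtain ⟨s, hs, hsr⟩ := key
    refine ⟨algebraMap A _ s, fun h => hs ?_, hsr⟩
    rw [← hp']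
    exact h
  have hkerle : RingHom.ker Ψ ≤ p' := by
    intro r hr
    have h1 := hΨker r hr
    have h2 : (kerLoc p).map (algebraMap A (EGA4.CTensor k A k')) ≤ p' := by
      rw [Ideal.map_le_iff_le_comap, hp']
      exact hKp
    exact h2 h1
  haveI hP''prime : (p'.map Ψ).IsPrime := Ideal.map_isPrime_of_surjective hΨsurj hkerle
  have hcomapP'' : (p'.map Ψ).comap Ψ = p' := by
    rw [Ideal.comap_map_of_surjective' Ψ hΨsurj]
    exact sup_eq_left.mpr hkerle
  obtain ⟨ε, -⟩ := exists_ringEquiv_of_surjective Ψ (p'.map Ψ) p' hΨsurj hcomapP''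
    (fun r hr => hkill r (hΨker r hr))
  -- the prime lies over `(p.map (Ideal.Quotient.mk (kerLoc p)))`
  have hover : (p'.map Ψ).comap
      (Algebra.TensorProduct.includeRight : (A ⧸ (kerLoc p)) →ₐ[P] MB ⊗[P] (A ⧸ (kerLoc p))).toRingHom = (p.map (Ideal.Quotient.mk (kerLoc p))) := by
    apply Ideal.comap_injective_of_surjective (Ideal.Quotient.mk (kerLoc p)) Ideal.Quotient.mk_surjective
    rw [hcomap]
    have h1 : p = Ideal.comap (algebraMap A (EGA4.CTensor k A k'))
        (Ideal.comap Ψ (Ideal.map Ψ p')) := by rw [hcomapP'', hp']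
    rw [Ideal.comap_comap]
    conv_rhs => rw [h1, Ideal.comap_comap]
    congr 1
    refine RingHom.ext fun a => ?_
    exact (hΨcompat a).symm
  haveI : Algebra.FormallyEtale P (Localization.AtPrime (p.map (Ideal.Quotient.mk (kerLoc p)))) := het
  haveI := formallyEtale_tensor_atPrime (R := P) (R' := MB) (S := A ⧸ (kerLoc p)) (p.map (Ideal.Quotient.mk (kerLoc p))) (p'.map Ψ) hover
  haveI : IsNoetherianRing (MB ⊗[P] (A ⧸ (kerLoc p))) := IsNoetherianRing.of_finite MB _
  haveI : IsNoetherianRing (Localization.AtPrime (p'.map Ψ)) :=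
    IsLocalization.isNoetherianRing (p'.map Ψ).primeCompl _ inferInstance
  have hgr : CAlg.IsGeometricallyRegular k' (Localization.AtPrime (p'.map Ψ)) :=
    geomRegular_of_formallySmooth (geomRegular_mvPowerSeries k' n) (p'.map Ψ)
  haveI := Groth.Agent.Lib.Helper18.PMor.isRegularRing_of_isGeometricallyRegular hgr
  haveI : IsRegularLocalRing (Localization.AtPrime (p'.map Ψ)) :=
    .of_isRegularRing_of_isLocalRing _
  exact IsRegularLocalRing.of_ringEquiv ε.symm

end BA


open IsLocalRing TensorProduct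

section Ext

variable {R E : Type*} [CommRing R] [CommRing E] (I : Ideal R) (J : Ideal E) (ψ₀ : R →+* E)
  (hψ : ∀ j : ℕ, I ^ (j + 1) ≤ (J ^ j).comap ψ₀)

/-- shifted level maps. -/
noncomputable def slvl (j : ℕ) : AdicCompletion I R →+* E ⧸ J ^ j :=
  (Ideal.quotientMap (J ^ j) ψ₀ (hψ j)).comp (AdicCompletion.evalₐ I (j + 1)).toRingHom

theorem slvl_mk (j : ℕ) (a : AdicCompletion.AdicCauchySequence I R) :
    slvl I J ψ₀ hψ j (AdicCompletion.mk I R a) = Ideal.Quotient.mk (J ^ j) (ψ₀ (a (j + 1))) := by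
  unfold slvl
  rw [RingHom.comp_apply]
  change Ideal.quotientMap _ ψ₀ _ (AdicCompletion.evalₐ I (j + 1) (AdicCompletion.mk I R a)) = _
  rw [AdicCompletion.evalₐ_mk, Ideal.quotientMap_mk]

theorem slvl_compat {m n : ℕ} (hmn : m ≤ n) :
    (Ideal.Quotient.factorPow J hmn).comp (slvl I J ψ₀ hψ n) = slvl I J ψ₀ hψ m := by
  ext x
  obtain ⟨a, rfl⟩ := AdicCompletion.mk_surjective I R x
  rw [RingHom.comp_apply, slvl_mk, slvl_mk]
  change Ideal.Quotient.mk _ _ = _
  rw [Ideal.Quotient.eq, ← map_sub]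
  have h := a.2 (Nat.succ_le_succ hmn)
  rw [SModEq.sub_mem, smul_eq_mul, Ideal.mul_top] at h
  have h' : (a : ℕ → R) (n + 1) - (a : ℕ → R) (m + 1) ∈ I ^ (m + 1) := by
    rw [← neg_sub]; exact (I ^ (m + 1)).neg_mem h
  exact hψ m h'

include hψ in
/-- extension by continuity of a ring map losing one power of the ideal. -/
theorem exists_extension [IsAdicComplete J E] :
    ∃ ψ₁ : AdicCompletion I R →+* E, (∀ r, ψ₁ (AdicCompletion.of I R r) = ψ₀ r) ∧
      ∀ (j : ℕ) (x : AdicCompletion I R) (r : R),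
        AdicCompletion.evalₐ I (j + 1) x = Ideal.Quotient.mk (I ^ (j + 1)) r →
          ψ₁ x - ψ₀ r ∈ J ^ j := by
  let Φ : AdicCompletion I R →+* E :=
    IsAdicComplete.liftRingHom J (slvl I J ψ₀ hψ) (fun hle => slvl_compat I J ψ₀ hψ hle)
  have hΦ : ∀ n x, Ideal.Quotient.mk (J ^ n) (Φ x) = slvl I J ψ₀ hψ n x := fun n x =>
    IsAdicComplete.mk_liftRingHom J _ _ n x
  have key : ∀ (j : ℕ) (x : AdicCompletion I R) (r : R),
      AdicCompletion.evalₐ I (j + 1) x = Ideal.Quotient.mk (I ^ (j + 1)) r →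
        Φ x - ψ₀ r ∈ J ^ j := by
    intro j x r hx
    rw [← Ideal.Quotient.eq, hΦ]
    unfold slvl
    rw [RingHom.comp_apply]
    change Ideal.quotientMap _ ψ₀ _ (AdicCompletion.evalₐ I (j + 1) x) = _
    rw [hx, Ideal.quotientMap_mk]
  refine ⟨Φ, fun r => ?_, key⟩
  have h1 : ∀ j, Φ (AdicCompletion.of I R r) - ψ₀ r ∈ J ^ j := fun j =>
    key j _ r (AdicCompletion.evalₐ_of I (j + 1) r)
  have h2 : Φ (AdicCompletion.of I R r) - ψ₀ r ∈ (⨅ j : ℕ, J ^ j) := (Ideal.mem_iInf).mpr h1
  have h3 : (⨅ j : ℕ, J ^ j) = ⊥ := by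
    have := (IsHausdorff.iInf_pow_smul (I := J) (M := E)) inferInstance
    simpa [smul_eq_mul, Ideal.mul_top] using this
  rw [h3, Ideal.mem_bot, sub_eq_zero] at h2
  exact h2

end Ext


open IsLocalRing TensorProduct TrivSqZeroExt KaehlerDifferential
open Groth.Agent.Lib.Helper23.CompletedKaehlerSep Groth.Agent.Lib.Helper23.CK

section Pow

variable {L N : Type u} [CommRing L] [IsLocalRing L] [AddCommGroup N] [Module L N]
  [Module Lᵐᵒᵖ N] [IsCentralScalar L N]

/-- elements with first component in the maximal ideal. -/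
theorem fst_pow_le (j : ℕ) :
    ((maximalIdeal L).comap (fstHom L L N).toRingHom) ^ (j + 1) ≤
      ((maximalIdeal L).map (algebraMap L (TrivSqZeroExt L N))) ^ j := by
  set K := (maximalIdeal L).comap (fstHom L L N).toRingHom with hK
  set 𝔪E := (maximalIdeal L).map (algebraMap L (TrivSqZeroExt L N)) with h𝔪E
  set 𝔫 : Ideal (TrivSqZeroExt L N) := RingHom.ker (fstHom L L N).toRingHom with h𝔫
  have h𝔫2 : 𝔫 * 𝔫 = ⊥ := by
    rw [eq_bot_iff, Ideal.mul_le]
    intro x hx y hy
    rw [Ideal.mem_bot]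
    have hx0 : x.fst = 0 := hx
    have hy0 : y.fst = 0 := hy
    apply TrivSqZeroExt.ext
    · rw [TrivSqZeroExt.fst_mul, hx0, zero_mul]; rfl
    · rw [TrivSqZeroExt.snd_mul, hx0, hy0, zero_smul, MulOpposite.op_zero, zero_smul, add_zero]
      rfl
  have hKle : K ≤ 𝔪E ⊔ 𝔫 := by
    intro x hx
    have hx' : x.fst ∈ maximalIdeal L := hx
    have h1 : x = algebraMap L (TrivSqZeroExt L N) x.fst + inr x.snd := by
      apply TrivSqZeroExt.ext
      · simp [TrivSqZeroExt.algebraMap_eq_inl]
      · simp [TrivSqZeroExt.algebraMap_eq_inl]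
    rw [h1]
    refine Ideal.add_mem _ (Ideal.mem_sup_left (Ideal.mem_map_of_mem _ hx')) (Ideal.mem_sup_right ?_)
    show (fstHom L L N) (inr x.snd) = 0
    simp
  have key : ∀ j : ℕ, K ^ (j + 1) ≤ 𝔪E ^ (j + 1) ⊔ 𝔪E ^ j * 𝔫 := by
    intro j
    induction j with
    | zero => simpa using hKle
    | succ j ih =>
      rw [pow_succ]
      refine (Ideal.mul_mono ih hKle).trans ?_
      rw [Ideal.sup_mul, Ideal.mul_sup, Ideal.mul_sup]
      refine sup_le (sup_le ?_ ?_) (sup_le ?_ ?_)
      · rw [← pow_succ]; exact le_sup_left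
      · exact le_sup_right
      · rw [mul_assoc, mul_comm 𝔫 𝔪E, ← mul_assoc, ← pow_succ]; exact le_sup_right
      · rw [mul_assoc, h𝔫2, Ideal.mul_bot]; exact bot_le
  refine (key j).trans (sup_le (Ideal.pow_le_pow_right (Nat.le_succ j)) Ideal.mul_le_left)

end Pow


open IsLocalRing TensorProduct MvPowerSeries
open Groth.Agent.Lib.Helper23.CTens Groth.Agent.Lib.Helper1.ArtFunLib
  Groth.Agent.Lib.Helper23.CTensStr Groth.Agent.Lib.Helper23.CTensFld

section Pkg

variable (k A k' : Type u) [Field k] [CommRing A] [IsNoetherianRing A] [IsLocalRing A] [Algebra k A]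
  [IsAdicComplete (maximalIdeal A) A] [Module.Finite k (ResidueField A)]
  [Field k'] [Algebra k k']

set_option maxHeartbeats 1000000 in
/-- the local rings of the completed tensor product at maximal ideals. -/
theorem local_pkg (M : Ideal (EGA4.CTensor k A k')) [hM : M.IsMaximal] :
    IsNoetherianRing (EGA4.CTensor k A k') ∧
    IsNoetherianRing (Localization.AtPrime M) ∧
    IsAdicComplete (maximalIdeal (Localization.AtPrime M)) (Localization.AtPrime M) ∧
    Function.Surjective (algebraMap (EGA4.CTensor k A k') (Localization.AtPrime M)) ∧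
    Module.Flat A (Localization.AtPrime M) ∧
    IsLocalHom (algebraMap A (Localization.AtPrime M)) ∧
    (∀ J : Ideal (Localization.AtPrime M),
      (maximalIdeal A).map (algebraMap A (Localization.AtPrime M)) ≤ J → J ≠ ⊤ →
        ringKrullDim (Localization.AtPrime M ⧸ J) = 0) ∧
    ((algebraMap (Localization.AtPrime M) (ResidueField (Localization.AtPrime M))).comp
      ((algebraMap (EGA4.CTensor k A k') (Localization.AtPrime M)).comp
        ((algebraMap (A ⊗[k] k') (EGA4.CTensor k A k')).comp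
          (Algebra.TensorProduct.includeRight (R := k) (A := A) (B := k')).toRingHom))).Finite := by
  classical
  obtain ⟨d, algMB, hfinMB, hflat, hmax, hC⟩ := structure_pkg k A k'
  set MB := MvPowerSeries (Fin d) k' with hMB
  set CC := EGA4.CTensor k A k' with hCC
  letI := algMB
  haveI := hfinMB
  haveI := hflat
  haveI : IsAdicComplete (maximalIdeal MB) MB := by
    rw [maximalIdeal_mvPowerSeries_eq_span]
    infer_instance
  haveI hNCC : IsNoetherianRing CC := IsNoetherianRing.of_finite MB CC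
  haveI : HenselianLocalRing MB :=
    Groth.Agent.Lib.Helper25.henselianLocalRing_of_isAdicComplete MB
  obtain ⟨ι, hι, Afam, hcr, hloc, ⟨eqv⟩⟩ := Groth.Agent.S0499.result MB CC
  let φ : ∀ i, CC →+* Afam i := fun i => (Pi.evalRingHom Afam i).comp eqv.toRingHom
  have hΦ : Function.Bijective (RingHom.pi φ) := eqv.bijective
  set L := Localization.AtPrime M with hL
  have hsurj : Function.Surjective (algebraMap CC L) :=
    Groth.Agent.Lib.Helper9.SemiLocalProd.algebraMap_localization_surjective' (φ := φ) hΦ M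
  haveI hfinL : Module.Finite MB L :=
    Module.Finite.of_surjective (IsScalarTower.toAlgHom MB CC L).toLinearMap hsurj
  have hcomap := Groth.Agent.Lib.Helper21.BrR.comap_maximal MB CC ⟨M, hM⟩
  have hmapM : (maximalIdeal A).map (algebraMap A CC) ≤ M := by
    rw [← hmax, Ideal.map_le_iff_le_comap, hcomap]
  have hmapL : (maximalIdeal A).map (algebraMap A L) =
      (maximalIdeal MB).map (algebraMap MB L) := by
    rw [IsScalarTower.algebraMap_eq A CC L, IsScalarTower.algebraMap_eq MB CC L,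
      ← Ideal.map_map, ← Ideal.map_map, hmax]
  have hmem : ∀ a ∈ maximalIdeal A, algebraMap A L a ∈ maximalIdeal L := by
    intro a ha
    rw [IsScalarTower.algebraMap_apply A CC L,
      IsLocalization.AtPrime.to_map_mem_maximal_iff L M]
    exact hmapM (Ideal.mem_map_of_mem _ ha)
  have hlocal : IsLocalHom (algebraMap A L) := by
    refine ⟨fun a ha => ?_⟩
    by_contra hna
    have h1 : a ∈ maximalIdeal A := (IsLocalRing.mem_maximalIdeal a).mpr hna
    exact (IsLocalRing.mem_maximalIdeal _).mp (hmem a h1) ha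
  haveI : Module.Flat CC L := IsLocalization.flat L M.primeCompl
  have hflatL : Module.Flat A L := Module.Flat.trans A CC L
  haveI hNL : IsNoetherianRing L := IsNoetherianRing.of_finite MB L
  refine ⟨hNCC, hNL, ?_, hsurj, hflatL, hlocal, ?_, ?_⟩
  · exact Groth.Agent.Lib.Helper9.SemiLocalProd.isAdicComplete_maximalIdeal_of_finite MB L
  · intro J hJ hJ'
    apply ringKrullDim_quot_eq_zero MB L
    · rw [← hmapL]; exact hJ
    · exact hJ'
  · letI algk' : Algebra k' CC :=
      ((algebraMap (A ⊗[k] k') CC).comp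
        (Algebra.TensorProduct.includeRight (R := k) (A := A) (B := k')).toRingHom).toAlgebra
    haveI : IsScalarTower k' MB CC := IsScalarTower.of_algebraMap_eq (fun c => by
      rw [MvPowerSeries.algebraMap_apply, Algebra.algebraMap_self, RingHom.id_apply, hC]
      rfl)
    have hXM : ∀ i, algebraMap MB CC (X i) ∈ M := by
      intro i
      have h2 : (X i : MB) ∈ maximalIdeal MB := PS.X_mem_maximalIdeal i
      rw [← hcomap] at h2
      exact h2
    have hfin : Module.Finite k' (CC ⧸ M) :=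
      finite_quotient_of_X_mem k' d CC M hXM
    have h3 : (algebraMap k' (CC ⧸ M)).Finite := RingHom.finite_algebraMap.mpr hfin
    -- transfer along CC ⧸ M → residue field of L
    let ρ : CC →+* ResidueField L := (algebraMap L (ResidueField L)).comp (algebraMap CC L)
    have hρ : ∀ x ∈ M, ρ x = 0 := by
      intro x hx
      show algebraMap L (ResidueField L) (algebraMap CC L x) = 0
      rw [IsLocalRing.ResidueField.algebraMap_eq, IsLocalRing.residue_eq_zero_iff,
        IsLocalization.AtPrime.to_map_mem_maximal_iff L M]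
      exact hx
    let ρ' : CC ⧸ M →+* ResidueField L := Ideal.Quotient.lift M ρ hρ
    have hρ'surj : Function.Surjective ρ' := by
      apply Ideal.Quotient.lift_surjective_of_surjective
      exact (IsLocalRing.residue_surjective).comp hsurj
    have h4 : (ρ'.comp (algebraMap k' (CC ⧸ M))).Finite :=
      (RingHom.Finite.of_surjective ρ' hρ'surj).comp h3 |> fun h => h
    convert h4 using 1
    ext c
    rfl
end Pkg


open IsLocalRing TensorProduct TrivSqZeroExt KaehlerDifferential
open Groth.Agent.Lib.Helper23.CompletedKaehlerSep Groth.Agent.Lib.Helper23.CK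
open Groth.Agent.Lib.Helper23.CTensFld

section Uniq

variable {R L : Type*} [CommRing R] [CommRing L] (I : Ideal R) (𝔪 : Ideal L)

/-- two ring maps out of an adic completion into a separated ring agreeing on `R` and sending `I`
into `𝔪` are equal. -/
theorem adic_hom_ext (hI : I.FG) (hH : (⨅ j : ℕ, 𝔪 ^ j) = ⊥)
    (f g : AdicCompletion I R →+* L)
    (hf : ∀ i ∈ I, f (AdicCompletion.of I R i) ∈ 𝔪)
    (hg : ∀ i ∈ I, g (AdicCompletion.of I R i) ∈ 𝔪)
    (h : ∀ r, f (AdicCompletion.of I R r) = g (AdicCompletion.of I R r)) : f = g := by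
  have key : ∀ (φ : AdicCompletion I R →+* L), (∀ i ∈ I, φ (AdicCompletion.of I R i) ∈ 𝔪) →
      ∀ (j : ℕ) (y : AdicCompletion I R), y ∈ (I ^ j • ⊤ : Submodule R (AdicCompletion I R)) →
        φ y ∈ 𝔪 ^ j := by
    intro φ hφ j y hy
    have hpow : ∀ i ∈ I ^ j, φ (AdicCompletion.of I R i) ∈ 𝔪 ^ j := by
      intro i hi
      have h1 : I ^ j ≤ (𝔪 ^ j).comap (φ.comp (algebraMap R (AdicCompletion I R))) := by
        refine (Ideal.pow_right_mono (fun i hi => ?_) j).trans (Ideal.le_comap_pow _ j)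
        exact hφ i hi
      exact h1 hi
    refine Submodule.smul_induction_on hy ?_ ?_
    · intro i hi z _
      have h1 : i • z = AdicCompletion.of I R i * z := by
        rw [Algebra.smul_def]; rfl
      rw [h1, map_mul]
      exact Ideal.mul_mem_right _ _ (hpow i hi)
    · intro x y hx hy
      rw [map_add]; exact Ideal.add_mem _ hx hy
  ext x
  have h2 : ∀ j : ℕ, f x - g x ∈ 𝔪 ^ j := by
    intro j
    obtain ⟨r, hr⟩ := Submodule.Quotient.mk_surjective _ (AdicCompletion.eval I R j x)
    have h3 : x - AdicCompletion.of I R r ∈ (I ^ j • ⊤ : Submodule R (AdicCompletion I R)) := by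
      rw [AdicCompletion.pow_smul_top_eq_ker_eval hI, LinearMap.mem_ker, map_sub, sub_eq_zero,
        ← hr]
      rfl
    have h5 : f x - g x = f (x - AdicCompletion.of I R r) - g (x - AdicCompletion.of I R r) := by
      rw [map_sub, map_sub, h]; ring
    rw [h5]
    exact Ideal.sub_mem _ (key f hf j _ h3) (key g hg j _ h3)
  have h6 : f x - g x ∈ (⨅ j : ℕ, 𝔪 ^ j) := Ideal.mem_iInf.mpr h2
  rw [hH, Ideal.mem_bot, sub_eq_zero] at h6
  exact h6

end Uniq

section Surj

variable (k A k' : Type u) [Field k] [CommRing A] [IsNoetherianRing A] [IsLocalRing A] [Algebra k A]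
  [IsAdicComplete (maximalIdeal A) A] [Module.Finite k (ResidueField A)]
  [Field k'] [Algebra k k']

set_option maxHeartbeats 1600000 in
/-- the completed differentials of the local rings of the completed base change surject onto the
base change of the completed differentials. -/
theorem exists_surjection_kaehler (M : Ideal (EGA4.CTensor k A k')) [M.IsMaximal]
    [Algebra k' (Localization.AtPrime M)]
    (halg : ∀ c : k', algebraMap k' (Localization.AtPrime M) c =
      algebraMap (EGA4.CTensor k A k') (Localization.AtPrime M)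
        (AdicCompletion.of (EGA4.cTensorIdeal k A k') (A ⊗[k] k') ((1 : A) ⊗ₜ[k] c)))
    [IsNoetherianRing (Localization.AtPrime M)]
    [IsAdicComplete (maximalIdeal (Localization.AtPrime M)) (Localization.AtPrime M)]
    [Module.Finite k' (ResidueField (Localization.AtPrime M))]
    (hloc : IsLocalHom (algebraMap A (Localization.AtPrime M))) :
    ∃ l : AdicCompletion (maximalIdeal (Localization.AtPrime M)) (Ω[Localization.AtPrime M⁄k']) →ₗ[Localization.AtPrime M]
        (Localization.AtPrime M) ⊗[A] AdicCompletion (maximalIdeal A) (Ω[A⁄k]),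
      Function.Surjective l := by
  classical
  set L := Localization.AtPrime M with hL
  set CC := EGA4.CTensor k A k' with hCC
  set Ωh := AdicCompletion (maximalIdeal A) (Ω[A⁄k]) with hΩh
  haveI := finite_mhat' (k := k) (A := A)
  haveI : Module.Finite L (L ⊗[A] Ωh) := inferInstance
  have hsmulA : ∀ (a : A) (m : Ωh),
      (1 : L) ⊗ₜ[A] (a • m) = algebraMap A L a • ((1 : L) ⊗ₜ[A] m) := by
    intro a m
    rw [TensorProduct.smul_tmul', ← TensorProduct.smul_tmul, smul_eq_mul, mul_one,
      Algebra.algebraMap_eq_smul_one]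
  let α : A →+* TrivSqZeroExt L (L ⊗[A] Ωh) :=
    { toFun := fun a => TrivSqZeroExt.inl (algebraMap A L a) +
        TrivSqZeroExt.inr ((1 : L) ⊗ₜ[A] dhat (k := k) a)
      map_one' := by simp
      map_mul' := fun a b => by
        apply TrivSqZeroExt.ext
        · simp
        · simp only [TrivSqZeroExt.snd_add, TrivSqZeroExt.snd_inl, TrivSqZeroExt.snd_inr, zero_add,
            TrivSqZeroExt.snd_mul, TrivSqZeroExt.fst_add, TrivSqZeroExt.fst_inl,
            TrivSqZeroExt.fst_inr, add_zero, op_smul_eq_smul, Derivation.leibniz,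
            TensorProduct.tmul_add, hsmulA]
      map_zero' := by simp
      map_add' := fun a b => by
        apply TrivSqZeroExt.ext
        · simp
        · simp [TensorProduct.tmul_add] }
  have hα : ∀ a, α a = TrivSqZeroExt.inl (algebraMap A L a) +
        TrivSqZeroExt.inr ((1 : L) ⊗ₜ[A] dhat (k := k) a) := fun a => rfl
  let β : k' →+* TrivSqZeroExt L (L ⊗[A] Ωh) :=
    (TrivSqZeroExt.inlHom L (L ⊗[A] Ωh)).comp (algebraMap k' L)
  have hβ : ∀ c, β c = TrivSqZeroExt.inl (algebraMap k' L c) := fun c => rfl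
  have hof : ∀ a : A, algebraMap A L a = algebraMap CC L
      (AdicCompletion.of (EGA4.cTensorIdeal k A k') (A ⊗[k] k') (a ⊗ₜ[k] (1 : k'))) := by
    intro a
    rw [IsScalarTower.algebraMap_apply A CC L]
    rfl
  have hkk : ∀ c : k, algebraMap k' L (algebraMap k k' c) = algebraMap A L (algebraMap k A c) := by
    intro c
    rw [halg, hof, Algebra.TensorProduct.tmul_one_eq_one_tmul]
  have halgkE : ∀ c : k, algebraMap k (TrivSqZeroExt L (L ⊗[A] Ωh)) c =
      TrivSqZeroExt.inl (algebraMap k L c) := fun c => rfl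
  have hkL : ∀ c : k, algebraMap k L c = algebraMap A L (algebraMap k A c) := by
    intro c
    rw [IsScalarTower.algebraMap_apply k A L]
  let αₐ : A →ₐ[k] TrivSqZeroExt L (L ⊗[A] Ωh) :=
    { α with
      commutes' := fun c => by
        show α (algebraMap k A c) = _
        rw [halgkE, hα, hkL, Derivation.map_algebraMap, TensorProduct.tmul_zero,
          TrivSqZeroExt.inr_zero, add_zero] }
  let βₐ : k' →ₐ[k] TrivSqZeroExt L (L ⊗[A] Ωh) :=
    { β with
      commutes' := fun c => by
        show β (algebraMap k k' c) = _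
        rw [hβ, halgkE, hkk, hkL] }
  let ψ₀ₐ : A ⊗[k] k' →ₐ[k] TrivSqZeroExt L (L ⊗[A] Ωh) :=
    Algebra.TensorProduct.lift αₐ βₐ (fun _ _ => mul_comm _ _)
  let ψ₀ : A ⊗[k] k' →+* TrivSqZeroExt L (L ⊗[A] Ωh) := ψ₀ₐ.toRingHom
  have hψ₀ : ∀ a c, ψ₀ (a ⊗ₜ[k] c) = α a * β c := fun a c =>
    Algebra.TensorProduct.lift_tmul _ _ _ a c
  -- completeness of the square-zero extension
  haveI hfinE : Module.Finite L (TrivSqZeroExt L (L ⊗[A] Ωh)) :=
    inferInstanceAs (Module.Finite L (L × (L ⊗[A] Ωh)))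
  have hc0 : IsAdicComplete (maximalIdeal L) (TrivSqZeroExt L (L ⊗[A] Ωh)) :=
    Groth.Agent.Lib.Helper9.SemiLocalProd.isAdicComplete_of_finite L _
  haveI hc : IsAdicComplete ((maximalIdeal L).map (algebraMap L (TrivSqZeroExt L (L ⊗[A] Ωh))))
      (TrivSqZeroExt L (L ⊗[A] Ωh)) :=
    (IsAdicComplete.map_algebraMap_iff (R := L) (S := TrivSqZeroExt L (L ⊗[A] Ωh))
      (M := TrivSqZeroExt L (L ⊗[A] Ωh)) (I := maximalIdeal L)).mpr hc0
  set I := EGA4.cTensorIdeal k A k' with hI
  have hIeq : I = (maximalIdeal A).map (algebraMap A (A ⊗[k] k')) := (ideal_eq k A k').symm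
  have hIFG : I.FG := by
    rw [hIeq]
    exact Ideal.FG.map ((isNoetherianRing_iff_ideal_fg A).mp inferInstance _) _
  have hmemL : ∀ a ∈ maximalIdeal A, algebraMap A L a ∈ maximalIdeal L := by
    intro a ha
    by_contra hna
    have h1 : IsUnit (algebraMap A L a) := by
      by_contra h2
      exact hna ((mem_maximalIdeal _).mpr h2)
    exact (mem_maximalIdeal a).mp ha (hloc.map_nonunit a h1)
  have hIK : I ≤ ((maximalIdeal L).comap (fstHom L L (L ⊗[A] Ωh)).toRingHom).comap ψ₀ := by
    rw [hIeq, Ideal.map_le_iff_le_comap]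
    intro a ha
    rw [Ideal.mem_comap, Ideal.mem_comap]
    have h1 : algebraMap A (A ⊗[k] k') a = a ⊗ₜ[k] (1 : k') := rfl
    rw [h1, hψ₀, map_one, mul_one, hα]
    show (TrivSqZeroExt.inl (algebraMap A L a) +
        TrivSqZeroExt.inr ((1 : L) ⊗ₜ[A] dhat (k := k) a)).fst ∈ maximalIdeal L
    simpa using hmemL a ha
  have hψ : ∀ j : ℕ, I ^ (j + 1) ≤
      (((maximalIdeal L).map (algebraMap L (TrivSqZeroExt L (L ⊗[A] Ωh)))) ^ j).comap ψ₀ := by
    intro j
    refine (Ideal.pow_right_mono hIK (j + 1)).trans ?_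
    refine (Ideal.le_comap_pow _ (j + 1)).trans ?_
    exact Ideal.comap_mono (fst_pow_le j)
  obtain ⟨ψ₁, hψ₁, -⟩ := exists_extension I
    ((maximalIdeal L).map (algebraMap L (TrivSqZeroExt L (L ⊗[A] Ωh)))) ψ₀ hψ
  -- first component of ψ₁ is the localization map
  have hHaus : (⨅ j : ℕ, (maximalIdeal L) ^ j) = ⊥ := by
    have := (IsHausdorff.iInf_pow_smul (I := maximalIdeal L) (M := L)) inferInstance
    simpa [smul_eq_mul, Ideal.mul_top] using this
  have hofalg : ∀ r : A ⊗[k] k', AdicCompletion.of I (A ⊗[k] k') r =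
      algebraMap (A ⊗[k] k') CC r := fun r => rfl
  have hfst₀ : ∀ r : A ⊗[k] k', (ψ₀ r).fst = algebraMap CC L (AdicCompletion.of I _ r) := by
    intro r
    induction r using TensorProduct.induction_on with
    | zero => simp
    | tmul a c =>
      have h1 : a ⊗ₜ[k] c = (a ⊗ₜ[k] (1 : k')) * ((1 : A) ⊗ₜ[k] c) := by
        rw [Algebra.TensorProduct.tmul_mul_tmul, mul_one, one_mul]
      rw [hψ₀, hα, hβ]
      conv_rhs => rw [h1, hofalg, map_mul, map_mul, ← hofalg, ← hofalg, ← hof, ← halg]
      simp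
      rfl
    | add x y hx hy =>
      rw [map_add, TrivSqZeroExt.fst_add, hx, hy, hofalg, hofalg, hofalg, map_add, map_add]
  have hfst₁ : (fstHom L L (L ⊗[A] Ωh)).toRingHom.comp ψ₁ = algebraMap CC L := by
    apply adic_hom_ext I (maximalIdeal L) hIFG hHaus
    · intro i hi
      rw [RingHom.comp_apply, hψ₁]
      exact hIK hi
    · intro i hi
      rw [← hfst₀]
      exact hIK hi
    · intro r
      rw [RingHom.comp_apply, hψ₁]
      exact hfst₀ r
  have hunit : ∀ y : M.primeCompl, IsUnit (ψ₁ (y : CC)) := by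
    intro y
    rw [TrivSqZeroExt.isUnit_iff_isUnit_fst]
    have h1 : (ψ₁ (y : CC)).fst = algebraMap CC L y := RingHom.congr_fun hfst₁ y
    rw [h1]
    exact IsLocalization.map_units L y
  let ψ₂ : L →+* TrivSqZeroExt L (L ⊗[A] Ωh) := IsLocalization.lift (M := M.primeCompl) hunit
  have hψ₂ : ∀ x : CC, ψ₂ (algebraMap CC L x) = ψ₁ x := fun x => IsLocalization.lift_eq hunit x
  have hF1 : ∀ y : L, (ψ₂ y).fst = y := by
    intro y
    have h1 : (fstHom L L (L ⊗[A] Ωh)).toRingHom.comp ψ₂ = RingHom.id L := by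
      apply IsLocalization.ringHom_ext M.primeCompl
      ext x
      rw [RingHom.comp_apply, RingHom.comp_apply, hψ₂, RingHom.comp_apply, RingHom.id_apply]
      exact RingHom.congr_fun hfst₁ x
    exact RingHom.congr_fun h1 y
  have hF2 : ∀ c : k', ψ₂ (algebraMap k' L c) = TrivSqZeroExt.inl (algebraMap k' L c) := by
    intro c
    rw [halg, hψ₂, hψ₁, hψ₀, map_one, one_mul, hβ, ← halg]
  have hF3 : ∀ a : A, ψ₂ (algebraMap A L a) = α a := by
    intro a
    rw [hof, hψ₂, hψ₁, hψ₀, map_one, mul_one]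
  let D : Derivation k' L (L ⊗[A] Ωh) :=
    { toLinearMap :=
        { toFun := fun y => (ψ₂ y).snd
          map_add' := fun x y => by rw [map_add, TrivSqZeroExt.snd_add]
          map_smul' := fun c y => by
            show (ψ₂ (c • y)).snd = c • (ψ₂ y).snd
            rw [← algebraMap_smul L c (ψ₂ y).snd, Algebra.smul_def, map_mul, hF2, TrivSqZeroExt.snd_mul, TrivSqZeroExt.fst_inl,
              TrivSqZeroExt.snd_inl, smul_zero, add_zero] }
      map_one_eq_zero' := by
        show (ψ₂ 1).snd = 0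
        rw [map_one]; rfl
      leibniz' := fun x y => by
        show (ψ₂ (x * y)).snd = x • (ψ₂ y).snd + y • (ψ₂ x).snd
        rw [map_mul, TrivSqZeroExt.snd_mul, hF1, hF1, op_smul_eq_smul] }
  have hD : ∀ y, D y = (ψ₂ y).snd := fun y => rfl
  obtain ⟨l, hl⟩ := exists_lift (k := k') (A := L) D
  refine ⟨l, lift_surjective (k := k') l ?_⟩
  rw [eq_top_iff, ← span_one_tmul_eq_top (A := A) (M := Ωh) L, Submodule.span_le]
  rintro _ ⟨m, rfl⟩
  have hm : m ∈ Submodule.span A (Set.range (dhat (k := k) (A := A))) := by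
    rw [span_dhat]; trivial
  show (1 : L) ⊗ₜ[A] m ∈ _
  induction hm using Submodule.span_induction with
  | mem x hx =>
    obtain ⟨a, rfl⟩ := hx
    refine Submodule.subset_span ⟨algebraMap A L a, ?_⟩
    show l (dhat (k := k') (algebraMap A L a)) = _
    rw [hl, hD, hF3, hα]
    simp
  | zero => rw [TensorProduct.tmul_zero]; exact Submodule.zero_mem _
  | add x y _ _ hx hy => rw [TensorProduct.tmul_add]; exact Submodule.add_mem _ hx hy
  | smul c x _ hx => rw [hsmulA]; exact Submodule.smul_mem _ _ hx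

end Surj


open IsLocalRing TensorProduct KaehlerDifferential
open Groth.Agent.Lib.Helper23.CompletedKaehlerSep Groth.Agent.Lib.Helper23.CK
open Groth.Agent.Lib.Helper23.CTensFld

section Gen

variable {A : Type*} [CommRing A] {p : Ideal A} {M : Type*} [AddCommGroup M] [Module A M]

/-- padding a generating family with zeros. -/
theorem GenAt.pad {r n : ℕ} (hrn : r ≤ n) {x : Fin r → M} (h : GenAt p x) :
    ∃ x' : Fin n → M, GenAt p x' := by
  classical
  refine ⟨fun i => if hi : (i : ℕ) < r then x ⟨i, hi⟩ else 0, fun y => ?_⟩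
  obtain ⟨s, hs, hsy⟩ := h y
  refine ⟨s, hs, Submodule.span_mono ?_ hsy⟩
  rintro _ ⟨i, rfl⟩
  refine ⟨⟨i, lt_of_lt_of_le i.2 hrn⟩, ?_⟩
  simp

/-- from freeness of the localized module to a generating family. -/
theorem exists_genAt_of_free [p.IsPrime] [Module.Finite A M] (n : ℕ)
    (hfree : Module.Free (Localization.AtPrime p) (LocalizedModule p.primeCompl M))
    (hrank : Module.finrank (Localization.AtPrime p) (LocalizedModule p.primeCompl M) = n) :
    ∃ x : Fin n → M, GenAt p x := by
  haveI := hfree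
  let b := Module.finBasis (Localization.AtPrime p) (LocalizedModule p.primeCompl M)
  let s : Fin n → LocalizedModule p.primeCompl M := fun i => b (Fin.cast hrank.symm i)
  have hs : Submodule.span (Localization.AtPrime p) (Set.range s) = ⊤ := by
    have : Set.range s = Set.range b := by
      ext y
      constructor
      · rintro ⟨i, rfl⟩; exact ⟨_, rfl⟩
      · rintro ⟨i, rfl⟩; exact ⟨Fin.cast hrank i, by simp [s]⟩
    rw [this, b.span_eq]
  exact exists_genAt_of_span_localized s hs

end Gen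

section Dim

variable {A L : Type u} [CommRing A] [CommRing L] [IsLocalRing A] [IsLocalRing L]
  [IsNoetherianRing A] [IsNoetherianRing L] [Algebra A L]

/-- dimension of a quotient of `L` is bounded by that of the corresponding quotient of `A` when the
closed fibre is zero-dimensional. -/
theorem dim_quot_le (hloc : IsLocalHom (algebraMap A L))
    (h0 : ∀ J : Ideal L, (maximalIdeal A).map (algebraMap A L) ≤ J → J ≠ ⊤ →
      ringKrullDim (L ⧸ J) = 0)
    (Q : Ideal L) [Q.IsPrime] :
    ringKrullDim (L ⧸ Q) ≤ ringKrullDim (A ⧸ Q.comap (algebraMap A L)) := by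
  haveI : (Q.comap (algebraMap A L)).IsPrime := Ideal.comap_isPrime _ _
  haveI : Nontrivial (A ⧸ Q.comap (algebraMap A L)) :=
    Ideal.Quotient.nontrivial_iff.mpr (Ideal.IsPrime.ne_top inferInstance)
  haveI : Nontrivial (L ⧸ Q) :=
    Ideal.Quotient.nontrivial_iff.mpr (Ideal.IsPrime.ne_top inferInstance)
  haveI : IsLocalRing (A ⧸ Q.comap (algebraMap A L)) :=
    IsLocalRing.of_surjective' (Ideal.Quotient.mk _) Ideal.Quotient.mk_surjective
  haveI : IsLocalRing (L ⧸ Q) :=
    IsLocalRing.of_surjective' (Ideal.Quotient.mk _) Ideal.Quotient.mk_surjective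
  haveI hlocQ : IsLocalHom (Ideal.Quotient.mk Q) :=
    IsLocalHom.of_surjective _ Ideal.Quotient.mk_surjective
  haveI hlocq : IsLocalHom (Ideal.Quotient.mk (Q.comap (algebraMap A L))) :=
    IsLocalHom.of_surjective _ Ideal.Quotient.mk_surjective
  have hcomm : ∀ a : A, algebraMap (A ⧸ Q.comap (algebraMap A L)) (L ⧸ Q)
      (Ideal.Quotient.mk _ a) = Ideal.Quotient.mk Q (algebraMap A L a) := fun a => rfl
  haveI hloc' : IsLocalHom (algebraMap (A ⧸ Q.comap (algebraMap A L)) (L ⧸ Q)) := by
    refine ⟨fun x hx => ?_⟩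
    obtain ⟨a, rfl⟩ := Ideal.Quotient.mk_surjective x
    rw [hcomm] at hx
    have h1 : IsUnit (algebraMap A L a) := hlocQ.map_nonunit _ hx
    have h2 : IsUnit a := hloc.map_nonunit _ h1
    exact h2.map _
  have h1 := Groth.Agent.Lib.Helper18.CM.ringKrullDim_le_add_fibre
    (R := A ⧸ Q.comap (algebraMap A L)) (S := L ⧸ Q)
  set 𝔞 := (maximalIdeal (A ⧸ Q.comap (algebraMap A L))).map
    (algebraMap (A ⧸ Q.comap (algebraMap A L)) (L ⧸ Q)) with h𝔞
  have h𝔞le : 𝔞 ≤ maximalIdeal (L ⧸ Q) := IsLocalRing.map_maximalIdeal_le _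
  haveI : Nontrivial ((L ⧸ Q) ⧸ 𝔞) := Ideal.Quotient.nontrivial_iff.mpr (fun h => by
    rw [h, top_le_iff] at h𝔞le
    exact (maximalIdeal.isMaximal (L ⧸ Q)).ne_top h𝔞le)
  let φ : L →+* (L ⧸ Q) ⧸ 𝔞 := (Ideal.Quotient.mk 𝔞).comp (Ideal.Quotient.mk Q)
  have hφ : Function.Surjective φ :=
    Ideal.Quotient.mk_surjective.comp Ideal.Quotient.mk_surjective
  have h2 : ringKrullDim ((L ⧸ Q) ⧸ 𝔞) = 0 := by
    rw [← ringKrullDim_eq_of_ringEquiv (RingHom.quotientKerEquivOfSurjective hφ)]
    apply h0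
    · rw [Ideal.map_le_iff_le_comap]
      intro a ha
      rw [Ideal.mem_comap, RingHom.mem_ker]
      show Ideal.Quotient.mk 𝔞 (Ideal.Quotient.mk Q (algebraMap A L a)) = 0
      rw [← hcomm, Ideal.Quotient.eq_zero_iff_mem]
      refine Ideal.mem_map_of_mem _ ?_
      rw [mem_maximalIdeal, mem_nonunits_iff]
      intro hu
      exact (mem_maximalIdeal a).mp ha (hlocq.map_nonunit _ hu)
    · intro h
      have : (1 : L) ∈ RingHom.ker φ := by rw [h]; trivial
      rw [RingHom.mem_ker, map_one] at this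
      exact one_ne_zero this
  rw [h2, add_zero] at h1
  exact h1

end Dim


open IsLocalRing TensorProduct KaehlerDifferential
open Groth.Agent.Lib.Helper23.CompletedKaehlerSep Groth.Agent.Lib.Helper23.CK
open Groth.Agent.Lib.Helper23.CTensFld

section AprimeB

variable (k A k' : Type u) [Field k] [CommRing A] [IsNoetherianRing A] [IsLocalRing A] [Algebra k A]
  [IsAdicComplete (maximalIdeal A) A] [Module.Finite k (ResidueField A)]
  [Field k'] [Algebra k k'] [PerfectField k'] (p : Ideal A) [p.IsPrime]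

set_option maxHeartbeats 1600000 in
/-- (a') ⇒ generators: regularity of one completed perfect base change at a prime over `p` bounds
the number of generators of the completed differentials at `p`. -/
theorem exists_genAt_of_regular (n : ℕ)
    (hn₁ : ∀ q ∈ minimalPrimes A, q ≤ p → ringKrullDim (A ⧸ q) ≤ n)
    (p' : Ideal (EGA4.CTensor k A k')) [p'.IsPrime]
    (hp' : p'.comap (algebraMap A (EGA4.CTensor k A k')) = p)
    (hreg : IsRegularLocalRing (Localization.AtPrime p')) :
    ∃ x : Fin n → AdicCompletion (maximalIdeal A) (Ω[A⁄k]), GenAt p x := by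
  classical
  set CC := EGA4.CTensor k A k' with hCC
  obtain ⟨M, hM, hp'M⟩ := Ideal.exists_le_maximal p' (Ideal.IsPrime.ne_top inferInstance)
  haveI := hM
  obtain ⟨hNCC, hNL, hcompl, hsurj, hflatL, hlocal, hdim0, hresfin⟩ := local_pkg k A k' M
  set L := Localization.AtPrime M with hL
  haveI := hNL
  haveI := hcompl
  haveI := hNCC
  letI algk'L : Algebra k' L := ((algebraMap CC L).comp ((algebraMap (A ⊗[k] k') CC).comp
      (Algebra.TensorProduct.includeRight (R := k) (A := A) (B := k')).toRingHom)).toAlgebra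
  have halg : ∀ c : k', algebraMap k' L c = algebraMap CC L
      (AdicCompletion.of (EGA4.cTensorIdeal k A k') (A ⊗[k] k') ((1 : A) ⊗ₜ[k] c)) := fun c => rfl
  haveI hfinres : Module.Finite k' (ResidueField L) := by
    apply RingHom.finite_algebraMap.mp
    rw [IsScalarTower.algebraMap_eq k' L (ResidueField L)]
    exact hresfin
  -- the prime of `L`
  have hdisj : Disjoint (M.primeCompl : Set CC) (p' : Set CC) := by
    rw [Set.disjoint_left]
    intro x hx hx'
    exact hx (hp'M hx')
  haveI hP''prime : (p'.map (algebraMap CC L)).IsPrime :=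
    IsLocalization.isPrime_of_isPrime_disjoint M.primeCompl L p' inferInstance hdisj
  have hP''comap : (p'.map (algebraMap CC L)).comap (algebraMap CC L) = p' :=
    IsLocalization.under_map_of_isPrime_disjoint M.primeCompl L inferInstance hdisj
  have hP''A : (p'.map (algebraMap CC L)).comap (algebraMap A L) = p := by
    rw [IsScalarTower.algebraMap_eq A CC L, ← Ideal.comap_comap, hP''comap, hp']
  -- regularity of the localization of `L`
  have hregL : IsRegularLocalRing (Localization.AtPrime (p'.map (algebraMap CC L))) := by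
    have key : ∀ (q : Ideal CC) [q.IsPrime], q = (p'.map (algebraMap CC L)).comap (algebraMap CC L) →
        IsRegularLocalRing (Localization.AtPrime q) →
          IsRegularLocalRing (Localization.AtPrime (p'.map (algebraMap CC L))) := by
      intro q _ hq hr
      subst hq
      exact IsRegularLocalRing.of_ringEquiv
        (IsLocalization.localizationLocalizationAtPrimeIsoLocalization M.primeCompl
          (p'.map (algebraMap CC L))).toRingEquiv
    exact key p' hP''comap.symm hreg
  haveI : IsNoetherianRing (Localization.AtPrime (p'.map (algebraMap CC L))) :=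
    IsLocalization.isNoetherianRing (p'.map (algebraMap CC L)).primeCompl _ inferInstance
  have hRR : IsRegularRing (Localization.AtPrime (p'.map (algebraMap CC L))) :=
    isRegularRing_iff.mpr (fun Q hQ =>
      Groth.Agent.Lib.Helper18.SerreReg.isRegularLocalRing_localization_atPrime _ Q)
  have hgeo : CAlg.IsGeometricallyRegular k' (Localization.AtPrime (p'.map (algebraMap CC L))) :=
    Groth.Agent.Lib.Helper18.Exc.geomRegular_of_isRegularRing_of_perfectField k' _ hRR
  -- a minimal prime below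
  obtain ⟨q'', hq''min, hq''le⟩ :=
    Ideal.exists_minimalPrimes_le (bot_le : (⊥ : Ideal L) ≤ p'.map (algebraMap CC L))
  haveI hq''prime : q''.IsPrime := hq''min.1.1
  haveI : Nontrivial (L ⧸ q'') :=
    Ideal.Quotient.nontrivial_iff.mpr (Ideal.IsPrime.ne_top inferInstance)
  haveI : IsLocalRing (L ⧸ q'') :=
    IsLocalRing.of_surjective' (Ideal.Quotient.mk _) Ideal.Quotient.mk_surjective
  obtain ⟨n', hn'⟩ := Groth.Agent.Lib.Helper18.SerreReg.exists_ringKrullDim_eq_nat (L ⧸ q'')
  have hn'n : n' ≤ n := by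
    have hle1 := dim_quot_le hlocal hdim0 q''
    have hqp : q''.comap (algebraMap A L) ≤ p := by
      rw [← hP''A]; exact Ideal.comap_mono hq''le
    obtain ⟨q₀, hq₀min, hq₀le⟩ :=
      Ideal.exists_minimalPrimes_le (bot_le : (⊥ : Ideal A) ≤ q''.comap (algebraMap A L))
    have h2 : ringKrullDim (A ⧸ q''.comap (algebraMap A L)) ≤ ringKrullDim (A ⧸ q₀) :=
      ringKrullDim_le_of_surjective (Ideal.Quotient.factor hq₀le)
        (Ideal.Quotient.factor_surjective hq₀le)
    have h3 := hn₁ q₀ hq₀min (hq₀le.trans hqp)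
    have h4 := hle1.trans (h2.trans h3)
    rw [hn'] at h4
    exact_mod_cast h4
  -- freeness of the completed differentials of `L` over `k'`
  obtain ⟨pc, hpc⟩ := ExpChar.exists k'
  haveI := hpc
  have hk : (frobenius k' pc).Finite :=
    RingHom.Finite.of_surjective _ (bijective_frobenius k' pc).2
  obtain ⟨hfree, hrank⟩ := Groth.Agent.S5074.result pc k' L hk (p'.map (algebraMap CC L)) hgeo
    q'' hq''min hq''le n' hn'
  haveI := finite_mhat' (k := k') (A := L)
  haveI := finite_mhat' (k := k) (A := A)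
  obtain ⟨y, hy⟩ := exists_genAt_of_free (p := p'.map (algebraMap CC L))
    (M := AdicCompletion (maximalIdeal L) (Ω[L⁄k'])) n' hfree hrank
  obtain ⟨l, hl⟩ := exists_surjection_kaehler k A k' M halg hlocal
  have hz := hy.map l hl
  have hfr := hz.finrank_le
  -- comparison of fibres
  letI algκ : Algebra p.ResidueField (p'.map (algebraMap CC L)).ResidueField :=
    (Ideal.ResidueField.map p (p'.map (algebraMap CC L)) (algebraMap A L) hP''A.symm).toAlgebra
  haveI : IsScalarTower A p.ResidueField (p'.map (algebraMap CC L)).ResidueField :=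
    IsScalarTower.of_algebraMap_eq (fun a => by
      show _ = Ideal.ResidueField.map p (p'.map (algebraMap CC L)) (algebraMap A L) hP''A.symm
        (algebraMap A p.ResidueField a)
      rw [Ideal.ResidueField.map_algebraMap,
        IsScalarTower.algebraMap_apply A L (p'.map (algebraMap CC L)).ResidueField])
  let e1 := TensorProduct.AlgebraTensorModule.cancelBaseChange A L
    (p'.map (algebraMap CC L)).ResidueField (p'.map (algebraMap CC L)).ResidueField
    (AdicCompletion (maximalIdeal A) (Ω[A⁄k]))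
  let e2 := TensorProduct.AlgebraTensorModule.cancelBaseChange A p.ResidueField
    (p'.map (algebraMap CC L)).ResidueField (p'.map (algebraMap CC L)).ResidueField
    (AdicCompletion (maximalIdeal A) (Ω[A⁄k]))
  have h4 : Module.finrank (p'.map (algebraMap CC L)).ResidueField
      ((p'.map (algebraMap CC L)).ResidueField ⊗[L]
        (L ⊗[A] AdicCompletion (maximalIdeal A) (Ω[A⁄k]))) =
      Module.finrank p.ResidueField
        (p.ResidueField ⊗[A] AdicCompletion (maximalIdeal A) (Ω[A⁄k])) := by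
    rw [e1.finrank_eq, ← e2.finrank_eq, Module.finrank_baseChange]
  rw [h4] at hfr
  obtain ⟨x₀, hx₀⟩ := exists_genAt_finrank (p := p)
    (M := AdicCompletion (maximalIdeal A) (Ω[A⁄k]))
  exact GenAt.pad (hfr.trans hn'n) hx₀

end AprimeB


open IsLocalRing TensorProduct KaehlerDifferential
open Groth.Agent.Lib.Helper23.CompletedKaehlerSep Groth.Agent.Lib.Helper23.CK
open Groth.Agent.Lib.Helper23.CTensFld

section Over

variable (k A k' : Type u) [Field k] [CommRing A] [IsNoetherianRing A] [IsLocalRing A] [Algebra k A]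
  [IsAdicComplete (maximalIdeal A) A] [Module.Finite k (ResidueField A)]
  [Field k'] [Algebra k k']

/-- the completed tensor product is nontrivial. -/
theorem nontrivial_cTensor : Nontrivial (EGA4.CTensor k A k') := by
  set I := EGA4.cTensorIdeal k A k' with hI
  have hIeq : I = (maximalIdeal A).map (algebraMap A (A ⊗[k] k')) := (ideal_eq k A k').symm
  haveI : Nontrivial (ResidueField A ⊗[k] k') :=
    Algebra.TensorProduct.nontrivial_of_algebraMap_injective_of_flat_left (R := k)
      (ResidueField A) k' (algebraMap k k').injective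
  let g : A ⊗[k] k' →ₐ[k] ResidueField A ⊗[k] k' :=
    Algebra.TensorProduct.map (IsScalarTower.toAlgHom k A (ResidueField A)) (AlgHom.id k k')
  have hg : ∀ x ∈ I ^ 1, g.toRingHom x = 0 := by
    intro x hx
    rw [pow_one, hIeq] at hx
    have h1 : (maximalIdeal A).map (algebraMap A (A ⊗[k] k')) ≤ RingHom.ker g.toRingHom := by
      rw [Ideal.map_le_iff_le_comap]
      intro a ha
      rw [Ideal.mem_comap, RingHom.mem_ker]
      have h2 : algebraMap A (A ⊗[k] k') a = a ⊗ₜ[k] (1 : k') := rfl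
      rw [h2]
      show g (a ⊗ₜ[k] (1 : k')) = 0
      rw [Algebra.TensorProduct.map_tmul]
      have h3 : (IsScalarTower.toAlgHom k A (ResidueField A)) a = 0 := by
        show algebraMap A (ResidueField A) a = 0
        rw [IsLocalRing.ResidueField.algebraMap_eq, IsLocalRing.residue_eq_zero_iff]
        exact ha
      rw [h3, TensorProduct.zero_tmul]
    exact h1 hx
  let f : EGA4.CTensor k A k' →+* ResidueField A ⊗[k] k' :=
    (Ideal.Quotient.lift (I ^ 1) g.toRingHom hg).comp (AdicCompletion.evalₐ I 1).toRingHom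
  exact f.domain_nontrivial

/-- every prime of `A` lifts to the completed tensor product. -/
theorem exists_prime_over (p : Ideal A) [p.IsPrime] :
    ∃ p' : Ideal (EGA4.CTensor k A k'), p'.IsPrime ∧
      p'.comap (algebraMap A (EGA4.CTensor k A k')) = p := by
  haveI := nontrivial_cTensor k A k'
  obtain ⟨M, hM⟩ := Ideal.exists_maximal (EGA4.CTensor k A k')
  haveI := hM
  obtain ⟨hNCC, hNL, hcompl, hsurj, hflatL, hlocal, hdim0, hresfin⟩ := local_pkg k A k' M
  haveI := hflatL
  haveI := hlocal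
  haveI : Module.FaithfullyFlat A (Localization.AtPrime M) :=
    Module.FaithfullyFlat.of_flat_of_isLocalHom
  obtain ⟨P, hP, hPo⟩ := Ideal.exists_isPrime_liesOver_of_faithfullyFlat
    (B := Localization.AtPrime M) p
  refine ⟨P.comap (algebraMap (EGA4.CTensor k A k') (Localization.AtPrime M)),
    Ideal.comap_isPrime _ _, ?_⟩
  rw [Ideal.comap_comap, ← IsScalarTower.algebraMap_eq]
  exact hPo.over.symm

end Over

end Groth.Agent.Lib.Helper23.CKTfae
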