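import Mathlib
import Groth.Prelude.Def_CAlg
import Groth.Agent.Lib.Helper18.FTCM
import Groth.Agent.Lib.Helper14.FibDimComp
import Groth.Agent.Lib.Helper14.LqfDim0
import Groth.Agent.Lib.Helper12.FibDimAlg
import Groth.Prelude.Def_MoreMor
import Groth.Agent.Lib.Helper18.FibQuot
import Groth.Agent.Lib.Helper18.FibBridge
import Groth.Agent.Lib.Helper23.MiracleQF
import Groth.Agent.Lib.Helper21.ChartPt5

/-!
Decomposition of Spec S along a locally constant function, and fibres (helper23): exists_completeOrthogonalIdempotents (finite clopen partition of Spec S => complete orthogonal idempotents), Fac e := S/(1-e), isLocalization_fac, flat_fac, finitePresentation_fac, comap_mk_mem_basicOpen_iff, nonempty_algEquiv_pi (S ≃ₐ[R] ∏ Fac (e d)), isCohenMacaulayRing_fiber_fac (fibre rings of a factor are localizations of fibre rings), fibreDimAt_specMap_fac, isCohenMacaulayLocalRing_stalk_fiber / isCMAt_specMap (ring-level CM fibres => MoreMor.IsCMAt for Spec S -> Spec R), ctr_injective, localDim_fiber_eq (localDim of Spec(kappa(p)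 ⊗ S) at Q = fibreDimAt (specMap R S) q), ringKrullDim_fiber_quotient_of_mem_minimalPrimes.
-/

set_option autoImplicit false
universe u


namespace Groth.Agent.Lib.Helper23.CMDecomp


open PrimeSpectrum

/-- A finite clopen partition of `Spec S` comes from a complete family of orthogonal idempotents. -/
theorem exists_completeOrthogonalIdempotents (S : Type u) [CommRing S] (N : ℕ)
    (W : Fin (N + 1) → Set (PrimeSpectrum S)) (hW : ∀ d, IsClopen (W d))
    (hdisj : ∀ d d', d ≠ d' → Disjoint (W d) (W d'))
    (hcov : ∀ x, ∃ d, x ∈ W d) :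
    ∃ e : Fin (N + 1) → S, CompleteOrthogonalIdempotents e ∧
      ∀ d, (PrimeSpectrum.basicOpen (e d) : Set (PrimeSpectrum S)) = W d := by
  choose e he heW using fun d => PrimeSpectrum.isClopen_iff.mp (hW d)
  have hidem_zero : ∀ x : S, IsIdempotentElem x → IsNilpotent x → x = 0 := by
    intro x hx hn
    obtain ⟨n, hn⟩ := hn
    rcases Nat.eq_zero_or_pos n with h0 | hpos
    · subst h0
      rw [pow_zero] at hn
      have : x = x * 1 := (mul_one x).symm
      rw [this, hn, mul_zero]
    · rw [hx.pow_eq hpos.ne'] at hn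
      exact hn
  have hortho : Pairwise (fun i j => e i * e j = 0) := by
    intro i j hij
    apply hidem_zero _ ((he i).mul (he j))
    rw [← PrimeSpectrum.basicOpen_eq_bot_iff, PrimeSpectrum.basicOpen_mul]
    apply TopologicalSpace.Opens.ext
    rw [TopologicalSpace.Opens.coe_inf, ← heW i, ← heW j]
    exact (hdisj i j hij).inter_eq
  have hOI : OrthogonalIdempotents e := ⟨he, hortho⟩
  refine ⟨e, ⟨hOI, ?_⟩, fun d => (heW d).symm⟩
  -- completeness
  have hs : IsIdempotentElem (∑ i, e i) := hOI.isIdempotentElem_sum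
  have h1 : (1 - ∑ i, e i) = 0 := by
    apply hidem_zero _ hs.one_sub
    rw [← PrimeSpectrum.basicOpen_eq_bot_iff]
    apply TopologicalSpace.Opens.ext
    rw [TopologicalSpace.Opens.coe_bot, Set.eq_empty_iff_forall_notMem]
    intro x hx
    obtain ⟨d, hd⟩ := hcov x
    rw [heW d] at hd
    have hx' : (1 - ∑ i, e i) ∉ x.asIdeal := hx
    have hd' : e d ∉ x.asIdeal := hd
    have hmul : e d * (1 - ∑ i, e i) = 0 := by
      rw [mul_sub, mul_one, hOI.mul_sum_of_mem (Finset.mem_univ d), sub_self]
    have : e d * (1 - ∑ i, e i) ∈ x.asIdeal := by rw [hmul]; exact Ideal.zero_mem _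
    rcases x.2.mem_or_mem this with h | h
    · exact hd' h
    · exact hx' h
  exact (sub_eq_zero.mp h1).symm



open PrimeSpectrum

variable (R S : Type u) [CommRing R] [CommRing S] [Algebra R S]

section idem

variable {S} (e : S) (he : IsIdempotentElem e)

/-- the factor ring of an idempotent -/
abbrev Fac : Type u := S ⧸ Ideal.span {1 - e}

include he

theorem isLocalization_fac : IsLocalization.Away e (Fac e) :=
  IsLocalization.Away.quotient_of_isIdempotentElem he

theorem flat_fac [Module.Flat R S] : Module.Flat R (Fac e) := by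
  haveI := isLocalization_fac e he
  haveI : Module.Flat S (Fac e) := IsLocalization.flat (Fac e) (Submonoid.powers e)
  exact Module.Flat.trans R S (Fac e)

theorem finitePresentation_fac [Algebra.FinitePresentation R S] :
    Algebra.FinitePresentation R (Fac e) := by
  refine Algebra.FinitePresentation.of_surjective (f := Ideal.Quotient.mkₐ R (Ideal.span {1 - e}))
    (Ideal.Quotient.mkₐ_surjective R _) ?_
  have : RingHom.ker (Ideal.Quotient.mkₐ R (Ideal.span {1 - e})).toRingHom = Ideal.span {1 - e} :=
    Ideal.mk_ker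
  rw [this]
  exact ⟨{1 - e}, by simp⟩

omit he in
theorem comap_mk_mem_basicOpen_iff (q' : PrimeSpectrum (Fac e)) :
    PrimeSpectrum.comap (Ideal.Quotient.mk (Ideal.span {1 - e})) q' ∈
      (PrimeSpectrum.basicOpen e : Set (PrimeSpectrum S)) := by
  intro h
  have h1 : Ideal.Quotient.mk (Ideal.span {1 - e}) e ∈ q'.asIdeal := h
  have h2 : Ideal.Quotient.mk (Ideal.span {1 - e}) (1 - e) = 0 :=
    Ideal.Quotient.eq_zero_iff_mem.mpr (Ideal.subset_span rfl)
  rw [map_sub, map_one, sub_eq_zero] at h2
  rw [← h2] at h1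
  exact q'.2.ne_top ((Ideal.eq_top_iff_one _).mpr h1)

end idem

section prod

variable {S} {N : ℕ} (e : Fin (N + 1) → S) (he : CompleteOrthogonalIdempotents e)

include he in
theorem nonempty_algEquiv_pi :
    Nonempty (S ≃ₐ[R] ((d : Fin (N + 1)) → Fac (e d))) := by
  let φ : S →ₐ[R] ((d : Fin (N + 1)) → Fac (e d)) :=
    Pi.algHom R (fun d => Fac (e d)) (fun d => Ideal.Quotient.mkₐ R (Ideal.span {1 - e d}))
  have hφ : Function.Bijective φ := he.bijective_pi
  exact ⟨AlgEquiv.ofBijective φ hφ⟩

end prod



open PrimeSpectrum TensorProduct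

variable (R : Type u) {S : Type u} [CommRing R] [CommRing S] [Algebra R S]

/-- the fibre rings of a factor ring of `S` are localizations of the fibre rings of `S`, hence
Cohen–Macaulay if the latter are. -/
theorem isCohenMacaulayRing_fiber_fac (e : S) (he : IsIdempotentElem e) (p : Ideal R) [p.IsPrime]
    [hCM : LocCoh.IsCohenMacaulayRing (p.Fiber S)] :
    LocCoh.IsCohenMacaulayRing (p.Fiber (Fac e)) := by
  haveI := isLocalization_fac e he
  let ψ : p.Fiber S →ₐ[p.ResidueField] p.Fiber (Fac e) :=
    Algebra.TensorProduct.map (AlgHom.id p.ResidueField p.ResidueField)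
      (Ideal.Quotient.mkₐ R (Ideal.span {1 - e}))
  letI : Algebra (p.Fiber S) (p.Fiber (Fac e)) := ψ.toRingHom.toAlgebra
  haveI : IsScalarTower p.ResidueField (p.Fiber S) (p.Fiber (Fac e)) :=
    IsScalarTower.of_algebraMap_eq fun c => (ψ.commutes c).symm
  have H : (algebraMap (p.Fiber S) (p.Fiber (Fac e))).comp
      Algebra.TensorProduct.includeRight.toRingHom =
      Algebra.TensorProduct.includeRight.toRingHom.comp (algebraMap S (Fac e)) := by
    ext s
    simp [RingHom.algebraMap_toAlgebra, ψ]
  haveI := IsLocalization.tensorProduct_tensorProduct_right R p.ResidueField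
    (Submonoid.powers e) (Fac e) H
  exact Groth.Agent.Lib.Helper18.FTCM.isCohenMacaulayRing_of_isLocalization
    ((Submonoid.powers e).map (Algebra.TensorProduct.includeRight (R := R) (A := p.ResidueField)))
    (p.Fiber (Fac e))



open PrimeSpectrum TensorProduct AlgebraicGeometry CategoryTheory
open Groth.Agent.Lib.Helper12.H12FibDimAlg

variable (R : Type u) {S : Type u} [CommRing R] [CommRing S] [Algebra R S]

theorem fibreDimAt_specMap_fac [Algebra.FiniteType R S] (e : S) (he : IsIdempotentElem e)
    (q' : PrimeSpectrum (Fac e)) :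
    FlatMor.fibreDimAt (specMap R (Fac e)) q' =
      FlatMor.fibreDimAt (specMap R S)
        (PrimeSpectrum.comap (Ideal.Quotient.mk (Ideal.span {1 - e})) q') := by
  haveI := isLocalization_fac e he
  let j : Spec (.of (Fac e)) ⟶ Spec (.of S) :=
    Spec.map (CommRingCat.ofHom (algebraMap S (Fac e)))
  haveI : IsOpenImmersion j := IsOpenImmersion.of_isLocalization e
  have hcomp : j ≫ specMap R S = specMap R (Fac e) := by
    change Spec.map _ ≫ Spec.map _ = Spec.map _
    rw [← Spec.map_comp]
    rfl
  haveI : LocallyOfFiniteType (specMap R S) := by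
    change LocallyOfFiniteType (Spec.map (CommRingCat.ofHom (algebraMap R S)))
    rw [HasRingHomProperty.Spec_iff (P := @LocallyOfFiniteType)]
    exact (RingHom.finiteType_algebraMap).mpr inferInstance
  have h0 : FlatMor.fibreDimAt j q' = 0 :=
    (Groth.Agent.Lib.Helper14.AS.locallyQuasiFinite_iff_fibreDimAt_eq_zero j).mp inferInstance q'
  have hfl : (j.stalkMap q').hom.Flat :=
    RingHom.Flat.of_bijective (ConcreteCategory.bijective_of_isIso (j.stalkMap q'))
  have := Groth.Agent.Lib.Helper14.AS.fibreDimAt_comp_eq j (specMap R S) q' hfl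
  rw [hcomp, h0, zero_add] at this
  exact this



open PrimeSpectrum TensorProduct AlgebraicGeometry CategoryTheory
open Groth.Agent.Lib.Helper12.H12FibDimAlg

variable (R S : Type u) [CommRing R] [CommRing S] [Algebra R S]

/-- the stalks of the scheme-theoretic fibres of `Spec S ⟶ Spec R` are Cohen–Macaulay when the fibre
rings are. -/
theorem isCohenMacaulayLocalRing_stalk_fiber
    (hCM : ∀ p : PrimeSpectrum R, LocCoh.IsCohenMacaulayRing (p.asIdeal.Fiber S))
    (p : PrimeSpectrum R) (t : (specMap R S).fiber p) :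
    LocCoh.IsCohenMacaulayLocalRing (((specMap R S).fiber p).presheaf.stalk t) := by
  let ι : (specMap R S).fiber p ≅ Spec (.of (p.asIdeal.Fiber S)) :=
    Arrow.leftFunc.mapIso (Spec.fiberToSpecResidueFieldIso R S p)
  let y : Spec (.of (p.asIdeal.Fiber S)) := ι.hom t
  haveI : IsIso (ι.hom.stalkMap t) := inferInstance
  let e₁ : (Spec (.of (p.asIdeal.Fiber S))).presheaf.stalk y ≃+*
      ((specMap R S).fiber p).presheaf.stalk t :=
    (asIso (ι.hom.stalkMap t)).commRingCatIsoToRingEquiv
  let e₂ : (Spec (.of (p.asIdeal.Fiber S))).presheaf.stalk y ≃+*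
      Localization.AtPrime y.asIdeal :=
    (AlgebraicGeometry.Spec.stalkIso (CommRingCat.of (p.asIdeal.Fiber S)) y).commRingCatIsoToRingEquiv
  haveI := (hCM p).isCohenMacaulayLocalRing_localization y.asIdeal
  exact Groth.Agent.Lib.Helper18.FibQuot.isCohenMacaulayLocalRing_of_ringEquiv
    (R := Localization.AtPrime y.asIdeal) (e₂.symm.trans e₁)

theorem isCMAt_specMap [Module.Flat R S]
    (hCM : ∀ p : PrimeSpectrum R, LocCoh.IsCohenMacaulayRing (p.asIdeal.Fiber S))
    (x : Spec (.of S)) : MoreMor.IsCMAt (specMap R S) x := by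
  haveI : Flat (specMap R S) := by
    change Flat (Spec.map (CommRingCat.ofHom (algebraMap R S)))
    rw [HasRingHomProperty.Spec_iff (P := @Flat)]
    change (algebraMap R S).Flat
    rw [RingHom.flat_algebraMap_iff]
    infer_instance
  exact ⟨Flat.stalkMap _ _, isCohenMacaulayLocalRing_stalk_fiber R S hCM _ _⟩



open PrimeSpectrum TensorProduct AlgebraicGeometry CategoryTheory
open Groth.Agent.Lib.Helper12.H12FibDimAlg Groth.Agent.Lib.Helper18.FibBridge
open Groth.Agent.Lib.Helper21.ChartPt

variable (R S : Type u) [CommRing R] [CommRing S] [Algebra R S]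

theorem ctr_injective (p : Ideal R) [p.IsPrime] (Q₁ Q₂ : Ideal (p.Fiber S)) [h₁ : Q₁.IsPrime]
    [h₂ : Q₂.IsPrime] (h : ctr p Q₁ = ctr p Q₂) : Q₁ = Q₂ := by
  have h3 : (PrimeSpectrum.preimageEquivFiber R S ⟨p, inferInstance⟩).symm ⟨Q₁, h₁⟩ =
      (PrimeSpectrum.preimageEquivFiber R S ⟨p, inferInstance⟩).symm ⟨Q₂, h₂⟩ := by
    apply Subtype.ext
    apply PrimeSpectrum.ext
    exact h
  have := (PrimeSpectrum.preimageEquivFiber R S ⟨p, inferInstance⟩).symm.injective h3
  exact congrArg PrimeSpectrum.asIdeal this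

/-- the local dimension of the fibre ring at the prime over `q` is the scheme-theoretic local
fibre dimension. -/
theorem localDim_fiber_eq (q : PrimeSpectrum S) (Q : PrimeSpectrum ((q.asIdeal.under R).Fiber S))
    (hQ : Q.asIdeal.comap (Algebra.TensorProduct.includeRight.toRingHom) = q.asIdeal) :
    FlatMor.localDim (PrimeSpectrum ((q.asIdeal.under R).Fiber S)) Q =
      FlatMor.fibreDimAt (specMap R S) q := by
  apply le_antisymm
  · exact (localDim_fiber_le_iff R S _ q).mpr le_rfl Q hQ
  · rw [← localDim_fiber_le_iff R S _ q]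
    intro Q' hQ'
    haveI := Q.2
    haveI := Q'.2
    have : Q'.asIdeal = Q.asIdeal :=
      ctr_injective R S (q.asIdeal.under R) Q'.asIdeal Q.asIdeal (hQ'.trans hQ.symm)
    rw [PrimeSpectrum.ext this]

/-- dimension of an irreducible component of a fibre, in terms of the local fibre dimension. -/
theorem ringKrullDim_fiber_quotient_of_mem_minimalPrimes [Algebra.FiniteType R S]
    (q : Ideal S) [hq : q.IsPrime] (p : Ideal R) [p.IsPrime] (hp : q.under R = p)
    (P : Ideal (p.Fiber S)) [P.IsPrime] (hP : ctr p P = q) (hmin : P ∈ minimalPrimes (p.Fiber S)) :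
    ringKrullDim (p.Fiber S ⧸ P) = FlatMor.fibreDimAt (specMap R S) ⟨q, hq⟩ := by
  subst hp
  haveI : IsNoetherianRing ((q.under R).Fiber S) :=
    Algebra.FiniteType.isNoetherianRing (q.under R).ResidueField _
  obtain ⟨a, ha⟩ := exists_nat_ringKrullDim_quotient_eq (q.under R).ResidueField
    ((q.under R).Fiber S) P
  have h0 : P.height = ((0 : ℕ) : ℕ∞) := by
    rw [Nat.cast_zero]; exact Ideal.height_eq_zero_iff.mpr hmin
  have h1 := Groth.Agent.Lib.Helper23.MiracleQF.localDim_primeSpectrum (q.under R).ResidueField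
    ((q.under R).Fiber S) P a 0 ha h0
  have h2 := localDim_fiber_eq R S ⟨q, hq⟩ ⟨P, inferInstance⟩ hP
  rw [ha, ← h2, h1]
  simp

end Groth.Agent.Lib.Helper23.CMDecomp
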