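import Mathlib
import Groth.Prelude.Def_CAlg
import Groth.Agent.Lib.Helper18.CM4
import Groth.Agent.Lib.Helper16.CMHeightFormula
import Groth.Agent.Lib.Helper21.ChartPt5

/-!
CM + equidimensional finite type algebras over a field (helper23): equidim_formula (ht q + dim S/q = d), isRegular_iff_ringKrullDim (CM local: regular iff dimension drops by length), ringKrullDim_le_quot_ofList_add_length, ofList_map, le_height_of_le / le_height.
-/

set_option autoImplicit false
universe u
open IsLocalRing RingTheory.Sequence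

namespace Groth.Agent.Lib.Helper23.CMEquidim


open Groth.Agent.Lib.Helper18.CM Groth.Agent.Lib.Helper21.ChartPt

/-- **Dimension formula in equidimensional finite type algebras over a field.** -/
theorem equidim_formula (k S : Type u) [Field k] [CommRing S] [Algebra k S]
    [Algebra.FiniteType k S] (d : ℕ)
    (heq : ∀ p ∈ minimalPrimes S, ringKrullDim (S ⧸ p) = d) (q : Ideal S) [hq : q.IsPrime] :
    ∃ a b : ℕ, ringKrullDim (S ⧸ q) = a ∧ q.height = b ∧ a + b = d := by
  haveI : IsNoetherianRing S := Algebra.FiniteType.isNoetherianRing k S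
  obtain ⟨a, ha⟩ := exists_nat_ringKrullDim_quotient_eq k S q
  obtain ⟨p₀, hp₀, hp₀q, hht⟩ := exists_le_height_map_mk_eq q
  obtain ⟨p₁, hp₁min, hp₁p₀⟩ := Ideal.exists_minimalPrimes_le (bot_le : (⊥ : Ideal S) ≤ p₀)
  haveI hp₁ : p₁.IsPrime := hp₁min.1.1
  have hp₁' : p₁ ∈ minimalPrimes S := hp₁min
  have hd := heq p₁ hp₁'
  obtain ⟨n₀, hn₀⟩ := exists_nat_ringKrullDim_quotient_eq k S p₀
  obtain ⟨c₁, hc₁, e₁⟩ := exists_nat_height_map_mk k S p₁ q (hp₁p₀.trans hp₀q) d a hd ha
  obtain ⟨c₂, hc₂, e₂⟩ := exists_nat_height_map_mk k S p₁ p₀ hp₁p₀ d n₀ hd hn₀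
  obtain ⟨c₃, hc₃, e₃⟩ := exists_nat_height_map_mk k S p₀ q hp₀q n₀ a hn₀ ha
  have h1 : (c₁ : ℕ∞) ≤ q.height := by
    rw [← hc₁]; exact height_map_mk_le p₁ q (hp₁p₀.trans hp₀q)
  rw [hht] at hc₃
  refine ⟨a, c₃, ha, hc₃, ?_⟩
  rw [hc₃] at h1
  have h1' : c₁ ≤ c₃ := by exact_mod_cast h1
  omega

variable {L : Type u} [CommRing L] [IsLocalRing L] [IsNoetherianRing L]

/-- a sequence in the maximal ideal of a Cohen–Macaulay local ring is regular iff it cuts down the
dimension by its length. -/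
theorem isRegular_iff_ringKrullDim (hCM : LocCoh.IsCohenMacaulayModule L L) (xs : List L)
    (hxs : ∀ x ∈ xs, x ∈ maximalIdeal L) :
    IsRegular L xs ↔ ringKrullDim (L ⧸ Ideal.ofList xs) + xs.length = ringKrullDim L := by
  obtain ⟨hiff, -⟩ := isWeaklyRegular_iff_supportDim_and_isCohenMacaulayModule xs hxs L hCM
  let e : (L ⧸ (Ideal.ofList xs • ⊤ : Submodule L L)) ≃ₗ[L] (L ⧸ Ideal.ofList xs) :=
    Submodule.quotEquivOfEq _ _ (by simp)
  have hsd : Module.supportDim L (L ⧸ (Ideal.ofList xs • ⊤ : Submodule L L)) =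
      ringKrullDim (L ⧸ Ideal.ofList xs) := by
    rw [Module.supportDim_eq_of_equiv e, Module.supportDim_quotient_eq_ringKrullDim]
  rw [hsd, Module.supportDim_self_eq_ringKrullDim] at hiff
  rw [← hiff]
  constructor
  · intro h; exact h.toIsWeaklyRegular
  · intro h
    refine ⟨h, ?_⟩
    intro htop
    have hle : Ideal.ofList xs ≤ maximalIdeal L := by
      rw [Ideal.ofList, Ideal.span_le]; exact fun x hx => hxs x hx
    have : (Ideal.ofList xs • ⊤ : Submodule L L) ≤ maximalIdeal L := by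
      rw [smul_eq_mul, Ideal.mul_top]; exact hle
    rw [← htop] at this
    exact (maximalIdeal.isMaximal L).ne_top (top_le_iff.mp this)



open Groth.Agent.Lib.Helper18.CM Groth.Agent.Lib.Helper21.ChartPt
open Groth.Agent.Lib.Helper16.CMHt

theorem ringKrullDim_le_quot_ofList_add_length {L : Type u} [CommRing L] [IsLocalRing L]
    [IsNoetherianRing L] (xs : List L) (hxs : ∀ x ∈ xs, x ∈ maximalIdeal L) :
    ringKrullDim L ≤ ringKrullDim (L ⧸ Ideal.ofList xs) + xs.length := by
  have h := supportDim_le_quot_ofList_add_length xs hxs L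
  let e : (L ⧸ (Ideal.ofList xs • ⊤ : Submodule L L)) ≃ₗ[L] (L ⧸ Ideal.ofList xs) :=
    Submodule.quotEquivOfEq _ _ (by simp)
  rwa [Module.supportDim_eq_of_equiv e, Module.supportDim_quotient_eq_ringKrullDim,
    Module.supportDim_self_eq_ringKrullDim] at h

theorem ofList_map {S A : Type u} [CommRing S] [CommRing A] (φ : S →+* A) (f : List S) :
    Ideal.ofList (f.map φ) = (Ideal.ofList f).map φ := by
  rw [Ideal.ofList, Ideal.ofList, Ideal.map_span]
  congr 1
  ext x
  simp only [List.mem_map, Set.mem_ofPred_eq, Set.mem_image]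

theorem ofList_eq_span_toFinset {S : Type u} [CommRing S] [DecidableEq S] (f : List S) :
    Ideal.ofList f = Ideal.span (f.toFinset : Set S) := by
  rw [Ideal.ofList]
  congr 1
  ext x
  simp



open Groth.Agent.Lib.Helper18.CM Groth.Agent.Lib.Helper21.ChartPt
open Groth.Agent.Lib.Helper16.CMHt

section

variable (k S : Type u) [Field k] [CommRing S] [Algebra k S]
    [Algebra.FiniteType k S] (d : ℕ)
    (heq : ∀ p ∈ minimalPrimes S, ringKrullDim (S ⧸ p) = d) (I : Ideal S) (i : ℕ)
    (hle : ringKrullDim (S ⧸ I) ≤ ((d - i : ℕ) : WithBot ℕ∞)) (hi : i ≤ d)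

include k heq hle hi

/-- every prime containing `I` has height at least `i`. -/
theorem le_height_of_le (P : Ideal S) [P.IsPrime] (hIP : I ≤ P) : (i : ℕ∞) ≤ P.height := by
  obtain ⟨a, b, ha, hb, hab⟩ := equidim_formula k S d heq P
  have h1 : ringKrullDim (S ⧸ P) ≤ ringKrullDim (S ⧸ I) :=
    ringKrullDim_le_of_surjective (Ideal.Quotient.factor hIP)
      (Ideal.Quotient.factor_surjective hIP)
  rw [ha] at h1
  have h2 : (a : WithBot ℕ∞) ≤ ((d - i : ℕ) : WithBot ℕ∞) := h1.trans hle
  have h3 : a ≤ d - i := by exact_mod_cast h2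
  rw [hb]
  have : i ≤ b := by omega
  exact_mod_cast this

theorem le_height : (i : ℕ∞) ≤ I.height := by
  rw [Ideal.height_eq_inf_minimalPrimes]
  refine le_iInf₂ fun P hP => ?_
  haveI := hP.1.1
  exact le_height_of_le k S d heq I i hle hi P hP.1.2

end

end Groth.Agent.Lib.Helper23.CMEquidim
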