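import Mathlib
import Groth.Prelude.Def_EGA4b
import Groth.Agent.Lib.Helper16.SyntStr1
import Groth.Agent.Lib.Helper18.FibBridge
import Groth.Agent.Lib.Helper18.FibQuot
import Groth.Agent.Lib.Helper23.MiracleQF
import Groth.Agent.Lib.Helper23.CMEquidim
import Groth.Agent.Lib.Helper12.FibDimAlg
import Groth.Agent.Lib.Helper21.FibDim2

/-!
Fibre local rings and regular sequences with Cohen-Macaulay fibres (helper23): nonempty_fibLocRing_quotient_equiv (FibLocRing A (B/I) q' = FibLocRing A B q / I), fibQuot (kappa(p) (x) S -> kappa(p) (x) S/I), ctr_comap_fibQuot, nonempty_quotient_equiv, ringKrullDim_fibLocRing (no Noetherian hyp), isRegular_fibLocRing_iff / isRegular_fibLocRing_iff' (f regular in the fibre local ring at q iff dim_q' of the fibre of S/(f) plus length f is at most d, for CM equidimensional fibres), exists_nat_localDim_fiber.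
-/

set_option autoImplicit false
universe u
open IsLocalRing
open IsLocalRing TensorProduct
open IsLocalRing TensorProduct RingTheory.Sequence

namespace Groth.Agent.Lib.Helper23.CMFibReg


open Groth.Agent.Lib.Helper16.SyntStr

variable (A B : Type u) [CommRing A] [CommRing B] [Algebra A B]

/-- the fibre local ring of `B ⧸ I` at `q'` is the quotient of the fibre local ring of `B` at `q`
by the image of `I`. -/
theorem nonempty_fibLocRing_quotient_equiv (I : Ideal B) (q : Ideal B) [q.IsPrime]
    (q' : Ideal (B ⧸ I)) [q'.IsPrime] (hq' : q = q'.comap (Ideal.Quotient.mk I)) :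
    Nonempty (EGA4.FibLocRing A (B ⧸ I) q' ≃+*
      (EGA4.FibLocRing A B q ⧸ I.map (algebraMap B (EGA4.FibLocRing A B q)))) := by
  set Bq := Localization.AtPrime q
  set B'q := Localization.AtPrime q'
  set p := q.comap (algebraMap A B) with hp
  have hp' : q'.comap (algebraMap A (B ⧸ I)) = p := by
    rw [hp, hq', Ideal.comap_comap]
    rfl
  let φ : Bq →+* B'q := Localization.localRingHom q q' (Ideal.Quotient.mk I) hq'
  have hφs : Function.Surjective φ :=
    localRingHom_surjective (Ideal.Quotient.mk I) Ideal.Quotient.mk_surjective q q' hq'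
  have hφk : RingHom.ker φ = I.map (algebraMap B Bq) := by
    have := ker_localRingHom (Ideal.Quotient.mk I) Ideal.Quotient.mk_surjective q q' hq'
    rw [Ideal.mk_ker] at this
    exact this
  have hφA : φ.comp (algebraMap A Bq) = algebraMap A B'q := by
    ext a
    simp only [RingHom.comp_apply, φ]
    rw [IsScalarTower.algebraMap_apply A B Bq, Localization.localRingHom_to_map,
      IsScalarTower.algebraMap_apply A (B ⧸ I) B'q]
    rfl
  -- the two surjections from `Bq`
  let J₁ : Ideal B'q := (q'.comap (algebraMap A (B ⧸ I))).map (algebraMap A B'q)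
  let ψ₁ : Bq →+* EGA4.FibLocRing A (B ⧸ I) q' := (Ideal.Quotient.mk J₁).comp φ
  have hψ₁s : Function.Surjective ψ₁ := Ideal.Quotient.mk_surjective.comp hφs
  let J₂ : Ideal Bq := p.map (algebraMap A Bq)
  let K₂ : Ideal (EGA4.FibLocRing A B q) := I.map (algebraMap B (EGA4.FibLocRing A B q))
  let ψ₂ : Bq →+* (EGA4.FibLocRing A B q ⧸ K₂) :=
    (Ideal.Quotient.mk K₂).comp (Ideal.Quotient.mk J₂)
  have hψ₂s : Function.Surjective ψ₂ :=
    Ideal.Quotient.mk_surjective.comp Ideal.Quotient.mk_surjective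
  have hk₁ : RingHom.ker ψ₁ = J₂ ⊔ I.map (algebraMap B Bq) := by
    change RingHom.ker ((Ideal.Quotient.mk J₁).comp φ) = _
    rw [← RingHom.comap_ker, Ideal.mk_ker]
    have : J₁ = J₂.map φ := by
      change (q'.comap (algebraMap A (B ⧸ I))).map (algebraMap A B'q) = (p.map (algebraMap A Bq)).map φ
      rw [hp', Ideal.map_map, hφA]
    rw [this, Ideal.comap_map_of_surjective' φ hφs, hφk]
  have hk₂ : RingHom.ker ψ₂ = J₂ ⊔ I.map (algebraMap B Bq) := by
    change RingHom.ker ((Ideal.Quotient.mk K₂).comp (Ideal.Quotient.mk J₂)) = _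
    rw [← RingHom.comap_ker, Ideal.mk_ker]
    have : K₂ = (I.map (algebraMap B Bq)).map (Ideal.Quotient.mk J₂) := by
      change I.map (algebraMap B (EGA4.FibLocRing A B q)) = _
      rw [Ideal.map_map]
      rfl
    rw [this, Ideal.comap_map_of_surjective' _ Ideal.Quotient.mk_surjective, Ideal.mk_ker, sup_comm]
  exact ⟨(RingHom.quotientKerEquivOfSurjective hψ₁s).symm.trans
    ((Ideal.quotEquivOfEq (hk₁.trans hk₂.symm)).trans
      (RingHom.quotientKerEquivOfSurjective hψ₂s))⟩



open Groth.Agent.Lib.Helper18.FibBridge Groth.Agent.Lib.Helper23.CMEquidim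

variable (R S : Type u) [CommRing R] [CommRing S] [Algebra R S]

section quot

variable (p : Ideal R) [p.IsPrime] (I : Ideal S)

/-- the surjection of fibre rings induced by `S → S ⧸ I`. -/
noncomputable def fibQuot : p.Fiber S →ₐ[p.ResidueField] p.Fiber (S ⧸ I) :=
  Algebra.TensorProduct.map (AlgHom.id p.ResidueField p.ResidueField) (Ideal.Quotient.mkₐ R I)

theorem fibQuot_surjective : Function.Surjective (fibQuot R S p I) := by
  unfold fibQuot
  exact Algebra.TensorProduct.map_surjective (f := AlgHom.id p.ResidueField p.ResidueField)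
    (g := Ideal.Quotient.mkₐ R I) Function.surjective_id (Ideal.Quotient.mkₐ_surjective R I)

theorem fibQuot_includeRight (s : S) :
    fibQuot R S p I ((Algebra.TensorProduct.includeRight : S →ₐ[R] p.Fiber S) s) =
      (Algebra.TensorProduct.includeRight : (S ⧸ I) →ₐ[R] p.Fiber (S ⧸ I)) (Ideal.Quotient.mk I s) := by
  simp [fibQuot]

theorem ctr_comap_fibQuot (Q' : Ideal (p.Fiber (S ⧸ I))) [Q'.IsPrime] :
    ctr p (Q'.comap (fibQuot R S p I)) = (ctr p Q').comap (Ideal.Quotient.mk I) := by
  ext s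
  simp only [ctr, Ideal.mem_comap]
  rw [fibQuot_includeRight]

theorem nonempty_quotient_equiv (Q' : Ideal (p.Fiber (S ⧸ I))) [Q'.IsPrime] :
    Nonempty ((p.Fiber S ⧸ Q'.comap (fibQuot R S p I)) ≃+* (p.Fiber (S ⧸ I) ⧸ Q')) := by
  let ψ : p.Fiber S →+* (p.Fiber (S ⧸ I) ⧸ Q') :=
    (Ideal.Quotient.mk Q').comp (fibQuot R S p I).toRingHom
  have hψ : Function.Surjective ψ :=
    Ideal.Quotient.mk_surjective.comp (fibQuot_surjective R S p I)
  have hk : RingHom.ker ψ = Q'.comap (fibQuot R S p I) := by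
    change RingHom.ker ((Ideal.Quotient.mk Q').comp (fibQuot R S p I).toRingHom) = _
    rw [← RingHom.comap_ker, Ideal.mk_ker]
    rfl
  exact ⟨(Ideal.quotEquivOfEq hk.symm).trans (RingHom.quotientKerEquivOfSurjective hψ)⟩

end quot



open Groth.Agent.Lib.Helper18.FibBridge Groth.Agent.Lib.Helper23.CMEquidim
open Groth.Agent.Lib.Helper21.ChartPt

variable (R S : Type u) [CommRing R] [CommRing S] [Algebra R S]

section basic

variable (p : Ideal R) [p.IsPrime]

/-- dimension of the fibre local ring (no Noetherian hypothesis). -/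
theorem ringKrullDim_fibLocRing (Q : Ideal (p.Fiber S)) [Q.IsPrime] :
    ringKrullDim (EGA4.FibLocRing R S (ctr p Q)) = (Q.height : WithBot ℕ∞) := by
  obtain ⟨e⟩ := nonempty_ringEquiv p Q
  rw [← ringKrullDim_eq_of_ringEquiv e,
    IsLocalization.AtPrime.ringKrullDim_eq_height Q (Localization.AtPrime Q)]

end basic

section core

variable [Algebra.FiniteType R S] (d : ℕ) (p : Ideal R) [p.IsPrime]

/-- **Core criterion**: regularity of `f` in the fibre local ring at `q ⊇ (f)` in terms of the local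
dimension of the fibre of `S ⧸ (f)`. -/
theorem isRegular_fibLocRing_iff (hCM : LocCoh.IsCohenMacaulayRing (p.Fiber S))
    (heq : ∀ P ∈ minimalPrimes (p.Fiber S), ringKrullDim (p.Fiber S ⧸ P) = (d : WithBot ℕ∞))
    (f : List S) (Q' : Ideal (p.Fiber (S ⧸ Ideal.ofList f))) [hQ' : Q'.IsPrime]
    (q : Ideal S) [hq : q.IsPrime] (hqQ : q = ctr p (Q'.comap (fibQuot R S p (Ideal.ofList f))))
    (n' : ℕ)
    (hn' : FlatMor.localDim (PrimeSpectrum (p.Fiber (S ⧸ Ideal.ofList f))) ⟨Q', hQ'⟩ = n') :
    IsRegular (EGA4.FibLocRing R S q) (f.map (algebraMap S (EGA4.FibLocRing R S q))) ↔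
      n' + f.length ≤ d := by
  subst hqQ
  let I := Ideal.ofList f
  let k := p.ResidueField
  let F := p.Fiber S
  let F' := p.Fiber (S ⧸ I)
  set Q : Ideal F := Q'.comap (fibQuot R S p I) with hQ
  haveI : Q.IsPrime := Ideal.comap_isPrime _ _
  haveI : IsNoetherianRing F := Algebra.FiniteType.isNoetherianRing k F
  haveI : IsNoetherianRing F' := Algebra.FiniteType.isNoetherianRing k F'
  set L := EGA4.FibLocRing R S (ctr p Q) with hL
  obtain ⟨e⟩ := nonempty_ringEquiv p Q
  haveI : IsNoetherianRing (Localization.AtPrime Q) :=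
    IsLocalization.isNoetherianRing Q.primeCompl _ inferInstance
  haveI : IsNoetherianRing L := isNoetherianRing_of_ringEquiv _ e
  haveI : IsLocalRing L := e.isLocalRing
  haveI := hCM.isCohenMacaulayLocalRing_localization Q
  have hCML : LocCoh.IsCohenMacaulayLocalRing L :=
    Groth.Agent.Lib.Helper18.FibQuot.isCohenMacaulayLocalRing_of_ringEquiv
      (R := Localization.AtPrime Q) e
  have hCMmod : LocCoh.IsCohenMacaulayModule L L := hCML.supportDim_eq_depth
  -- numerics on the `S` side
  obtain ⟨a, h, ha, hh, hah⟩ := equidim_formula k F d heq Q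
  have hdimL : ringKrullDim L = (h : WithBot ℕ∞) := by
    show ringKrullDim (EGA4.FibLocRing R S (ctr p Q)) = _
    rw [ringKrullDim_fibLocRing, hh]; rfl
  -- numerics on the `S ⧸ I` side
  obtain ⟨a', ha'⟩ := exists_nat_ringKrullDim_quotient_eq k F' Q'
  have hfin : Q'.height ≠ ⊤ := Ideal.height_ne_top hQ'.ne_top
  obtain ⟨h', hh'⟩ := ENat.ne_top_iff_exists.mp hfin
  have hloc := Groth.Agent.Lib.Helper23.MiracleQF.localDim_primeSpectrum k F' Q' a' h' ha' hh'.symm
  rw [hn'] at hloc
  have hn'eq : n' = a' + h' := by exact_mod_cast hloc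
  have haa' : a = a' := by
    obtain ⟨e'⟩ := nonempty_quotient_equiv R S p I Q'
    have := ringKrullDim_eq_of_ringEquiv (R := p.Fiber S ⧸ Q'.comap (fibQuot R S p I))
      (S := p.Fiber (S ⧸ I) ⧸ Q') e'
    rw [ha', ← hQ, ha] at this
    exact_mod_cast this
  -- the quotient of `L` by `f`
  set xs := f.map (algebraMap S L) with hxs_def
  have hofList : Ideal.ofList xs = I.map (algebraMap S L) := ofList_map _ f
  have hqq' : ctr p Q = (ctr p Q').comap (Ideal.Quotient.mk I) := ctr_comap_fibQuot R S p I Q'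
  obtain ⟨e₂⟩ := nonempty_fibLocRing_quotient_equiv R S I (ctr p Q) (ctr p Q') hqq'
  have hdimq : ringKrullDim (L ⧸ Ideal.ofList xs) = (h' : WithBot ℕ∞) := by
    rw [← ringKrullDim_eq_of_ringEquiv (R := L ⧸ I.map (algebraMap S L))
        (S := L ⧸ Ideal.ofList xs) (Ideal.quotEquivOfEq hofList.symm),
      ← ringKrullDim_eq_of_ringEquiv (R := EGA4.FibLocRing R (S ⧸ I) (ctr p Q'))
        (S := L ⧸ I.map (algebraMap S L)) e₂, ringKrullDim_fibLocRing, ← hh']
    rfl
  have hxs : ∀ x ∈ xs, x ∈ maximalIdeal L := by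
    intro x hx
    rw [hxs_def, List.mem_map] at hx
    obtain ⟨y, hy, rfl⟩ := hx
    have hyq : y ∈ ctr p Q := by
      rw [hqq']
      rw [Ideal.mem_comap]
      have : Ideal.Quotient.mk I y = 0 := Ideal.Quotient.eq_zero_iff_mem.mpr (Ideal.subset_span hy)
      rw [this]; exact Ideal.zero_mem _
    rw [IsScalarTower.algebraMap_apply S (Localization.AtPrime (ctr p Q)) L]
    have h1 : algebraMap S (Localization.AtPrime (ctr p Q)) y ∈
        maximalIdeal (Localization.AtPrime (ctr p Q)) :=
      (IsLocalization.AtPrime.to_map_mem_maximal_iff _ (ctr p Q) y).mpr hyq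
    by_contra hcon
    have hu : IsUnit (algebraMap (Localization.AtPrime (ctr p Q)) L
        (algebraMap S (Localization.AtPrime (ctr p Q)) y)) := by
      by_contra hnu
      exact hcon ((IsLocalRing.mem_maximalIdeal _).mpr hnu)
    haveI : IsLocalHom (algebraMap (Localization.AtPrime (ctr p Q)) L) :=
      IsLocalHom.of_surjective _ Ideal.Quotient.mk_surjective
    exact ((IsLocalRing.mem_maximalIdeal _).mp h1) (isUnit_of_map_unit _ _ hu)
  have hlen : xs.length = f.length := List.length_map _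
  rw [isRegular_iff_ringKrullDim hCMmod xs hxs, hdimq, hdimL, hlen]
  have hge := ringKrullDim_le_quot_ofList_add_length xs hxs
  rw [hdimq, hdimL, hlen] at hge
  have hge' : h ≤ h' + f.length := by exact_mod_cast hge
  constructor
  · intro heq'
    have : h' + f.length = h := by exact_mod_cast heq'
    omega
  · intro hle
    have : h' + f.length = h := by omega
    exact_mod_cast this

end core



open Groth.Agent.Lib.Helper18.FibBridge Groth.Agent.Lib.Helper23.CMEquidim
open Groth.Agent.Lib.Helper21.ChartPt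

variable (R S : Type u) [CommRing R] [CommRing S] [Algebra R S]

section core

variable [Algebra.FiniteType R S] (d : ℕ) (p : Ideal R) [p.IsPrime]

theorem exists_nat_localDim_fiber (Q : Ideal (p.Fiber S)) [hQ : Q.IsPrime] :
    ∃ n : ℕ, FlatMor.localDim (PrimeSpectrum (p.Fiber S)) ⟨Q, hQ⟩ = n := by
  haveI : IsNoetherianRing (p.Fiber S) := Algebra.FiniteType.isNoetherianRing p.ResidueField _
  obtain ⟨a, ha⟩ := exists_nat_ringKrullDim_quotient_eq p.ResidueField (p.Fiber S) Q
  have hfin : Q.height ≠ ⊤ := Ideal.height_ne_top hQ.ne_top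
  obtain ⟨h, hh⟩ := ENat.ne_top_iff_exists.mp hfin
  exact ⟨a + h, Groth.Agent.Lib.Helper23.MiracleQF.localDim_primeSpectrum p.ResidueField
    (p.Fiber S) Q a h ha hh.symm⟩

theorem isRegular_fibLocRing_iff' (hCM : LocCoh.IsCohenMacaulayRing (p.Fiber S))
    (heq : ∀ P ∈ minimalPrimes (p.Fiber S), ringKrullDim (p.Fiber S ⧸ P) = (d : WithBot ℕ∞))
    (f : List S) (Q' : Ideal (p.Fiber (S ⧸ Ideal.ofList f))) [hQ' : Q'.IsPrime]
    (q : Ideal S) [hq : q.IsPrime] (hqQ : q = (ctr p Q').comap (Ideal.Quotient.mk (Ideal.ofList f))) :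
    IsRegular (EGA4.FibLocRing R S q) (f.map (algebraMap S (EGA4.FibLocRing R S q))) ↔
      FlatMor.localDim (PrimeSpectrum (p.Fiber (S ⧸ Ideal.ofList f))) ⟨Q', hQ'⟩ +
        (f.length : WithBot ℕ∞) ≤ (d : WithBot ℕ∞) := by
  haveI : Algebra.FiniteType R (S ⧸ Ideal.ofList f) :=
    Algebra.FiniteType.of_surjective (Ideal.Quotient.mkₐ R _) (Ideal.Quotient.mkₐ_surjective R _)
  obtain ⟨n', hn'⟩ := exists_nat_localDim_fiber R (S ⧸ Ideal.ofList f) p Q'
  rw [isRegular_fibLocRing_iff R S d p hCM heq f Q' q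
    (hqQ.trans (ctr_comap_fibQuot R S p (Ideal.ofList f) Q').symm) n' hn', hn']
  constructor
  · intro h; exact_mod_cast h
  · intro h; exact_mod_cast h

end core

end Groth.Agent.Lib.Helper23.CMFibReg
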