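import Mathlib
import Groth.Agent.Lib.Helper23.FieldSmooth
import Groth.Agent.Lib.Helper18.CatHt
import Groth.Agent.Lib.Helper23.SmoothField
import Groth.Agent.Lib.Helper18.Exc2
import Groth.Agent.Lib.Helper25.RegularSmooth

/-!
Characteristic zero: free differentials <=> smooth (Stacks 00TW/00TX; S5000, helper23). torsIdeal / isSMulRegular_of_derivation (Noetherian local algebra over a char 0 field, derivation D with D f = 1, f in m => f is a nonzerodivisor), kerCotangentToTensor_injective (m/m^2 -> k(m) (x) Omega injective when residue field formally smooth), one_tmul_D_ne_zero, exists_functional_eq_one, mem_ker_mapBaseChange / projective_kaehler_quotient (Omega of R/(f) projective when some functional takes df to 1), regular_of_le_sq, step, regular_of_free (Noetherian local k-algebra, char 0, Omega finite free => regular), t5000.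
-/

set_option autoImplicit false
set_option linter.style.haveILetI false
set_option linter.unusedSectionVars false


namespace Groth.Agent.Lib.Helper23.Char0Free

section

open TensorProduct KaehlerDifferential IsLocalRing
universe u

section nzd
variable {k R : Type u} [Field k] [CharZero k] [CommRing R] [Algebra k R]

/-- the `f`-power torsion ideal -/
def torsIdeal (f : R) : Ideal R where
  carrier := {x | ∃ n : ℕ, f ^ n * x = 0}
  add_mem' := by
    rintro a b ⟨n, hn⟩ ⟨m, hm⟩
    refine ⟨n + m, ?_⟩
    have : f ^ (n + m) * (a + b) = f ^ m * (f ^ n * a) + f ^ n * (f ^ m * b) := by ring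
    rw [this, hn, hm, mul_zero, mul_zero, add_zero]
  zero_mem' := ⟨0, by simp⟩
  smul_mem' := by
    rintro c x ⟨n, hn⟩
    exact ⟨n, by rw [smul_eq_mul, mul_left_comm, hn, mul_zero]⟩

theorem mem_torsIdeal {f x : R} : x ∈ torsIdeal f ↔ ∃ n : ℕ, f ^ n * x = 0 := Iff.rfl

include k in
theorem isUnit_natCast_succ [Nontrivial R] (n : ℕ) : IsUnit ((n + 1 : ℕ) : R) := by
  have h : ((n + 1 : ℕ) : R) = algebraMap k R ((n + 1 : ℕ) : k) := by simp
  rw [h]
  exact (IsUnit.mk0 _ (Nat.cast_ne_zero.mpr (Nat.succ_ne_zero n))).map _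

theorem deriv_mem_torsIdeal (D : Derivation k R R) (f : R) (hf : D f = 1) {x : R} {n : ℕ}
    (hx : f ^ n * x = 0) : f ^ (n + 1) * D x = 0 := by
  have h1 : D (f ^ (n + 1) * x) = 0 := by
    rw [pow_succ, mul_assoc, mul_comm f x, ← mul_assoc, hx, zero_mul, map_zero]
  rw [Derivation.leibniz, Derivation.leibniz_pow, hf] at h1
  simp only [smul_eq_mul, Nat.add_sub_cancel, mul_one, nsmul_eq_mul] at h1
  have h2 : x * (((n + 1 : ℕ) : R) * f ^ n) = 0 := by
    rw [mul_comm x, mul_assoc, hx, mul_zero]
  rw [h2, add_zero] at h1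
  exact h1

theorem mem_smul_torsIdeal [Nontrivial R] (D : Derivation k R R) (f : R) (hf : D f = 1) :
    ∀ (n : ℕ) (x : R), f ^ n * x = 0 → x ∈ Ideal.span {f} * torsIdeal f := by
  intro n
  induction n with
  | zero =>
    intro x hx
    rw [pow_zero, one_mul] at hx
    rw [hx]
    exact Ideal.zero_mem _
  | succ n ih =>
    intro x hx
    have h1 : D (f ^ (n + 1) * x) = 0 := by rw [hx, map_zero]
    rw [Derivation.leibniz, Derivation.leibniz_pow, hf] at h1
    simp only [smul_eq_mul, Nat.add_sub_cancel, mul_one, nsmul_eq_mul] at h1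
    -- f^n * ((n+1) x + f D x) = 0
    have h2 : f ^ n * (((n + 1 : ℕ) : R) * x + f * D x) = 0 := by
      rw [← h1]; ring
    have h3 := ih _ h2
    have h4 : f * D x ∈ Ideal.span {f} * torsIdeal f :=
      Ideal.mul_mem_mul (Ideal.mem_span_singleton_self f)
        ⟨n + 2, deriv_mem_torsIdeal D f hf hx⟩
    have h5 : ((n + 1 : ℕ) : R) * x ∈ Ideal.span {f} * torsIdeal f := by
      have := Ideal.sub_mem _ h3 h4
      rwa [add_sub_cancel_right] at this
    obtain ⟨u, hu⟩ := isUnit_natCast_succ (k := k) (R := R) n
    have h6 : x = (↑u⁻¹ : R) * (((n + 1 : ℕ) : R) * x) := by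
      rw [← hu, ← mul_assoc, Units.inv_mul, one_mul]
    rw [h6]
    exact Ideal.mul_mem_left _ _ h5

theorem isSMulRegular_of_derivation [IsLocalRing R] [IsNoetherianRing R]
    (D : Derivation k R R) (f : R) (hfm : f ∈ maximalIdeal R) (hf : D f = 1) :
    IsSMulRegular R f := by
  have hK : torsIdeal f ≤ Ideal.span {f} • (torsIdeal f : Submodule R R) := by
    rintro x ⟨n, hn⟩
    exact mem_smul_torsIdeal (k := k) D f hf n x hn
  have hbot : (torsIdeal f : Submodule R R) = ⊥ :=
    Submodule.eq_bot_of_le_smul_of_le_jacobson_bot (Ideal.span {f}) _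
      (IsNoetherian.noetherian _) hK (by
        rw [IsLocalRing.jacobson_eq_maximalIdeal ⊥ bot_ne_top]
        exact (Ideal.span_singleton_le_iff_mem _).mpr hfm)
  intro a b hab
  have : a - b ∈ torsIdeal f := ⟨1, by
    simp only [smul_eq_mul] at hab
    rw [pow_one, mul_sub, hab, sub_self]⟩
  rw [hbot, Submodule.mem_bot, sub_eq_zero] at this
  exact this

end nzd


end

section

open TensorProduct KaehlerDifferential IsLocalRing
universe u

section cot
variable (k R : Type u) [Field k] [CommRing R] [Algebra k R] [IsLocalRing R]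

/-- `m/m² → κ ⊗ Ω_{R/k}` is injective when `κ/k` is formally smooth -/
theorem kerCotangentToTensor_injective [Algebra.FormallySmooth k (ResidueField R)] :
    Function.Injective (kerCotangentToTensor k R (ResidueField R)) := by
  have hf : Function.Surjective (algebraMap R (ResidueField R)) := IsLocalRing.residue_surjective
  let π := (IsScalarTower.toAlgHom k R (ResidueField R)).kerSquareLift
  have hπ : Function.Surjective π := by
    intro c
    obtain ⟨r, rfl⟩ := hf c
    exact ⟨Ideal.Quotient.mk _ r, rfl⟩
  have hnil : IsNilpotent (RingHom.ker (π : (R ⧸ RingHom.ker (IsScalarTower.toAlgHom k R (ResidueField R)).toRingHom ^ 2) →+* ResidueField R)) := by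
    refine ⟨2, ?_⟩
    have := AlgHom.ker_kerSquareLift (IsScalarTower.toAlgHom k R (ResidueField R))
    rw [Ideal.zero_eq_bot]
    exact (congrArg (· ^ 2) this).trans (Ideal.cotangentIdeal_square _)
  let g : ResidueField R →ₐ[k] _ :=
    Algebra.FormallySmooth.liftOfSurjective (AlgHom.id k (ResidueField R)) π hπ hnil
  have hg : π.comp g = AlgHom.id k (ResidueField R) :=
    Algebra.FormallySmooth.comp_liftOfSurjective _ _ hπ hnil
  let l := (retractionKerCotangentToTensorEquivSection (R := k) hf).symm ⟨g, hg⟩
  exact Function.HasLeftInverse.injective ⟨l.1, LinearMap.congr_fun l.2⟩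

theorem one_tmul_D_ne_zero [Algebra.FormallySmooth k (ResidueField R)] (f : R)
    (hfm : f ∈ maximalIdeal R) (hf2 : f ∉ maximalIdeal R ^ 2) :
    (1 : ResidueField R) ⊗ₜ[R] D k R f ≠ 0 := by
  have hker : RingHom.ker (algebraMap R (ResidueField R)) = maximalIdeal R :=
    IsLocalRing.ker_residue
  have hfk : f ∈ RingHom.ker (algebraMap R (ResidueField R)) := by rw [hker]; exact hfm
  intro h0
  have h1 : kerCotangentToTensor k R (ResidueField R)
      (Ideal.toCotangent _ ⟨f, hfk⟩) = 0 := by
    rw [kerCotangentToTensor_toCotangent]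
    exact h0
  have h2 := kerCotangentToTensor_injective k R (h1.trans (map_zero _).symm)
  rw [Ideal.toCotangent_eq_zero] at h2
  have h3 : f ∈ RingHom.ker (algebraMap R (ResidueField R)) ^ 2 := h2
  rw [hker] at h3
  exact hf2 h3

end cot

section coord
variable {R : Type u} [CommRing R] [IsLocalRing R]
variable {M : Type u} [AddCommGroup M] [Module R M] [Module.Free R M] [Module.Finite R M]

/-- an element of a finite free module over a local ring with nonzero image in the fibre has a
coordinate functional taking the value `1` on it -/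
theorem exists_functional_eq_one (x : M) (hx : (1 : ResidueField R) ⊗ₜ[R] x ≠ 0) :
    ∃ φ : M →ₗ[R] R, φ x = 1 := by
  classical
  let b := Module.Free.chooseBasis R M
  by_contra hcon
  push_neg at hcon
  apply hx
  have hcoord : ∀ i, b.repr x i ∈ maximalIdeal R := by
    intro i
    by_contra hi
    have hu : IsUnit (b.repr x i) := by
      by_contra hnu
      exact hi ((IsLocalRing.mem_maximalIdeal _).mpr hnu)
    obtain ⟨u, hu⟩ := hu
    apply hcon ((↑u⁻¹ : R) • b.coord i)
    rw [LinearMap.smul_apply, Module.Basis.coord_apply, ← hu, smul_eq_mul, Units.inv_mul]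
  have hsum : x = ∑ i, b.repr x i • b i := (b.sum_repr x).symm
  rw [hsum, TensorProduct.tmul_sum]
  refine Finset.sum_eq_zero fun i _ => ?_
  have : algebraMap R (ResidueField R) (b.repr x i) = 0 := by
    rw [IsLocalRing.ResidueField.algebraMap_eq, IsLocalRing.residue_eq_zero_iff]
    exact hcoord i
  rw [← TensorProduct.smul_tmul, Algebra.smul_def, mul_one, this, TensorProduct.zero_tmul]

end coord


end

section

open TensorProduct KaehlerDifferential IsLocalRing
universe u

section quot
variable (k R B : Type u) [Field k] [CommRing R] [Algebra k R] [CommRing B] [Algebra R B]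
  [Algebra k B] [IsScalarTower k R B]

theorem mem_ker_mapBaseChange (hsurj : Function.Surjective (algebraMap R B)) (f : R)
    (hker : RingHom.ker (algebraMap R B) = Ideal.span {f})
    (z : B ⊗[R] Ω[R⁄k]) (hz : KaehlerDifferential.mapBaseChange k R B z = 0) :
    ∃ c : B, z = c • ((1 : B) ⊗ₜ[R] D k R f) := by
  have hex := KaehlerDifferential.exact_kerCotangentToTensor_mapBaseChange k R B hsurj
  obtain ⟨y, rfl⟩ := (hex z).mp hz
  obtain ⟨⟨x, hx⟩, rfl⟩ := Ideal.toCotangent_surjective _ y
  rw [kerCotangentToTensor_toCotangent]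
  have hx' : x ∈ Ideal.span {f} := hker ▸ hx
  obtain ⟨a, rfl⟩ := Ideal.mem_span_singleton'.mp hx'
  refine ⟨algebraMap R B a, ?_⟩
  have hf0 : algebraMap R B f = 0 := by
    have : f ∈ RingHom.ker (algebraMap R B) := hker ▸ Ideal.mem_span_singleton_self f
    exact this
  have h1 : f • ((1 : B) ⊗ₜ[R] D k R a) = 0 := by
    rw [TensorProduct.smul_tmul', Algebra.smul_def, hf0, zero_mul, TensorProduct.zero_tmul]
  rw [Derivation.leibniz, TensorProduct.tmul_add, TensorProduct.tmul_smul,
    TensorProduct.tmul_smul, h1, add_zero, algebraMap_smul]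

theorem projective_kaehler_quotient (hsurj : Function.Surjective (algebraMap R B)) (f : R)
    (hker : RingHom.ker (algebraMap R B) = Ideal.span {f}) [Module.Projective R Ω[R⁄k]]
    (φ : Ω[R⁄k] →ₗ[R] R) (hφ : φ (D k R f) = 1) : Module.Projective B Ω[B⁄k] := by
  let N := B ⊗[R] Ω[R⁄k]
  let π : N →ₗ[B] Ω[B⁄k] := KaehlerDifferential.mapBaseChange k R B
  have hπ : Function.Surjective π := KaehlerDifferential.mapBaseChange_surjective k R B hsurj
  let ψ : N →ₗ[B] B :=
    (TensorProduct.AlgebraTensorModule.rid R B B).toLinearMap ∘ₗ (φ.baseChange B)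
  let e : N := (1 : B) ⊗ₜ[R] D k R f
  have hψe : ψ e = 1 := by
    change (TensorProduct.AlgebraTensorModule.rid R B B) ((φ.baseChange B) ((1 : B) ⊗ₜ[R] D k R f)) = 1
    rw [LinearMap.baseChange_tmul, hφ, TensorProduct.AlgebraTensorModule.rid_tmul, one_smul]
  have hπe : π e = 0 := by
    have hf0 : algebraMap R B f = 0 := by
      have : f ∈ RingHom.ker (algebraMap R B) := hker ▸ Ideal.mem_span_singleton_self f
      exact this
    change KaehlerDifferential.mapBaseChange k R B ((1 : B) ⊗ₜ[R] D k R f) = 0
    rw [KaehlerDifferential.mapBaseChange_tmul, KaehlerDifferential.map_D, hf0, map_zero,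
      smul_zero]
  let p : N →ₗ[B] N := LinearMap.id - (LinearMap.toSpanSingleton B N e) ∘ₗ ψ
  have hp : ∀ z, p z = z - ψ z • e := fun z => by
    simp [p, LinearMap.toSpanSingleton_apply]
  have hle : LinearMap.ker π ≤ LinearMap.ker p := by
    intro z hz
    obtain ⟨c, rfl⟩ := mem_ker_mapBaseChange k R B hsurj f hker z hz
    rw [LinearMap.mem_ker, hp, map_smul, hψe, smul_eq_mul, mul_one, sub_self]
  let s : Ω[B⁄k] →ₗ[B] N :=
    ((LinearMap.ker π).liftQ p hle) ∘ₗ (π.quotKerEquivOfSurjective hπ).symm.toLinearMap
  have hs : ∀ z, s (π z) = p z := by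
    intro z
    have : (π.quotKerEquivOfSurjective hπ).symm (π z) = Submodule.Quotient.mk z := by
      rw [LinearEquiv.symm_apply_eq]
      rfl
    simp only [s, LinearMap.comp_apply, LinearEquiv.coe_coe, this, Submodule.liftQ_apply]
  have hsplit : π ∘ₗ s = LinearMap.id := by
    refine LinearMap.ext fun y => ?_
    obtain ⟨z, rfl⟩ := hπ y
    rw [LinearMap.comp_apply, hs, hp, map_sub, map_smul, hπe, smul_zero, sub_zero,
      LinearMap.id_apply]
  haveI : Module.Projective B N := inferInstance
  exact Module.Projective.of_split s π hsplit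

end quot


end

section

open TensorProduct KaehlerDifferential IsLocalRing
universe u

section
variable (k : Type u) [Field k] [CharZero k]
  (R : Type u) [CommRing R] [Algebra k R] [IsLocalRing R] [IsNoetherianRing R]

theorem regular_of_le_sq (hm : maximalIdeal R ≤ maximalIdeal R ^ 2) : IsRegularLocalRing R := by
  have hbot : maximalIdeal R = ⊥ := by
    have h1 : (maximalIdeal R : Submodule R R) ≤ maximalIdeal R • (maximalIdeal R : Submodule R R) := by
      rw [smul_eq_mul, ← pow_two]; exact hm
    exact Submodule.eq_bot_of_le_smul_of_le_jacobson_bot (maximalIdeal R) _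
      (IsNoetherian.noetherian _) h1 (by
        rw [IsLocalRing.jacobson_eq_maximalIdeal ⊥ bot_ne_top])
  apply IsRegularLocalRing.of_spanFinrank_maximalIdeal_le
  rw [hbot, Submodule.spanFinrank_bot]
  exact_mod_cast ringKrullDim_nonneg_of_nontrivial

theorem step [Module.Finite R Ω[R⁄k]] [Module.Free R Ω[R⁄k]]
    (hm : ¬ maximalIdeal R ≤ maximalIdeal R ^ 2) :
    ∃ f ∈ maximalIdeal R, IsSMulRegular R f ∧
      Module.Finite (R ⧸ Ideal.span {f}) Ω[(R ⧸ Ideal.span {f})⁄k] ∧
      Module.Projective (R ⧸ Ideal.span {f}) Ω[(R ⧸ Ideal.span {f})⁄k] := by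
  obtain ⟨f, hfm, hf2⟩ := SetLike.not_le_iff_exists.mp hm
  haveI : Algebra.FormallySmooth k (ResidueField R) :=
    Groth.Agent.Lib.Helper23.FieldSmooth.formallySmooth_of_charZero k (ResidueField R)
  have h1 := one_tmul_D_ne_zero k R f hfm hf2
  obtain ⟨φ, hφ⟩ := exists_functional_eq_one (D k R f) h1
  let Dv : Derivation k R R := φ.compDer (D k R)
  have hDv : Dv f = 1 := hφ
  have hreg : IsSMulRegular R f := isSMulRegular_of_derivation (k := k) Dv f hfm hDv
  refine ⟨f, hfm, hreg, ?_, ?_⟩
  · exact Module.Finite.of_surjective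
      (KaehlerDifferential.mapBaseChange k R (R ⧸ Ideal.span {f}))
      (KaehlerDifferential.mapBaseChange_surjective k R _ Ideal.Quotient.mk_surjective)
  · exact projective_kaehler_quotient k R (R ⧸ Ideal.span {f}) Ideal.Quotient.mk_surjective f
      (by rw [Ideal.Quotient.algebraMap_eq, Ideal.mk_ker]) φ hφ

end

/-- Stacks 00TX core: a Noetherian local algebra over a field of characteristic zero whose module
of differentials is finite free is regular. -/
theorem regular_of_free (k : Type u) [Field k] [CharZero k] :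
    ∀ (d : ℕ) (R : Type u) [CommRing R] [Algebra k R] [IsLocalRing R] [IsNoetherianRing R]
      [Module.Finite R Ω[R⁄k]] [Module.Free R Ω[R⁄k]],
      ringKrullDim R = (d : WithBot ℕ∞) → IsRegularLocalRing R := by
  intro d
  induction d with
  | zero =>
    intro R _ _ _ _ _ _ hd
    by_cases hm : maximalIdeal R ≤ maximalIdeal R ^ 2
    · exact regular_of_le_sq R hm
    · exfalso
      obtain ⟨f, hfm, hreg, -, -⟩ := step k R hm
      have h3 := ringKrullDim_quotient_span_singleton_succ_eq_ringKrullDim hreg hfm
      haveI : Nontrivial (R ⧸ Ideal.span {f}) :=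
        Ideal.Quotient.nontrivial_iff.mpr (fun h => by
          have : (1 : R) ∈ maximalIdeal R := by
            have h1 : (1 : R) ∈ Ideal.span {f} := h ▸ Submodule.mem_top
            exact (Ideal.span_singleton_le_iff_mem _).mpr hfm h1
          exact (Ideal.ne_top_iff_one _).mp (IsLocalRing.maximalIdeal.isMaximal R).ne_top this)
      have h4 : (0 : WithBot ℕ∞) ≤ ringKrullDim (R ⧸ Ideal.span {f}) :=
        ringKrullDim_nonneg_of_nontrivial
      rw [hd] at h3
      have h5 : (1 : WithBot ℕ∞) ≤ ringKrullDim (R ⧸ Ideal.span {f}) + 1 := by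
        calc (1 : WithBot ℕ∞) = 0 + 1 := by simp
          _ ≤ ringKrullDim (R ⧸ Ideal.span {f}) + 1 := by gcongr
      rw [h3] at h5
      exact absurd h5 (by simp)
  | succ d ih =>
    intro R _ _ _ _ _ _ hd
    by_cases hm : maximalIdeal R ≤ maximalIdeal R ^ 2
    · exact regular_of_le_sq R hm
    · obtain ⟨f, hfm, hreg, hfin, hproj⟩ := step k R hm
      have h3 := ringKrullDim_quotient_span_singleton_succ_eq_ringKrullDim hreg hfm
      haveI : Nontrivial (R ⧸ Ideal.span {f}) :=
        Ideal.Quotient.nontrivial_iff.mpr (fun h => by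
          have : (1 : R) ∈ maximalIdeal R := by
            have h1 : (1 : R) ∈ Ideal.span {f} := h ▸ Submodule.mem_top
            exact (Ideal.span_singleton_le_iff_mem _).mpr hfm h1
          exact (Ideal.ne_top_iff_one _).mp (IsLocalRing.maximalIdeal.isMaximal R).ne_top this)
      haveI : IsLocalRing (R ⧸ Ideal.span {f}) :=
        IsLocalRing.of_surjective' (Ideal.Quotient.mk (Ideal.span {f})) Ideal.Quotient.mk_surjective
      haveI := hfin
      haveI := hproj
      haveI : Module.Free (R ⧸ Ideal.span {f}) Ω[(R ⧸ Ideal.span {f})⁄k] :=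
        Module.free_of_flat_of_isLocalRing
      have hdim : ringKrullDim (R ⧸ Ideal.span {f}) = (d : WithBot ℕ∞) := by
        rw [hd] at h3
        have hne : ringKrullDim (R ⧸ Ideal.span {f}) ≠ ⊥ := ringKrullDim_ne_bot
        obtain ⟨n, hn⟩ := WithBot.ne_bot_iff_exists.mp hne
        rw [← hn] at h3 ⊢
        have h6 : n + 1 = ((d + 1 : ℕ) : ℕ∞) := by exact_mod_cast h3
        have h7 : n = (d : ℕ∞) := by
          have : n + 1 = (d : ℕ∞) + 1 := by rw [h6]; push_cast; rfl
          exact (ENat.add_left_injective_of_ne_top ENat.one_ne_top) this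
        rw [h7]; rfl
      have hB := ih (R ⧸ Ideal.span {f}) hdim
      exact Groth.Agent.Lib.Helper18.CatHt.isRegularLocalRing_of_quotient R hfm hreg hB


end

section

open TensorProduct KaehlerDifferential IsLocalRing
universe u

theorem t5000 (k A : Type u) [Field k] [CharZero k] [CommRing A]
    [Algebra k A] [Algebra.FiniteType k A] (q : Ideal A) [q.IsPrime] :
    Algebra.IsSmoothAt k q ↔
      Module.Free (Localization.AtPrime q) (KaehlerDifferential k (Localization.AtPrime q)) := by
  haveI : IsNoetherianRing A := Algebra.FiniteType.isNoetherianRing k A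
  haveI : IsNoetherianRing (Localization.AtPrime q) :=
    IsLocalization.isNoetherianRing q.primeCompl _ inferInstance
  haveI : Module.Finite (Localization.AtPrime q) Ω[Localization.AtPrime q⁄k] := inferInstance
  constructor
  · intro h
    haveI : Algebra.FormallySmooth k (Localization.AtPrime q) := h
    haveI : Module.Projective (Localization.AtPrime q) Ω[Localization.AtPrime q⁄k] :=
      inferInstance
    exact Module.free_of_flat_of_isLocalRing
  · intro hfree
    haveI := hfree
    obtain ⟨d, hd⟩ : ∃ d : ℕ, ringKrullDim (Localization.AtPrime q) = (d : WithBot ℕ∞) := by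
      have h1 : ringKrullDim (Localization.AtPrime q) ≠ ⊥ := ringKrullDim_ne_bot
      have h2 : ringKrullDim (Localization.AtPrime q) ≠ ⊤ := ringKrullDim_ne_top
      obtain ⟨n, hn⟩ := WithBot.ne_bot_iff_exists.mp h1
      have h3 : n ≠ ⊤ := by
        rintro rfl
        exact h2 hn.symm
      obtain ⟨d, rfl⟩ := ENat.ne_top_iff_exists.mp h3
      exact ⟨d, hn.symm⟩
    haveI hreg : IsRegularLocalRing (Localization.AtPrime q) :=
      regular_of_free k d (Localization.AtPrime q) hd
    haveI : IsRegularRing (Localization.AtPrime q) :=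
      Groth.Agent.Lib.Helper25.RegularSmooth.isRegularRing_of_isRegularLocalRing _
    have hgeo : CAlg.IsGeometricallyRegular k (Localization.AtPrime q) :=
      Groth.Agent.Lib.Helper18.Exc.geomRegular_of_isRegularRing_of_perfectField k _ inferInstance
    haveI : Algebra.FormallySmooth k k := inferInstance
    exact ((Groth.Agent.Lib.Helper23.SmoothField.tfae_atPrime (k := k) (k₀ := k) q).out 3 0).mp hgeo


end
end Groth.Agent.Lib.Helper23.Char0Free
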