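import Mathlib
import Groth.Agent.Lib.Helper23.FSmoothExist

/-!
Uniqueness of the coefficient field of a complete Noetherian local ring iff the absolute differentials of the residue field vanish (EGA 0_IV 21.5.x) (helper23).
-/

set_option autoImplicit false
universe u
open IsLocalRing TensorProduct KaehlerDifferential

namespace Groth.Agent.Lib.Helper23.CoeffFieldUnique


open Groth.Agent.Lib.Helper23 Groth.Agent.Lib.Helper23.FSmoothExist

section Uniq

variable {C : Type u} [CommRing C] [IsLocalRing C] [IsNoetherianRing C]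
  [IsAdicComplete (maximalIdeal C) C]

/-- uniqueness of the coefficient field when `Ω_{K/ℤ} = 0`. -/
theorem section_unique_of_subsingleton (hΩ : Subsingleton (Ω[ResidueField C⁄ℤ]))
    (u v : ResidueField C →+* C) (hu : ∀ x, residue C (u x) = x) (hv : ∀ x, residue C (v x) = x) :
    v = u := by
  letI : Algebra ℤ (ResidueField C) := Ring.toIntAlgebra _
  have hΩ' : Subsingleton (Ω[ResidueField C⁄ℤ]) := hΩ
  haveI : Algebra.FormallyUnramified ℤ (ResidueField C) := ⟨hΩ'⟩
  have hI : ⨅ i, maximalIdeal C ^ i = ⊥ := Ideal.iInf_pow_eq_bot_of_isLocalRing _ (Ideal.IsPrime.ne_top inferInstance)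
  have := Algebra.FormallyUnramified.ext_of_iInf (R := ℤ) (A := ResidueField C) (B := C)
    (I := maximalIdeal C) hI (g₁ := v.toIntAlgHom) (g₂ := u.toIntAlgHom) (fun x => by
      show residue C (v x) = residue C (u x)
      rw [hu, hv])
  ext x
  exact AlgHom.congr_fun this x

/-- non-uniqueness of the coefficient field when `Ω_{K/ℤ} ≠ 0` and `𝔪 ≠ 0`. -/
theorem exists_other_section (hm : maximalIdeal C ≠ ⊥) (hΩ : ¬ Subsingleton (Ω[ResidueField C⁄ℤ]))
    (u : ResidueField C →+* C) (hu : ∀ x, residue C (u x) = x) :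
    ∃ v : ResidueField C →+* C, (∀ x, residue C (v x) = x) ∧ v ≠ u := by
  classical
  letI : Algebra ℤ (ResidueField C) := Ring.toIntAlgebra _
  have hΩ' : ¬ Subsingleton (Ω[ResidueField C⁄ℤ]) := hΩ
  -- a nonzero derivation
  obtain ⟨ω, hω⟩ : ∃ ω : Ω[ResidueField C⁄ℤ], ω ≠ 0 := by
    by_contra h
    push_neg at h
    exact hΩ' ⟨fun a b => (h a).trans (h b).symm⟩
  obtain ⟨f, hf⟩ : ∃ f : Ω[ResidueField C⁄ℤ] →ₗ[ResidueField C] ResidueField C, f ω ≠ 0 := by
    by_contra hall
    push_neg at hall
    exact hω ((Module.forall_dual_apply_eq_zero_iff (ResidueField C) ω).mp hall)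
  let D : Derivation ℤ (ResidueField C) (ResidueField C) := f.compDer (KaehlerDifferential.D ℤ _)
  obtain ⟨x₀, hx₀⟩ : ∃ x₀, D x₀ ≠ 0 := by
    by_contra hall
    push_neg at hall
    apply hf
    have hzero : ∀ ω' : Ω[ResidueField C⁄ℤ], f ω' = 0 := by
      intro ω'
      have hmem : ω' ∈ Submodule.span (ResidueField C) (Set.range (KaehlerDifferential.D ℤ (ResidueField C))) := by
        rw [KaehlerDifferential.span_range_derivation]; trivial
      induction hmem using Submodule.span_induction with
      | mem ω hω =>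
        obtain ⟨x, rfl⟩ := hω
        exact hall x
      | zero => exact map_zero f
      | add a b _ _ ha hb => rw [map_add, ha, hb, add_zero]
      | smul r a _ ha => rw [LinearMap.map_smul, ha, smul_zero]
    exact hzero ω
  -- an element of 𝔪 \ 𝔪²
  obtain ⟨t, ht, ht2⟩ : ∃ t ∈ maximalIdeal C, t ∉ maximalIdeal C ^ 2 := by
    by_contra hall
    push_neg at hall
    apply hm
    have hle : maximalIdeal C ≤ maximalIdeal C • maximalIdeal C := by
      intro t ht
      rw [smul_eq_mul, ← pow_two]
      exact hall t ht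
    exact Submodule.eq_bot_of_le_smul_of_le_jacobson_bot _ _ (IsNoetherian.noetherian _) hle
      (IsLocalRing.jacobson_eq_maximalIdeal ⊥ bot_ne_top).ge
  -- first order map
  let ψ : ResidueField C →+* C ⧸ maximalIdeal C ^ 2 :=
    { toFun := fun x => Ideal.Quotient.mk _ (u x + u (D x) * t)
      map_one' := by
        rw [Derivation.map_one_eq_zero, map_zero, zero_mul, add_zero, map_one, map_one]
      map_zero' := by
        rw [map_zero, map_zero, map_zero, zero_mul, add_zero, map_zero]
      map_add' := fun x y => by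
        rw [← map_add]
        congr 1
        rw [map_add, map_add, map_add]
        ring
      map_mul' := fun x y => by
        rw [← map_mul, eq_comm, Ideal.Quotient.eq]
        have h : (u x + u (D x) * t) * (u y + u (D y) * t) - (u (x * y) + u (D (x * y)) * t)
            = (u (D x) * u (D y)) * (t * t) := by
          rw [Derivation.leibniz, smul_eq_mul, smul_eq_mul, map_add, map_mul, map_mul, map_mul]
          ring
        rw [h, pow_two]
        exact Ideal.mul_mem_left _ _ (Ideal.mul_mem_mul ht ht) }
  haveI := isAdicComplete_pow (maximalIdeal C) 2 (by norm_num)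
  obtain ⟨v, hv⟩ := exists_lift_of_field (ResidueField C) C (maximalIdeal C ^ 2) u ψ
  have hmem : ∀ x, v x - (u x + u (D x) * t) ∈ maximalIdeal C ^ 2 := fun x => by
    rw [← Ideal.Quotient.eq, hv]
    rfl
  refine ⟨v, fun x => ?_, fun hvu => ?_⟩
  · have h1 : v x - (u x + u (D x) * t) ∈ maximalIdeal C :=
      Ideal.pow_le_self two_ne_zero (hmem x)
    have h2 : residue C (v x - (u x + u (D x) * t)) = 0 := (residue_eq_zero_iff _).mpr h1
    have h3 : residue C t = 0 := (residue_eq_zero_iff _).mpr ht
    rw [map_sub, map_add, map_mul, h3, mul_zero, add_zero, hu, sub_eq_zero] at h2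
    exact h2
  · have h1 := hmem x₀
    rw [hvu] at h1
    have h2 : u (D x₀) * t ∈ maximalIdeal C ^ 2 := by
      have : u (D x₀) * t = -(u x₀ - (u x₀ + u (D x₀) * t)) := by ring
      rw [this]
      exact neg_mem h1
    have hunit : IsUnit (u (D x₀)) := by
      by_contra hnu
      have : residue C (u (D x₀)) = 0 := (residue_eq_zero_iff _).mpr ((mem_maximalIdeal _).mpr hnu)
      rw [hu] at this
      exact hx₀ this
    exact ht2 ((Ideal.unit_mul_mem_iff_mem _ hunit).mp h2)

theorem t2483main (hm : maximalIdeal C ≠ ⊥) (u : ResidueField C →+* C) (hu : ∀ x, residue C (u x) = x) :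
    (∀ v : ResidueField C →+* C, (∀ x, residue C (v x) = x) → v = u) ↔ Subsingleton (Ω[ResidueField C⁄ℤ]) := by
  constructor
  · intro h
    by_contra hΩ
    obtain ⟨v, hv, hne⟩ := exists_other_section hm hΩ u hu
    exact hne (h v hv)
  · intro hΩ v hv
    exact section_unique_of_subsingleton hΩ u v hu hv

end Uniq

end Groth.Agent.Lib.Helper23.CoeffFieldUnique
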