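import Mathlib
import Groth.Agent.Lib.Helper23.CohenAlg

/-!
Uniqueness of unramified complete DVR extensions (EGA 0_IV 19.8.x): cohenAlgebra_unique' (uniqueness of Cohen algebras with control of residue iso; B' only needs Noetherian complete flat with m_A B' = m_B'), injective_of_map_eq, flat_of_map_eq, t2482main.
-/

set_option autoImplicit false


namespace Groth.Agent.Lib.Helper23.CohenDVR


universe u

open IsLocalRing Groth.Agent.Lib.Helper23 Groth.Agent.Lib.Helper23.CohenSmooth
  Groth.Agent.Lib.Helper23.CohenAlg

section Unique

/-- Uniqueness of Cohen algebras, with control of the residue isomorphism. -/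
theorem cohenAlgebra_unique' {A : Type u} [CommRing A] [IsLocalRing A]
    (B B' : Type u) [CommRing B] [IsLocalRing B] [Algebra A B] [IsLocalHom (algebraMap A B)]
    [CommRing B'] [IsLocalRing B'] [Algebra A B'] [IsLocalHom (algebraMap A B')]
    (hB : EGA41.IsCohenAlgebra A B) [IsNoetherianRing B'] [IsAdicComplete (maximalIdeal B') B']
    [Module.Flat A B']
    (hBm' : (maximalIdeal A).map (algebraMap A B') = maximalIdeal B')
    (θ : ResidueField B ≃ₐ[ResidueField A] ResidueField B') :
    ∃ v : B ≃ₐ[A] B', ∀ b, residue B' (v b) = θ (residue B b) := by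
  obtain ⟨hA, hBn, hBc, hBf, hBm, hBg⟩ := hB
  have hfs : EGA41.IsFormallySmoothAdic A (maximalIdeal A) B (maximalIdeal B) :=
    formallySmoothAdic_of_flat hBm
  let u : B →ₐ[A] B' ⧸ maximalIdeal B' :=
    { toRingHom := (θ : ResidueField B →+* ResidueField B').comp (residue B)
      commutes' := fun a => by
        change θ (residue B (algebraMap A B a)) = _
        have h1 : residue B (algebraMap A B a) =
            algebraMap (ResidueField A) (ResidueField B) (residue A a) := rfl
        rw [h1, θ.commutes]
        rfl }
  have hu : ∀ b, u b = θ (residue B b) := fun b => rfl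
  obtain ⟨v, -, hv⟩ := Groth.Agent.S2462.result (maximalIdeal A) (maximalIdeal B) hfs
    (C := B') hBm'.le (maximalIdeal B') (maximalIdeal.isMaximal B').ne_top u (by
      rw [Ideal.map_le_iff_le_comap]
      intro b hb
      rw [Ideal.mem_comap]
      have : u.toRingHom b = 0 := by
        change u b = 0
        rw [hu, (residue_eq_zero_iff b).mpr hb, map_zero]
        rfl
      rw [this]
      exact zero_mem _)
  have hvu : ∀ b, Ideal.Quotient.mk (maximalIdeal B') (v b) = u b := fun b =>
    congrArg (fun g => g b) hv
  have hbij : Function.Bijective v := by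
    apply bijective_of_residue hBm hBm' v
    · intro y
      obtain ⟨z, rfl⟩ := θ.surjective y
      obtain ⟨b, rfl⟩ := residue_surjective z
      exact ⟨b, hvu b⟩
    · intro x hx
      have h1 : u x = 0 := by
        rw [← hvu]
        exact Ideal.Quotient.eq_zero_iff_mem.mpr hx
      rw [hu] at h1
      have h2 : residue B x = 0 := by
        have := θ.injective (h1.trans (map_zero θ).symm)
        exact this
      exact (residue_eq_zero_iff x).mp h2
  exact ⟨AlgEquiv.ofBijective v hbij, fun b => hvu b⟩

end Unique

section DVR

/-- A local homomorphism of DVRs with `𝔪_A B = 𝔪_B` is injective. -/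
theorem injective_of_map_eq {A B : Type*} [CommRing A] [IsDomain A] [IsDiscreteValuationRing A]
    [CommRing B] [IsDomain B] [IsDiscreteValuationRing B] (u : A →+* B)
    (hu : (maximalIdeal A).map u = maximalIdeal B) : Function.Injective u := by
  rw [injective_iff_map_eq_zero]
  intro x hx
  by_contra hx0
  obtain ⟨ϖ, hϖ⟩ := IsDiscreteValuationRing.exists_irreducible A
  obtain ⟨n, w, hw⟩ := IsDiscreteValuationRing.eq_unit_mul_pow_irreducible hx0 hϖ
  rw [hw, map_mul, map_pow] at hx
  have h1 : u ϖ ^ n = 0 := ((w.isUnit.map u).mul_right_eq_zero).mp hx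
  have h2 : u ϖ = 0 := eq_zero_of_pow_eq_zero h1
  apply IsDiscreteValuationRing.not_a_field B
  rw [← hu, hϖ.maximalIdeal_eq, Ideal.map_span, Set.image_singleton, h2,
    Ideal.span_singleton_eq_bot]

theorem flat_of_map_eq {A B : Type*} [CommRing A] [IsDomain A] [IsDiscreteValuationRing A]
    [CommRing B] [IsDomain B] [IsDiscreteValuationRing B] [Algebra A B]
    (hu : (maximalIdeal A).map (algebraMap A B) = maximalIdeal B) : Module.Flat A B := by
  have hinj := injective_of_map_eq (algebraMap A B) hu
  haveI : Module.IsTorsionFree A B := by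
    apply Module.IsTorsionFree.of_smul_eq_zero
    intro r m hrm
    rw [Algebra.smul_def, mul_eq_zero] at hrm
    rcases hrm with h | h
    · left
      rw [← map_zero (algebraMap A B)] at h
      exact hinj h
    · exact Or.inr h
  infer_instance

end DVR




open IsLocalRing Groth.Agent.Lib.Helper23

section Main

theorem t2482main {A B B' : Type u} [CommRing A] [IsDomain A] [IsDiscreteValuationRing A] [IsAdicComplete (maximalIdeal A) A]
    [CommRing B] [IsDomain B] [IsDiscreteValuationRing B] [IsAdicComplete (maximalIdeal B) B]
    [CommRing B'] [IsDomain B'] [IsDiscreteValuationRing B'] [IsAdicComplete (maximalIdeal B') B']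
    (u : A →+* B) [IsLocalHom u] (hu : (maximalIdeal A).map u = maximalIdeal B)
    (hsep : letI := (ResidueField.map u).toAlgebra; Algebra.IsGeometricallyReduced (ResidueField A) (ResidueField B))
    (u' : A →+* B') [IsLocalHom u'] (hu' : (maximalIdeal A).map u' = maximalIdeal B')
    (σ : ResidueField B ≃+* ResidueField B') (hσ : (σ : ResidueField B →+* ResidueField B').comp (ResidueField.map u) = ResidueField.map u') :
    ∃ w : B ≃+* B', (w : B →+* B').comp u = u' ∧ ∀ b : B, residue B' (w b) = σ (residue B b) := by
  letI : Algebra A B := u.toAlgebra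
  letI : Algebra A B' := u'.toAlgebra
  haveI : IsLocalHom (algebraMap A B) := inferInstanceAs (IsLocalHom u)
  haveI : IsLocalHom (algebraMap A B') := inferInstanceAs (IsLocalHom u')
  have hm : (maximalIdeal A).map (algebraMap A B) = maximalIdeal B := hu
  have hm' : (maximalIdeal A).map (algebraMap A B') = maximalIdeal B' := hu'
  haveI : Module.Flat A B := flat_of_map_eq hm
  haveI : Module.Flat A B' := flat_of_map_eq hm'
  have halg : (ResidueField.map u).toAlgebra =
      (ResidueField.instAlgebra : Algebra (ResidueField A) (ResidueField B)) := by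
    apply Algebra.algebra_ext
    intro r
    obtain ⟨a, rfl⟩ := residue_surjective r
    rfl
  have hsep' : Algebra.IsGeometricallyReduced (ResidueField A) (ResidueField B) := halg ▸ hsep
  have hB : EGA41.IsCohenAlgebra A B :=
    ⟨inferInstance, inferInstance, inferInstance, inferInstance, hm, hsep'⟩
  let θ : ResidueField B ≃ₐ[ResidueField A] ResidueField B' :=
    { σ with
      commutes' := fun a => by
        have := congrArg (fun g : ResidueField A →+* ResidueField B' => g a) hσ
        exact this }
  obtain ⟨v, hv⟩ := cohenAlgebra_unique' B B' hB hm' θ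
  refine ⟨v.toRingEquiv, ?_, fun b => hv b⟩
  ext a
  exact v.commutes a

end Main

end Groth.Agent.Lib.Helper23.CohenDVR
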