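import Mathlib
import Groth.Agent.Lib.Helper23.CohenRingExist
import Groth.Agent.Lib.Helper23.FieldSep
import Groth.Agent.Lib.Helper23.FieldSmooth

/-!
Cohen rings as Cohen algebras over Z_(p) (EGA 0_IV 19.8.5): maximalIdeal_locInt, perfectField_residue_locInt, t4539main.
-/

set_option autoImplicit false


namespace Groth.Agent.Lib.Helper23.CohenRingZp


universe u

open IsLocalRing Groth.Agent.Lib.Helper23

section Main

theorem maximalIdeal_locInt (p : ℕ) [hp : (Ideal.span {(p : ℤ)}).IsPrime] :
    maximalIdeal (Localization.AtPrime (Ideal.span {(p : ℤ)})) =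
      Ideal.span {(p : Localization.AtPrime (Ideal.span {(p : ℤ)}))} := by
  rw [← IsLocalization.AtPrime.map_eq_maximalIdeal (Ideal.span {(p : ℤ)})
    (Localization.AtPrime (Ideal.span {(p : ℤ)})), Ideal.map_span, Set.image_singleton,
    map_natCast]

theorem perfectField_residue_locInt (p : ℕ) [hp : (Ideal.span {(p : ℤ)}).IsPrime]
    [CharP (ResidueField (Localization.AtPrime (Ideal.span {(p : ℤ)}))) p] :
    PerfectField (ResidueField (Localization.AtPrime (Ideal.span {(p : ℤ)}))) := by
  by_cases hp0 : p = 0
  · subst hp0
    haveI : CharZero (ResidueField (Localization.AtPrime (Ideal.span {((0 : ℕ) : ℤ)}))) :=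
      CharP.charP_to_charZero _
    infer_instance
  · haveI : NeZero p := ⟨hp0⟩
    have hne : Ideal.span {(p : ℤ)} ≠ ⊥ := by
      rw [Ne, Ideal.span_singleton_eq_bot]
      exact_mod_cast hp0
    haveI hmax : (Ideal.span {(p : ℤ)}).IsMaximal := hp.isMaximal hne
    let e1 : ℤ ⧸ Ideal.span {(p : ℤ)} ≃+* ZMod p := Int.quotientSpanEquivZMod p
    let e2 := IsLocalization.AtPrime.equivQuotMaximalIdeal (Ideal.span {(p : ℤ)})
      (Localization.AtPrime (Ideal.span {(p : ℤ)}))
    haveI : Finite (ResidueField (Localization.AtPrime (Ideal.span {(p : ℤ)}))) :=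
      Finite.of_equiv (ZMod p) (e1.symm.trans e2).toEquiv
    infer_instance

theorem t4539main (p : ℕ) [hp : (Ideal.span {(p : ℤ)}).IsPrime]
    {A : Type} [CommRing A] [IsLocalRing A] [hpA : CharP (ResidueField A) p]
    [Algebra (Localization.AtPrime (Ideal.span {(p : ℤ)})) A]
    [IsLocalHom (algebraMap (Localization.AtPrime (Ideal.span {(p : ℤ)})) A)] :
    EGA41.IsCohenAlgebra (Localization.AtPrime (Ideal.span {(p : ℤ)})) A ↔
      EGA41.IsCohenRingEGA A := by
  have hmaxP := maximalIdeal_locInt p
  have hmapP : (maximalIdeal (Localization.AtPrime (Ideal.span {(p : ℤ)}))).map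
      (algebraMap (Localization.AtPrime (Ideal.span {(p : ℤ)})) A) = Ideal.span {(p : A)} := by
    rw [hmaxP, Ideal.map_span, Set.image_singleton, map_natCast]
  have hinjZ : Function.Injective (algebraMap ℤ (Localization.AtPrime (Ideal.span {(p : ℤ)}))) :=
    IsLocalization.injective _ (Ideal.primeCompl_le_nonZeroDivisors (Ideal.span {(p : ℤ)}))
  constructor
  · rintro ⟨hnP, hnA, hcomp, hflat, hmax, hgr⟩
    have hmaxA : maximalIdeal A = Ideal.span {(p : A)} := by rw [← hmax, hmapP]
    by_cases hp0 : p = 0
    · left
      subst hp0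
      refine ⟨IsLocalRing.isField_iff_maximalIdeal_eq.mpr ?_, ?_⟩
      · rw [hmaxA, Nat.cast_zero, Ideal.span_singleton_eq_bot]
      · haveI : CharZero (ResidueField A) := CharP.charP_to_charZero _
        apply charZero_of_inj_zero
        intro n hn
        have h1 : ((n : ResidueField A)) = 0 := by
          rw [← map_natCast (residue A), hn, map_zero]
        exact_mod_cast h1
    · right
      have hprime : p.Prime := by
        have h1 : Prime (p : ℤ) :=
          (Ideal.span_singleton_prime (by exact_mod_cast hp0)).mp hp
        exact Nat.prime_iff_prime_int.mpr h1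
      have hpP : (p : Localization.AtPrime (Ideal.span {(p : ℤ)})) ≠ 0 := by
        intro h0
        have : algebraMap ℤ (Localization.AtPrime (Ideal.span {(p : ℤ)})) (p : ℤ) = 0 := by
          rw [map_natCast]; exact h0
        rw [← map_zero (algebraMap ℤ _)] at this
        exact hp0 (by exact_mod_cast hinjZ this)
      have hreg : IsSMulRegular A (p : A) := by
        have h1 : IsSMulRegular A (p : Localization.AtPrime (Ideal.span {(p : ℤ)})) :=
          Module.Flat.isSMulRegular_of_isRegular (isRegular_of_ne_zero hpP)
        intro x y hxy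
        apply h1
        change (p : Localization.AtPrime (Ideal.span {(p : ℤ)})) • x = (p : Localization.AtPrime (Ideal.span {(p : ℤ)})) • y
        rw [Algebra.smul_def, Algebra.smul_def, map_natCast]
        exact hxy
      haveI hdom : IsDomain A := CohenRingExist.isDomain_of_principal hmaxA hreg
      have hpW : (p : A) ≠ 0 := by
        intro h0
        have := hreg (show (p : A) • (1 : A) = (p : A) • (0 : A) by rw [h0]; simp)
        exact one_ne_zero this
      exact ⟨hdom, CohenRingExist.isDiscreteValuationRing_of_principal hmaxA hpW, hcomp, p,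
        hprime, hmaxA⟩
  · intro hW
    obtain ⟨q, hmaxeq, hdom, hcz, hcomp, hnoeth, hq⟩ := CohenRing.cohenRing_data hW
    haveI h1 : CharP (ResidueField A) q := CohenRing.charP_residueField_of_data hmaxeq hq
    have hqp : q = p := CharP.eq (ResidueField A) h1 hpA
    subst hqp
    have hinj : Function.Injective (algebraMap (Localization.AtPrime (Ideal.span {(q : ℤ)})) A) := by
      rw [injective_iff_map_eq_zero]
      intro x hx
      obtain ⟨a, s, rfl⟩ := IsLocalization.exists_mk'_eq (Ideal.span {(q : ℤ)}).primeCompl x
      have h2 : IsLocalization.mk' (Localization.AtPrime (Ideal.span {(q : ℤ)})) a s *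
          algebraMap ℤ _ (s : ℤ) = algebraMap ℤ _ a := IsLocalization.mk'_spec _ a s
      have h3 : algebraMap (Localization.AtPrime (Ideal.span {(q : ℤ)})) A (algebraMap ℤ _ a) = 0 := by
        rw [← h2, map_mul, hx, zero_mul]
      have h4 : ((algebraMap (Localization.AtPrime (Ideal.span {(q : ℤ)})) A).comp
          (algebraMap ℤ _)) a = (a : A) := eq_intCast _ a
      rw [RingHom.comp_apply, h3] at h4
      have ha : a = 0 := by exact_mod_cast h4.symm
      rw [ha, IsLocalization.mk'_zero]
    haveI : Module.IsTorsionFree (Localization.AtPrime (Ideal.span {(q : ℤ)})) A := by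
      apply Module.IsTorsionFree.of_smul_eq_zero
      intro r m hrm
      rw [Algebra.smul_def, mul_eq_zero] at hrm
      rcases hrm with h | h
      · left
        rw [← map_zero (algebraMap (Localization.AtPrime (Ideal.span {(q : ℤ)})) A)] at h
        exact hinj h
      · exact Or.inr h
    haveI : CharP (ResidueField (Localization.AtPrime (Ideal.span {(q : ℤ)}))) q :=
      (algebraMap (ResidueField (Localization.AtPrime (Ideal.span {(q : ℤ)})))
        (ResidueField A)).charP (algebraMap (ResidueField (Localization.AtPrime (Ideal.span {(q : ℤ)})))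
        (ResidueField A)).injective q
    haveI := perfectField_residue_locInt q
    refine ⟨inferInstance, hnoeth, hcomp, inferInstance, ?_, ?_⟩
    · rw [hmapP, hmaxeq]
    · exact (FieldSep.formallySmooth_iff_isGeometricallyReduced _ _).mp
        (FieldSmooth.formallySmooth_of_perfectField _ _)

end Main

end Groth.Agent.Lib.Helper23.CohenRingZp
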