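import Mathlib
import Groth.Agent.Lib.Helper21.AdicNoetherian
import Groth.Agent.Lib.Helper13.SupportBaseChange

/-!
Dimension of adic completions along ideals in the Jacobson radical (EGA 0_IV 16.2.x): faithfullyFlat_adicCompletion (A Noetherian, J ≤ rad A ⇒ A^ faithfully flat), map_comap_maximal (maximal ideals of the J-adic completion are extended from maximal ideals of A), ringKrullDim_le_of_maximal_extended (S Noetherian R-algebra all of whose maximal ideals are extended from their contractions ⇒ dim S ≤ dim R), supportDim_tensor_le / le_supportDim_tensor (dim_{A^}(A^ ⊗ M) = dim_A M for finite M), t5811.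
-/

set_option autoImplicit false
set_option linter.unusedSectionVars false
set_option linter.style.haveILetI false
universe u


namespace Groth.Agent.Lib.Helper23.ComplDim

section

open IsLocalRing TensorProduct

section Completion

variable (A : Type u) [CommRing A] [IsNoetherianRing A] (J : Ideal A)

theorem isNoetherianRing_adicCompletion : IsNoetherianRing (AdicCompletion J A) :=
  Groth.Agent.Lib.Helper21.isNoetherianRing_adicCompletion_of_fg J (IsNoetherian.noetherian J)

theorem map_comap_maximal (M : Ideal (AdicCompletion J A)) [M.IsMaximal] :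
    (M.comap (algebraMap A (AdicCompletion J A))).IsMaximal ∧
      (M.comap (algebraMap A (AdicCompletion J A))).map (algebraMap A (AdicCompletion J A)) = M := by
  have hfg : J.FG := IsNoetherian.noetherian J
  haveI := AdicCompletion.isAdicComplete_self J hfg
  have hJM : J.map (algebraMap A (AdicCompletion J A)) ≤ M := by
    refine (IsAdicComplete.le_jacobson_bot (J.map (algebraMap A (AdicCompletion J A)))).trans ?_
    exact sInf_le ⟨bot_le, inferInstance⟩
  have hsurj : Function.Surjective ((Ideal.Quotient.mk M).comp (algebraMap A (AdicCompletion J A))) := by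
    intro y
    obtain ⟨x, rfl⟩ := Ideal.Quotient.mk_surjective y
    obtain ⟨a, ha⟩ := Ideal.Quotient.mk_surjective (AdicCompletion.evalOneₐ J x)
    refine ⟨a, ?_⟩
    rw [RingHom.comp_apply, Ideal.Quotient.eq]
    apply hJM
    rw [← AdicCompletion.ker_evalOneₐ_eq_map J hfg, RingHom.mem_ker]
    show AdicCompletion.evalOneₐ J (algebraMap A (AdicCompletion J A) a - x) = 0
    rw [map_sub, ← ha, sub_eq_zero]
    rfl
  letI : Field (AdicCompletion J A ⧸ M) := Ideal.Quotient.field M
  have hmax : (M.comap (algebraMap A (AdicCompletion J A))).IsMaximal := by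
    have h1 := Ideal.comap_isMaximal_of_surjective
      ((Ideal.Quotient.mk M).comp (algebraMap A (AdicCompletion J A))) hsurj
      (K := (⊥ : Ideal (AdicCompletion J A ⧸ M)))
    have h2 : (⊥ : Ideal (AdicCompletion J A ⧸ M)).comap
        ((Ideal.Quotient.mk M).comp (algebraMap A (AdicCompletion J A)))
        = M.comap (algebraMap A (AdicCompletion J A)) := by
      rw [← Ideal.comap_comap, ← RingHom.ker_eq_comap_bot, Ideal.mk_ker]
    rw [← h2]
    exact h1
  refine ⟨hmax, ?_⟩
  have hJm : J ≤ M.comap (algebraMap A (AdicCompletion J A)) := by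
    intro j hj
    exact hJM (Ideal.mem_map_of_mem _ hj)
  haveI := hmax
  have h3 := AdicCompletion.isMaximal_map_of_le J (M.comap (algebraMap A (AdicCompletion J A))) hJm hfg
  exact h3.eq_of_le (Ideal.IsPrime.ne_top inferInstance) Ideal.map_comap_le

/-- the completion along an ideal contained in the Jacobson radical is faithfully flat. -/
theorem faithfullyFlat_adicCompletion (hJ : J ≤ Ring.jacobson A) :
    Module.FaithfullyFlat A (AdicCompletion J A) := by
  have hfg : J.FG := IsNoetherian.noetherian J
  haveI : Module.Flat A (AdicCompletion J A) := inferInstance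
  refine Module.FaithfullyFlat.mk (fun m hm htop => ?_)
  have hJm : J ≤ m := by
    refine hJ.trans ?_
    rw [Ring.jacobson_eq_sInf_isMaximal]
    exact sInf_le hm
  haveI := hm
  have h3 := AdicCompletion.isMaximal_map_of_le J m hJm hfg
  have h4 : (m.map (algebraMap A (AdicCompletion J A)) : Ideal (AdicCompletion J A)) = ⊤ := by
    have h5 : m • (⊤ : Submodule A (AdicCompletion J A)) =
        (m.map (algebraMap A (AdicCompletion J A))).restrictScalars A := by
      rw [Ideal.smul_top_eq_map]
    rw [h5] at htop
    apply Submodule.restrictScalars_injective A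
    rw [htop]
    rfl
  exact h3.ne_top h4

end Completion


end

section

open IsLocalRing TensorProduct

section L1

variable (R S : Type u) [CommRing R] [CommRing S] [Algebra R S] [IsNoetherianRing R] [IsNoetherianRing S]

/-- if every maximal ideal of `S` is extended from its contraction then `dim S ≤ dim R`. -/
theorem ringKrullDim_le_of_maximal_extended
    (h : ∀ (P : Ideal S) [P.IsMaximal], (P.comap (algebraMap R S)).map (algebraMap R S) = P) :
    ringKrullDim S ≤ ringKrullDim R := by
  rcases subsingleton_or_nontrivial S with hS | hS
  · rw [ringKrullDim_eq_bot_of_subsingleton]; exact bot_le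
  rw [← Ideal.sup_isMaximal_height_eq_ringKrullDim, WithBot.coe_iSup ⟨⊤, fun _ _ => le_top⟩]
  refine iSup_le fun P => ?_
  by_cases hP : P.IsMaximal
  · haveI := hP
    haveI : (P.comap (algebraMap R S)).IsPrime := Ideal.comap_isPrime _ P
    haveI : P.LiesOver (P.comap (algebraMap R S)) := ⟨rfl⟩
    have h1 := Ideal.height_le_height_add_of_liesOver (P.comap (algebraMap R S)) P
    rw [h P] at h1
    have h2 : (P.map (Ideal.Quotient.mk P)) = ⊥ := by
      rw [Ideal.map_quotient_self]
    rw [h2] at h1
    haveI : Nontrivial (S ⧸ P) := Ideal.Quotient.nontrivial_iff.mpr hP.ne_top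
    rw [Ideal.height_bot, add_zero] at h1
    simp only [hP, iSup_pos]
    refine le_trans (WithBot.coe_le_coe.mpr h1) ?_
    exact Ideal.height_le_ringKrullDim_of_ne_top (Ideal.IsPrime.ne_top inferInstance)
  · simp [hP]
    rcases subsingleton_or_nontrivial R with hR | hR
    · exfalso
      exact (not_subsingleton S) (Function.Injective.subsingleton (f := fun _ : S => (0 : R))
        (fun a b _ => by
          have h1 : (1 : S) = 0 := by
            rw [← map_one (algebraMap R S), Subsingleton.elim (1 : R) 0, map_zero]
          rw [← one_mul a, ← one_mul b, h1, zero_mul, zero_mul]))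
    · exact ringKrullDim_nonneg_of_nontrivial

end L1


end

section

open IsLocalRing TensorProduct

section Le

variable (A : Type u) [CommRing A] [IsNoetherianRing A] (J : Ideal A)
  (M : Type u) [AddCommGroup M] [Module A M] [Module.Finite A M]

theorem map_annihilator_le :
    (Module.annihilator A M).map (algebraMap A (AdicCompletion J A)) ≤
      Module.annihilator (AdicCompletion J A) (AdicCompletion J A ⊗[A] M) := by
  rw [Ideal.map_le_iff_le_comap]
  intro a ha
  rw [Ideal.mem_comap, Module.mem_annihilator]
  intro x
  induction x using TensorProduct.induction_on with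
  | zero => rw [smul_zero]
  | tmul b m =>
    rw [TensorProduct.smul_tmul', smul_eq_mul, ← Algebra.smul_def,
      TensorProduct.smul_tmul, Module.mem_annihilator.mp ha m, TensorProduct.tmul_zero]
  | add x y hx hy => rw [smul_add, hx, hy, add_zero]

theorem quotient_maximal_extended (I : Ideal A)
    (P : Ideal (AdicCompletion J A ⧸ I.map (algebraMap A (AdicCompletion J A)))) [P.IsMaximal] :
    (P.comap (algebraMap (A ⧸ I) (AdicCompletion J A ⧸ I.map (algebraMap A (AdicCompletion J A))))).map
      (algebraMap (A ⧸ I) (AdicCompletion J A ⧸ I.map (algebraMap A (AdicCompletion J A)))) = P := by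
  refine le_antisymm Ideal.map_comap_le ?_
  haveI hnh : (P.comap (Ideal.Quotient.mk (I.map (algebraMap A (AdicCompletion J A))))).IsMaximal :=
    Ideal.comap_isMaximal_of_surjective _ Ideal.Quotient.mk_surjective
  obtain ⟨hmax, hmap⟩ := map_comap_maximal A J
    (P.comap (Ideal.Quotient.mk (I.map (algebraMap A (AdicCompletion J A)))))
  set n := (P.comap (Ideal.Quotient.mk (I.map (algebraMap A (AdicCompletion J A))))).comap
    (algebraMap A (AdicCompletion J A)) with hn
  have hsq : (algebraMap (A ⧸ I) (AdicCompletion J A ⧸ I.map (algebraMap A (AdicCompletion J A)))).comp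
      (Ideal.Quotient.mk I) =
      (Ideal.Quotient.mk (I.map (algebraMap A (AdicCompletion J A)))).comp
        (algebraMap A (AdicCompletion J A)) := by
    ext a; rfl
  have hP : P = (n.map (Ideal.Quotient.mk I)).map
      (algebraMap (A ⧸ I) (AdicCompletion J A ⧸ I.map (algebraMap A (AdicCompletion J A)))) := by
    rw [Ideal.map_map, hsq, ← Ideal.map_map, hmap,
      Ideal.map_comap_of_surjective _ Ideal.Quotient.mk_surjective]
  have h1 : n.map (Ideal.Quotient.mk I) ≤
      P.comap (algebraMap (A ⧸ I) (AdicCompletion J A ⧸ I.map (algebraMap A (AdicCompletion J A)))) := by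
    rw [← Ideal.map_le_iff_le_comap, ← hP]
  calc P = _ := hP
    _ ≤ _ := Ideal.map_mono h1

theorem supportDim_tensor_le :
    Module.supportDim (AdicCompletion J A) (AdicCompletion J A ⊗[A] M) ≤ Module.supportDim A M := by
  haveI := isNoetherianRing_adicCompletion A J
  rw [Module.supportDim_eq_ringKrullDim_quotient_annihilator,
    Module.supportDim_eq_ringKrullDim_quotient_annihilator]
  have hle := map_annihilator_le A J M
  have h1 : ringKrullDim (AdicCompletion J A ⧸
        Module.annihilator (AdicCompletion J A) (AdicCompletion J A ⊗[A] M)) ≤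
      ringKrullDim (AdicCompletion J A ⧸
        (Module.annihilator A M).map (algebraMap A (AdicCompletion J A))) :=
    ringKrullDim_le_of_surjective (Ideal.Quotient.factor hle) (Ideal.Quotient.factor_surjective hle)
  refine h1.trans ?_
  exact ringKrullDim_le_of_maximal_extended (A ⧸ Module.annihilator A M) _
    (fun P _ => quotient_maximal_extended A J (Module.annihilator A M) P)

end Le


end

section

open IsLocalRing TensorProduct

section Ge

variable (A : Type u) [CommRing A] [IsNoetherianRing A] (J : Ideal A)
  (M : Type u) [AddCommGroup M] [Module A M] [Module.Finite A M]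

theorem le_supportDim_tensor (hJ : J ≤ Ring.jacobson A) :
    Module.supportDim A M ≤ Module.supportDim (AdicCompletion J A) (AdicCompletion J A ⊗[A] M) := by
  haveI := isNoetherianRing_adicCompletion A J
  haveI := faithfullyFlat_adicCompletion A J hJ
  unfold Module.supportDim Order.krullDim
  refine iSup_le fun l => ?_
  -- the chain of primes of `A`
  let l' : LTSeries (PrimeSpectrum A) := l.map Subtype.val (fun a b hab => hab)
  obtain ⟨P, hP, hPl⟩ := Ideal.exists_isPrime_liesOver_of_faithfullyFlat
    (B := AdicCompletion J A) l'.last.asIdeal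
  obtain ⟨L, hlen, -, hmap⟩ := Ideal.exists_ltSeries_of_hasGoingDown l' P
  have hmem : ∀ i, L i ∈ Module.support (AdicCompletion J A) (AdicCompletion J A ⊗[A] M) := by
    intro i
    have h1 : L i ∈ L.toList := RelSeries.mem_toList.mpr ⟨i, rfl⟩
    have h2 : PrimeSpectrum.comap (algebraMap A (AdicCompletion J A)) (L i) ∈ l'.toList := by
      rw [← hmap]; exact List.mem_map_of_mem h1
    obtain ⟨j, hj⟩ := RelSeries.mem_toList.mp h2
    have h3 : PrimeSpectrum.comap (algebraMap A (AdicCompletion J A)) (L i) ∈ Module.support A M := by
      rw [← hj]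
      exact (l (j)).2
    haveI : (L i).asIdeal.LiesOver
        (PrimeSpectrum.comap (algebraMap A (AdicCompletion J A)) (L i)).asIdeal := ⟨rfl⟩
    exact Groth.Agent.Lib.Helper13.mem_support_baseChange_of_mem (S := A)
      (S' := AdicCompletion J A) (M := M)
      (PrimeSpectrum.comap (algebraMap A (AdicCompletion J A)) (L i)).asIdeal (L i).asIdeal h3
  let L' : LTSeries (Module.support (AdicCompletion J A) (AdicCompletion J A ⊗[A] M)) :=
    { length := L.length
      toFun := fun i => ⟨L i, hmem i⟩
      step := fun i => L.step i }
  have hlen' : L'.length = l.length := hlen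
  rw [← hlen']
  exact le_iSup (fun p : LTSeries (Module.support (AdicCompletion J A)
    (AdicCompletion J A ⊗[A] M)) => (p.length : WithBot ℕ∞)) L'

end Ge

section Final

theorem t5811 (A : Type u) [CommRing A] [IsNoetherianRing A]
    [Finite (MaximalSpectrum A)] (M : Type u) [AddCommGroup M] [Module A M] [Module.Finite A M] :
    Module.supportDim (AdicCompletion (Ring.jacobson A) A) (AdicCompletion (Ring.jacobson A) M) =
      Module.supportDim A M := by
  rw [← Module.supportDim_eq_of_equiv
    (AdicCompletion.ofTensorProductEquivOfFiniteNoetherian (Ring.jacobson A) M)]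
  exact le_antisymm (supportDim_tensor_le A (Ring.jacobson A) M)
    (le_supportDim_tensor A (Ring.jacobson A) M le_rfl)

end Final


end
end Groth.Agent.Lib.Helper23.ComplDim
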