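import Mathlib
import Groth.Prelude.Def_FSch3
import Groth.Agent.S0600
import Groth.Agent.Lib.Helper18.J2a
import Groth.Agent.Lib.Helper18.Exc
import Groth.Agent.Lib.Helper14.ComplFlat
import Groth.Agent.Lib.Helper18.CplQuot
import Groth.Agent.Lib.Helper23.RegularCompletion
import Groth.Agent.Lib.Helper16.RegularRingFacts

/-!
helper23: complMap_surjective (a surjective ring map g : B -> C of Noetherian rings with g(I)C = K induces a surjection FSch.complMap : AdicCompletion I B -> AdicCompletion K C).
-/

set_option autoImplicit false
universe u


namespace Groth.Agent.Lib.Helper23.ComplSurj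

open IsLocalRing

/-- a surjective ring map induces a surjection on adic completions (Noetherian source). -/
theorem complMap_surjective {B C : Type u} [CommRing B] [CommRing C] [IsNoetherianRing B]
    [IsNoetherianRing C] (I : Ideal B) (K : Ideal C) (g : B →+* C) (hg : Function.Surjective g)
    (h : I.map g = K) :
    Function.Surjective (FSch.complMap I K g h.le) := by
  have hIfg : I.FG := IsNoetherian.noetherian I
  have hKfg : K.FG := IsNoetherian.noetherian K
  haveI := AdicCompletion.isAdicComplete_self I hIfg
  haveI := AdicCompletion.isAdicComplete_self K hKfg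
  have hmap : (I.map (algebraMap B (AdicCompletion I B))).map (FSch.complMap I K g h.le) =
      K.map (algebraMap C (AdicCompletion K C)) := by
    rw [Ideal.map_map]
    have h1 : (FSch.complMap I K g h.le).comp (algebraMap B (AdicCompletion I B)) =
        (algebraMap C (AdicCompletion K C)).comp g := by
      apply RingHom.ext
      intro b
      exact Groth.Agent.Lib.Helper14.complMap_of I K g h.le b
    rw [h1, ← Ideal.map_map, h]
  haveI : IsHausdorff ((I.map (algebraMap B (AdicCompletion I B))).map (FSch.complMap I K g h.le))
      (AdicCompletion K C) := by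
    rw [hmap]
    infer_instance
  apply surjective_of_mk_map_comp_surjective (I := I.map (algebraMap B (AdicCompletion I B)))
    (f := FSch.complMap I K g h.le)
  intro y
  obtain ⟨y, rfl⟩ := Ideal.Quotient.mk_surjective y
  obtain ⟨c, hc⟩ := Ideal.Quotient.mk_surjective (AdicCompletion.evalₐ K 1 y)
  obtain ⟨b, rfl⟩ := hg c
  refine ⟨algebraMap B (AdicCompletion I B) b, ?_⟩
  rw [RingHom.comp_apply, Ideal.Quotient.eq, hmap, ← pow_one (Ideal.map _ _),
    Groth.Agent.Lib.Helper18.CplQuot.mem_map_pow_iff_evalₐ _ hKfg, map_sub]
  have h2 : FSch.complMap I K g h.le (algebraMap B (AdicCompletion I B) b) =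
      algebraMap C (AdicCompletion K C) (g b) :=
    Groth.Agent.Lib.Helper14.complMap_of I K g h.le b
  rw [h2, AdicCompletion.algebraMap_apply, AdicCompletion.evalₐ_of, Algebra.algebraMap_self,
    RingHom.id_apply, hc, sub_self]

end Groth.Agent.Lib.Helper23.ComplSurj
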