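import Mathlib
import Groth.Agent.Lib.Helper23.KeyLemma2

/-!
Eisenstein-type quotients B = A[T_1..T_r]/(G_1(T_1),…,G_r(T_r)), G_i monic of degree ≥ 2 with lower coefficients in 𝔪 (EisLike), A local (EGA 0_IV 22.5.x / 19.x): abstract setting (B generated by roots t_i with the lifting property): isIntegral_B, JJ, isLocalRing_B, t_mem, map_le, algebraMap_mem_iff, residue_surjective_B (A → B/𝔪_B onto), J' G = 𝔪² + (c_{i0}), mem_J'_of_mem_sq, t_notMem_sq, algebraMap_coeff_zero_mem_sq, kernel_eq (𝔪 ∩ 𝔪_B² = J' G). Instances: adjoin_t_eq_top, lift_quot (SepVar.Quot), AdjoinRoot F: isLocalRing_adjoinRoot, quotEquiv' (A₁/(root) ≅ A/(c₀)), oneVar' (edim). CotLI g (independence mod 𝔪²), cotLI_iff_linearIndependent, cotLI_step, EProp/eProp r (edim B ≥ edim A with equality iff CotLI of constant terms), GE d c = X^d + Σ_{k<d} c_k X^k (monic_GE, natDegree_GE, coeff_GE, aeval_GE, eisLike_GE, ideal_GE), isLocalRing_quot, residue_surjective_quot, kernel_eq_quot, regular_iff (A regular local: B regular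 ⇔ constant terms independent in 𝔪/𝔪²).
-/

set_option autoImplicit false
universe u
open IsLocalRing Polynomial

namespace Groth.Agent.Lib.Helper23.Eisenstein


open Groth.Agent.Lib.Helper23 Groth.Agent.Lib.Helper23.KeyLemma Groth.Agent.Lib.Helper23.KeyLemma2

/-- a monic polynomial of degree `≥ 2` all of whose lower coefficients are in the maximal ideal. -/
structure EisLike {A : Type u} [CommRing A] [IsLocalRing A] (F : A[X]) : Prop where
  monic : F.Monic
  deg : 2 ≤ F.natDegree
  coeff : ∀ k < F.natDegree, F.coeff k ∈ maximalIdeal A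

section Abs

variable {A B : Type u} [CommRing A] [IsLocalRing A] [CommRing B] [Algebra A B] {r : ℕ}
  (G : Fin r → A[X]) (t : Fin r → B)
  (hG : ∀ i, EisLike (G i))
  (ht : ∀ i, aeval (t i) (G i) = 0)
  (hlift : ∀ (C : Type u) [CommRing C] [Algebra A C] (c : Fin r → C),
    (∀ i, aeval (c i) (G i) = 0) → ∃ φ : B →ₐ[A] C, ∀ i, φ (t i) = c i)
  (hadj : Algebra.adjoin A (Set.range t) = ⊤)

include hG ht in
theorem t_pow_mem (i : Fin r) :
    t i ^ (G i).natDegree ∈ (maximalIdeal A).map (algebraMap A B) := by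
  have h := ht i
  rw [aeval_eq_sum_range, Finset.sum_range_succ, (hG i).monic.coeff_natDegree, one_smul] at h
  rw [eq_neg_of_add_eq_zero_right h]
  apply Ideal.neg_mem_iff _ |>.mpr
  apply Ideal.sum_mem
  intro k hk
  rw [Algebra.smul_def]
  exact Ideal.mul_mem_right _ _ (Ideal.mem_map_of_mem _ ((hG i).coeff k (Finset.mem_range.mp hk)))

include hG ht in
theorem isIntegral_t (i : Fin r) : IsIntegral A (t i) := ⟨G i, (hG i).monic, ht i⟩

include hG ht hadj in
theorem isIntegral_B : Algebra.IsIntegral A B := by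
  have h : Algebra.adjoin A (Set.range t) ≤ integralClosure A B := by
    apply Algebra.adjoin_le
    rintro _ ⟨i, rfl⟩
    exact isIntegral_t G t hG ht i
  rw [hadj] at h
  exact ⟨fun b => h Algebra.mem_top⟩

end Abs



open Groth.Agent.Lib.Helper23 Groth.Agent.Lib.Helper23.KeyLemma Groth.Agent.Lib.Helper23.KeyLemma2

section Abs2

variable {A B : Type u} [CommRing A] [IsLocalRing A] [CommRing B] [Algebra A B] {r : ℕ}
  (G : Fin r → A[X]) (t : Fin r → B)
  (hG : ∀ i, EisLike (G i))
  (ht : ∀ i, aeval (t i) (G i) = 0)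
  (hlift : ∀ (C : Type u) [CommRing C] [Algebra A C] (c : Fin r → C),
    (∀ i, aeval (c i) (G i) = 0) → ∃ φ : B →ₐ[A] C, ∀ i, φ (t i) = c i)
  (hadj : Algebra.adjoin A (Set.range t) = ⊤)

include hG in
theorem coeff_zero_mem (i : Fin r) : (G i).coeff 0 ∈ maximalIdeal A :=
  (hG i).coeff 0 (by have := (hG i).deg; omega)

include hG in
theorem coeff_one_mem (i : Fin r) : (G i).coeff 1 ∈ maximalIdeal A :=
  (hG i).coeff 1 (by have := (hG i).deg; omega)

include hG hlift in
theorem exists_psi : ∃ ψ : B →ₐ[A] ResidueField A, ∀ i, ψ (t i) = 0 :=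
  hlift (ResidueField A) (fun _ => 0) (fun i => by
    rw [← coeff_zero_eq_aeval_zero', ResidueField.algebraMap_eq, residue_eq_zero_iff]
    exact coeff_zero_mem G hG i)

/-- the ideal generated by the maximal ideal of `A` and the `t i`. -/
def JJ : Ideal B := (maximalIdeal A).map (algebraMap A B) ⊔ Ideal.span (Set.range t)

theorem JJ_le_ker (ψ : B →ₐ[A] ResidueField A) (hψ : ∀ i, ψ (t i) = 0) :
    JJ (A := A) t ≤ RingHom.ker (ψ : B →+* ResidueField A) := by
  refine sup_le ?_ ?_
  · rw [Ideal.map_le_iff_le_comap]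
    intro a ha
    rw [Ideal.mem_comap, RingHom.mem_ker]
    show ψ (algebraMap A B a) = 0
    rw [ψ.commutes, ResidueField.algebraMap_eq, residue_eq_zero_iff]
    exact ha
  · rw [Ideal.span_le]
    rintro _ ⟨i, rfl⟩
    exact hψ i

include hG hlift in
theorem JJ_ne_top : JJ (A := A) t ≠ ⊤ := by
  obtain ⟨ψ, hψ⟩ := exists_psi G t hG hlift
  intro h
  have h1 := JJ_le_ker t ψ hψ
  rw [h, top_le_iff] at h1
  exact (RingHom.ker_ne_top (ψ : B →+* ResidueField A)) h1

include hadj in
theorem surj_JJ :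
    Function.Surjective ((Ideal.Quotient.mk (JJ (A := A) t)).comp (algebraMap A B)) := by
  intro y
  obtain ⟨b, rfl⟩ := Ideal.Quotient.mk_surjective y
  have hb : b ∈ Algebra.adjoin A (Set.range t) := by rw [hadj]; trivial
  induction hb using Algebra.adjoin_induction with
  | mem x hx =>
    obtain ⟨i, rfl⟩ := hx
    refine ⟨0, ?_⟩
    rw [map_zero, eq_comm, Ideal.Quotient.eq_zero_iff_mem]
    exact le_sup_right (α := Ideal B) (Ideal.subset_span ⟨i, rfl⟩)
  | algebraMap a => exact ⟨a, rfl⟩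
  | add x y _ _ hx hy =>
    obtain ⟨a, ha⟩ := hx
    obtain ⟨b, hb⟩ := hy
    exact ⟨a + b, by rw [map_add, ha, hb, map_add]⟩
  | mul x y _ _ hx hy =>
    obtain ⟨a, ha⟩ := hx
    obtain ⟨b, hb⟩ := hy
    exact ⟨a * b, by rw [map_mul, ha, hb, map_mul]⟩

include hG ht hadj in
theorem JJ_le_maximal (M : Ideal B) (hM : M.IsMaximal) : JJ (A := A) t ≤ M := by
  haveI := isIntegral_B G t hG ht hadj
  refine sup_le (map_maximalIdeal_le_of_isIntegral M hM) ?_
  rw [Ideal.span_le]
  rintro _ ⟨i, rfl⟩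
  exact hM.isPrime.mem_of_pow_mem _
    (map_maximalIdeal_le_of_isIntegral M hM (t_pow_mem G t hG ht i))

include hG ht hlift hadj in
theorem isLocalRing_B : IsLocalRing B := by
  haveI : Nontrivial (B ⧸ JJ (A := A) t) :=
    Ideal.Quotient.nontrivial_iff.mpr (JJ_ne_top G t hG hlift)
  haveI : IsLocalRing (B ⧸ JJ (A := A) t) :=
    IsLocalRing.of_surjective' _ (surj_JJ t hadj)
  exact isLocalRing_of_quotient (JJ (A := A) t) (JJ_le_maximal G t hG ht hadj)

variable [IsLocalRing B]

include hG ht hadj in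
theorem JJ_le_maximalIdeal : JJ (A := A) t ≤ maximalIdeal B :=
  JJ_le_maximal G t hG ht hadj _ (maximalIdeal.isMaximal B)

include hG ht hadj in
theorem t_mem (i : Fin r) : t i ∈ maximalIdeal B :=
  JJ_le_maximalIdeal G t hG ht hadj
    (le_sup_right (α := Ideal B) (Ideal.subset_span ⟨i, rfl⟩))

include hG ht hadj in
theorem map_le : (maximalIdeal A).map (algebraMap A B) ≤ maximalIdeal B :=
  le_trans le_sup_left (JJ_le_maximalIdeal G t hG ht hadj)

include hG ht hadj in
theorem algebraMap_mem_iff (a : A) : algebraMap A B a ∈ maximalIdeal B ↔ a ∈ maximalIdeal A := by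
  constructor
  · intro h
    by_contra hna
    have hu : IsUnit a := by
      by_contra h'
      exact hna ((mem_maximalIdeal a).mpr h')
    exact (mem_maximalIdeal _).mp h (hu.map _)
  · intro h
    exact map_le G t hG ht hadj (Ideal.mem_map_of_mem _ h)

include hG ht hadj in
theorem residue_surjective_B :
    Function.Surjective ((Ideal.Quotient.mk (maximalIdeal B)).comp (algebraMap A B)) := by
  intro y
  obtain ⟨b, rfl⟩ := Ideal.Quotient.mk_surjective y
  obtain ⟨a, ha⟩ := surj_JJ (A := A) t hadj (Ideal.Quotient.mk _ b)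
  refine ⟨a, ?_⟩
  rw [RingHom.comp_apply, Ideal.Quotient.eq] at ha ⊢
  exact JJ_le_maximalIdeal G t hG ht hadj ha

include hG ht hadj in
theorem ker_psi (ψ : B →ₐ[A] ResidueField A) :
    RingHom.ker (ψ : B →+* ResidueField A) = maximalIdeal B := by
  have hsurj : Function.Surjective (ψ : B →+* ResidueField A) := by
    intro y
    obtain ⟨a, rfl⟩ := residue_surjective y
    exact ⟨algebraMap A B a, ψ.commutes a⟩
  exact eq_maximalIdeal (RingHom.ker_isMaximal_of_surjective _ hsurj)

end Abs2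



open Groth.Agent.Lib.Helper23 Groth.Agent.Lib.Helper23.KeyLemma Groth.Agent.Lib.Helper23.KeyLemma2

section Abs3

open TrivSqZeroExt

attribute [local instance] Groth.Agent.Lib.Helper23.PBasisDer.opModule
  Groth.Agent.Lib.Helper23.PBasisDer.isCentral

variable {A B : Type u} [CommRing A] [IsLocalRing A] [CommRing B] [Algebra A B] {r : ℕ}
  (G : Fin r → A[X]) (t : Fin r → B)
  (hG : ∀ i, EisLike (G i))
  (ht : ∀ i, aeval (t i) (G i) = 0)
  (hlift : ∀ (C : Type u) [CommRing C] [Algebra A C] (c : Fin r → C),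
    (∀ i, aeval (c i) (G i) = 0) → ∃ φ : B →ₐ[A] C, ∀ i, φ (t i) = c i)
  (hadj : Algebra.adjoin A (Set.range t) = ⊤)

/-- the ideal `𝔪² + (c_{i0})`. -/
def J' : Ideal A := maximalIdeal A ^ 2 ⊔ Ideal.span (Set.range fun i => (G i).coeff 0)

include hG in
theorem J'_le : J' G ≤ maximalIdeal A := by
  refine sup_le (Ideal.pow_le_self two_ne_zero) ?_
  rw [Ideal.span_le]
  rintro _ ⟨i, rfl⟩
  exact coeff_zero_mem G hG i

include hG in
theorem isLocalRing_quot_J' : IsLocalRing (A ⧸ J' G) := isLocalRing_quotient _ (J'_le G hG)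

theorem maximalIdeal_sq_quot [IsLocalRing (A ⧸ J' G)] : maximalIdeal (A ⧸ J' G) ^ 2 = ⊥ := by
  rw [Groth.Agent.Lib.Helper21.maximalIdeal_quotient_eq_map, ← Ideal.map_pow, eq_bot_iff]
  rw [Ideal.map_le_iff_le_comap]
  intro x hx
  rw [Ideal.mem_comap, Ideal.mem_bot, Ideal.Quotient.eq_zero_iff_mem]
  exact le_sup_left (α := Ideal A) hx

theorem smul_eq_zero_of_mem [IsLocalRing (A ⧸ J' G)] (u : A ⧸ J' G)
    (hu : u ∈ maximalIdeal (A ⧸ J' G)) (v : Fin r → ResidueField (A ⧸ J' G)) : u • v = 0 := by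
  funext j
  rw [Pi.smul_apply, Algebra.smul_def, ResidueField.algebraMap_eq,
    (residue_eq_zero_iff u).mpr hu, zero_mul]
  rfl

theorem mul_eq_zero_of_fst_mem [IsLocalRing (A ⧸ J' G)]
    (x y : TrivSqZeroExt (A ⧸ J' G) (Fin r → ResidueField (A ⧸ J' G)))
    (hx : x.fst ∈ maximalIdeal (A ⧸ J' G)) (hy : y.fst ∈ maximalIdeal (A ⧸ J' G)) : x * y = 0 := by
  apply TrivSqZeroExt.ext
  · rw [fst_mul, fst_zero]
    have : x.fst * y.fst ∈ maximalIdeal (A ⧸ J' G) ^ 2 := by
      rw [pow_two]; exact Ideal.mul_mem_mul hx hy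
    rw [maximalIdeal_sq_quot] at this
    exact this
  · rw [snd_mul, snd_zero, smul_eq_zero_of_mem G _ hx, op_smul_eq_smul,
      smul_eq_zero_of_mem G _ hy, add_zero]

include hG in
theorem aeval_inr [IsLocalRing (A ⧸ J' G)] (i : Fin r) :
    aeval (inr (Pi.single i 1) : TrivSqZeroExt (A ⧸ J' G) (Fin r → ResidueField (A ⧸ J' G)))
      (G i) = 0 := by
  classical
  rw [aeval_eq_sum_range]
  apply Finset.sum_eq_zero
  intro k _
  rcases k with _ | _ | k
  · have hmem : (G i).coeff 0 ∈ J' G := by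
      have h0 : (G i).coeff 0 ∈ Ideal.span (Set.range fun i => (G i).coeff 0) :=
        Ideal.subset_span (Set.mem_range_self i)
      exact (le_sup_right : _ ≤ J' G) h0
    rw [pow_zero, Algebra.smul_def, mul_one, algebraMap_eq_inl', Ideal.Quotient.algebraMap_eq,
      Ideal.Quotient.eq_zero_iff_mem.mpr hmem, inl_zero]
  · rw [pow_one, Algebra.smul_def, algebraMap_eq_inl', inl_mul_inr, Ideal.Quotient.algebraMap_eq,
      smul_eq_zero_of_mem G, inr_zero]
    rw [Groth.Agent.Lib.Helper21.maximalIdeal_quotient_eq_map]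
    exact Ideal.mem_map_of_mem _ (coeff_one_mem G hG i)
  · rw [pow_succ, pow_succ, mul_assoc, inr_mul_inr, mul_zero, smul_zero]

include hG ht hlift hadj in
/-- the main kernel computation. -/
theorem mem_J'_of_mem_sq [IsLocalRing B] (a : A) (ha : algebraMap A B a ∈ maximalIdeal B ^ 2) :
    a ∈ J' G := by
  classical
  haveI := isLocalRing_quot_J' G hG
  obtain ⟨φ, hφ⟩ := hlift (TrivSqZeroExt (A ⧸ J' G) (Fin r → ResidueField (A ⧸ J' G)))
    (fun i => inr (Pi.single i 1)) (aeval_inr G hG)
  -- φ maps 𝔪_B into elements with fst in the maximal ideal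
  let ρ : B →+* ResidueField (A ⧸ J' G) :=
    (residue (A ⧸ J' G)).comp ((fstHom (A ⧸ J' G) (A ⧸ J' G) _).toRingHom.comp
      (φ : B →+* TrivSqZeroExt (A ⧸ J' G) (Fin r → ResidueField (A ⧸ J' G))))
  have hρ : ∀ b, ρ b = residue _ (φ b).fst := fun b => rfl
  have hρsurj : Function.Surjective ρ := by
    intro y
    obtain ⟨u, rfl⟩ := residue_surjective y
    obtain ⟨a', rfl⟩ := Ideal.Quotient.mk_surjective u
    refine ⟨algebraMap A B a', ?_⟩
    rw [hρ, φ.commutes, algebraMap_eq_inl', fst_inl]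
    rfl
  have hker : RingHom.ker ρ = maximalIdeal B :=
    eq_maximalIdeal (RingHom.ker_isMaximal_of_surjective _ hρsurj)
  have hfst : ∀ b ∈ maximalIdeal B, (φ b).fst ∈ maximalIdeal (A ⧸ J' G) := by
    intro b hb
    rw [← hker, RingHom.mem_ker, hρ, residue_eq_zero_iff] at hb
    exact hb
  have hkill : ∀ x ∈ maximalIdeal B ^ 2, φ x = 0 := by
    intro x hx
    rw [pow_two] at hx
    refine Submodule.mul_induction_on hx ?_ ?_
    · intro b hb c hc
      rw [map_mul]
      exact mul_eq_zero_of_fst_mem G _ _ (hfst b hb) (hfst c hc)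
    · intro b c hb hc
      rw [map_add, hb, hc, add_zero]
  have h1 := hkill _ ha
  rw [φ.commutes, algebraMap_eq_inl'] at h1
  have h2 := congrArg TrivSqZeroExt.fst h1
  rw [fst_inl, fst_zero, Ideal.Quotient.algebraMap_eq, Ideal.Quotient.eq_zero_iff_mem] at h2
  exact h2

include hG ht hlift hadj in
theorem t_notMem_sq [IsLocalRing B] (i : Fin r) : t i ∉ maximalIdeal B ^ 2 := by
  classical
  haveI := isLocalRing_quot_J' G hG
  obtain ⟨φ, hφ⟩ := hlift (TrivSqZeroExt (A ⧸ J' G) (Fin r → ResidueField (A ⧸ J' G)))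
    (fun i => inr (Pi.single i 1)) (aeval_inr G hG)
  let ρ : B →+* ResidueField (A ⧸ J' G) :=
    (residue (A ⧸ J' G)).comp ((fstHom (A ⧸ J' G) (A ⧸ J' G) _).toRingHom.comp
      (φ : B →+* TrivSqZeroExt (A ⧸ J' G) (Fin r → ResidueField (A ⧸ J' G))))
  have hρ : ∀ b, ρ b = residue _ (φ b).fst := fun b => rfl
  have hρsurj : Function.Surjective ρ := by
    intro y
    obtain ⟨u, rfl⟩ := residue_surjective y
    obtain ⟨a', rfl⟩ := Ideal.Quotient.mk_surjective u
    refine ⟨algebraMap A B a', ?_⟩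
    rw [hρ, φ.commutes, algebraMap_eq_inl', fst_inl]
    rfl
  have hker : RingHom.ker ρ = maximalIdeal B :=
    eq_maximalIdeal (RingHom.ker_isMaximal_of_surjective _ hρsurj)
  have hfst : ∀ b ∈ maximalIdeal B, (φ b).fst ∈ maximalIdeal (A ⧸ J' G) := by
    intro b hb
    rw [← hker, RingHom.mem_ker, hρ, residue_eq_zero_iff] at hb
    exact hb
  have hkill : ∀ x ∈ maximalIdeal B ^ 2, φ x = 0 := by
    intro x hx
    rw [pow_two] at hx
    refine Submodule.mul_induction_on hx ?_ ?_
    · intro b hb c hc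
      rw [map_mul]
      exact mul_eq_zero_of_fst_mem G _ _ (hfst b hb) (hfst c hc)
    · intro b c hb hc
      rw [map_add, hb, hc, add_zero]
  intro hmem
  have h1 := hkill _ hmem
  rw [hφ i] at h1
  have h2 := congrArg TrivSqZeroExt.snd h1
  rw [snd_inr, snd_zero] at h2
  have h3 := congrFun h2 i
  rw [Pi.single_eq_same, Pi.zero_apply] at h3
  exact one_ne_zero h3

end Abs3



open Groth.Agent.Lib.Helper23 Groth.Agent.Lib.Helper23.KeyLemma Groth.Agent.Lib.Helper23.KeyLemma2

section Abs4

variable {A B : Type u} [CommRing A] [IsLocalRing A] [CommRing B] [Algebra A B] {r : ℕ}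
  (G : Fin r → A[X]) (t : Fin r → B)
  (hG : ∀ i, EisLike (G i))
  (ht : ∀ i, aeval (t i) (G i) = 0)
  (hlift : ∀ (C : Type u) [CommRing C] [Algebra A C] (c : Fin r → C),
    (∀ i, aeval (c i) (G i) = 0) → ∃ φ : B →ₐ[A] C, ∀ i, φ (t i) = c i)
  (hadj : Algebra.adjoin A (Set.range t) = ⊤)
  [IsLocalRing B]

include hG ht hlift hadj in
theorem algebraMap_coeff_zero_mem_sq (i : Fin r) :
    algebraMap A B ((G i).coeff 0) ∈ maximalIdeal B ^ 2 := by
  obtain ⟨ψ, hψ⟩ := exists_psi G t hG hlift
  have h1 := congrArg (aeval (t i)) (divX_mul_X_add (G i))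
  rw [map_add, map_mul, aeval_X, aeval_C, ht i] at h1
  have h2 : aeval (t i) (divX (G i)) ∈ maximalIdeal B := by
    rw [← ker_psi G t hG ht hadj ψ, RingHom.mem_ker]
    show ψ (aeval (t i) (divX (G i))) = 0
    rw [← aeval_algHom_apply, hψ i, ← coeff_zero_eq_aeval_zero', coeff_divX, zero_add,
      ResidueField.algebraMap_eq, residue_eq_zero_iff]
    exact coeff_one_mem G hG i
  rw [eq_neg_of_add_eq_zero_right h1, pow_two]
  exact neg_mem (Ideal.mul_mem_mul h2 (t_mem G t hG ht hadj i))

include hG ht hlift hadj in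
theorem kernel_eq :
    maximalIdeal A ⊓ Ideal.comap (algebraMap A B) (maximalIdeal B ^ 2) = J' G := by
  apply le_antisymm
  · rintro a ⟨-, ha⟩
    exact mem_J'_of_mem_sq G t hG ht hlift hadj a ha
  · refine sup_le (le_inf (Ideal.pow_le_self two_ne_zero) ?_) ?_
    · intro a ha
      rw [Ideal.mem_comap]
      have := Ideal.mem_map_of_mem (algebraMap A B) ha
      rw [Ideal.map_pow] at this
      exact Ideal.pow_right_mono (map_le G t hG ht hadj) 2 this
    · rw [Ideal.span_le]
      rintro _ ⟨i, rfl⟩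
      exact ⟨coeff_zero_mem G hG i, algebraMap_coeff_zero_mem_sq G t hG ht hlift hadj i⟩

end Abs4



open Groth.Agent.Lib.Helper23 Groth.Agent.Lib.Helper23.KeyLemma Groth.Agent.Lib.Helper23.KeyLemma2

section Inst

variable {A : Type u} [CommRing A]

theorem adjoin_t_eq_top {r : ℕ} (G : Fin r → A[X]) :
    Algebra.adjoin A (Set.range (SepVar.t G)) = ⊤ := by
  have h : (Algebra.adjoin A (Set.range (MvPolynomial.X : Fin r → MvPolynomial (Fin r) A))).map
      (Ideal.Quotient.mkₐ A (SepVar.ideal A G)) = ⊤ := by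
    rw [MvPolynomial.adjoin_range_X, Algebra.map_top, AlgHom.range_eq_top]
    exact Ideal.Quotient.mkₐ_surjective A _
  rw [AlgHom.map_adjoin, ← Set.range_comp] at h
  exact h

theorem lift_quot {r : ℕ} (G : Fin r → A[X]) (C : Type u) [CommRing C] [Algebra A C]
    (c : Fin r → C) (hc : ∀ i, aeval (c i) (G i) = 0) :
    ∃ φ : SepVar.Quot A G →ₐ[A] C, ∀ i, φ (SepVar.t G i) = c i :=
  ⟨SepVar.lift G c hc, SepVar.lift_t G c hc⟩

theorem aeval_root (F : A[X]) : aeval (AdjoinRoot.root F) F = 0 := by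
  rw [AdjoinRoot.aeval_eq, AdjoinRoot.mk_self]

theorem adjoin_root_eq_top (F : A[X]) :
    Algebra.adjoin A (Set.range (fun _ : Fin 1 => AdjoinRoot.root F)) = ⊤ := by
  rw [Set.range_const]
  exact AdjoinRoot.adjoinRoot_eq_top

theorem lift_adjoinRoot (F : A[X]) (C : Type u) [CommRing C] [Algebra A C]
    (c : Fin 1 → C) (hc : ∀ i, aeval (c i) ((fun _ : Fin 1 => F) i) = 0) :
    ∃ φ : AdjoinRoot F →ₐ[A] C, ∀ i, φ ((fun _ : Fin 1 => AdjoinRoot.root F) i) = c i := by
  refine ⟨AdjoinRoot.liftAlgHom F (Algebra.ofId A C) (c 0) (hc 0), fun i => ?_⟩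
  have : i = 0 := Subsingleton.elim _ _
  subst this
  simp

end Inst

section OneVar

variable {A : Type u} [CommRing A] [IsLocalRing A] (F : A[X]) (hF : EisLike F)

include hF in
theorem isLocalRing_adjoinRoot : IsLocalRing (AdjoinRoot F) :=
  isLocalRing_B (fun _ : Fin 1 => F) (fun _ => AdjoinRoot.root F) (fun _ => hF)
    (fun _ => aeval_root F) (lift_adjoinRoot F) (adjoin_root_eq_top F)

/-- `A₁ → A/(c₀)`, `root ↦ 0`. -/
noncomputable def toQuot' : AdjoinRoot F →+* A ⧸ Ideal.span {F.coeff 0} :=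
  AdjoinRoot.lift (Ideal.Quotient.mk _) 0 (by
    rw [eval₂_at_zero, Ideal.Quotient.eq_zero_iff_mem]
    exact Ideal.mem_span_singleton_self _)

theorem toQuot'_of (a : A) : toQuot' F (AdjoinRoot.of _ a) = Ideal.Quotient.mk _ a :=
  AdjoinRoot.lift_of _

theorem toQuot'_root : toQuot' F (AdjoinRoot.root _) = 0 :=
  AdjoinRoot.lift_root _

theorem of_coeff_zero_mem : AdjoinRoot.of F (F.coeff 0) ∈ Ideal.span {AdjoinRoot.root F} := by
  have h1 := congrArg (AdjoinRoot.mk F) (divX_mul_X_add F)
  rw [map_add, map_mul, AdjoinRoot.mk_X, AdjoinRoot.mk_C, AdjoinRoot.mk_self] at h1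
  rw [eq_neg_of_add_eq_zero_right h1]
  exact neg_mem (Ideal.mul_mem_left _ _ (Ideal.mem_span_singleton_self _))

/-- the isomorphism `A₁/(root) ≅ A/(c₀)`. -/
noncomputable def quotEquiv' :
    (AdjoinRoot F ⧸ Ideal.span {AdjoinRoot.root F}) ≃+* A ⧸ Ideal.span {F.coeff 0} :=
  RingEquiv.ofRingHom
    (Ideal.Quotient.lift (Ideal.span {AdjoinRoot.root F}) (toQuot' F) (by
      intro x hx
      obtain ⟨y, rfl⟩ := Ideal.mem_span_singleton'.mp hx
      rw [map_mul, toQuot'_root, mul_zero]))
    (Ideal.Quotient.lift (Ideal.span {F.coeff 0})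
      ((Ideal.Quotient.mk (Ideal.span {AdjoinRoot.root F})).comp (AdjoinRoot.of F)) (by
      intro x hx
      obtain ⟨y, rfl⟩ := Ideal.mem_span_singleton'.mp hx
      rw [map_mul, RingHom.comp_apply (x := F.coeff 0),
        Ideal.Quotient.eq_zero_iff_mem.mpr (of_coeff_zero_mem F), mul_zero]))
    (by
      apply Ideal.Quotient.ringHom_ext
      ext a
      simp [toQuot'_of])
    (by
      apply Ideal.Quotient.ringHom_ext
      apply AdjoinRoot.ringHom_ext
      · ext a
        simp [toQuot'_of]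
      · simp only [RingHom.comp_apply, Ideal.Quotient.lift_mk, toQuot'_root, RingHom.id_apply,
          map_zero]
        rw [eq_comm, Ideal.Quotient.eq_zero_iff_mem]
        exact Ideal.mem_span_singleton_self _)

include hF in
theorem oneVar' [IsNoetherianRing A] :
    (maximalIdeal A).spanFinrank ≤
      (@maximalIdeal (AdjoinRoot F) _ (isLocalRing_adjoinRoot F hF)).spanFinrank ∧
    ((@maximalIdeal (AdjoinRoot F) _ (isLocalRing_adjoinRoot F hF)).spanFinrank =
      (maximalIdeal A).spanFinrank ↔ F.coeff 0 ∉ maximalIdeal A ^ 2) := by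
  haveI := isLocalRing_adjoinRoot F hF
  haveI : Module.Finite A (AdjoinRoot F) := hF.monic.finite_adjoinRoot
  haveI : IsNoetherianRing (AdjoinRoot F) := IsNoetherianRing.of_finite A _
  have hs : AdjoinRoot.root F ∈ maximalIdeal (AdjoinRoot F) :=
    t_mem (fun _ : Fin 1 => F) (fun _ => AdjoinRoot.root F) (fun _ => hF)
      (fun _ => aeval_root F) (adjoin_root_eq_top F) 0
  have hs2 : AdjoinRoot.root F ∉ maximalIdeal (AdjoinRoot F) ^ 2 :=
    t_notMem_sq (fun _ : Fin 1 => F) (fun _ => AdjoinRoot.root F) (fun _ => hF)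
      (fun _ => aeval_root F) (lift_adjoinRoot F) (adjoin_root_eq_top F) 0
  have hg : F.coeff 0 ∈ maximalIdeal A := hF.coeff 0 (by have := hF.deg; omega)
  haveI : IsLocalRing (AdjoinRoot F ⧸ Ideal.span {AdjoinRoot.root F}) :=
    isLocalRing_quotient _ ((Ideal.span_singleton_le_iff_mem _).mpr hs)
  haveI : IsLocalRing (A ⧸ Ideal.span {F.coeff 0}) :=
    isLocalRing_quotient _ ((Ideal.span_singleton_le_iff_mem _).mpr hg)
  have E1 := edim_quotient_of_notMem_sq hs hs2
  have E2 := edim_eq_of_ringEquiv (quotEquiv' F)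
  by_cases hg2 : F.coeff 0 ∈ maximalIdeal A ^ 2
  · have E3 := edim_quotient_of_mem_sq hg2
    constructor
    · omega
    · constructor
      · intro h; omega
      · intro h; exact absurd hg2 h
  · have E3 := edim_quotient_of_notMem_sq hg hg2
    constructor
    · omega
    · constructor
      · intro _; exact hg2
      · intro _; omega

end OneVar



open Groth.Agent.Lib.Helper23 Groth.Agent.Lib.Helper23.KeyLemma Groth.Agent.Lib.Helper23.KeyLemma2

section CotLI

variable {A : Type u} [CommRing A] [IsLocalRing A]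

/-- independence of the classes of `g i` in `𝔪/𝔪²`. -/
def CotLI {r : ℕ} (g : Fin r → A) : Prop :=
  ∀ l : Fin r → A, ∑ i, l i * g i ∈ maximalIdeal A ^ 2 → ∀ i, l i ∈ maximalIdeal A

theorem cotLI_iff_linearIndependent {r : ℕ} (g : Fin r → A) (hg : ∀ i, g i ∈ maximalIdeal A) :
    CotLI g ↔ LinearIndependent (ResidueField A)
      (fun i => (maximalIdeal A).toCotangent ⟨g i, hg i⟩) := by
  have key : ∀ l : Fin r → A,
      ∑ i, residue A (l i) • (maximalIdeal A).toCotangent ⟨g i, hg i⟩ =
        (maximalIdeal A).toCotangent ⟨∑ i, l i * g i,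
          Ideal.sum_mem _ (fun i _ => Ideal.mul_mem_left _ _ (hg i))⟩ := by
    intro l
    have h1 : (⟨∑ i, l i * g i, Ideal.sum_mem _ (fun i _ => Ideal.mul_mem_left _ _ (hg i))⟩ :
        maximalIdeal A) = ∑ i, l i • (⟨g i, hg i⟩ : maximalIdeal A) := by
      apply Subtype.ext
      simp [Submodule.coe_sum]
    rw [h1, map_sum]
    apply Finset.sum_congr rfl
    intro i _
    rw [map_smul]
    rfl
  rw [Fintype.linearIndependent_iff]
  constructor
  · intro h c hc i
    choose l hl using fun i => residue_surjective (c i)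
    have h2 := key l
    simp only [hl] at h2
    rw [hc, eq_comm, Ideal.toCotangent_eq_zero] at h2
    have := h l h2 i
    rw [← hl i, residue_eq_zero_iff]
    exact this
  · intro h l hl i
    have h2 := key l
    rw [(Ideal.toCotangent_eq_zero _ _).mpr hl] at h2
    have := h (fun i => residue A (l i)) h2 i
    exact (residue_eq_zero_iff _).mp this

end CotLI

section Step

variable {A : Type u} [CommRing A] [IsLocalRing A] (F : A[X]) (hF : EisLike F)

include hF in
/-- the inductive step for independence of constant terms. -/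
theorem cotLI_step {r : ℕ} (g : Fin (r + 1) → A) (hg0 : g 0 = F.coeff 0)
    (hg : ∀ i, g i ∈ maximalIdeal A) :
    letI := isLocalRing_adjoinRoot F hF
    (g 0 ∉ maximalIdeal A ^ 2 ∧ CotLI (fun i : Fin r => AdjoinRoot.of F (g i.succ))) ↔ CotLI g := by
  haveI := isLocalRing_adjoinRoot F hF
  -- the abstract facts
  have hmemiff : ∀ a : A, AdjoinRoot.of F a ∈ maximalIdeal (AdjoinRoot F) ↔ a ∈ maximalIdeal A :=
    algebraMap_mem_iff (fun _ : Fin 1 => F) (fun _ => AdjoinRoot.root F) (fun _ => hF)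
      (fun _ => aeval_root F) (adjoin_root_eq_top F)
  have hK7 : ∀ a : A, AdjoinRoot.of F a ∈ maximalIdeal (AdjoinRoot F) ^ 2 →
      a ∈ maximalIdeal A ^ 2 ⊔ Ideal.span {g 0} := by
    intro a ha
    have := mem_J'_of_mem_sq (fun _ : Fin 1 => F) (fun _ => AdjoinRoot.root F) (fun _ => hF)
      (fun _ => aeval_root F) (lift_adjoinRoot F) (adjoin_root_eq_top F) a ha
    unfold J' at this
    rw [Set.range_const] at this
    rw [hg0]
    exact this
  have hK8 : AdjoinRoot.of F (g 0) ∈ maximalIdeal (AdjoinRoot F) ^ 2 := by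
    rw [hg0]
    exact algebraMap_coeff_zero_mem_sq (fun _ : Fin 1 => F) (fun _ => AdjoinRoot.root F)
      (fun _ => hF) (fun _ => aeval_root F) (lift_adjoinRoot F) (adjoin_root_eq_top F) 0
  have hsq : ∀ a ∈ maximalIdeal A ^ 2, AdjoinRoot.of F a ∈ maximalIdeal (AdjoinRoot F) ^ 2 := by
    intro a ha
    have := Ideal.mem_map_of_mem (AdjoinRoot.of F) ha
    rw [Ideal.map_pow] at this
    refine Ideal.pow_right_mono ?_ 2 this
    rw [Ideal.map_le_iff_le_comap]
    intro x hx
    exact (hmemiff x).mpr hx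
  have hres := residue_surjective_B (fun _ : Fin 1 => F) (fun _ => AdjoinRoot.root F)
    (fun _ => hF) (fun _ => aeval_root F) (adjoin_root_eq_top F)
  constructor
  · rintro ⟨h0, h1⟩ l hl
    have h2 := hsq _ hl
    rw [map_sum, Fin.sum_univ_succ] at h2
    simp only [map_mul] at h2
    have h3 : ∑ i : Fin r, AdjoinRoot.of F (l i.succ) * AdjoinRoot.of F (g i.succ) ∈
        maximalIdeal (AdjoinRoot F) ^ 2 := by
      have h4 := Ideal.sub_mem _ h2 (Ideal.mul_mem_left _ (AdjoinRoot.of F (l 0)) hK8)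
      rwa [add_sub_cancel_left] at h4
    have h5 := h1 (fun i => AdjoinRoot.of F (l i.succ)) h3
    have h6 : ∀ i : Fin r, l i.succ ∈ maximalIdeal A := fun i => (hmemiff _).mp (h5 i)
    have h7 : l 0 * g 0 ∈ maximalIdeal A ^ 2 := by
      rw [Fin.sum_univ_succ] at hl
      have h8 : ∑ i : Fin r, l i.succ * g i.succ ∈ maximalIdeal A ^ 2 := by
        apply Ideal.sum_mem
        intro i _
        rw [pow_two]
        exact Ideal.mul_mem_mul (h6 i) (hg _)
      have := Ideal.sub_mem _ hl h8
      rwa [add_sub_cancel_right] at this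
    intro i
    refine Fin.cases ?_ h6 i
    by_contra hl0
    have hu : IsUnit (l 0) := by
      by_contra h'
      exact hl0 ((mem_maximalIdeal _).mpr h')
    exact h0 ((Ideal.unit_mul_mem_iff_mem _ hu).mp h7)
  · intro h
    refine ⟨?_, ?_⟩
    · intro h0
      have := h (fun i => if i = 0 then 1 else 0) (by
        simp only [ite_mul, one_mul, zero_mul, Finset.sum_ite_eq', Finset.mem_univ, if_true]
        exact h0) 0
      simp only [if_true] at this
      exact (mem_maximalIdeal _).mp this isUnit_one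
    · intro l' hl' i
      choose a ha using fun i => hres (Ideal.Quotient.mk _ (l' i))
      have ha' : ∀ i, l' i - AdjoinRoot.of F (a i) ∈ maximalIdeal (AdjoinRoot F) := by
        intro i
        have := ha i
        rw [RingHom.comp_apply, eq_comm, Ideal.Quotient.eq] at this
        exact this
      have h1 : AdjoinRoot.of F (∑ i : Fin r, a i * g i.succ) ∈
          maximalIdeal (AdjoinRoot F) ^ 2 := by
        have h2 : ∑ i : Fin r, (l' i - AdjoinRoot.of F (a i)) * AdjoinRoot.of F (g i.succ) ∈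
            maximalIdeal (AdjoinRoot F) ^ 2 := by
          apply Ideal.sum_mem
          intro i _
          rw [pow_two]
          exact Ideal.mul_mem_mul (ha' i) ((hmemiff _).mpr (hg _))
        have h3 := Ideal.sub_mem _ hl' h2
        rw [← Finset.sum_sub_distrib] at h3
        have h4 : ∑ i : Fin r, (l' i * AdjoinRoot.of F (g i.succ) -
            (l' i - AdjoinRoot.of F (a i)) * AdjoinRoot.of F (g i.succ)) =
            AdjoinRoot.of F (∑ i : Fin r, a i * g i.succ) := by
          rw [map_sum]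
          apply Finset.sum_congr rfl
          intro i _
          rw [map_mul]
          ring
        rwa [h4] at h3
      have h5 := hK7 _ h1
      obtain ⟨y, hy, z, hz, hyz⟩ := Submodule.mem_sup.mp h5
      obtain ⟨b, rfl⟩ := Ideal.mem_span_singleton'.mp hz
      have h6 := h (Fin.cons (-b) a) (by
        rw [Fin.sum_univ_succ]
        simp only [Fin.cons_zero, Fin.cons_succ]
        have : -b * g 0 + ∑ i : Fin r, a i * g i.succ = y := by
          rw [← hyz]; ring
        rw [this]
        exact hy)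
      have h7 : a i ∈ maximalIdeal A := by
        have := h6 i.succ
        simpa using this
      have h8 := (hmemiff _).mpr h7
      have := Ideal.add_mem _ (ha' i) h8
      rwa [sub_add_cancel] at this

end Step



open Groth.Agent.Lib.Helper23 Groth.Agent.Lib.Helper23.KeyLemma Groth.Agent.Lib.Helper23.KeyLemma2

section Induction

/-- the Eisenstein-type statement for `r` variables. -/
def EProp (r : ℕ) : Prop :=
  ∀ (A : Type u) [CommRing A] [IsLocalRing A] [IsNoetherianRing A] (G : Fin r → A[X])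
    (_ : ∀ i, EisLike (G i)),
    ∃ _ : IsLocalRing (SepVar.Quot A G),
      (maximalIdeal A).spanFinrank ≤ (maximalIdeal (SepVar.Quot A G)).spanFinrank ∧
      ((maximalIdeal (SepVar.Quot A G)).spanFinrank = (maximalIdeal A).spanFinrank ↔
        CotLI (fun i => (G i).coeff 0))

theorem eProp_zero : EProp.{u} 0 := by
  intro A _ _ _ G _
  let e := SepVar.equivZero G
  haveI : IsLocalRing (SepVar.Quot A G) := e.symm.toRingEquiv.isLocalRing
  refine ⟨inferInstance, ?_, ?_⟩
  · exact (edim_eq_of_ringEquiv e.symm.toRingEquiv).ge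
  · constructor
    · intro _ l _ i
      exact i.elim0
    · intro _
      exact edim_eq_of_ringEquiv e.symm.toRingEquiv

theorem eisLike_tail {A : Type u} [CommRing A] [IsLocalRing A] {r : ℕ} (G : Fin (r + 1) → A[X])
    (hG : ∀ i, EisLike (G i)) [IsLocalRing (AdjoinRoot (G 0))] (i : Fin r) :
    EisLike (SepVar.tail G i) := by
  haveI : Nontrivial (AdjoinRoot (G 0)) := inferInstance
  have hdeg : (SepVar.tail G i).natDegree = (G i.succ).natDegree :=
    (hG i.succ).monic.natDegree_map (AdjoinRoot.of (G 0))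
  refine ⟨(hG i.succ).monic.map _, ?_, ?_⟩
  · rw [hdeg]; exact (hG i.succ).deg
  · intro k hk
    rw [hdeg] at hk
    show ((G i.succ).map (AdjoinRoot.of (G 0))).coeff k ∈ _
    rw [coeff_map]
    exact (algebraMap_mem_iff (fun _ : Fin 1 => G 0) (fun _ => AdjoinRoot.root (G 0))
      (fun _ => hG 0) (fun _ => aeval_root (G 0)) (adjoin_root_eq_top (G 0)) _).mpr
      ((hG i.succ).coeff k hk)

theorem eProp_succ (r : ℕ) (ih : EProp.{u} r) : EProp.{u} (r + 1) := by
  intro A _ _ _ G hG
  haveI := isLocalRing_adjoinRoot (G 0) (hG 0)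
  haveI : Module.Finite A (AdjoinRoot (G 0)) := (hG 0).monic.finite_adjoinRoot
  haveI : IsNoetherianRing (AdjoinRoot (G 0)) := IsNoetherianRing.of_finite A _
  obtain ⟨hloc, h1, h2⟩ := ih (AdjoinRoot (G 0)) (SepVar.tail G) (eisLike_tail G hG)
  have e := SepVar.equivTail G
  haveI : IsLocalRing (SepVar.Quot A G) := e.symm.toRingEquiv.isLocalRing
  have hE := edim_eq_of_ringEquiv e.symm.toRingEquiv
  obtain ⟨h3, h4⟩ := oneVar' (G 0) (hG 0)
  have hstep := cotLI_step (G 0) (hG 0) (fun i => (G i).coeff 0) rfl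
    (fun i => coeff_zero_mem G hG i)
  have htail : (fun i : Fin r => (SepVar.tail G i).coeff 0) =
      fun i : Fin r => AdjoinRoot.of (G 0) ((G i.succ).coeff 0) := by
    funext i
    show ((G i.succ).map (AdjoinRoot.of (G 0))).coeff 0 = _
    rw [coeff_map]
  rw [htail] at h2
  refine ⟨inferInstance, ?_, ?_⟩
  · rw [hE]
    exact h3.trans h1
  · rw [hE, ← hstep]
    constructor
    · intro h
      have h5 : (maximalIdeal (AdjoinRoot (G 0))).spanFinrank =
          (maximalIdeal A).spanFinrank := by omega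
      refine ⟨h4.mp h5, h2.mp (by omega)⟩
    · rintro ⟨h5, h6⟩
      have := h4.mpr h5
      have := h2.mpr h6
      omega

theorem eProp (r : ℕ) : EProp.{u} r := by
  induction r with
  | zero => exact eProp_zero
  | succ r ih => exact eProp_succ r ih

end Induction



open Groth.Agent.Lib.Helper23 Groth.Agent.Lib.Helper23.KeyLemma Groth.Agent.Lib.Helper23.KeyLemma2

section Poly

variable {A : Type u} [CommRing A]

/-- the one-variable polynomial `T^d + Σ_{k<d} c_k T^k`. -/
noncomputable def GE (d : ℕ) (c : ℕ → A) : A[X] :=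
  X ^ d + ∑ k ∈ Finset.range d, C (c k) * X ^ k

theorem degree_tail_lt (d : ℕ) (c : ℕ → A) :
    (∑ k ∈ Finset.range d, C (c k) * X ^ k : A[X]).degree < d := by
  rw [← mem_degreeLT]
  apply Submodule.sum_mem
  intro k hk
  rw [mem_degreeLT]
  exact lt_of_le_of_lt (degree_C_mul_X_pow_le k (c k))
    (by exact_mod_cast Finset.mem_range.mp hk)

theorem monic_GE (d : ℕ) (c : ℕ → A) : (GE d c).Monic :=
  monic_X_pow_add (degree_tail_lt d c)

theorem natDegree_GE [Nontrivial A] (d : ℕ) (c : ℕ → A) : (GE d c).natDegree = d := by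
  unfold GE
  rw [add_comm]
  have h := degree_tail_lt d c
  apply natDegree_eq_of_degree_eq_some
  rw [degree_add_eq_right_of_degree_lt]
  · exact degree_X_pow d
  · rw [degree_X_pow]; exact h

theorem coeff_GE (d : ℕ) (c : ℕ → A) (k : ℕ) (hk : k < d) : (GE d c).coeff k = c k := by
  unfold GE
  rw [coeff_add, coeff_X_pow, if_neg (by omega), zero_add, finset_sum_coeff]
  rw [Finset.sum_eq_single k]
  · rw [coeff_C_mul_X_pow, if_pos rfl]
  · intro j _ hj
    rw [coeff_C_mul_X_pow, if_neg (fun h => hj h.symm)]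
  · intro h
    exact absurd (Finset.mem_range.mpr hk) h

theorem aeval_GE {r : ℕ} (i : Fin r) (d : ℕ) (c : ℕ → A) :
    aeval (MvPolynomial.X i : MvPolynomial (Fin r) A) (GE d c) =
      MvPolynomial.X i ^ d + (Finset.range d).sum fun k => MvPolynomial.C (c k) * MvPolynomial.X i ^ k := by
  unfold GE
  simp [MvPolynomial.algebraMap_eq]

theorem eisLike_GE [IsLocalRing A] (d : ℕ) (hd : 2 ≤ d) (c : ℕ → A)
    (hc : ∀ k, c k ∈ maximalIdeal A) : EisLike (GE d c) := by
  refine ⟨monic_GE d c, ?_, ?_⟩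
  · rw [natDegree_GE]; exact hd
  · intro k hk
    rw [natDegree_GE] at hk
    rw [coeff_GE d c k hk]
    exact hc k

theorem ideal_GE {r : ℕ} (d : Fin r → ℕ) (c : Fin r → ℕ → A) :
    SepVar.ideal A (fun i => GE (d i) (c i)) = Ideal.span (Set.range fun i : Fin r =>
      (MvPolynomial.X i ^ d i + (Finset.range (d i)).sum fun k =>
        MvPolynomial.C (c i k) * MvPolynomial.X i ^ k : MvPolynomial (Fin r) A)) := by
  unfold SepVar.ideal
  congr 2
  funext i
  exact aeval_GE i (d i) (c i)

end Poly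

section Final

variable {A : Type u} [CommRing A] [IsLocalRing A] {r : ℕ} (G : Fin r → A[X])
  (hG : ∀ i, EisLike (G i))

include hG in
theorem isLocalRing_quot : IsLocalRing (SepVar.Quot A G) :=
  isLocalRing_B G (SepVar.t G) hG (SepVar.aeval_t G) (lift_quot G) (adjoin_t_eq_top G)

include hG in
theorem residue_surjective_quot [IsLocalRing (SepVar.Quot A G)] :
    Function.Surjective ((Ideal.Quotient.mk (maximalIdeal (SepVar.Quot A G))).comp
      (algebraMap A (SepVar.Quot A G))) :=
  residue_surjective_B G (SepVar.t G) hG (SepVar.aeval_t G) (adjoin_t_eq_top G)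

include hG in
theorem kernel_eq_quot [IsLocalRing (SepVar.Quot A G)] :
    maximalIdeal A ⊓ Ideal.comap (algebraMap A (SepVar.Quot A G))
      (maximalIdeal (SepVar.Quot A G) ^ 2) = J' G :=
  kernel_eq G (SepVar.t G) hG (SepVar.aeval_t G) (lift_quot G) (adjoin_t_eq_top G)

include hG in
theorem regular_iff [IsRegularLocalRing A] [IsLocalRing (SepVar.Quot A G)] :
    IsRegularRing (SepVar.Quot A G) ↔
      LinearIndependent (ResidueField A) (fun i =>
        (maximalIdeal A).toCotangent ⟨(G i).coeff 0, coeff_zero_mem G hG i⟩) := by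
  obtain ⟨hloc, h1, h2⟩ := eProp r A G hG
  obtain ⟨hfree, hrank⟩ := SepVar.free_and_finrank r A G (fun i => (hG i).monic)
  haveI : Module.Finite A (SepVar.Quot A G) := by
    apply Module.finite_of_finrank_pos
    rw [hrank]
    apply Finset.prod_pos
    intro i _
    have := (hG i).deg
    omega
  haveI : IsNoetherianRing (SepVar.Quot A G) := IsNoetherianRing.of_finite A _
  rw [isRegularRing_iff_of_isLocalRing, isRegularLocalRing_iff,
    ← cotLI_iff_linearIndependent (fun i => (G i).coeff 0) (coeff_zero_mem G hG), ← h2]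
  have hinj : Function.Injective (algebraMap A (SepVar.Quot A G)) :=
    FaithfulSMul.algebraMap_injective _ _
  have hdim := Groth.Agent.Lib.Helper12.ringKrullDim_eq_of_isIntegral_of_injective A
    (SepVar.Quot A G) hinj
  rw [← hdim, ← IsRegularLocalRing.spanFinrank_maximalIdeal (R := A)]
  exact Nat.cast_inj

end Final

end Groth.Agent.Lib.Helper23.Eisenstein
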