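import Mathlib
import Groth.Agent.Lib.Helper20.SplitCover

/-!
Etale morphisms are dominated Zariski-locally by finite locally free covers (scheme form of helper20 SplitCover.exists_cover_etale)
-/

set_option autoImplicit false
universe u


namespace Groth.Agent.Lib.Helper23.EtFinCover

open AlgebraicGeometry CategoryTheory Limits TopologicalSpace

/-- **Étale morphisms are dominated, Zariski locally, by finite locally free covers** (scheme form
of Stacks 00UK/02LH): for `e : S' ⟶ S` étale and `u : S'` there are an open `U ∋ e u` of `S`, a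
surjective finite flat l.f.p. `π : W ⟶ U`, and around every point of `W` an open `W'` on which
`W ⟶ S` lifts to `S'`. -/
theorem exists_finLocFree_zariski_of_etale {S S' : Scheme.{u}} (e : S' ⟶ S) [Etale e] (u : S') :
    ∃ (U : S.Opens) (W : Scheme.{u}) (π : W ⟶ U.toScheme), e u ∈ U ∧ IsFinite π ∧ Flat π ∧
      LocallyOfFinitePresentation π ∧ Surjective π ∧
      ∀ w : W, ∃ (W' : W.Opens) (a : W'.toScheme ⟶ S'), w ∈ W' ∧ a ≫ e = W'.ι ≫ π ≫ U.ι := by
  -- affine open `U₀ ∋ e u`
  obtain ⟨U₀, hU₀, hsU₀, -⟩ := (Opens.isBasis_iff_nbhd.mp S.isBasis_affineOpens)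
    (show e u ∈ (⊤ : S.Opens) from trivial)
  -- affine open `V₀ ∋ u` inside `e⁻¹ U₀`
  obtain ⟨V₀, hV₀, huV₀, hV₀U₀⟩ := (Opens.isBasis_iff_nbhd.mp S'.isBasis_affineOpens)
    (show u ∈ e ⁻¹ᵁ U₀ from hsU₀)
  -- open image of `V₀`
  let O : S.Opens := ⟨e '' (V₀ : Set S'), e.isOpenMap _ V₀.isOpen⟩
  obtain ⟨a, haO, hsa⟩ := hU₀.exists_basicOpen_le (V := O) ⟨e u, ⟨u, huV₀, rfl⟩⟩ hsU₀
  set U : S.Opens := S.basicOpen a with hUdef
  have hU : IsAffineOpen U := hU₀.basicOpen a
  set V : S'.Opens := S'.basicOpen (e.appLE U₀ V₀ hV₀U₀ a) with hVdef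
  have hV : IsAffineOpen V := hV₀.basicOpen _
  have hVeq : V = V₀ ⊓ e ⁻¹ᵁ U := by
    rw [hVdef, Scheme.Hom.appLE, CommRingCat.comp_apply, Scheme.basicOpen_res,
      Scheme.preimage_basicOpen]
  have hVU : V ≤ e ⁻¹ᵁ U := hVeq ▸ inf_le_right
  have hVV₀ : V ≤ V₀ := hVeq ▸ inf_le_left
  -- the ring map
  set φ := e.appLE U V hVU with hφ
  have hφet : φ.hom.Etale := Etale.etale_appLE e hU hV hVU
  have hsq : Spec.map φ ≫ hU.fromSpec = hV.fromSpec ≫ e := hU.SpecMap_appLE_fromSpec e hV hVU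
  have hsurj : Function.Surjective (PrimeSpectrum.comap φ.hom) := by
    intro p
    -- the point of `U`
    have hpU : hU.fromSpec p ∈ U := by
      have := hU.range_fromSpec
      rw [← SetLike.mem_coe, ← this]
      exact ⟨p, rfl⟩
    obtain ⟨v, hvV₀, hv⟩ := haO hpU
    have hvV : v ∈ V := by
      rw [hVeq]
      refine ⟨hvV₀, ?_⟩
      show e v ∈ U
      rw [hv]; exact hpU
    have : v ∈ Set.range hV.fromSpec := by
      rw [hV.range_fromSpec]; exact hvV
    obtain ⟨q, rfl⟩ := this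
    refine ⟨q, ?_⟩
    apply hU.fromSpec.isOpenEmbedding.injective
    rw [← hv]
    have := congrArg (fun f => f.base q) hsq
    exact this
  -- apply the ring-level cover
  letI : Algebra Γ(S, U) Γ(S', V) := φ.hom.toAlgebra
  haveI : Algebra.Etale Γ(S, U) Γ(S', V) := hφet
  obtain ⟨R, _, _, hfin, hfp, hff, hloc⟩ :=
    Groth.Agent.Lib.Helper20.SplitCover.exists_cover_etale Γ(S, U) Γ(S', V) hsurj
  let ρ : Γ(S, U) ⟶ CommRingCat.of R := CommRingCat.ofHom (algebraMap Γ(S, U) R)
  haveI : IsFinite (Spec.map ρ) := (IsFinite.SpecMap_iff ρ).mpr (RingHom.finite_algebraMap.mpr hfin)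
  haveI : Flat (Spec.map ρ) := Flat.SpecMap_iff.mpr (RingHom.flat_algebraMap_iff.mpr inferInstance)
  haveI : LocallyOfFinitePresentation (Spec.map ρ) :=
    (LocallyOfFinitePresentation.SpecMap_iff ρ).mpr (RingHom.finitePresentation_algebraMap.mpr hfp)
  haveI : Surjective (Spec.map ρ) := ⟨fun p => by
    obtain ⟨q, hq⟩ := PrimeSpectrum.comap_surjective_of_faithfullyFlat (A := Γ(S, U)) (B := R) p
    exact ⟨q, hq⟩⟩
  refine ⟨U, Spec (CommRingCat.of R), Spec.map ρ ≫ hU.isoSpec.inv, hsa, inferInstance,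
    inferInstance, inferInstance, inferInstance, fun w => ?_⟩
  obtain ⟨g', hg', ⟨ψ⟩⟩ := hloc (w : PrimeSpectrum R).asIdeal
  let j : Spec (CommRingCat.of (Localization.Away g')) ⟶ Spec (CommRingCat.of R) :=
    Spec.map (CommRingCat.ofHom (algebraMap R (Localization.Away g')))
  haveI : IsOpenImmersion j := inferInstanceAs (IsOpenImmersion
    (Spec.map (CommRingCat.ofHom (algebraMap R (Localization.Away g')))))
  let ψ' : Γ(S', V) ⟶ CommRingCat.of (Localization.Away g') := CommRingCat.ofHom ψ.toRingHom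
  refine ⟨j.opensRange, j.isoOpensRange.inv ≫ Spec.map ψ' ≫ hV.fromSpec, ?_, ?_⟩
  · show w ∈ Set.range j
    have := PrimeSpectrum.localization_away_comap_range (Localization.Away g') g'
    change Set.range (PrimeSpectrum.comap (algebraMap R (Localization.Away g'))) = _ at this
    change w ∈ Set.range (PrimeSpectrum.comap (algebraMap R (Localization.Away g')))
    rw [this]
    exact hg'
  · have hcomp : φ ≫ ψ' = ρ ≫ CommRingCat.ofHom (algebraMap R (Localization.Away g')) := by
      ext x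
      show ψ (algebraMap Γ(S, U) Γ(S', V) x) = algebraMap R (Localization.Away g') (algebraMap _ R x)
      rw [ψ.commutes, ← IsScalarTower.algebraMap_apply]
    simp only [Category.assoc]
    rw [← hsq, ← Spec.map_comp_assoc, hcomp, Spec.map_comp_assoc, hU.isoSpec_inv_ι,
      ← j.isoOpensRange_inv_comp]
    simp only [Category.assoc]
    rfl

end Groth.Agent.Lib.Helper23.EtFinCover
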