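import Mathlib
import Groth.Agent.Lib.Helper23.MiracleFinReg
import Groth.Prelude.Def_ModelsG
import Groth.Prelude.Def_Pi1

/-!
helper23: going-down for finite surjective morphisms onto normal integral schemes (exists_generization), via comap_surjective_of_ess_integral (R normal local domain -> S local domain injective local essentially integral => Spec S -> Spec R surjective); topo: lifting components of a closed subset along a closed generalizing map (Zorn: exists_maximal_ge). S16551.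
-/

set_option autoImplicit false
universe u
open IsLocalRing AlgebraicGeometry CategoryTheory
open CategoryTheory CategoryTheory.Limits AlgebraicGeometry TopologicalSpace

namespace Groth.Agent.Lib.Helper23.FibCompGD

section


/-- going-down core: `Spec S → Spec R` is surjective for an injective, essentially integral local
homomorphism from a normal local domain to a local domain -/
theorem comap_surjective_of_ess_integral (R S : Type u) [CommRing R] [CommRing S]
    [IsDomain R] [IsIntegrallyClosed R] [IsDomain S] [IsLocalRing R] [IsLocalRing S]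
    [Algebra R S] [IsLocalHom (algebraMap R S)]
    (hinj : Function.Injective (algebraMap R S))
    (B : Type u) [CommRing B] (g : B →+* S) (hint : ∀ b, IsIntegral R (g b))
    (hsurj : ∀ z : S, ∃ b s : B, IsUnit (g s) ∧ z * g s = g b) :
    Function.Surjective (PrimeSpectrum.comap (algebraMap R S)) := by
  let D := Algebra.adjoin R (Set.range g)
  haveI : Algebra.IsIntegral R D :=
    Algebra.IsIntegral.adjoin (by rintro _ ⟨b, rfl⟩; exact hint b)
  have hs : ∀ z : S, ∃ b s : D, IsUnit (s : S) ∧ z * (s : S) = (b : S) := by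
    intro z
    obtain ⟨b, s, hs, hz⟩ := hsurj z
    exact ⟨⟨g b, Algebra.subset_adjoin ⟨b, rfl⟩⟩, ⟨g s, Algebra.subset_adjoin ⟨s, rfl⟩⟩, hs, hz⟩
  haveI hloc : IsLocalization.AtPrime S ((maximalIdeal S).comap (algebraMap D S)) :=
    Groth.Agent.Lib.Helper23.MiracleFinReg.isLocalization_subalgebra R S D hs
  haveI : FaithfulSMul R D := by
    rw [faithfulSMul_iff_algebraMap_injective]
    intro a b hab
    apply hinj
    have := congrArg (algebraMap D S) hab
    rwa [← IsScalarTower.algebraMap_apply, ← IsScalarTower.algebraMap_apply] at this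
  haveI h1 : Algebra.HasGoingDown R D := inferInstance
  haveI : Module.Flat D S :=
    IsLocalization.flat S ((maximalIdeal S).comap (algebraMap D S)).primeCompl
  haveI h2 : Algebra.HasGoingDown D S := inferInstance
  haveI h3 : Algebra.HasGoingDown R S := Algebra.HasGoingDown.trans R D S
  have hgen := Algebra.HasGoingDown.iff_generalizingMap_primeSpectrumComap.mp h3
  intro p
  have h4 : p ⤳ PrimeSpectrum.comap (algebraMap R S) (closedPoint S) := by
    rw [IsLocalRing.comap_closedPoint]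
    exact IsLocalRing.specializes_closedPoint p
  obtain ⟨q, -, hq⟩ := hgen h4
  exact ⟨q, hq⟩


end

section


/-- going-down for a finite surjective morphism of integral schemes onto a normal scheme -/
theorem exists_generization {W Z : Scheme.{u}} (ψ : W ⟶ Z) [IsFinite ψ] [IsIntegral W]
    [IsIntegral Z] [Surjective ψ]
    (hZn : ∀ z : Z, IsDomain (Z.presheaf.stalk z) ∧ IsIntegrallyClosed (Z.presheaf.stalk z))
    (w : W) (η : Z) (h : η ⤳ ψ.base w) : ∃ w' : W, w' ⤳ w ∧ ψ.base w' = η := by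
  obtain ⟨_, ⟨V, hV : IsAffineOpen V, rfl⟩, hyV, -⟩ :=
    Z.isBasis_affineOpens.exists_subset_of_mem_open (Set.mem_univ (ψ.base w)) isOpen_univ
  have hU : IsAffineOpen (ψ ⁻¹ᵁ V) := hV.preimage ψ
  have hxU : w ∈ ψ ⁻¹ᵁ V := hyV
  haveI := (hZn (ψ.base w)).1
  haveI := (hZn (ψ.base w)).2
  letI : Algebra (Z.presheaf.stalk (ψ.base w)) (W.presheaf.stalk w) :=
    (ψ.stalkMap w).hom.toAlgebra
  haveI : IsLocalHom (algebraMap (Z.presheaf.stalk (ψ.base w)) (W.presheaf.stalk w)) :=
    inferInstanceAs (IsLocalHom (ψ.stalkMap w).hom)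
  have hdom : ∀ Z' ∈ irreducibleComponents (W : Type u),
      closure (ψ.base '' Z') ∈ irreducibleComponents (Z : Type u) := by
    intro Z' hZ'
    rw [irreducibleComponents_eq_singleton, Set.mem_singleton_iff] at hZ'
    rw [hZ', Set.image_univ, (ψ.surjective.denseRange).closure_range,
      irreducibleComponents_eq_singleton]
    rfl
  have hinj : Function.Injective (algebraMap (Z.presheaf.stalk (ψ.base w)) (W.presheaf.stalk w)) :=
    Groth.Agent.Lib.Helper23.MiracleFinReg.stalkMap_injective ψ (fun y => (hZn y).1) hdom w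
  have hsurj := comap_surjective_of_ess_integral (Z.presheaf.stalk (ψ.base w)) (W.presheaf.stalk w)
    hinj Γ(W, ψ ⁻¹ᵁ V) (W.presheaf.germ (ψ ⁻¹ᵁ V) w hxU).hom ?_ ?_
  · have hη : η ∈ Set.range (Z.fromSpecStalk (ψ.base w)) := by
      rw [Scheme.range_fromSpecStalk]
      exact h
    obtain ⟨p, rfl⟩ := hη
    obtain ⟨q, rfl⟩ := hsurj p
    refine ⟨W.fromSpecStalk w q, ?_, ?_⟩
    · have : W.fromSpecStalk w q ∈ Set.range (W.fromSpecStalk w) := ⟨q, rfl⟩
      rw [Scheme.range_fromSpecStalk] at this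
      exact this
    · have h1 := Scheme.SpecMap_stalkMap_fromSpecStalk ψ (x := w)
      have h2 := congrArg (fun φ => φ.base q) h1
      exact h2.symm
  · intro b
    obtain ⟨p, hpm, hp⟩ := (IsIntegralHom.isIntegral_app ψ V hV) b
    refine ⟨p.map (Z.presheaf.germ V (ψ.base w) hyV).hom, hpm.map _, ?_⟩
    rw [Polynomial.eval₂_map]
    have hcomp : (algebraMap (Z.presheaf.stalk (ψ.base w)) (W.presheaf.stalk w)).comp
        (Z.presheaf.germ V (ψ.base w) hyV).hom =
        (W.presheaf.germ (ψ ⁻¹ᵁ V) w hxU).hom.comp (ψ.app V).hom := by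
      ext a
      exact Scheme.Hom.germ_stalkMap_apply ψ V w hyV a
    rw [hcomp, ← Polynomial.hom_eval₂, hp, map_zero]
  · intro z
    letI : Algebra Γ(W, ψ ⁻¹ᵁ V) (W.presheaf.stalk w) :=
      TopCat.Presheaf.algebra_section_stalk W.presheaf ⟨w, hxU⟩
    haveI hloc := hU.isLocalization_stalk ⟨w, hxU⟩
    obtain ⟨⟨b, s⟩, hbs⟩ := IsLocalization.surj (hU.primeIdealOf ⟨w, hxU⟩).asIdeal.primeCompl z
    exact ⟨b, s.1, IsLocalization.map_units (W.presheaf.stalk w) s, hbs⟩


end

section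


theorem isClosed_of_maximal {α : Type*} [TopologicalSpace α] (F : Set α) (hF : IsClosed F)
    (Δ : Set α) (hΔ : Maximal (fun S : Set α => IsIrreducible S ∧ S ⊆ F) Δ) : IsClosed Δ := by
  rw [← closure_eq_iff_isClosed]
  exact (hΔ.le_of_ge ⟨hΔ.prop.1.closure, (hF.closure_subset_iff).2 hΔ.prop.2⟩ subset_closure).antisymm
    subset_closure

theorem exists_maximal_ge {α : Type*} [TopologicalSpace α] (F : Set α)
    (T : Set α) (hT : IsIrreducible T) (hTF : T ⊆ F) :
    ∃ Γ, Maximal (fun S : Set α => IsIrreducible S ∧ S ⊆ F) Γ ∧ T ⊆ Γ := by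
  obtain ⟨m, hsm, hm⟩ :=
    zorn_subset_nonempty { t : Set α | IsPreirreducible t ∧ t ⊆ F }
      (fun c hc hcc _ =>
        ⟨⋃₀ c, ⟨fun u v hu hv ⟨y, hy, hyu⟩ ⟨x, hx, hxv⟩ =>
          let ⟨p, hpc, hyp⟩ := Set.mem_sUnion.1 hy
          let ⟨q, hqc, hxq⟩ := Set.mem_sUnion.1 hx
          Or.casesOn (hcc.total hpc hqc)
            (fun hpq : p ⊆ q =>
              let ⟨x, hxp, hxuv⟩ := (hc hqc).1 u v hu hv ⟨y, hpq hyp, hyu⟩ ⟨x, hxq, hxv⟩
              ⟨x, Set.mem_sUnion_of_mem hxp hqc, hxuv⟩)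
            fun hqp : q ⊆ p =>
            let ⟨x, hxp, hxuv⟩ := (hc hpc).1 u v hu hv ⟨y, hyp, hyu⟩ ⟨x, hqp hxq, hxv⟩
            ⟨x, Set.mem_sUnion_of_mem hxp hpc, hxuv⟩,
          Set.sUnion_subset fun t ht => (hc ht).2⟩,
          fun _ hxc => Set.subset_sUnion_of_mem hxc⟩)
      T ⟨hT.isPreirreducible, hTF⟩
  have hmne : m.Nonempty := hT.nonempty.mono hsm
  refine ⟨m, ⟨⟨⟨hmne, hm.prop.1⟩, hm.prop.2⟩, ?_⟩, hsm⟩
  intro S hS hmS
  exact hm.le_of_ge ⟨hS.1.isPreirreducible, hS.2⟩ hmS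

theorem topo {α β : Type*} [TopologicalSpace α] [TopologicalSpace β] [QuasiSober β]
    (f : α → β) (hf : Continuous f) (hcl : IsClosedMap f) (F : Set β) (hF : IsClosed F)
    (hgd : ∀ (w : α) (η : β), η ⤳ f w → ∃ w', w' ⤳ w ∧ f w' = η)
    (Δ : Set β) (hΔ : Maximal (fun S : Set β => IsIrreducible S ∧ S ⊆ F) Δ) (w : α)
    (hw : f w ∈ Δ) :
    ∃ Γ, Maximal (fun S : Set α => IsIrreducible S ∧ S ⊆ f ⁻¹' F) Γ ∧ w ∈ Γ ∧ f '' Γ = Δ := by
  have hΔc : IsClosed Δ := isClosed_of_maximal F hF Δ hΔ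
  obtain ⟨η, hη⟩ := QuasiSober.sober hΔ.prop.1 hΔc
  have hηw : η ⤳ f w := by
    rw [specializes_iff_mem_closure, hη.def]
    exact hw
  obtain ⟨w', hw'w, hw'η⟩ := hgd w η hηw
  have hηΔ : η ∈ Δ := by
    rw [← hη.def]
    exact subset_closure rfl
  have hFc : IsClosed (f ⁻¹' F) := hF.preimage hf
  have hw'F : w' ∈ f ⁻¹' F := by
    change f w' ∈ F
    rw [hw'η]
    exact hΔ.prop.2 hηΔ
  obtain ⟨Γ, hΓ, hΓ'⟩ := exists_maximal_ge (f ⁻¹' F) (closure {w'})
    isIrreducible_singleton.closure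
    ((hFc.closure_subset_iff).2 (Set.singleton_subset_iff.2 hw'F))
  have hΓc : IsClosed Γ := isClosed_of_maximal _ hFc Γ hΓ
  refine ⟨Γ, hΓ, hΓ' (specializes_iff_mem_closure.1 hw'w), ?_⟩
  have himc : IsClosed (f '' Γ) := hcl Γ hΓc
  have him : IsIrreducible (f '' Γ) := hΓ.prop.1.image f hf.continuousOn
  have himF : f '' Γ ⊆ F := by
    rintro _ ⟨x, hx, rfl⟩
    exact hΓ.prop.2 hx
  have hsub : Δ ⊆ f '' Γ := by
    rw [← hη.def]
    apply (himc.closure_subset_iff).2
    rw [Set.singleton_subset_iff, ← hw'η]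
    exact ⟨w', hΓ' (subset_closure rfl), rfl⟩
  exact (hΔ.le_of_ge ⟨him, himF⟩ hsub).antisymm hsub


end

section


theorem t16551
    (R : Type u) [CommRing R] [IsDomain R] [IsDiscreteValuationRing R]
    (W Z : Over (Spec (CommRingCat.of R))) [IsIntegral W.left] [IsIntegral Z.left]
    (hWn : Pi1.IsNormalScheme W.left) (hZn : Pi1.IsNormalScheme Z.left)
    [Flat W.hom] [LocallyOfFiniteType W.hom] [QuasiCompact W.hom]
    [Flat Z.hom] [LocallyOfFiniteType Z.hom] [QuasiCompact Z.hom]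
    (hdW : topologicalKrullDim W.left = 2) (hdZ : topologicalKrullDim Z.left = 2)
    (ψ : W ⟶ Z) [IsFinite ψ.left] [Surjective ψ.left]
    (z : Z.left) (hzc : IsClosed ({z} : Set Z.left)) (hz : z ∈ Models.specialFibreSet R Z)
    (w : W.left) (hw : ψ.left.base w = z)
    (Δ : Set Z.left) (hΔ : Δ ∈ Models.fibreComponents R Z) (hzΔ : z ∈ Δ) :
    ∃ Γ ∈ Models.fibreComponents R W, w ∈ Γ ∧ ψ.left.base '' Γ = Δ := by
  have hFW : Models.specialFibreSet R W = ψ.left.base ⁻¹' (Models.specialFibreSet R Z) := by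
    unfold Models.specialFibreSet
    rw [← Set.preimage_comp, ← Over.w ψ]
    rfl
  obtain ⟨Γ, hΓ, hwΓ, hΓΔ⟩ := topo (ψ.left.base) ψ.left.continuous ψ.left.isClosedMap
    (Models.specialFibreSet R Z) (Models.isClosed_specialFibreSet R Z)
    (exists_generization ψ.left hZn) Δ hΔ w (by rw [hw]; exact hzΔ)
  refine ⟨Γ, ?_, hwΓ, hΓΔ⟩
  change Maximal (fun S : Set W.left => IsIrreducible S ∧ S ⊆ Models.specialFibreSet R W) Γ
  rw [hFW]
  exact hΓ


end
end Groth.Agent.Lib.Helper23.FibCompGD
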