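import Mathlib
import Groth.Agent.Lib27.Sch.LocalCore
import Groth.Agent.Lib.Helper18.FlA

/-!
# Fibre criterion of flatness, essentially finitely presented form (helper23)

* `exists_fg_le_sup`: finitely generated approximation of a submodule of a finite free module modulo
  an ideal with Noetherian quotient.
* `flat_of_lTensor_maximalIdeal_injective`: local criterion (`Tor₁^A(M, A/𝔪) = 0 ⇒ M` flat) for
  finitely presented modules over the localization at a prime of a flat finitely presented algebra over a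
  local ring `A` (no Noetherian hypotheses; uses helper27's `LocalCore.fibInj`).
* `exists_locPresentation`: a local ring essentially of finite presentation over `R` is, over any
  `R`-algebra `S` essentially of finite type mapping to it, a quotient by a finitely generated ideal of a
  localization of a polynomial ring over `S`.
-/

set_option autoImplicit false
set_option linter.style.haveILetI false
set_option linter.unusedSectionVars false
universe u
open TensorProduct Function

namespace Groth.Agent.Lib.Helper23.FibCritEFP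

section


open Groth.Agent.Lib27.LocalCore Groth.Agent.Lib.Helper18.Fl

/-- a finitely generated approximation of a submodule of a finite free module modulo an ideal
with Noetherian quotient. -/
theorem exists_fg_le_sup {P : Type*} [CommRing P] (I : Ideal P) [IsNoetherianRing (P ⧸ I)]
    {c : ℕ} (L : Submodule P (Fin c → P)) :
    ∃ L₀ : Submodule P (Fin c → P), L₀.FG ∧ L₀ ≤ L ∧
      L ≤ L₀ ⊔ I • (⊤ : Submodule P (Fin c → P)) := by
  classical
  let σ : P →+* P ⧸ I := Ideal.Quotient.mk I
  haveI : RingHomSurjective σ := ⟨Ideal.Quotient.mk_surjective⟩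
  let ρ : (Fin c → P) →ₛₗ[σ] (Fin c → P ⧸ I) :=
    { toFun := fun x i => σ (x i)
      map_add' := fun x y => by funext i; simp
      map_smul' := fun a x => by funext i; simp }
  have hρ : ∀ x i, ρ x i = σ (x i) := fun _ _ => rfl
  have hfg : (L.map ρ).FG := IsNoetherian.noetherian _
  obtain ⟨r, gfam, hg⟩ := Submodule.fg_iff_exists_fin_generating_family.mp hfg
  have hmem : ∀ i, gfam i ∈ L.map ρ := fun i => by
    rw [← hg]; exact Submodule.subset_span ⟨i, rfl⟩
  choose ℓ hℓL hℓ using hmem
  refine ⟨Submodule.span P (Set.range ℓ), Submodule.fg_span (Set.finite_range ℓ), ?_, ?_⟩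
  · rw [Submodule.span_le]
    rintro _ ⟨i, rfl⟩
    exact hℓL i
  · intro x hx
    have h1 : ρ x ∈ Submodule.span (P ⧸ I) (Set.range gfam) := by
      rw [hg]; exact Submodule.mem_map_of_mem hx
    obtain ⟨cf, hcf⟩ := (Submodule.mem_span_range_iff_exists_fun _).mp h1
    choose cl hcl using fun i => Ideal.Quotient.mk_surjective (I := I) (cf i)
    have h2 : ρ (x - ∑ i, cl i • ℓ i) = 0 := by
      rw [map_sub, map_sum, ← hcf, sub_eq_zero]
      refine Finset.sum_congr rfl fun i _ => ?_
      rw [map_smulₛₗ, hℓ, hcl]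
    have h3 : x - ∑ i, cl i • ℓ i ∈ I • (⊤ : Submodule P (Fin c → P)) := by
      refine Groth.Agent.Lib27.FibInj.pi_mem_smul_top I _ fun i => ?_
      have := congrFun h2 i
      rw [hρ] at this
      exact Ideal.Quotient.eq_zero_iff_mem.mp this
    have h4 : x = ∑ i, cl i • ℓ i + (x - ∑ i, cl i • ℓ i) := by abel
    rw [h4]
    refine Submodule.add_mem_sup ?_ h3
    exact Submodule.sum_mem _ fun i _ => Submodule.smul_mem _ _ (Submodule.subset_span ⟨i, rfl⟩)


open Groth.Agent.Lib27.LocalCore Groth.Agent.Lib.Helper18.Fl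

section LC

variable {A : Type u} [CommRing A] [IsLocalRing A] {B : Type u} [CommRing B] [Algebra A B]
  [Algebra.FinitePresentation A B] [Module.Flat A B]
  (q : Ideal B) [q.IsPrime]
  (Bq : Type u) [CommRing Bq] [Algebra B Bq] [Algebra A Bq] [IsScalarTower A B Bq]
  [IsLocalization.AtPrime Bq q]
  {M : Type u} [AddCommGroup M] [Module Bq M] [Module A M] [IsScalarTower A Bq M]

/-- **Local criterion, essentially finitely presented form**: `A` local, `Bq` the localization at
a prime over `𝔪_A` of a flat finitely presented `A`-algebra, `M` a finitely presented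
`Bq`-module with `Tor₁^A(M, A/𝔪_A) = 0`. Then `M` is flat over `A`. -/
theorem flat_of_lTensor_maximalIdeal_injective [Module.FinitePresentation Bq M]
    (hq : q.comap (algebraMap A B) = IsLocalRing.maximalIdeal A)
    (hTor : Injective ((IsLocalRing.maximalIdeal A).subtype.lTensor M)) :
    Module.Flat A M := by
  classical
  haveI : IsLocalRing Bq := IsLocalization.AtPrime.isLocalRing Bq q
  haveI : Module.Flat B Bq := IsLocalization.flat Bq q.primeCompl
  haveI : Module.Flat A Bq := Module.Flat.trans A B Bq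
  set 𝔪 := IsLocalRing.maximalIdeal A with h𝔪
  set I' : Ideal Bq := fibIdeal (A := A) q Bq with hI'
  have hI'eq : I' = 𝔪.map (algebraMap A Bq) := by rw [hI', fibIdeal, hq]
  -- the fibre ring is Noetherian
  haveI : IsNoetherianRing (Bq ⧸ I') := by
    haveI : Algebra.EssFiniteType B Bq := Algebra.EssFiniteType.of_isLocalization Bq q.primeCompl
    haveI : Algebra.EssFiniteType A Bq := Algebra.EssFiniteType.comp A B Bq
    haveI : 𝔪.IsMaximal := IsLocalRing.maximalIdeal.isMaximal A
    letI : Field (A ⧸ 𝔪) := Ideal.Quotient.field 𝔪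
    haveI : IsNoetherianRing (A ⧸ 𝔪) := inferInstance
    rw [hI'eq]
    exact Algebra.EssFiniteType.isNoetherianRing (A ⧸ 𝔪) (Bq ⧸ 𝔪.map (algebraMap A Bq))
  -- a presentation of `M`
  obtain ⟨b, p, hp⟩ := Module.Finite.exists_fin' Bq M
  haveI : Module.Flat A (Fin b → Bq) := Module.Flat.trans A Bq (Fin b → Bq)
  have hKfg : (LinearMap.ker p).FG := Module.FinitePresentation.fg_ker p hp
  obtain ⟨c, κ, hκ⟩ := Submodule.fg_iff_exists_fin_generating_family.mp hKfg
  obtain ⟨v, hv⟩ : ∃ v : (Fin c → Bq) →ₗ[Bq] (Fin b → Bq), ∀ x, v x = ∑ i, x i • κ i :=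
    ⟨Fintype.linearCombination Bq κ, fun x => Fintype.linearCombination_apply _ _ _⟩
  have hvrange : LinearMap.range v = LinearMap.ker p := by
    rw [← hκ]
    ext y
    rw [LinearMap.mem_range, Submodule.mem_span_range_iff_exists_fun]
    constructor
    · rintro ⟨x, rfl⟩; exact ⟨x, (hv x).symm⟩
    · rintro ⟨x, rfl⟩; exact ⟨x, hv x⟩
  -- transfer to `Bq`-submodules
  have htrans : ∀ y, y ∈ 𝔪 • LinearMap.ker (p.restrictScalars A) → y ∈ I' • LinearMap.ker p := by
    intro y hy
    induction hy using Submodule.smul_induction_on' with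
    | smul a ha k hk =>
      rw [← algebraMap_smul Bq a k]
      refine Submodule.smul_mem_smul ?_ hk
      rw [hI'eq]
      exact Ideal.mem_map_of_mem _ ha
    | add x y _ _ ihx ihy => exact Submodule.add_mem _ ihx ihy
  -- Step 3: `ker p ∩ 𝔪 F = 𝔪 ker p`
  have hstep3 : ∀ x ∈ LinearMap.ker p, x ∈ I' • (⊤ : Submodule Bq (Fin b → Bq)) →
      x ∈ I' • LinearMap.ker p := by
    intro x hxK hxI
    rw [mem_fibIdeal_smul_top_iff q Bq, hq] at hxI
    obtain ⟨ζ, hζ⟩ := exists_μ_eq 𝔪 (⊤ : Submodule A (Fin b → Bq)) x hxI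
    obtain ⟨ξ, hξ⟩ : ∃ ξ : (Fin b → Bq) ⊗[A] 𝔪, μ (Fin b → Bq) 𝔪 ξ = x := ⟨_, hζ⟩
    have h1 : 𝔪.subtype.lTensor M ((p.restrictScalars A).rTensor 𝔪 ξ) = 0 := by
      rw [lTensor_rTensor_eq_zero_iff, hξ]
      exact hxK
    have h2 : (p.restrictScalars A).rTensor 𝔪 ξ = 0 := hTor (by rw [h1, map_zero])
    have hpsurj : Surjective (p.restrictScalars A) := hp
    rw [rTensor_eq_zero_iff 𝔪 _ hpsurj, hξ] at h2
    exact htrans x h2
  -- Step 5: approximation of the relations
  obtain ⟨L₀, hL₀fg, hL₀le, hL₀sup⟩ := exists_fg_le_sup I' (LinearMap.ker v)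
  haveI : Module.FinitePresentation Bq ((Fin c → Bq) ⧸ L₀) :=
    Module.finitePresentation_of_surjective L₀.mkQ L₀.mkQ_surjective (by
      rw [Submodule.ker_mkQ]; exact hL₀fg)
  obtain ⟨u, hu⟩ : ∃ u : ((Fin c → Bq) ⧸ L₀) →ₗ[Bq] (Fin b → Bq),
      ∀ z, u (Submodule.Quotient.mk z) = v z := ⟨L₀.liftQ v hL₀le, fun z => rfl⟩
  have hurange : LinearMap.range u = LinearMap.ker p := by
    rw [← hvrange]
    ext y
    constructor
    · rintro ⟨x, rfl⟩
      obtain ⟨z, rfl⟩ := Submodule.Quotient.mk_surjective _ x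
      exact ⟨z, (hu z).symm⟩
    · rintro ⟨z, rfl⟩
      exact ⟨Submodule.Quotient.mk z, hu z⟩
  have key := fibInj (A := A) q Bq u (by
    intro x hx
    obtain ⟨z, rfl⟩ := Submodule.Quotient.mk_surjective _ x
    rw [hu] at hx
    have hvz : v z ∈ LinearMap.ker p := by rw [← hvrange]; exact ⟨z, rfl⟩
    have h3 := hstep3 _ hvz hx
    -- `v z = v z'` with `z' ∈ I' • ⊤`
    have h4 : ∀ y ∈ I' • LinearMap.ker p, ∃ z' ∈ I' • (⊤ : Submodule Bq (Fin c → Bq)),
        v z' = y := by
      intro y hy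
      induction hy using Submodule.smul_induction_on' with
      | smul a ha k hk =>
        rw [← hvrange] at hk
        obtain ⟨zk, rfl⟩ := hk
        exact ⟨a • zk, Submodule.smul_mem_smul ha trivial, by rw [map_smul]⟩
      | add x y _ _ ihx ihy =>
        obtain ⟨z1, hz1, e1⟩ := ihx
        obtain ⟨z2, hz2, e2⟩ := ihy
        exact ⟨z1 + z2, Submodule.add_mem _ hz1 hz2, by rw [map_add, e1, e2]⟩
    obtain ⟨z', hz', hvz'⟩ := h4 _ h3
    have h5 : z - z' ∈ LinearMap.ker v := by
      rw [LinearMap.mem_ker, map_sub, hvz', sub_self]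
    have h6 := hL₀sup h5
    obtain ⟨l, hl, w, hw, hlw⟩ := Submodule.mem_sup.mp h6
    have h7 : (Submodule.Quotient.mk z : (Fin c → Bq) ⧸ L₀) = L₀.mkQ (w + z') := by
      rw [Submodule.mkQ_apply, Submodule.Quotient.eq]
      have : z - (w + z') = l := by
        calc z - (w + z') = (z - z') - w := by abel
          _ = l := by rw [← hlw]; abel
      rw [this]; exact hl
    rw [h7]
    have h8 : w + z' ∈ I' • (⊤ : Submodule Bq (Fin c → Bq)) := Submodule.add_mem _ hw hz'
    have h9 := Submodule.mem_map_of_mem (f := L₀.mkQ) h8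
    rw [Submodule.map_smul'', Submodule.map_top, Submodule.range_mkQ] at h9
    exact h9)
  haveI := key.2
  rw [hurange] at *
  have e : ((Fin b → Bq) ⧸ LinearMap.ker p) ≃ₗ[Bq] M := p.quotKerEquivOfSurjective hp
  exact Module.Flat.of_linearEquiv (e.restrictScalars A).symm

end LC


end

section


/-- **Presentation of an essentially finitely presented local algebra over an essentially finite
type algebra**: if `S` is a localization of a finite type `R`-algebra and the local ring `S'` is
a localization of a finitely presented `R`-algebra, then `S'` is the quotient by a finitely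
generated ideal of the localization of a polynomial ring over `S` at a prime. -/
theorem exists_locPresentation {R S S' : Type u} [CommRing R] [CommRing S] [CommRing S']
    [IsLocalRing S'] [Algebra R S] [Algebra S S'] [Algebra R S'] [IsScalarTower R S S']
    (S₀ : Type u) [CommRing S₀] [Algebra R S₀] [Algebra S₀ S] [IsScalarTower R S₀ S]
    (Msub : Submonoid S₀) [Algebra.FiniteType R S₀] [IsLocalization Msub S]
    (S₀' : Type u) [CommRing S₀'] [Algebra R S₀'] [Algebra S₀' S'] [IsScalarTower R S₀' S']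
    (Msub' : Submonoid S₀') [Algebra.FinitePresentation R S₀'] [IsLocalization Msub' S'] :
    ∃ (m : ℕ) (q : Ideal (MvPolynomial (Fin m) S)) (_ : q.IsPrime)
      (ψ : Localization.AtPrime q →+* S'),
      (∀ b, b ∈ q ↔ ψ (algebraMap _ _ b) ∈ IsLocalRing.maximalIdeal S') ∧
      (∀ s : S, ψ (algebraMap S (Localization.AtPrime q) s) = algebraMap S S' s) ∧
      Surjective ψ ∧ (RingHom.ker ψ).FG := by
  classical
  obtain ⟨m, f, hf, hker⟩ := (inferInstance : Algebra.FinitePresentation R S₀').out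
  obtain ⟨n, g, hg⟩ := Algebra.FiniteType.iff_quotient_mvPolynomial''.mp
    (inferInstance : Algebra.FiniteType R S₀)
  obtain ⟨y', hy'⟩ : ∃ y' : Fin m → S', y' = fun j => algebraMap S₀' S' (f (MvPolynomial.X j)) :=
    ⟨_, rfl⟩
  obtain ⟨π, hπdef⟩ : ∃ π : MvPolynomial (Fin m) S →+* S',
      π = (MvPolynomial.aeval y' : MvPolynomial (Fin m) S →ₐ[S] S') := ⟨_, rfl⟩
  have hπC : ∀ s : S, π (MvPolynomial.C s) = algebraMap S S' s := by
    intro s; rw [hπdef]; exact MvPolynomial.aeval_C _ s
  have hπX : ∀ j, π (MvPolynomial.X j) = algebraMap S₀' S' (f (MvPolynomial.X j)) := by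
    intro j; rw [hπdef]; simp [hy']
  obtain ⟨mp, hmpdef⟩ : ∃ mp : MvPolynomial (Fin m) R →+* MvPolynomial (Fin m) S,
      mp = MvPolynomial.map (algebraMap R S) := ⟨_, rfl⟩
  have hmpC : ∀ r : R, mp (MvPolynomial.C r) = MvPolynomial.C (algebraMap R S r) := by
    intro r; rw [hmpdef, MvPolynomial.map_C]
  have hmpX : ∀ j, mp (MvPolynomial.X j) = MvPolynomial.X j := by
    intro j; rw [hmpdef, MvPolynomial.map_X]
  have hπmap : ∀ a, π (mp a) = algebraMap S₀' S' (f a) := by
    intro a
    have : π.comp mp = (algebraMap S₀' S').comp (f : MvPolynomial (Fin m) R →+* S₀') := by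
      apply MvPolynomial.ringHom_ext
      · intro r
        rw [RingHom.comp_apply, RingHom.comp_apply, hmpC, hπC, RingHom.coe_coe,
          ← MvPolynomial.algebraMap_eq, AlgHom.commutes, ← IsScalarTower.algebraMap_apply,
          ← IsScalarTower.algebraMap_apply]
      · intro j
        rw [RingHom.comp_apply, RingHom.comp_apply, hmpX, hπX]
        rfl
    exact RingHom.congr_fun this a
  -- the prime
  obtain ⟨q, hqdef⟩ : ∃ q : Ideal (MvPolynomial (Fin m) S),
      q = (IsLocalRing.maximalIdeal S').comap π := ⟨_, rfl⟩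
  haveI hqp : q.IsPrime := by rw [hqdef]; exact Ideal.comap_isPrime _ _
  have hunit : ∀ b, b ∉ q → IsUnit (π b) := by
    intro b hb
    rw [hqdef, Ideal.mem_comap] at hb
    exact IsLocalRing.notMem_maximalIdeal.mp hb
  have hunitmp : ∀ a, f a ∈ Msub' → mp a ∉ q := by
    intro a ha hmem
    rw [hqdef, Ideal.mem_comap, hπmap] at hmem
    exact (IsLocalRing.mem_maximalIdeal _).mp hmem
      (IsLocalization.map_units S' (⟨f a, ha⟩ : Msub'))
  set Bq := Localization.AtPrime q with hBq
  obtain ⟨ψ, hψ⟩ : ∃ ψ : Bq →+* S', ∀ b, ψ (algebraMap _ Bq b) = π b :=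
    ⟨IsLocalization.lift (M := q.primeCompl) (g := π) (fun y => hunit y y.2),
      fun b => IsLocalization.lift_eq _ b⟩
  have hψmk : ∀ (x : MvPolynomial (Fin m) S) (s : q.primeCompl) (z : S'),
      π x = π s * z → ψ (IsLocalization.mk' Bq x s) = z := by
    intro x s z h
    have h1 : ψ (IsLocalization.mk' Bq x s) * π s = π x := by
      rw [← hψ s, ← map_mul, IsLocalization.mk'_spec, hψ]
    have h2 := (hunit s s.2).mul_left_injective
    apply h2
    change ψ (IsLocalization.mk' Bq x s) * π s = z * π s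
    rw [h1, h, mul_comm]
  refine ⟨m, q, hqp, ψ, fun b => ?_, fun s => ?_, ?_, ?_⟩
  · rw [hψ, hqdef, Ideal.mem_comap]
  · rw [IsScalarTower.algebraMap_apply S (MvPolynomial (Fin m) S) Bq, hψ,
      MvPolynomial.algebraMap_eq, hπC]
  · -- surjectivity
    intro z
    obtain ⟨t, d, rfl⟩ := IsLocalization.exists_mk'_eq Msub' z
    obtain ⟨a, rfl⟩ := hf t
    obtain ⟨b', hb'⟩ := hf (d : S₀')
    have hb'M : f b' ∈ Msub' := by rw [hb']; exact d.2
    refine ⟨IsLocalization.mk' Bq (mp a) (⟨mp b', hunitmp b' hb'M⟩ : q.primeCompl), ?_⟩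
    apply hψmk
    change π (mp a) = π (mp b') * _
    rw [hπmap, hπmap, hb', IsLocalization.mk'_spec']
  · -- the kernel
    -- common denominators for the images of the generators of `S₀`
    obtain ⟨ξ, hξ⟩ : ∃ ξ : Fin n → S', ξ = fun i =>
        algebraMap S S' (algebraMap S₀ S (g (MvPolynomial.X i))) := ⟨_, rfl⟩
    obtain ⟨bd, hbd⟩ := IsLocalization.exist_integer_multiples_of_finite Msub' ξ
    choose t ht using hbd
    obtain ⟨d, hd⟩ := hf (bd : S₀')
    choose tl htl using fun i => hf (t i)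
    have hdM : f d ∈ Msub' := by rw [hd]; exact bd.2
    -- `ξ i * algebraMap (f d) = algebraMap (f (tl i))`
    have hξd : ∀ i, algebraMap S₀' S' (f d) * ξ i = algebraMap S₀' S' (f (tl i)) := by
      intro i
      rw [htl, ht, hd, Algebra.smul_def]
    obtain ⟨ε, hε⟩ : ∃ ε : Fin n → MvPolynomial (Fin m) S, ε = fun i =>
        MvPolynomial.C (algebraMap S₀ S (g (MvPolynomial.X i))) * mp d - mp (tl i) := ⟨_, rfl⟩
    have hπε : ∀ i, π (ε i) = 0 := by
      intro i
      rw [hε]
      simp only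
      rw [map_sub, map_mul, hπC, hπmap, hπmap, ← hξd, hξ, mul_comm, sub_self]
    set 𝔡₀ : Ideal (MvPolynomial (Fin m) S) :=
      Ideal.span (Set.range ε) ⊔ (RingHom.ker f.toRingHom).map mp with h𝔡₀
    have h𝔡₀fg : 𝔡₀.FG :=
      Submodule.FG.sup (Submodule.fg_span (Set.finite_range ε)) (Ideal.FG.map hker mp)
    have h𝔡₀π : ∀ x ∈ 𝔡₀, π x = 0 := by
      have : 𝔡₀ ≤ RingHom.ker π := by
        rw [h𝔡₀, sup_le_iff, Ideal.span_le, Ideal.map_le_iff_le_comap]
        refine ⟨?_, ?_⟩
        · rintro _ ⟨i, rfl⟩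
          exact hπε i
        · intro a ha
          rw [Ideal.mem_comap, RingHom.mem_ker, hπmap]
          have : f a = 0 := ha
          rw [this, map_zero]
      exact fun x hx => this hx
    set 𝔡 : Ideal Bq := 𝔡₀.map (algebraMap _ Bq) with h𝔡
    have h𝔡fg : 𝔡.FG := Ideal.FG.map h𝔡₀fg _
    have h𝔡ψ : 𝔡 ≤ RingHom.ker ψ := by
      rw [h𝔡, Ideal.map_le_iff_le_comap]
      intro x hx
      rw [Ideal.mem_comap, RingHom.mem_ker, hψ]
      exact h𝔡₀π x hx
    -- the quotient and the two maps
    obtain ⟨ψb, hψb⟩ : ∃ ψb : Bq ⧸ 𝔡 →+* S', ∀ z, ψb (Ideal.Quotient.mk 𝔡 z) = ψ z :=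
      ⟨Ideal.Quotient.lift 𝔡 ψ (fun z hz => h𝔡ψ hz), fun z => Ideal.Quotient.lift_mk _ _ _⟩
    obtain ⟨g₀, hg₀⟩ : ∃ g₀ : MvPolynomial (Fin m) R →+* Bq ⧸ 𝔡,
        ∀ a, g₀ a = Ideal.Quotient.mk 𝔡 (algebraMap _ Bq (mp a)) :=
      ⟨(Ideal.Quotient.mk 𝔡).comp ((algebraMap _ Bq).comp mp), fun a => rfl⟩
    have hg₀ker : RingHom.ker (f : MvPolynomial (Fin m) R →+* S₀') ≤ RingHom.ker g₀ := by
      intro a ha
      rw [RingHom.mem_ker, hg₀, Ideal.Quotient.eq_zero_iff_mem, h𝔡]
      refine Ideal.mem_map_of_mem _ ?_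
      rw [h𝔡₀]
      exact Ideal.mem_sup_right (Ideal.mem_map_of_mem _ ha)
    obtain ⟨ρ₀, hρ₀⟩ : ∃ ρ₀ : S₀' →+* Bq ⧸ 𝔡, ∀ a, ρ₀ (f a) = g₀ a :=
      ⟨RingHom.liftOfSurjective (f : MvPolynomial (Fin m) R →+* S₀') hf ⟨g₀, hg₀ker⟩,
        fun a => RingHom.liftOfSurjective_comp_apply _ hf ⟨g₀, hg₀ker⟩ a⟩
    have hρ₀unit : ∀ y : Msub', IsUnit (ρ₀ y) := by
      intro y
      obtain ⟨a, ha⟩ := hf (y : S₀')
      rw [← ha, hρ₀, hg₀]
      have haM : f a ∈ Msub' := by rw [ha]; exact y.2
      exact (IsLocalization.map_units Bq (⟨mp a, hunitmp a haM⟩ : q.primeCompl)).map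
        (Ideal.Quotient.mk 𝔡)
    obtain ⟨ρ, hρ⟩ : ∃ ρ : S' →+* Bq ⧸ 𝔡, ∀ x, ρ (algebraMap S₀' S' x) = ρ₀ x := by
      refine ⟨IsLocalization.lift (M := Msub') (S := S') (P := Bq ⧸ 𝔡) (g := ρ₀) hρ₀unit, fun x => ?_⟩
      exact IsLocalization.lift_eq (M := Msub') (S := S') hρ₀unit x
    -- `ρ ∘ algebraMap S S'` is the constant map
    have hconst : ∀ s : S, ρ (algebraMap S S' s) =
        Ideal.Quotient.mk 𝔡 (algebraMap (MvPolynomial (Fin m) S) Bq (MvPolynomial.C s)) := by
      have h1 : ρ.comp (algebraMap S S') =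
          (Ideal.Quotient.mk 𝔡).comp ((algebraMap (MvPolynomial (Fin m) S) Bq).comp
            MvPolynomial.C) := by
        apply IsLocalization.ringHom_ext Msub
        apply (RingHom.cancel_right (f := (g : MvPolynomial (Fin n) R →+* S₀)) hg).mp
        apply MvPolynomial.ringHom_ext
        · intro r
          simp only [RingHom.comp_apply, RingHom.coe_coe]
          have e1 : g (MvPolynomial.C r) = algebraMap R S₀ r := by
            rw [← MvPolynomial.algebraMap_eq, AlgHom.commutes]
          have e2 : algebraMap S₀ S (algebraMap R S₀ r) = algebraMap R S r :=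
            (IsScalarTower.algebraMap_apply R S₀ S r).symm
          have e3 : algebraMap S S' (algebraMap R S r) =
              algebraMap S₀' S' (f (MvPolynomial.C r)) := by
            rw [← IsScalarTower.algebraMap_apply R S S', IsScalarTower.algebraMap_apply R S₀' S',
              ← MvPolynomial.algebraMap_eq, AlgHom.commutes]
          rw [e1, e2, e3, hρ, hρ₀, hg₀, hmpC]
        · intro i
          simp only [RingHom.comp_apply, RingHom.coe_coe]
          -- multiply by the unit `[mp d]`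
          have hu : IsUnit (Ideal.Quotient.mk 𝔡 (algebraMap _ Bq (mp d))) :=
            (IsLocalization.map_units Bq (⟨mp d, hunitmp d hdM⟩ : q.primeCompl)).map
              (Ideal.Quotient.mk 𝔡)
          apply hu.mul_left_injective
          change ρ _ * _ = _ * _
          have e1 : ρ (algebraMap S S' (algebraMap S₀ S (g (MvPolynomial.X i)))) *
              Ideal.Quotient.mk 𝔡 (algebraMap _ Bq (mp d)) =
              Ideal.Quotient.mk 𝔡 (algebraMap _ Bq (mp (tl i))) := by
            rw [← hg₀, ← hg₀, ← hρ₀, ← hρ₀, ← hρ, ← hρ, ← map_mul, ← hξd, hξ, mul_comm]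
          rw [e1, ← map_mul, ← map_mul, eq_comm, ← sub_eq_zero, ← map_sub, ← map_sub,
            Ideal.Quotient.eq_zero_iff_mem, h𝔡]
          refine Ideal.mem_map_of_mem _ ?_
          rw [h𝔡₀]
          refine Ideal.mem_sup_left (Ideal.subset_span ⟨i, ?_⟩)
          rw [hε]
      exact fun s => RingHom.congr_fun h1 s
    have hinv : ρ.comp ψb = RingHom.id _ := by
      apply Ideal.Quotient.ringHom_ext
      apply IsLocalization.ringHom_ext q.primeCompl
      apply MvPolynomial.ringHom_ext
      · intro s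
        simp only [RingHom.comp_apply, RingHom.id_apply]
        rw [hψb, hψ, hπC, hconst]
      · intro j
        simp only [RingHom.comp_apply, RingHom.id_apply]
        rw [hψb, hψ, hπX, hρ, hρ₀, hg₀, hmpX]
    have hkereq : RingHom.ker ψ = 𝔡 := by
      refine le_antisymm (fun z hz => ?_) h𝔡ψ
      have h1 : ψb (Ideal.Quotient.mk 𝔡 z) = 0 := by rw [hψb]; exact hz
      have h2 : Ideal.Quotient.mk 𝔡 z = ρ (ψb (Ideal.Quotient.mk 𝔡 z)) :=
        (RingHom.congr_fun hinv _).symm
      rw [h1, map_zero] at h2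
      exact Ideal.Quotient.eq_zero_iff_mem.mp h2
    rw [hkereq]
    exact h𝔡fg


end
end Groth.Agent.Lib.Helper23.FibCritEFP
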