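import Mathlib
import Groth.Agent.Lib.Helper23.FibProp1
import Groth.Agent.Lib.Helper1.NormalField3
import Groth.Agent.Lib.Helper12.Normal

/-!
Instances of FibreProp: PReg (Noetherian + geometrically regular; HomP PReg = CAlg.IsRegularHom) and PNorm (geometrically normal; HomP PNorm = EGA4.IsNormalHom): fibreProp_reg, fibreProp_norm, geomRegular_of_isLocalization, geomRegular_of_span, tensorAwayEquiv.
-/

set_option autoImplicit false
set_option linter.style.haveILetI false
set_option linter.unusedSectionVars false
universe u
open TensorProduct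

namespace Groth.Agent.Lib.Helper23.FibProp


open Groth.Agent.Lib.Helper23.RegularHom2 Groth.Agent.Lib.Helper23.GeomRegular2

section Aux

theorem isRegularRing_of_isLocalization' {R R' : Type u} [CommRing R] [CommRing R'] [Algebra R R']
    (M : Submonoid R) [IsLocalization M R'] [IsRegularRing R] : IsRegularRing R' := by
  haveI := Groth.Agent.Lib.Helper16.PDR.isRegularRing_localization R M
  exact IsRegularRing.of_ringEquiv (IsLocalization.algEquiv M (Localization M) R').toRingEquiv

theorem isRegularLocalRing_atPrime_of_isLocalization' {S T : Type u} [CommRing S] [CommRing T]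
    [Algebra S T] (M : Submonoid S) [IsLocalization M T] [IsRegularRing T]
    (Q : Ideal S) [hQ : Q.IsPrime] (hdisj : Disjoint (M : Set S) (Q : Set S)) :
    IsRegularLocalRing (Localization.AtPrime Q) := by
  set p : Ideal T := Q.map (algebraMap S T) with hp
  haveI hpprime : p.IsPrime := IsLocalization.isPrime_of_isPrime_disjoint M T Q hQ hdisj
  have hcomap : p.comap (algebraMap S T) = Q :=
    IsLocalization.comap_map_of_isPrime_disjoint M T hQ hdisj
  haveI h1 : IsLocalization.AtPrime (Localization.AtPrime p) (p.comap (algebraMap S T)) :=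
    IsLocalization.isLocalization_isLocalization_atPrime_isLocalization M
      (Localization.AtPrime p) p
  have key : ∀ Q₁ : Ideal S, Q₁ = Q → ∀ [Q₁.IsPrime]
      [IsLocalization.AtPrime (Localization.AtPrime p) Q₁],
      IsRegularLocalRing (Localization.AtPrime Q) := by
    intro Q₁ hQ₁ _ _
    subst hQ₁
    exact IsRegularLocalRing.of_ringEquiv (R := Localization.AtPrime p)
      (IsLocalization.algEquiv Q₁.primeCompl (Localization.AtPrime p)
        (Localization.AtPrime Q₁)).toRingEquiv
  haveI : (p.comap (algebraMap S T)).IsPrime := Ideal.comap_isPrime _ p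
  exact key _ hcomap

/-- span of the images `1 ⊗ r` -/
theorem span_image_includeRight {k k' F : Type u} [CommRing k] [CommRing k'] [CommRing F]
    [Algebra k k'] [Algebra k F] (s : Finset F) (hs : Ideal.span (s : Set F) = ⊤) :
    Ideal.span ((fun r => (1 : k') ⊗ₜ[k] r) '' (s : Set F)) = ⊤ := by
  have := congrArg (Ideal.map
    (Algebra.TensorProduct.includeRight (R := k) (A := k') (B := F)).toRingHom) hs
  rw [Ideal.map_span, Ideal.map_top] at this
  exact this

/-- `k' ⊗ F_r` is the localization of `k' ⊗ F` at `1 ⊗ r` -/
noncomputable def tensorAwayEquiv (k k' F : Type u) [CommRing k] [CommRing k'] [CommRing F]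
    [Algebra k k'] [Algebra k F] (r : F) :
    k' ⊗[k] (Localization.Away r) ≃ₐ[k'] Localization.Away ((1 : k') ⊗ₜ[k] r) :=
  haveI : IsLocalization ((Submonoid.powers r).map
      (Algebra.TensorProduct.includeRight (R := k) (A := k')))
      (Localization.Away ((1 : k') ⊗ₜ[k] r)) := by
    have : (Submonoid.powers r).map
        (Algebra.TensorProduct.includeRight (R := k) (A := k')) =
        Submonoid.powers ((1 : k') ⊗ₜ[k] r) := Submonoid.map_powers _ r
    rw [this]
    infer_instance
  IsLocalization.tensorProductEquivOfMapIncludeRight k k'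
    (Submonoid.powers r) (Localization.Away r) (Localization.Away ((1 : k') ⊗ₜ[k] r))

end Aux

section Reg

/-- Noetherian and geometrically regular -/
def PReg (k : Type u) [Field k] (F : Type u) [CommRing F] [Algebra k F] : Prop :=
  IsNoetherianRing F ∧ CAlg.IsGeometricallyRegular k F

theorem geomRegular_of_isLocalization {k : Type u} [Field k] {F T : Type u} [CommRing F]
    [CommRing T] [Algebra k F] [Algebra k T] [Algebra F T] [IsScalarTower k F T]
    (M : Submonoid F) [IsLocalization M T] (h : CAlg.IsGeometricallyRegular k F) :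
    CAlg.IsGeometricallyRegular k T := by
  intro k' _ _ hfin
  haveI := h k' hfin
  let M' : Submonoid (k' ⊗[k] F) :=
    M.map (Algebra.TensorProduct.includeRight (R := k) (A := k'))
  let e := IsLocalization.tensorProductEquivOfMapIncludeRight k k' M T (Localization M')
  haveI : IsRegularRing (Localization M') := isRegularRing_of_isLocalization' M'
  exact IsRegularRing.of_ringEquiv e.symm.toRingEquiv

theorem geomRegular_of_span {k : Type u} [Field k] {F : Type u} [CommRing F] [Algebra k F]
    (s : Finset F) (hs : Ideal.span (s : Set F) = ⊤)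
    (h : ∀ r ∈ s, CAlg.IsGeometricallyRegular k (Localization.Away r)) :
    CAlg.IsGeometricallyRegular k F := by
  classical
  intro k' _ _ hfin
  have hreg : ∀ r ∈ s, IsRegularRing (Localization.Away ((1 : k') ⊗ₜ[k] r)) := fun r hr => by
    haveI := h r hr k' hfin
    exact IsRegularRing.of_ringEquiv (tensorAwayEquiv k k' F r).toRingEquiv
  have hsp := span_image_includeRight (k := k) (k' := k') s hs
  haveI : IsNoetherianRing (k' ⊗[k] F) := by
    refine AlgebraicGeometry.isNoetherianRing_of_away
      (s.image (fun r => (1 : k') ⊗ₜ[k] r)) ?_ ?_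
    · rw [Finset.coe_image]; exact hsp
    · rintro ⟨r', hr'⟩
      obtain ⟨r, hr, rfl⟩ := Finset.mem_image.mp hr'
      haveI := hreg r hr
      infer_instance
  rw [isRegularRing_iff]
  intro P hP
  have : ∃ r ∈ s, (1 : k') ⊗ₜ[k] r ∉ P := by
    by_contra hcon
    push_neg at hcon
    have hle : Ideal.span ((fun r => (1 : k') ⊗ₜ[k] r) '' (s : Set F)) ≤ P := by
      rw [Ideal.span_le]
      rintro _ ⟨r, hr, rfl⟩
      exact hcon r hr
    rw [hsp] at hle
    exact hP.ne_top (top_le_iff.mp hle)
  obtain ⟨r, hr, hrP⟩ := this
  haveI := hreg r hr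
  refine isRegularLocalRing_atPrime_of_isLocalization'
    (T := Localization.Away ((1 : k') ⊗ₜ[k] r)) (Submonoid.powers ((1 : k') ⊗ₜ[k] r)) P ?_
  rw [Set.disjoint_left]
  rintro x ⟨n, rfl⟩ hx
  exact hrP (hP.mem_of_pow_mem n hx)

theorem fibreProp_reg : FibreProp PReg where
  of_algEquiv := by
    intro k _ F F' _ _ _ _ e h
    haveI := h.1
    exact ⟨isNoetherianRing_of_ringEquiv F e.toRingEquiv, geomRegular_of_algEquiv e h.2⟩
  of_isLocalization := by
    intro k _ F T _ _ _ _ _ _ M _ h
    haveI := h.1
    exact ⟨IsLocalization.isNoetherianRing M T inferInstance, geomRegular_of_isLocalization M h.2⟩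
  of_span := by
    intro k _ F _ _ s hs h
    refine ⟨AlgebraicGeometry.isNoetherianRing_of_away s hs (fun r => (h r.1 r.2).1),
      geomRegular_of_span s hs (fun r hr => (h r hr).2)⟩
  baseChange_iff := by
    intro k K _ _ _ _ F _ _
    constructor
    · intro h
      haveI := h.1
      exact ⟨isNoetherianRing_tensor_of_essFiniteType (k := k) (S := F) K,
        geomRegular_baseChange k F K h.2⟩
    · intro h
      haveI := h.1
      haveI : IsNoetherianRing (F ⊗[k] K) :=
        isNoetherianRing_of_ringEquiv _ (Algebra.TensorProduct.comm k K F).toRingEquiv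
      haveI : IsNoetherianRing F :=
        Groth.Agent.Lib.Helper4.Hzn.isNoetherianRing_of_faithfullyFlat F (F ⊗[k] K)
      exact ⟨inferInstance, geomRegular_of_baseChange' k F K h.2⟩

end Reg

section Norm

open Groth.Agent.Lib.Helper18.FormFib Groth.Agent.Lib.Helper1.NormalField

def PNorm (k : Type u) [Field k] (F : Type u) [CommRing F] [Algebra k F] : Prop :=
  EGA4.IsGeomNormal k F

theorem fibreProp_norm : FibreProp PNorm where
  of_algEquiv := by
    intro k _ F F' _ _ _ _ e h k' _ _ hfin
    exact isNormalRing_of_ringEquiv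
      (Algebra.TensorProduct.congr (AlgEquiv.refl : k' ≃ₐ[k] k') e).toRingEquiv (h k' hfin)
  of_isLocalization := by
    intro k _ F T _ _ _ _ _ _ M _ h k' _ _ hfin
    let M' : Submonoid (k' ⊗[k] F) :=
      M.map (Algebra.TensorProduct.includeRight (R := k) (A := k'))
    let e := IsLocalization.tensorProductEquivOfMapIncludeRight k k' M T (Localization M')
    exact isNormalRing_of_ringEquiv e.symm.toRingEquiv
      (isNormalRing_of_isLocalization M' (h k' hfin))
  of_span := by
    intro k _ F _ _ s hs h k' _ _ hfin
    have hsp := span_image_includeRight (k := k) (k' := k') s hs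
    apply Groth.Agent.Lib.Helper12.Normal.isNormalRing_of_cover
    intro P hP
    have : ∃ r ∈ s, (1 : k') ⊗ₜ[k] r ∉ P := by
      by_contra hcon
      push_neg at hcon
      have hle : Ideal.span ((fun r => (1 : k') ⊗ₜ[k] r) '' (s : Set F)) ≤ P := by
        rw [Ideal.span_le]
        rintro _ ⟨r, hr, rfl⟩
        exact hcon r hr
      rw [hsp] at hle
      exact hP.ne_top (top_le_iff.mp hle)
    obtain ⟨r, hr, hrP⟩ := this
    refine ⟨Localization.Away ((1 : k') ⊗ₜ[k] r), inferInstance, inferInstance,
      Submonoid.powers ((1 : k') ⊗ₜ[k] r), inferInstance, ?_, ?_⟩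
    · exact isNormalRing_of_ringEquiv (tensorAwayEquiv k k' F r).toRingEquiv (h r hr k' hfin)
    · rw [Set.disjoint_left]
      rintro x ⟨n, rfl⟩ hx
      exact hrP (hP.mem_of_pow_mem n hx)
  baseChange_iff := by
    intro k K _ _ _ _ F _ _
    exact isGeomNormal_iff_baseChange k F K

end Norm

end Groth.Agent.Lib.Helper23.FibProp
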