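import Mathlib
import Groth.Prelude.Def_CInt
import Groth.Agent.Lib.Helper21.FibStalkComp2
import Groth.Agent.Lib.Helper4.HznDim

/-!
S14105: local rings of fibres under base change.
aux: for s' in S', t' in the fibre of X x_S S' -> S' over s': a point t of the fibre of f over g s' lying under t' with dim O_{X_s,t} <= dim O_{X'_{s'},t'} (the fibre map is a base change of Spec k(s') -> Spec k(g s'), hence flat; Mathlib isPullback_fiberToSpecResidueField_of_isPullback).
ringKrullDim_fiberStalk_le_baseChange: dim fiberStalk f (fst y') <= dim fiberStalk snd y'.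
ringKrullDim_fiberStalk_le_comp: dim fiberStalk f' y' <= dim fiberStalk (f' >> g) y'.
-/




namespace Groth.Agent.Lib.Helper23.FibStalkBC

section

universe u
open AlgebraicGeometry CategoryTheory Limits IsLocalRing

variable {X S S' : Scheme.{u}}

theorem aux (f : X ⟶ S) (g : S' ⟶ S) (s' : S') (t' : (pullback.snd f g).fiber s') :
    ∃ t : f.fiber (g s'),
      f.fiberι (g s') t = (pullback.fst f g) ((pullback.snd f g).fiberι s' t') ∧
      ringKrullDim ((f.fiber (g s')).presheaf.stalk t) ≤
        ringKrullDim (((pullback.snd f g).fiber s').presheaf.stalk t') := by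
  have hpb := IsPullback.of_hasPullback f g
  have sq := isPullback_fiberToSpecResidueField_of_isPullback hpb s'
  let φ : (pullback.snd f g).fiber s' ⟶ f.fiber (g s') :=
    pullback.map (pullback.snd f g) (S'.fromSpecResidueField s') f
      (S.fromSpecResidueField (g s')) (pullback.fst f g) (Spec.map (g.residueFieldMap s')) g
      hpb.w.symm (by simp)
  have hφι : φ ≫ f.fiberι (g s') = (pullback.snd f g).fiberι s' ≫ pullback.fst f g :=
    pullback.lift_fst _ _ _
  haveI hρ : Flat (Spec.map (g.residueFieldMap s')) := by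
    rw [Flat.SpecMap_iff]
    letI := (g.residueFieldMap s').hom.toAlgebra
    change Module.Flat _ _
    infer_instance
  haveI hflat : Flat φ := MorphismProperty.of_isPullback (P := @Flat) sq.flip hρ
  refine ⟨φ t', ?_, ?_⟩
  · rw [← Scheme.Hom.comp_apply, hφι, Scheme.Hom.comp_apply]
  · have hfl := Flat.stalkMap φ t'
    letI : Algebra ((f.fiber (g s')).presheaf.stalk (φ t'))
        (((pullback.snd f g).fiber s').presheaf.stalk t') := (φ.stalkMap t').hom.toAlgebra
    haveI : IsLocalHom (algebraMap ((f.fiber (g s')).presheaf.stalk (φ t'))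
        (((pullback.snd f g).fiber s').presheaf.stalk t')) :=
      inferInstanceAs (IsLocalHom (φ.stalkMap t').hom)
    haveI : Module.Flat ((f.fiber (g s')).presheaf.stalk (φ t'))
        (((pullback.snd f g).fiber s').presheaf.stalk t') := hfl
    haveI : Module.FaithfullyFlat ((f.fiber (g s')).presheaf.stalk (φ t'))
        (((pullback.snd f g).fiber s').presheaf.stalk t') :=
      Module.FaithfullyFlat.of_flat_of_isLocalHom
    exact Groth.Agent.Lib.Helper4.Hzn.ringKrullDim_le_of_faithfullyFlat _ _

/-- the local rings of the fibres of a base change are at least as large as those of the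
original morphism -/
theorem ringKrullDim_fiberStalk_le_baseChange (f : X ⟶ S) (g : S' ⟶ S) (y' : ↥(pullback f g)) :
    ringKrullDim (CInt.fiberStalk f ((pullback.fst f g) y')) ≤
      ringKrullDim (CInt.fiberStalk (pullback.snd f g) y') := by
  obtain ⟨t, ht, hle⟩ := aux f g ((pullback.snd f g) y') ((pullback.snd f g).asFiber y')
  rw [Scheme.Hom.fiberι_asFiber] at ht
  have hfs : f ((pullback.fst f g) y') = g ((pullback.snd f g) y') := by
    rw [← Scheme.Hom.comp_apply, ← Scheme.Hom.comp_apply, pullback.condition]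
  have h1 := Groth.Agent.Lib.Helper18.FibStalk.ringKrullDim_stalk_fiber_eq f
    ((pullback.fst f g) y') (g ((pullback.snd f g) y')) hfs t ht
  change ringKrullDim ((f.fiber (f ((pullback.fst f g) y'))).presheaf.stalk
    (f.asFiber ((pullback.fst f g) y'))) ≤ _
  rw [← h1]
  exact hle


end

section

universe u
open AlgebraicGeometry CategoryTheory Limits IsLocalRing
open Groth.Agent.Lib.Helper21 Groth.Agent.Lib.Helper21.EquiSub

variable {X S S' : Scheme.{u}}

/-- the fibre of a morphism is smaller than the fibre of a composite -/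
theorem ringKrullDim_fiberStalk_le_comp {X' : Scheme.{u}} (f' : X' ⟶ S') (g : S' ⟶ S) (y' : X') :
    ringKrullDim (CInt.fiberStalk f' y') ≤ ringKrullDim (CInt.fiberStalk (f' ≫ g) y') := by
  change ringKrullDim ((f'.fiber (f' y')).presheaf.stalk (f'.asFiber y')) ≤
    ringKrullDim (((f' ≫ g).fiber ((f' ≫ g) y')).presheaf.stalk ((f' ≫ g).asFiber y'))
  rw [← ringKrullDim_quotient_map_maximalIdeal (f' ≫ g) y',
    ← ringKrullDim_quotient_map_maximalIdeal f' y', ← FibStalkComp.map_map_maximalIdeal g f' y']
  have hle : ((maximalIdeal (S.presheaf.stalk (g (f' y')))).map (g.stalkMap (f' y')).hom).map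
      (f'.stalkMap y').hom ≤ (maximalIdeal (S'.presheaf.stalk (f' y'))).map (f'.stalkMap y').hom :=
    Ideal.map_mono (FibStalkDepth.map_maximalIdeal_le g (f' y'))
  exact ringKrullDim_le_of_surjective (Ideal.Quotient.factor hle)
    (Ideal.Quotient.factor_surjective hle)

theorem t14105 {X S S' : Scheme.{u}} (f : X ⟶ S) (g : S' ⟶ S)
    [IsLocallyNoetherian X] [IsLocallyNoetherian S] [IsLocallyNoetherian S']
    [IsLocallyNoetherian (pullback f g)] (Y : Set ↥X) (hY : IsClosed Y) :
    ((⨅ y : Y, ringKrullDim ↑(CInt.fiberStalk f y.1)) ≤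
      ⨅ y' : (fun x' => (pullback.fst f g) x') ⁻¹' Y,
        ringKrullDim ↑(CInt.fiberStalk (pullback.snd f g) y'.1)) ∧
    (Y ⊆ Set.range (pullback.fst f g).base →
      (⨅ y' : (fun x' => (pullback.fst f g) x') ⁻¹' Y,
        ringKrullDim ↑(CInt.fiberStalk (pullback.snd f g) y'.1)) =
        ⨅ y : Y, ringKrullDim ↑(CInt.fiberStalk f y.1)) := by
  have part1 : (⨅ y : Y, ringKrullDim ↑(CInt.fiberStalk f y.1)) ≤
      ⨅ y' : (fun x' => (pullback.fst f g) x') ⁻¹' Y,
        ringKrullDim ↑(CInt.fiberStalk (pullback.snd f g) y'.1) := by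
    refine le_iInf fun y' => ?_
    exact iInf_le_of_le ⟨(pullback.fst f g) y'.1, y'.2⟩
      (ringKrullDim_fiberStalk_le_baseChange f g y'.1)
  refine ⟨part1, fun hrange => le_antisymm ?_ part1⟩
  refine le_iInf fun y => ?_
  obtain ⟨y'₀, hy'₀⟩ := hrange y.2
  obtain ⟨y', hy', hdim⟩ := FibStalkComp.exists_fiberStalk_dim_zero (pullback.fst f g) y'₀
  have hy'y : (pullback.fst f g) y' = y.1 := hy'.trans hy'₀
  have hmem : y' ∈ (fun x' => (pullback.fst f g) x') ⁻¹' Y := by
    change (pullback.fst f g) y' ∈ Y
    rw [hy'y]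
    exact y.2
  refine iInf_le_of_le ⟨y', hmem⟩ ?_
  have h1 := ringKrullDim_fiberStalk_le_comp (pullback.snd f g) g y'
  have h2 := FibStalkComp.ringKrullDim_fiberStalk_comp_le f (pullback.fst f g) y'
  rw [hdim, add_zero, hy'y] at h2
  rw [← pullback.condition] at h1
  exact h1.trans h2


end
end Groth.Agent.Lib.Helper23.FibStalkBC
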