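import Mathlib

/-!
Extending finite covers over basic opens of an affine scheme to finite surjective covers of the whole scheme; globalising Zariski-local finite covers (towards fppf => ph)
-/

set_option autoImplicit false
universe u v


namespace Groth.Agent.Lib.Helper23.FinExtend


/-- **Extension of a finite algebra over a principal open to a finite algebra over the whole ring.**
`θ : A → R` with `θ a` a unit and `A_a → R` finite, `Spec R → D(a)` surjective: there is a finite
`A`-algebra `R'` with `Spec R' → Spec A` surjective, and `R` is the localization of `R'` at `a`. -/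
theorem K1_ring {A R : Type u} [CommRing A] [CommRing R] (θ : A →+* R) (a : A)
    (ha : IsUnit (θ a))
    (hfin : (IsLocalization.Away.lift (S := Localization.Away a) a ha).Finite)
    (hsurj : ∀ p : PrimeSpectrum A, a ∉ p.asIdeal →
      ∃ q : PrimeSpectrum R, PrimeSpectrum.comap θ q = p) :
    ∃ (R' : Type u) (_ : CommRing R') (φ : A →+* R') (κ : R' →+* R), φ.Finite ∧
      Function.Surjective (PrimeSpectrum.comap φ) ∧ κ.comp φ = θ ∧
      @IsLocalization.Away R' _ (φ a) R _ κ.toAlgebra := by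
  letI : Algebra A R := θ.toAlgebra
  set θ' : Localization.Away a →+* R := IsLocalization.Away.lift (S := Localization.Away a) a ha
    with hθ'
  letI : Algebra (Localization.Away a) R := θ'.toAlgebra
  haveI : IsScalarTower A (Localization.Away a) R := IsScalarTower.of_algebraMap_eq fun x => by
    show θ x = θ' (algebraMap A (Localization.Away a) x)
    rw [hθ', IsLocalization.Away.lift_eq]
  haveI : Module.Finite (Localization.Away a) R := hfin
  obtain ⟨s, hs⟩ := (Module.Finite.fg_top : (⊤ : Submodule (Localization.Away a) R).FG)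
  have hint : ∀ r : R, ∃ m : Submonoid.powers a, IsIntegral A (m • r) := fun r =>
    IsIntegral.exists_multiple_integral_of_isLocalization (Submonoid.powers a) r
      (Algebra.IsIntegral.isIntegral (R := Localization.Away a) r)
  choose m hm using hint
  let t : R → R := fun r => (m r) • r
  let R'' : Subalgebra A R := Algebra.adjoin A (t '' (s : Set R))
  have hfg : (Subalgebra.toSubmodule R'').FG :=
    fg_adjoin_of_finite (s.finite_toSet.image t) (by
      rintro _ ⟨r, -, rfl⟩
      exact hm r)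
  haveI : Module.Finite A R'' := Module.Finite.iff_fg.mpr hfg
  -- every element of `R` is in `R''` after multiplication by a power of `a`
  have key : ∀ z : R, ∃ k : ℕ, θ a ^ k * z ∈ R'' := by
    intro z
    have hz : z ∈ Submodule.span (Localization.Away a) (s : Set R) := by rw [hs]; trivial
    induction hz using Submodule.span_induction with
    | mem r hr =>
      obtain ⟨l, hl⟩ := (m r).2
      refine ⟨l, ?_⟩
      have : θ a ^ l * r = t r := by
        show _ = (m r) • r
        rw [Submonoid.smul_def, ← hl, Algebra.smul_def, map_pow]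
        rfl
      rw [this]
      exact Algebra.subset_adjoin ⟨r, hr, rfl⟩
    | zero => exact ⟨0, by simp⟩
    | add z₁ z₂ _ _ h₁ h₂ =>
      obtain ⟨k₁, h₁⟩ := h₁
      obtain ⟨k₂, h₂⟩ := h₂
      refine ⟨k₁ + k₂, ?_⟩
      have : θ a ^ (k₁ + k₂) * (z₁ + z₂) =
          algebraMap A R (a ^ k₂) * (θ a ^ k₁ * z₁) + algebraMap A R (a ^ k₁) * (θ a ^ k₂ * z₂) := by
        show _ = θ (a ^ k₂) * _ + θ (a ^ k₁) * _
        rw [map_pow, map_pow]; ring
      rw [this]
      exact R''.add_mem (R''.mul_mem (R''.algebraMap_mem _) h₁)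
        (R''.mul_mem (R''.algebraMap_mem _) h₂)
    | smul c z _ h =>
      obtain ⟨k, hk⟩ := h
      obtain ⟨j, α, hα⟩ := IsLocalization.Away.surj a c
      refine ⟨j + k, ?_⟩
      have h1 : θ' c * θ a ^ j = θ α := by
        have := congrArg θ' hα
        rw [map_mul, map_pow, hθ', IsLocalization.Away.lift_eq, IsLocalization.Away.lift_eq] at this
        rw [hθ']; exact this
      have : θ a ^ (j + k) * (c • z) = algebraMap A R α * (θ a ^ k * z) := by
        rw [Algebra.smul_def]
        show _ * (θ' c * z) = θ α * _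
        rw [← h1]; ring
      rw [this]
      exact R''.mul_mem (R''.algebraMap_mem _) hk
  -- the finite algebra
  let φ : A →+* R'' × (A ⧸ Ideal.span {a}) :=
    (algebraMap A R'').prod (Ideal.Quotient.mk (Ideal.span {a}))
  let κ : R'' × (A ⧸ Ideal.span {a}) →+* R := R''.val.toRingHom.comp (RingHom.fst _ _)
  have hκφ : κ.comp φ = θ := by
    ext x; rfl
  refine ⟨R'' × (A ⧸ Ideal.span {a}), inferInstance, φ, κ, ?_, ?_, hκφ, ?_⟩
  · have : φ = algebraMap A (R'' × (A ⧸ Ideal.span {a})) := rfl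
    rw [this]
    exact RingHom.finite_algebraMap.mpr inferInstance
  · intro p
    by_cases hap : a ∈ p.asIdeal
    · have hp : p ∈ PrimeSpectrum.zeroLocus
          (RingHom.ker (Ideal.Quotient.mk (Ideal.span {a})) : Set A) := by
        rw [Ideal.mk_ker, PrimeSpectrum.zeroLocus_span]
        intro x hx
        rw [Set.mem_singleton_iff.mp hx]; exact hap
      rw [← range_comap_of_surjective _ _ Ideal.Quotient.mk_surjective] at hp
      obtain ⟨p', hp'⟩ := hp
      refine ⟨PrimeSpectrum.comap (RingHom.snd R'' (A ⧸ Ideal.span {a})) p', ?_⟩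
      rw [← hp']
      rfl
    · obtain ⟨q₀, hq₀⟩ := hsurj p hap
      refine ⟨PrimeSpectrum.comap κ q₀, ?_⟩
      rw [← hq₀, ← hκφ]
      rfl
  · letI : Algebra (R'' × (A ⧸ Ideal.span {a})) R := κ.toAlgebra
    refine IsLocalization.Away.mk _ ?_ (fun z => ?_) (fun x y h => ?_)
    · show IsUnit (κ (φ a))
      have : κ (φ a) = θ a := congrArg (fun f => f a) hκφ
      rw [this]; exact ha
    · obtain ⟨k, hk⟩ := key z
      refine ⟨k, (⟨θ a ^ k * z, hk⟩, 0), ?_⟩
      show z * κ (φ a) ^ k = θ a ^ k * z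
      have : κ (φ a) = θ a := congrArg (fun f => f a) hκφ
      rw [this, mul_comm]
    · refine ⟨1, ?_⟩
      have hxy : (x.1 : R) = (y.1 : R) := h
      have h1 : x.1 = y.1 := Subtype.ext hxy
      have h2 : Ideal.Quotient.mk (Ideal.span {a}) a = 0 :=
        Ideal.Quotient.eq_zero_iff_mem.mpr (Ideal.mem_span_singleton_self a)
      rw [pow_one]
      refine Prod.ext ?_ ?_
      · show algebraMap A R'' a * x.1 = algebraMap A R'' a * y.1
        rw [h1]
      · show Ideal.Quotient.mk (Ideal.span {a}) a * x.2 = Ideal.Quotient.mk (Ideal.span {a}) a * y.2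
        rw [h2, zero_mul, zero_mul]


open AlgebraicGeometry CategoryTheory Limits TopologicalSpace

theorem isUnit_of_basicOpen_eq_top {Y : Scheme.{u}} (f : Γ(Y, ⊤)) (h : Y.basicOpen f = ⊤) :
    IsUnit f := by
  apply RingedSpace.isUnit_of_isUnit_germ Y.toRingedSpace (U := ⊤) f
  intro x hx
  have : (x : Y) ∈ Y.basicOpen f := by rw [h]; trivial
  exact (Y.mem_basicOpen f x hx).mp this

/-- Scheme form of `K1_ring`: a finite surjective morphism onto a basic open of an affine scheme
extends to a finite surjective morphism onto the whole scheme. -/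
theorem K1_scheme {X W : Scheme.{u}} [IsAffine X] (a : Γ(X, ⊤))
    (π : W ⟶ (X.basicOpen a).toScheme) [IsFinite π] [Surjective π] :
    ∃ (P : Scheme.{u}) (f : P ⟶ X) (o : W ⟶ P), IsAffine P ∧ IsFinite f ∧ Surjective f ∧
      IsOpenImmersion o ∧ o ≫ f = π ≫ (X.basicOpen a).ι ∧
      f ⁻¹' ((X.basicOpen a : X.Opens) : Set X) ⊆ Set.range o := by
  have hDaff : IsAffineOpen (X.basicOpen a) := (isAffineOpen_top X).basicOpen a
  haveI : IsAffine (X.basicOpen a).toScheme := hDaff
  haveI : IsAffine W := isAffine_of_isAffineHom π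
  set g : W ⟶ X := π ≫ (X.basicOpen a).ι with hg
  set θ : Γ(X, ⊤) →+* Γ(W, ⊤) := g.appTop.hom with hθ
  have hnat : Spec.map g.appTop ≫ X.isoSpec.inv = W.isoSpec.inv ≫ g :=
    Scheme.isoSpec_inv_naturality g
  have hpre : g ⁻¹ᵁ (X.basicOpen a) = ⊤ := by
    ext w
    simp only [Scheme.Hom.mem_preimage, Opens.coe_top, Set.mem_univ, iff_true, hg]
    show (π ≫ (X.basicOpen a).ι) w ∈ X.basicOpen a
    rw [Scheme.Hom.comp_apply]
    exact (π w).2
  have ha : IsUnit (θ a) := by
    apply isUnit_of_basicOpen_eq_top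
    have := Scheme.preimage_basicOpen g a
    rw [hpre] at this
    exact this.symm
  -- the open immersion `Spec A_a ⟶ X` with range `D(a)`
  let j : Spec (CommRingCat.of (Localization.Away a)) ⟶ Spec Γ(X, ⊤) :=
    Spec.map (CommRingCat.ofHom (algebraMap Γ(X, ⊤) (Localization.Away a)))
  haveI : IsOpenImmersion j := inferInstanceAs (IsOpenImmersion
    (Spec.map (CommRingCat.ofHom (algebraMap Γ(X, ⊤) (Localization.Away a)))))
  have hbasic : X.isoSpec.inv ⁻¹ᵁ (X.basicOpen a) = PrimeSpectrum.basicOpen a := by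
    rw [← IsAffineOpen.fromSpec_top]
    exact (isAffineOpen_top X).fromSpec_preimage_basicOpen a
  have hrange : Set.range (j ≫ X.isoSpec.inv) = Set.range (X.basicOpen a).ι := by
    rw [Scheme.Opens.range_ι]
    ext x
    constructor
    · rintro ⟨y, rfl⟩
      rw [Scheme.Hom.comp_apply]
      have hy : j y ∈ (PrimeSpectrum.basicOpen a : Set (PrimeSpectrum Γ(X, ⊤))) := by
        rw [← PrimeSpectrum.localization_away_comap_range (Localization.Away a) a]
        exact ⟨y, rfl⟩
      have : j y ∈ X.isoSpec.inv ⁻¹ᵁ (X.basicOpen a) := by rw [hbasic]; exact hy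
      exact this
    · intro hx
      obtain ⟨z, rfl⟩ := X.isoSpec.inv.surjective x
      have hz : z ∈ X.isoSpec.inv ⁻¹ᵁ (X.basicOpen a) := hx
      rw [hbasic] at hz
      have : z ∈ Set.range (PrimeSpectrum.comap (algebraMap Γ(X, ⊤) (Localization.Away a))) := by
        rw [PrimeSpectrum.localization_away_comap_range (Localization.Away a) a]
        exact hz
      obtain ⟨y, rfl⟩ := this
      exact ⟨y, by rw [Scheme.Hom.comp_apply]; rfl⟩
  let ε := IsOpenImmersion.isoOfRangeEq (j ≫ X.isoSpec.inv) (X.basicOpen a).ι hrange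
  have hε : ε.hom ≫ (X.basicOpen a).ι = j ≫ X.isoSpec.inv :=
    IsOpenImmersion.isoOfRangeEq_hom_fac _ _ _
  let ℓ : Spec Γ(W, ⊤) ⟶ Spec (CommRingCat.of (Localization.Away a)) :=
    Spec.map (CommRingCat.ofHom (IsLocalization.Away.lift (S := Localization.Away a) a ha))
  have hℓj : ℓ ≫ j = Spec.map g.appTop := by
    rw [← Spec.map_comp]
    congr 1
    ext x
    show (IsLocalization.Away.lift (S := Localization.Away a) a ha)
      (algebraMap Γ(X, ⊤) (Localization.Away a) x) = θ x
    rw [IsLocalization.Away.lift_eq]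
  have hℓ : ℓ = W.isoSpec.inv ≫ π ≫ ε.inv := by
    rw [← Category.assoc, Iso.eq_comp_inv]
    rw [← cancel_mono (X.basicOpen a).ι]
    simp only [Category.assoc]
    rw [hε, ← Category.assoc ℓ, hℓj, hnat]
  have hfin : (IsLocalization.Away.lift (S := Localization.Away a) a ha).Finite := by
    have : IsFinite ℓ := by rw [hℓ]; infer_instance
    exact (IsFinite.SpecMap_iff _).mp this
  have hsurj : ∀ p : PrimeSpectrum Γ(X, ⊤), a ∉ p.asIdeal →
      ∃ q : PrimeSpectrum Γ(W, ⊤), PrimeSpectrum.comap θ q = p := by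
    intro p hp
    have hpD : X.isoSpec.inv p ∈ X.basicOpen a := by
      have : p ∈ X.isoSpec.inv ⁻¹ᵁ (X.basicOpen a) := by rw [hbasic]; exact hp
      exact this
    obtain ⟨w, hw⟩ := π.surjective ⟨X.isoSpec.inv p, hpD⟩
    refine ⟨W.isoSpec.hom w, ?_⟩
    apply X.isoSpec.inv.isOpenEmbedding.injective
    have h1 := congrArg (fun f => f.base (W.isoSpec.hom w)) hnat
    simp only [Scheme.Hom.comp_base, TopCat.comp_app] at h1
    have h2 : W.isoSpec.inv (W.isoSpec.hom w) = w := by
      rw [← Scheme.Hom.comp_apply, Iso.hom_inv_id]; rfl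
    have h3 : g w = X.isoSpec.inv p := by
      rw [hg, Scheme.Hom.comp_apply, hw]; rfl
    have h4 : X.isoSpec.inv (PrimeSpectrum.comap θ (W.isoSpec.hom w)) =
        g (W.isoSpec.inv (W.isoSpec.hom w)) := h1
    rw [h2] at h4
    rw [h4, h3]
  obtain ⟨R', _, φ, κ, hφfin, hφsurj, hκφ, hloc⟩ := K1_ring θ a ha hfin hsurj
  let φ' : Γ(X, ⊤) ⟶ CommRingCat.of R' := CommRingCat.ofHom φ
  let κ' : CommRingCat.of R' ⟶ Γ(W, ⊤) := CommRingCat.ofHom κ
  have hφκ' : φ' ≫ κ' = g.appTop := by
    ext x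
    exact congrArg (fun f => f x) hκφ
  haveI : IsFinite (Spec.map φ') := (IsFinite.SpecMap_iff φ').mpr hφfin
  haveI : Surjective (Spec.map φ') := ⟨fun p => hφsurj p⟩
  haveI : IsOpenImmersion (Spec.map κ') := by
    letI : Algebra R' Γ(W, ⊤) := κ.toAlgebra
    exact IsOpenImmersion.of_isLocalization (φ a)
  refine ⟨Spec (CommRingCat.of R'), Spec.map φ' ≫ X.isoSpec.inv, W.isoSpec.hom ≫ Spec.map κ',
    inferInstance, inferInstance, inferInstance, inferInstance, ?_, ?_⟩
  · simp only [Category.assoc]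
    rw [← Spec.map_comp_assoc, hφκ', hnat, Iso.hom_inv_id_assoc]
  · intro y hy
    have hy' : Spec.map φ' y ∈ X.isoSpec.inv ⁻¹ᵁ (X.basicOpen a) := by
      have : (Spec.map φ' ≫ X.isoSpec.inv) y ∈ X.basicOpen a := hy
      rw [Scheme.Hom.comp_apply] at this
      exact this
    rw [hbasic] at hy'
    have hy2 : φ a ∉ y.asIdeal := hy'
    letI : Algebra R' Γ(W, ⊤) := κ.toAlgebra
    have hr := PrimeSpectrum.localization_away_comap_range (S := Γ(W, ⊤)) (φ a)
    have : y ∈ Set.range (PrimeSpectrum.comap (algebraMap R' Γ(W, ⊤))) := by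
      rw [hr]; exact hy2
    obtain ⟨z, hz⟩ := this
    refine ⟨W.isoSpec.inv z, ?_⟩
    rw [← Scheme.Hom.comp_apply, Iso.inv_hom_id_assoc]
    exact hz


open AlgebraicGeometry CategoryTheory Limits TopologicalSpace

/-- finitely many finite surjective morphisms to an affine scheme have a common finite surjective
refinement. -/
theorem exists_common_cover {X : Scheme.{u}} [IsAffine X] {ι : Type v} (P : ι → Scheme.{u})
    (f : ∀ k, P k ⟶ X) (hfin : ∀ k, IsFinite (f k)) (hsurj : ∀ k, Surjective (f k))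
    (s : Finset ι) :
    ∃ (Q : Scheme.{u}) (g : Q ⟶ X), IsAffine Q ∧ IsFinite g ∧ Surjective g ∧
      ∀ k ∈ s, ∃ pr : Q ⟶ P k, pr ≫ f k = g := by
  classical
  induction s using Finset.induction_on with
  | empty =>
    exact ⟨X, 𝟙 X, inferInstance, inferInstance, inferInstance, fun k hk => absurd hk (Finset.notMem_empty k)⟩
  | insert k s hk ih =>
    obtain ⟨Q, g, hQ, hg, hgs, hpr⟩ := ih
    haveI := hfin k
    haveI := hsurj k
    haveI : IsFinite (pullback.fst g (f k) ≫ g) := inferInstance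
    refine ⟨pullback g (f k), pullback.fst g (f k) ≫ g,
      isAffine_of_isAffineHom (pullback.fst g (f k) ≫ g), inferInstance, inferInstance, ?_⟩
    intro k' hk'
    rcases Finset.mem_insert.mp hk' with rfl | hk'
    · exact ⟨pullback.snd g (f k'), pullback.condition.symm⟩
    · obtain ⟨pr, hpr'⟩ := hpr k' hk'
      exact ⟨pullback.fst g (f k) ≫ pr, by rw [Category.assoc, hpr']⟩

/-- **Globalising local finite covers on an affine scheme.** Let `𝒮` be a sieve-like predicate on
morphisms to the affine scheme `X`.  If every point of `X` has an open neighbourhood `U` with a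
finite surjective `W ⟶ U` such that `W ⟶ X` is in `𝒮`, then there is a finite surjective
`P ⟶ X` with a finite affine open cover of `P` all of whose members are in `𝒮`. -/
theorem K_lemma {X : Scheme.{u}} [IsAffine X] (𝒮 : ∀ (Y : Scheme.{u}), (Y ⟶ X) → Prop)
    (h𝒮 : ∀ (Y Y' : Scheme.{u}) (g : Y ⟶ X) (h : Y' ⟶ Y), 𝒮 Y g → 𝒮 Y' (h ≫ g))
    (hloc : ∀ x : X, ∃ (U W : Scheme.{u}) (j : U ⟶ X) (π : W ⟶ U), IsOpenImmersion j ∧
      x ∈ Set.range j ∧ IsFinite π ∧ Surjective π ∧ 𝒮 W (π ≫ j)) :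
    ∃ (P : Scheme.{u}) (f : P ⟶ X) (m : ℕ) (N : Fin m → Scheme.{u}) (o : ∀ l, N l ⟶ P),
      IsAffine P ∧ IsFinite f ∧ Surjective f ∧ (∀ l, IsAffine (N l)) ∧ (∀ l, IsOpenImmersion (o l)) ∧
      (∀ y : P, ∃ l, y ∈ Set.range (o l)) ∧ ∀ l, 𝒮 (N l) (o l ≫ f) := by
  choose U W j π hj hx hfin hsurj hS using hloc
  have hbas : ∀ x, ∃ a : Γ(X, ⊤), X.basicOpen a ≤ (j x).opensRange ∧ x ∈ X.basicOpen a := fun x =>
    (isAffineOpen_top X).exists_basicOpen_le (V := (j x).opensRange) ⟨x, hx x⟩ trivial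
  choose a ha hxa using hbas
  obtain ⟨s, hs⟩ := isCompact_univ.elim_finite_subcover
    (fun x => ((X.basicOpen (a x) : X.Opens) : Set X)) (fun x => (X.basicOpen (a x)).isOpen)
    (fun x _ => Set.mem_iUnion.mpr ⟨x, hxa x⟩)
  -- restrict to the basic opens
  have hrange : ∀ x, Set.range (X.basicOpen (a x)).ι ⊆ Set.range (j x) := fun x => by
    rw [Scheme.Opens.range_ι]
    exact ha x
  let d : ∀ x, (X.basicOpen (a x)).toScheme ⟶ U x := fun x =>
    IsOpenImmersion.lift (j x) (X.basicOpen (a x)).ι (hrange x)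
  have hd : ∀ x, d x ≫ j x = (X.basicOpen (a x)).ι := fun x => IsOpenImmersion.lift_fac _ _ _
  let π' : ∀ x, pullback (π x) (d x) ⟶ (X.basicOpen (a x)).toScheme := fun x =>
    pullback.snd (π x) (d x)
  haveI : ∀ x, IsFinite (π' x) := fun x => by
    haveI := hfin x
    exact inferInstanceAs (IsFinite (pullback.snd (π x) (d x)))
  haveI : ∀ x, Surjective (π' x) := fun x => by
    haveI := hsurj x
    exact inferInstanceAs (Surjective (pullback.snd (π x) (d x)))
  have hS' : ∀ x, 𝒮 _ (π' x ≫ (X.basicOpen (a x)).ι) := fun x => by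
    have := h𝒮 _ _ _ (pullback.fst (π x) (d x)) (hS x)
    have e : pullback.fst (π x) (d x) ≫ π x ≫ j x = π' x ≫ (X.basicOpen (a x)).ι := by
      rw [← hd x, ← Category.assoc, pullback.condition, Category.assoc]
    rw [e] at this
    exact this
  have hK := fun x => K1_scheme (a x) (π' x)
  choose P f o hPaff hffin hfsurj hoo hof hsub using hK
  obtain ⟨Q, g, hQ, hgfin, hgsurj, hpr⟩ := exists_common_cover P f hffin hfsurj s
  let e := s.equivFin
  let xl : Fin s.card → X := fun l => (e.symm l).1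
  have hxl : ∀ l, xl l ∈ s := fun l => (e.symm l).2
  choose pr hpr' using fun l => hpr (xl l) (hxl l)
  refine ⟨Q, g, s.card, fun l => pullback g (X.basicOpen (a (xl l))).ι,
    fun l => pullback.fst g (X.basicOpen (a (xl l))).ι, hQ, hgfin, hgsurj, fun l => ?_,
    fun l => inferInstance, fun y => ?_, fun l => ?_⟩
  · haveI : IsAffine (X.basicOpen (a (xl l))).toScheme := (isAffineOpen_top X).basicOpen _
    exact isAffine_of_isAffineHom (pullback.snd g (X.basicOpen (a (xl l))).ι)
  · have hy : g y ∈ ⋃ x ∈ s, ((X.basicOpen (a x) : X.Opens) : Set X) := hs (Set.mem_univ _)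
    simp only [Set.mem_iUnion] at hy
    obtain ⟨x, hxs, hyx⟩ := hy
    refine ⟨e ⟨x, hxs⟩, ?_⟩
    rw [Scheme.Pullback.range_fst, Scheme.Opens.range_ι]
    have : xl (e ⟨x, hxs⟩) = x := by simp [xl]
    rw [this]
    exact hyx
  · set x := xl l with hxdef
    have hrg : Set.range (pullback.fst g (X.basicOpen (a x)).ι ≫ pr l) ⊆ Set.range (o x) := by
      rintro _ ⟨n, rfl⟩
      apply hsub x
      show f x ((pullback.fst g (X.basicOpen (a x)).ι ≫ pr l) n) ∈ X.basicOpen (a x)
      rw [← Scheme.Hom.comp_apply, Category.assoc, hpr' l, pullback.condition,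
        Scheme.Hom.comp_apply]
      exact (pullback.snd g (X.basicOpen (a x)).ι n).2
    haveI := hoo x
    let t := IsOpenImmersion.lift (o x) (pullback.fst g (X.basicOpen (a x)).ι ≫ pr l) hrg
    have ht : t ≫ o x = pullback.fst g (X.basicOpen (a x)).ι ≫ pr l :=
      IsOpenImmersion.lift_fac _ _ _
    have := h𝒮 _ _ _ t (hS' x)
    have e2 : t ≫ π' x ≫ (X.basicOpen (a x)).ι = pullback.fst g (X.basicOpen (a x)).ι ≫ g := by
      rw [← hof x, ← Category.assoc, ht, Category.assoc, hpr' l]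
    rw [e2] at this
    exact this


open AlgebraicGeometry CategoryTheory Limits TopologicalSpace

/-- Zariski-locally finite-surjectively in `𝒮`. -/
def LocFin {X : Scheme.{u}} (𝒮 : ∀ (Y : Scheme.{u}), (Y ⟶ X) → Prop) (Y : Scheme.{u})
    (g : Y ⟶ X) : Prop :=
  ∀ y : Y, ∃ (N M : Scheme.{u}) (j : N ⟶ Y) (ρ : M ⟶ N), IsOpenImmersion j ∧ y ∈ Set.range j ∧
    IsFinite ρ ∧ Surjective ρ ∧ 𝒮 M (ρ ≫ j ≫ g)

theorem LocFin.precomp {X : Scheme.{u}} (𝒮 : ∀ (Y : Scheme.{u}), (Y ⟶ X) → Prop)
    (h𝒮 : ∀ (Y Y' : Scheme.{u}) (g : Y ⟶ X) (h : Y' ⟶ Y), 𝒮 Y g → 𝒮 Y' (h ≫ g))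
    (Y Y' : Scheme.{u}) (g : Y ⟶ X) (h : Y' ⟶ Y) (H : LocFin 𝒮 Y g) : LocFin 𝒮 Y' (h ≫ g) := by
  intro y'
  obtain ⟨N, M, j, ρ, hj, hy, hfin, hsurj, hS⟩ := H (h y')
  refine ⟨pullback h j, pullback (pullback.snd h j) ρ, pullback.fst h j,
    pullback.fst (pullback.snd h j) ρ, inferInstance, ?_, inferInstance, inferInstance, ?_⟩
  · rw [Scheme.Pullback.range_fst]
    exact hy
  · have := h𝒮 _ _ _ (pullback.snd (pullback.snd h j) ρ) hS
    have e : pullback.snd (pullback.snd h j) ρ ≫ ρ ≫ j ≫ g =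
        pullback.fst (pullback.snd h j) ρ ≫ pullback.fst h j ≫ h ≫ g := by
      rw [← Category.assoc, ← pullback.condition, Category.assoc, ← Category.assoc _ j,
        ← pullback.condition, Category.assoc]
    rw [e] at this
    exact this

/-- Two-layer globalisation: if Zariski-locally on the affine `X` there is a finite surjective cover
which is Zariski-locally finite-surjectively in `𝒮`, then a finite surjective `P ⟶ X` has a finite
affine open cover in `𝒮`. -/
theorem K_two {X : Scheme.{u}} [IsAffine X] (𝒮 : ∀ (Y : Scheme.{u}), (Y ⟶ X) → Prop)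
    (h𝒮 : ∀ (Y Y' : Scheme.{u}) (g : Y ⟶ X) (h : Y' ⟶ Y), 𝒮 Y g → 𝒮 Y' (h ≫ g))
    (hloc : ∀ x : X, ∃ (U W : Scheme.{u}) (j : U ⟶ X) (π : W ⟶ U), IsOpenImmersion j ∧
      x ∈ Set.range j ∧ IsFinite π ∧ Surjective π ∧ LocFin 𝒮 W (π ≫ j)) :
    ∃ (P : Scheme.{u}) (f : P ⟶ X) (m : ℕ) (N : Fin m → Scheme.{u}) (o : ∀ l, N l ⟶ P),
      IsFinite f ∧ Surjective f ∧ (∀ l, IsAffine (N l)) ∧ (∀ l, IsOpenImmersion (o l)) ∧
      (∀ y : P, ∃ l, y ∈ Set.range (o l)) ∧ ∀ l, 𝒮 (N l) (o l ≫ f) := by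
  obtain ⟨P₁, f₁, m₁, N₁, o₁, hP₁, hf₁, hs₁, hN₁, ho₁, hcov₁, hS₁⟩ :=
    K_lemma (LocFin 𝒮) (LocFin.precomp 𝒮 h𝒮) hloc
  obtain ⟨P₂, f₂, m₂, N₂, o₂, hP₂, hf₂, hs₂, hN₂, ho₂, hcov₂, hS₂⟩ :=
    K_lemma (X := P₁) (fun Y g => 𝒮 Y (g ≫ f₁))
      (fun Y Y' g h H => by
        have := h𝒮 _ _ _ h H
        rwa [← Category.assoc] at this)
      (fun y => by
        obtain ⟨l, n, rfl⟩ := hcov₁ y
        obtain ⟨N', M, j', ρ, hj', hn, hfin, hsurj, hS⟩ := hS₁ l n
        haveI := ho₁ l
        refine ⟨N', M, j' ≫ o₁ l, ρ, inferInstance, ?_, hfin, hsurj, ?_⟩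
        · obtain ⟨n', rfl⟩ := hn
          exact ⟨n', by rw [Scheme.Hom.comp_apply]⟩
        · simpa only [Category.assoc] using hS)
  refine ⟨P₂, f₂ ≫ f₁, m₂, N₂, o₂, inferInstance, inferInstance, hN₂, ho₂, hcov₂, fun l => ?_⟩
  have := hS₂ l
  simpa only [Category.assoc] using this

end Groth.Agent.Lib.Helper23.FinExtend
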