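import Mathlib
import Groth.Prelude.Def_W4c6modpairsegaMP
import Groth.Prelude.Def_BlowUp2

/-!
helper23: S20016. alg_core: A -> B smooth, A integrally closed in A_f => B integrally closed in B_f (Mathlib toIntegralClosure_bijective_of_smooth). Scheme side: interior of effective Cartier ideal on affine chart = basicOpen f (inf_interior_eq_basicOpen, inf_preimage_interior_eq), rs (restriction of sections) + rs_rs, integral_restrict, inj_affine/inj_general (restriction to preimage of interior is injective for etale g), exists_chart, local_aux, t20016 (gluing).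
-/

set_option autoImplicit false
universe u
open TensorProduct
open CategoryTheory AlgebraicGeometry TopologicalSpace

namespace Groth.Agent.Lib.Helper23.IntClosEtale

section


/-- `A → B` smooth, `A` integrally closed in `A_f` ⟹ `B` integrally closed in `B_f`. -/
theorem alg_core {A B : Type u} [CommRing A] [CommRing B] [Algebra A B] [Algebra.Smooth A B]
    (A' B' : Type u) [CommRing A'] [CommRing B'] [Algebra A A'] [Algebra B B']
    (f : A) [IsLocalization.Away f A'] [IsLocalization.Away (algebraMap A B f) B']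
    (hA : ∀ s : A', IsIntegral A s → s ∈ (algebraMap A A').range)
    (t : B') (ht : IsIntegral B t) : t ∈ (algebraMap B B').range := by
  let e : B' ≃ₐ[B] B ⊗[A] A' :=
    IsLocalization.algEquiv (Submonoid.powers (algebraMap A B f)) B' (B ⊗[A] A')
  have ht' : IsIntegral B (e t) := ht.map e.toAlgHom
  have hbot : integralClosure A A' = ⊥ := by
    rw [eq_bot_iff]
    intro s hs
    obtain ⟨a, rfl⟩ := hA s hs
    exact Subalgebra.algebraMap_mem _ a
  obtain ⟨z, hz⟩ := (TensorProduct.toIntegralClosure_bijective_of_smooth (R := A) (S := B)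
    (B := A')).2 ⟨e t, ht'⟩
  have hz' : e t = Algebra.TensorProduct.map (AlgHom.id B B) (integralClosure A A').val z := by
    have := congrArg Subtype.val hz
    exact this.symm
  have key : ∀ z : B ⊗[A] integralClosure A A',
      Algebra.TensorProduct.map (AlgHom.id B B) (integralClosure A A').val z ∈
        (algebraMap B (B ⊗[A] A')).range := by
    intro z
    induction z with
    | zero => exact ⟨0, by simp⟩
    | add x y hx hy =>
      obtain ⟨a, ha⟩ := hx
      obtain ⟨b, hb⟩ := hy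
      exact ⟨a + b, by rw [map_add, map_add, ha, hb]⟩
    | tmul u c =>
      obtain ⟨c, hc⟩ := c
      have hc' : c ∈ (⊥ : Subalgebra A A') := by
        rw [← hbot]
        exact hc
      obtain ⟨r, rfl⟩ := Algebra.mem_bot.mp hc'
      refine ⟨r • u, ?_⟩
      simp [Algebra.TensorProduct.algebraMap_apply, Algebra.smul_def]
      rw [← Algebra.smul_def, TensorProduct.smul_tmul, Algebra.smul_def, mul_one]
  obtain ⟨b, hb⟩ := key z
  refine ⟨b, ?_⟩
  apply e.injective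
  rw [hz', ← hb]
  exact e.commutes b


end

section


theorem inf_interior_eq_basicOpen {X : Scheme.{u}} (IX : X.IdealSheafData) (U : X.affineOpens)
    (f : Γ(X, U.1)) (hf : IX.ideal U = Ideal.span {f}) :
    U.1 ⊓ ModPair.interior IX = X.basicOpen f := by
  ext x
  constructor
  · rintro ⟨hxU, hx⟩
    have h1 : x ∉ IX.support := hx
    rw [Scheme.IdealSheafData.mem_support_iff_of_mem hxU, hf, Scheme.zeroLocus_span,
      Scheme.zeroLocus_singleton] at h1
    simpa using h1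
  · intro hx
    have hxU : x ∈ U.1 := X.basicOpen_le f hx
    refine ⟨hxU, ?_⟩
    change x ∉ IX.support
    rw [Scheme.IdealSheafData.mem_support_iff_of_mem hxU, hf, Scheme.zeroLocus_span,
      Scheme.zeroLocus_singleton]
    simpa using hx

theorem transport_hint {X : Scheme.{u}} {U O' : X.Opens} (hle : O' ≤ U) (f : Γ(X, U))
    (h : O' = X.basicOpen f)
    (hint : ∀ s : Γ(X, O'), (X.presheaf.map (homOfLE hle).op).hom.IsIntegralElem s →
      s ∈ Set.range (X.presheaf.map (homOfLE hle).op).hom) :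
    ∀ s : Γ(X, X.basicOpen f),
      (X.presheaf.map (homOfLE (X.basicOpen_le f)).op).hom.IsIntegralElem s →
        s ∈ Set.range (X.presheaf.map (homOfLE (X.basicOpen_le f)).op).hom := by
  subst h
  exact hint

theorem local_aux {X Y : Scheme.{u}} (g : Y ⟶ X) [Etale g] {U : X.Opens} (hU : IsAffineOpen U)
    (f : Γ(X, U)) {W : Y.Opens} (hW : IsAffineOpen W) (hWU : W ≤ g ⁻¹ᵁ U)
    (hA : ∀ s : Γ(X, X.basicOpen f),
      (X.presheaf.map (homOfLE (X.basicOpen_le f)).op).hom.IsIntegralElem s →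
        s ∈ Set.range (X.presheaf.map (homOfLE (X.basicOpen_le f)).op).hom)
    (O : Y.Opens) (hO : O = Y.basicOpen (g.appLE U W hWU f)) (hOW : O ≤ W)
    (t : Γ(Y, O)) (ht : (Y.presheaf.map (homOfLE hOW).op).hom.IsIntegralElem t) :
    t ∈ Set.range (Y.presheaf.map (homOfLE hOW).op).hom := by
  subst hO
  have hφ : (g.appLE U W hWU).hom.Etale :=
    HasRingHomProperty.appLE @Etale g inferInstance ⟨U, hU⟩ ⟨W, hW⟩ hWU
  algebraize [(g.appLE U W hWU).hom]
  haveI := hU.isLocalization_basicOpen f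
  haveI : IsLocalization.Away (algebraMap Γ(X, U) Γ(Y, W) f)
      Γ(Y, Y.basicOpen (g.appLE U W hWU f)) := hW.isLocalization_basicOpen (g.appLE U W hWU f)
  have h1 := alg_core (A := Γ(X, U)) (B := Γ(Y, W)) Γ(X, X.basicOpen f)
    Γ(Y, Y.basicOpen (g.appLE U W hWU f)) f
    (fun s hs => by
      obtain ⟨a, ha⟩ := hA s hs
      exact ⟨a, ha⟩) t ht
  obtain ⟨b, hb⟩ := h1
  exact ⟨b, hb⟩


end

section


/-- restriction of sections -/
noncomputable abbrev rs {Y : Scheme.{u}} {O₁ O₂ : Y.Opens} (h : O₁ ≤ O₂) : Γ(Y, O₂) →+* Γ(Y, O₁) :=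
  (Y.presheaf.map (homOfLE h).op).hom

theorem rs_rs {Y : Scheme.{u}} {O₁ O₂ O₃ : Y.Opens} (h₁ : O₁ ≤ O₂) (h₂ : O₂ ≤ O₃) (a : Γ(Y, O₃)) :
    rs h₁ (rs h₂ a) = rs (h₁.trans h₂) a := by
  change (Y.presheaf.map (homOfLE h₂).op ≫ Y.presheaf.map (homOfLE h₁).op).hom a = _
  rw [← Y.presheaf.map_comp]
  rfl

theorem rs_comp {Y : Scheme.{u}} {O₁ O₂ O₃ : Y.Opens} (h₁ : O₁ ≤ O₂) (h₂ : O₂ ≤ O₃) :
    (rs h₁).comp (rs h₂) = rs (h₁.trans h₂) := by
  ext a
  exact rs_rs h₁ h₂ a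

theorem integral_restrict {Y : Scheme.{u}} {V V' W W' : Y.Opens} (hV : V' ≤ V) (hW : W' ≤ W)
    (hWV : W ≤ V) (hWV' : W' ≤ V') (t : Γ(Y, V')) (ht : (rs hV).IsIntegralElem t) :
    (rs hW).IsIntegralElem (rs hWV' t) := by
  obtain ⟨p, hpm, hp⟩ := ht
  refine ⟨p.map (rs hWV), hpm.map _, ?_⟩
  rw [Polynomial.eval₂_map, rs_comp hW hWV, ← rs_comp hWV' hV, ← Polynomial.hom_eval₂, hp, map_zero]

theorem inj_affine {X Y : Scheme.{u}} (g : Y ⟶ X) [Etale g] {U : X.Opens} (hU : IsAffineOpen U)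
    (f : Γ(X, U)) (hfn : f ∈ nonZeroDivisors Γ(X, U))
    {W : Y.Opens} (hW : IsAffineOpen W) (hWU : W ≤ g ⁻¹ᵁ U)
    (O : Y.Opens) (hO : O = Y.basicOpen (g.appLE U W hWU f)) (hOW : O ≤ W) :
    Function.Injective (rs hOW) := by
  subst hO
  have hφ : (g.appLE U W hWU).hom.Etale :=
    HasRingHomProperty.appLE @Etale g inferInstance ⟨U, hU⟩ ⟨W, hW⟩ hWU
  algebraize [(g.appLE U W hWU).hom]
  haveI := hW.isLocalization_basicOpen (g.appLE U W hWU f)
  have hreg : IsSMulRegular Γ(Y, W) f := Module.Flat.isSMulRegular_of_nonZeroDivisors hfn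
  have hnzd : g.appLE U W hWU f ∈ nonZeroDivisors Γ(Y, W) := by
    rw [mem_nonZeroDivisors_iff_right]
    intro b hb
    apply hreg
    change f • b = f • 0
    rw [smul_zero, Algebra.smul_def, mul_comm]
    exact hb
  exact IsLocalization.injective Γ(Y, Y.basicOpen (g.appLE U W hWU f))
    (Submonoid.powers_le.mpr hnzd)


end

section


theorem inf_preimage_interior_eq {X Y : Scheme.{u}} (IX : X.IdealSheafData) (g : Y ⟶ X)
    (U : X.affineOpens) (f : Γ(X, U.1)) (hf : IX.ideal U = Ideal.span {f}) (W : Y.Opens)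
    (hWU : W ≤ g ⁻¹ᵁ U.1) :
    W ⊓ g ⁻¹ᵁ ModPair.interior IX = Y.basicOpen (g.appLE U.1 W hWU f) := by
  rw [Scheme.basicOpen_appLE, ← inf_interior_eq_basicOpen IX U f hf]
  ext y
  constructor
  · rintro ⟨h1, h2⟩
    exact ⟨h1, hWU h1, h2⟩
  · rintro ⟨h1, -, h2⟩
    exact ⟨h1, h2⟩

theorem exists_chart {X Y : Scheme.{u}} (IX : X.IdealSheafData)
    (hX : BlowUp.IsEffCartierIdeal IX) (g : Y ⟶ X) (O : Y.Opens) (y : Y) (hy : y ∈ O) :
    ∃ (U : X.affineOpens) (f : Γ(X, U.1)) (W : Y.Opens) (_ : IsAffineOpen W)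
      (_ : W ≤ g ⁻¹ᵁ U.1), f ∈ nonZeroDivisors Γ(X, U.1) ∧ IX.ideal U = Ideal.span {f} ∧
        y ∈ W ∧ W ≤ O := by
  obtain ⟨U, hgyU, f, hfn, hf⟩ := hX (g.base y)
  have hy' : y ∈ O ⊓ g ⁻¹ᵁ U.1 := ⟨hy, hgyU⟩
  obtain ⟨_, ⟨W, hW : IsAffineOpen W, rfl⟩, hyW, hWsub⟩ :=
    Y.isBasis_affineOpens.exists_subset_of_mem_open hy' (O ⊓ g ⁻¹ᵁ U.1).2
  exact ⟨U, f, W, hW, fun z hz => (hWsub hz).2, hfn, hf, hyW, fun z hz => (hWsub hz).1⟩

theorem inj_general {X Y : Scheme.{u}} (IX : X.IdealSheafData)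
    (hX : BlowUp.IsEffCartierIdeal IX) (g : Y ⟶ X) [Etale g] (O : Y.Opens) :
    Function.Injective (rs (inf_le_left : O ⊓ g ⁻¹ᵁ ModPair.interior IX ≤ O)) := by
  intro a b hab
  choose U f W hW hWU hfn hf hyW hWO using fun y : O => exists_chart IX hX g O y.1 y.2
  refine Y.sheaf.eq_of_locally_eq' W O (fun y => homOfLE (hWO y)) ?_ a b ?_
  · intro y hy
    exact Opens.mem_iSup.mpr ⟨⟨y, hy⟩, hyW ⟨y, hy⟩⟩
  · intro y
    have hO := inf_preimage_interior_eq IX g (U y) (f y) (hf y) (W y) (hWU y)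
    have hinj := inj_affine g (U y).2 (f y) (hfn y) (hW y) (hWU y)
      (W y ⊓ g ⁻¹ᵁ ModPair.interior IX) hO inf_le_left
    apply hinj
    have hle : W y ⊓ g ⁻¹ᵁ ModPair.interior IX ≤ O ⊓ g ⁻¹ᵁ ModPair.interior IX :=
      inf_le_inf_right _ (hWO y)
    change rs inf_le_left (rs (hWO y) a) = rs inf_le_left (rs (hWO y) b)
    rw [rs_rs, rs_rs, ← rs_rs hle inf_le_left a, ← rs_rs hle inf_le_left b, hab]


end

section


theorem t20016 {X Y : Scheme.{u}}
    (IX : X.IdealSheafData) (hX : BlowUp.IsEffCartierIdeal IX)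
    (hint : ∀ U ∈ X.affineOpens, ∀ s : Γ(X, U ⊓ ModPair.interior IX),
      (X.presheaf.map (homOfLE (inf_le_left : U ⊓ ModPair.interior IX ≤ U)).op).hom.IsIntegralElem s →
        s ∈ Set.range (X.presheaf.map (homOfLE (inf_le_left : U ⊓ ModPair.interior IX ≤ U)).op).hom)
    (g : Y ⟶ X) [Etale g] :
    ∀ V ∈ Y.affineOpens, ∀ t : Γ(Y, V ⊓ g ⁻¹ᵁ ModPair.interior IX),
      (Y.presheaf.map (homOfLE (inf_le_left : V ⊓ g ⁻¹ᵁ ModPair.interior IX ≤ V)).op).hom.IsIntegralElem t →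
        t ∈ Set.range (Y.presheaf.map (homOfLE (inf_le_left : V ⊓ g ⁻¹ᵁ ModPair.interior IX ≤ V)).op).hom := by
  intro V hV t ht
  choose U f W hW hWU hfn hf hyW hWV using fun y : V => exists_chart IX hX g V y.1 y.2
  have hloc : ∀ y : V, ∃ s : Γ(Y, W y),
      rs (inf_le_left : W y ⊓ g ⁻¹ᵁ ModPair.interior IX ≤ W y) s =
        rs (inf_le_inf_right _ (hWV y)) t := by
    intro y
    have hO := inf_preimage_interior_eq IX g (U y) (f y) (hf y) (W y) (hWU y)
    have hA := transport_hint (inf_le_left : (U y).1 ⊓ ModPair.interior IX ≤ (U y).1) (f y)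
      (inf_interior_eq_basicOpen IX (U y) (f y) (hf y)) (hint (U y).1 (U y).2)
    have h1 := local_aux g (U y).2 (f y) (hW y) (hWU y) hA (W y ⊓ g ⁻¹ᵁ ModPair.interior IX) hO
      inf_le_left (rs (inf_le_inf_right _ (hWV y)) t)
      (integral_restrict inf_le_left inf_le_left (hWV y) _ t ht)
    obtain ⟨s, hs⟩ := h1
    exact ⟨s, hs⟩
  choose s hs using hloc
  have key : ∀ (y : V) (O' : Y.Opens) (h : O' ≤ W y ⊓ g ⁻¹ᵁ ModPair.interior IX),
      rs (h.trans inf_le_left) (s y) = rs (h.trans (inf_le_inf_right _ (hWV y))) t := by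
    intro y O' h
    rw [← rs_rs h inf_le_left, hs y, rs_rs]
  have hcompat : TopCat.Presheaf.IsCompatible Y.sheaf.1 W s := by
    intro y y'
    apply inj_general IX hX g (W y ⊓ W y')
    change rs inf_le_left (rs inf_le_left (s y)) = rs inf_le_left (rs inf_le_right (s y'))
    rw [rs_rs, rs_rs]
    have h1 : (W y ⊓ W y') ⊓ g ⁻¹ᵁ ModPair.interior IX ≤ W y ⊓ g ⁻¹ᵁ ModPair.interior IX :=
      inf_le_inf_right _ inf_le_left
    have h2 : (W y ⊓ W y') ⊓ g ⁻¹ᵁ ModPair.interior IX ≤ W y' ⊓ g ⁻¹ᵁ ModPair.interior IX :=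
      inf_le_inf_right _ inf_le_right
    exact (key y _ h1).trans (key y' _ h2).symm
  have hcover : V ≤ iSup W := by
    intro y hy
    exact Opens.mem_iSup.mpr ⟨⟨y, hy⟩, hyW ⟨y, hy⟩⟩
  obtain ⟨S, hS, -⟩ := Y.sheaf.existsUnique_gluing' W V (fun y => homOfLE (hWV y)) hcover s hcompat
  refine ⟨S, ?_⟩
  refine Y.sheaf.eq_of_locally_eq' (fun y : V => W y ⊓ g ⁻¹ᵁ ModPair.interior IX)
    (V ⊓ g ⁻¹ᵁ ModPair.interior IX) (fun y => homOfLE (inf_le_inf_right _ (hWV y))) ?_ _ _ ?_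
  · rintro y ⟨hyV, hy0⟩
    exact Opens.mem_iSup.mpr ⟨⟨y, hyV⟩, hyW ⟨y, hyV⟩, hy0⟩
  · intro y
    change rs (inf_le_inf_right _ (hWV y)) (rs inf_le_left S) = rs (inf_le_inf_right _ (hWV y)) t
    rw [rs_rs, ← hs y, ← rs_rs inf_le_left (hWV y) S]
    congr 1
    exact hS y


end
end Groth.Agent.Lib.Helper23.IntClosEtale
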