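import Mathlib
import Groth.Prelude.Def_W4c6modpairsegaMP
import Groth.Agent.Lib.Helper23.IntClosEtale

/-!
helper23: S15547. pg (germ of g_*O_Z as ring hom) + pg_res/pg_exists/pg_eq; mem_primeCompl_iff; isLocalization_pushStalk: for affine g, (g_*O_Z)_x is the localization of Γ(Z,g⁻¹U) at the image of the prime complement of x (U affine ∋ x); phi / phi_pg (canonical map (g_*O_Z)_x → O_{Z,z}); alg: isMaximal_map_of_comap_eq / comap_comap_eq_of_isMaximal (maximal ideals of S⁻¹B, B integral over A, S = A∖p, are the primes over p); comap_primeIdealOf_app, primeIdealOf_injective, exists_point_of_comap_eq; t15547.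
-/

set_option autoImplicit false
universe u
open CategoryTheory AlgebraicGeometry TopologicalSpace
open Groth.Agent.Lib.Helper23.IntClosEtale

namespace Groth.Agent.Lib.Helper23.FinFibreMax

section


/-- germ of the pushforward presheaf `g_* O_Z` at `(U, x)` as a ring hom. -/
noncomputable def pg {Z X : Scheme.{u}} (g : Z ⟶ X) (U : X.Opens) (x : X) (hx : x ∈ U) :
    Γ(Z, g ⁻¹ᵁ U) →+* ((g.base _* Z.presheaf).stalk x) :=
  ((g.base _* Z.presheaf).germ U x hx).hom

theorem pg_res {Z X : Scheme.{u}} (g : Z ⟶ X) {U U' : X.Opens} (h : U' ≤ U) (x : X) (hx : x ∈ U')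
    (s : Γ(Z, g ⁻¹ᵁ U)) :
    pg g U' x hx (rs (g.preimage_mono h) s) = pg g U x (h hx) s := by
  exact TopCat.Presheaf.germ_res_apply (g.base _* Z.presheaf) (homOfLE h) x hx s

theorem pg_exists {Z X : Scheme.{u}} (g : Z ⟶ X) (x : X) {U : X.Opens} (hxU : x ∈ U)
    (c : (g.base _* Z.presheaf).stalk x) :
    ∃ (U' : X.Opens) (h : U' ≤ U) (hx : x ∈ U') (s : Γ(Z, g ⁻¹ᵁ U')), pg g U' x hx s = c := by
  obtain ⟨U', h, hx, s, hs⟩ := TopCat.Presheaf.exists_le_germ_eq (g.base _* Z.presheaf) c hxU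
  exact ⟨U', h, hx, s, hs⟩

theorem pg_eq {Z X : Scheme.{u}} (g : Z ⟶ X) (x : X) {U : X.Opens} (hxU : x ∈ U)
    (s t : Γ(Z, g ⁻¹ᵁ U)) (hst : pg g U x hxU s = pg g U x hxU t) :
    ∃ (W : X.Opens) (h : W ≤ U) (_ : x ∈ W),
      rs (g.preimage_mono h) s = rs (g.preimage_mono h) t := by
  obtain ⟨W, hxW, iU, iV, e⟩ := TopCat.Presheaf.germ_eq (g.base _* Z.presheaf) x hxU hxU s t hst
  exact ⟨W, iU.le, hxW, e⟩


end

section


theorem mem_primeCompl_iff {X : Scheme.{u}} {U : X.Opens} (hU : IsAffineOpen U) (x : X)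
    (hx : x ∈ U) (a : Γ(X, U)) :
    a ∈ (hU.primeIdealOf ⟨x, hx⟩).asIdeal.primeCompl ↔ x ∈ X.basicOpen a := by
  rw [Scheme.mem_basicOpen _ _ x hx, hU.primeIdealOf_eq_map_closedPoint]
  change ¬ (X.presheaf.germ U x hx a ∈ IsLocalRing.maximalIdeal _) ↔ _
  rw [IsLocalRing.mem_maximalIdeal, mem_nonunits_iff, not_not]

theorem isUnit_rs_of_eq {Z : Scheme.{u}} {V O : Z.Opens} (b : Γ(Z, V)) (h : O ≤ V)
    (hO : O = Z.basicOpen b) : IsUnit (rs h b) := by
  subst hO
  exact RingedSpace.isUnit_res_basicOpen _ b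

theorem exists_pow_mul_eq_rs {Z : Scheme.{u}} {V O : Z.Opens} (hV : IsAffineOpen V)
    (b : Γ(Z, V)) (h : O ≤ V) (hO : O = Z.basicOpen b) (s : Γ(Z, O)) :
    ∃ (n : ℕ) (t : Γ(Z, V)), s * rs h b ^ n = rs h t := by
  subst hO
  haveI := hV.isLocalization_basicOpen b
  obtain ⟨⟨t, ⟨_, n, rfl⟩⟩, ht⟩ := IsLocalization.surj (Submonoid.powers b) s
  refine ⟨n, t, ?_⟩
  rw [← map_pow]
  exact ht

theorem exists_pow_mul_eq_of_rs_eq {Z : Scheme.{u}} {V O : Z.Opens} (hV : IsAffineOpen V)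
    (b : Γ(Z, V)) (h : O ≤ V) (hO : O = Z.basicOpen b) (t t' : Γ(Z, V))
    (e : rs h t = rs h t') : ∃ n : ℕ, b ^ n * t = b ^ n * t' := by
  subst hO
  haveI := hV.isLocalization_basicOpen b
  obtain ⟨⟨_, n, rfl⟩, hc⟩ := IsLocalization.exists_of_eq (M := Submonoid.powers b)
    (S := Γ(Z, Z.basicOpen b)) (x := t) (y := t') e
  exact ⟨n, hc⟩


end

section


theorem isLocalization_pushStalk {Z X : Scheme.{u}} (g : Z ⟶ X) [IsAffineHom g] {U : X.Opens}
    (hU : IsAffineOpen U) (x : X) (hx : x ∈ U) :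
    @IsLocalization _ _
      (Submonoid.map (g.app U).hom (hU.primeIdealOf ⟨x, hx⟩).asIdeal.primeCompl)
      ((g.base _* Z.presheaf).stalk x) _ (pg g U x hx).toAlgebra := by
  letI := (pg g U x hx).toAlgebra
  have hV : IsAffineOpen (g ⁻¹ᵁ U) := hU.preimage g
  have hpre : ∀ a : Γ(X, U), g ⁻¹ᵁ X.basicOpen a = Z.basicOpen ((g.app U).hom a) :=
    fun a => Scheme.preimage_basicOpen g a
  rw [isLocalization_iff]
  refine ⟨?_, ?_, ?_⟩
  · rintro ⟨_, a, ha, rfl⟩
    replace ha := (mem_primeCompl_iff hU x hx a).1 ha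
    change IsUnit (pg g U x hx ((g.app U).hom a))
    rw [← pg_res g (X.basicOpen_le a) x ha]
    exact (isUnit_rs_of_eq _ _ (hpre a)).map _
  · intro c
    obtain ⟨U', hU', hxU', s, rfl⟩ := pg_exists g x hx c
    obtain ⟨a, haU', hxa⟩ := hU.exists_basicOpen_le ⟨x, hxU'⟩ hx
    obtain ⟨n, t, ht⟩ := exists_pow_mul_eq_rs hV ((g.app U).hom a)
      (g.preimage_mono (X.basicOpen_le a)) (hpre a) (rs (g.preimage_mono haU') s)
    refine ⟨⟨t, ⟨((g.app U).hom a) ^ n, a ^ n, ?_, map_pow _ _ _⟩⟩, ?_⟩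
    · exact Submonoid.pow_mem _ ((mem_primeCompl_iff hU x hx a).2 hxa) n
    · change pg g U' x hxU' s * pg g U x hx (((g.app U).hom a) ^ n) = pg g U x hx t
      rw [← pg_res g (X.basicOpen_le a) x hxa, ← pg_res g (X.basicOpen_le a) x hxa t,
        ← pg_res g haU' x hxa s, ← map_mul, map_pow, ht]
  · intro t t' htt'
    obtain ⟨W, hW, hxW, e⟩ := pg_eq g x hx t t' htt'
    obtain ⟨a, haW, hxa⟩ := hU.exists_basicOpen_le ⟨x, hxW⟩ hx
    have e' : rs (g.preimage_mono (X.basicOpen_le a)) t =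
        rs (g.preimage_mono (X.basicOpen_le a)) t' := by
      rw [← rs_rs (g.preimage_mono haW) (g.preimage_mono hW),
        ← rs_rs (g.preimage_mono haW) (g.preimage_mono hW), e]
    obtain ⟨n, hn⟩ := exists_pow_mul_eq_of_rs_eq hV ((g.app U).hom a)
      (g.preimage_mono (X.basicOpen_le a)) (hpre a) t t' e'
    refine ⟨⟨((g.app U).hom a) ^ n, a ^ n, ?_, map_pow _ _ _⟩, hn⟩
    exact Submonoid.pow_mem _ ((mem_primeCompl_iff hU x hx a).2 hxa) n


end

section


/-- the canonical map `(g_* O_Z)_x → O_{Z,z}` for `g z = x`. -/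
noncomputable abbrev phi {Z X : Scheme.{u}} (g : Z ⟶ X) (x : X) (z : Z) (hz : g.base z = x) :
    ((g.base _* Z.presheaf).stalk x) →+* (Z.presheaf.stalk z) :=
  (((g.base _* Z.presheaf).stalkCongr (Inseparable.of_eq hz)).inv ≫
    TopCat.Presheaf.stalkPushforward CommRingCat g.base Z.presheaf z).hom

theorem phi_pg {Z X : Scheme.{u}} (g : Z ⟶ X) (x : X) (z : Z) (hz : g.base z = x) (U : X.Opens)
    (hx : x ∈ U) (b : Γ(Z, g ⁻¹ᵁ U)) :
    phi g x z hz (pg g U x hx b) =
      Z.presheaf.germ (g ⁻¹ᵁ U) z (show g.base z ∈ U from hz ▸ hx) b := by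
  subst hz
  change ((g.base _* Z.presheaf).germ U (g.base z) hx ≫
    ((g.base _* Z.presheaf).stalkCongr (Inseparable.of_eq rfl)).inv ≫
    TopCat.Presheaf.stalkPushforward CommRingCat g.base Z.presheaf z).hom b = _
  rw [TopCat.Presheaf.stalkCongr_inv, TopCat.Presheaf.germ_stalkSpecializes_assoc,
    TopCat.Presheaf.stalkPushforward_germ]


end

section


section alg

variable {A B C : Type*} [CommRing A] [CommRing B] [CommRing C] [Algebra A B] [Algebra B C]
  [Algebra.IsIntegral A B] (p : Ideal A) [p.IsPrime]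
  [IsLocalization (Algebra.algebraMapSubmonoid B p.primeCompl) C]

include p in
theorem disjoint_of_comap_le (q : Ideal B) (hq : q.comap (algebraMap A B) ≤ p) :
    Disjoint (Algebra.algebraMapSubmonoid B p.primeCompl : Set B) (q : Set B) := by
  rw [Set.disjoint_left]
  rintro _ ⟨a, ha, rfl⟩ haq
  exact ha (hq haq)

theorem comap_le_of_disjoint (q : Ideal B)
    (hq : Disjoint (Algebra.algebraMapSubmonoid B p.primeCompl : Set B) (q : Set B)) :
    q.comap (algebraMap A B) ≤ p := by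
  intro a ha
  by_contra hap
  exact Set.disjoint_left.1 hq ⟨a, hap, rfl⟩ ha

/-- (a) primes over `p` give maximal ideals of the localization. -/
theorem isMaximal_map_of_comap_eq (q : Ideal B) [hqp : q.IsPrime]
    (hq : q.comap (algebraMap A B) = p) :
    (q.map (algebraMap B C)).IsMaximal ∧ (q.map (algebraMap B C)).comap (algebraMap B C) = q := by
  have hd := disjoint_of_comap_le p q hq.le
  have hcm : (q.map (algebraMap B C)).comap (algebraMap B C) = q :=
    IsLocalization.under_map_of_isPrime_disjoint _ C hqp hd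
  have hprime : (q.map (algebraMap B C)).IsPrime :=
    IsLocalization.isPrime_of_isPrime_disjoint _ C q hqp hd
  refine ⟨?_, hcm⟩
  obtain ⟨M', hM', hle⟩ := Ideal.exists_le_maximal _ hprime.ne_top
  have hM'prime : M'.IsPrime := hM'.isPrime
  have hd' : Disjoint (Algebra.algebraMapSubmonoid B p.primeCompl : Set B)
      ((M'.comap (algebraMap B C) : Ideal B) : Set B) :=
    (IsLocalization.disjoint_under_iff (Algebra.algebraMapSubmonoid B p.primeCompl) C M').2
      hM'.ne_top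
  have hqq' : q ≤ M'.comap (algebraMap B C) := by
    rw [← hcm]
    exact Ideal.comap_mono hle
  have hle' : (M'.comap (algebraMap B C)).comap (algebraMap A B) ≤ p :=
    comap_le_of_disjoint p _ hd'
  have heq : q = M'.comap (algebraMap B C) := by
    by_contra hne
    have hlt : q < M'.comap (algebraMap B C) := lt_of_le_of_ne hqq' hne
    have := Ideal.IsIntegral.comap_lt_comap (R := A) hlt
    rw [hq] at this
    exact absurd hle' (not_le_of_gt this)
  have : M' = q.map (algebraMap B C) := by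
    rw [heq]
    exact (IsLocalization.map_under (Algebra.algebraMapSubmonoid B p.primeCompl) C M').symm
  rw [← this]
  exact hM'

/-- (b) maximal ideals of the localization lie over `p`. -/
theorem comap_comap_eq_of_isMaximal (M : Ideal C) [hM : M.IsMaximal] :
    (M.comap (algebraMap B C)).comap (algebraMap A B) = p := by
  have hMprime : M.IsPrime := hM.isPrime
  have hd : Disjoint (Algebra.algebraMapSubmonoid B p.primeCompl : Set B)
      ((M.comap (algebraMap B C) : Ideal B) : Set B) :=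
    (IsLocalization.disjoint_under_iff (Algebra.algebraMapSubmonoid B p.primeCompl) C M).2
      hM.ne_top
  have hle := comap_le_of_disjoint p _ hd
  haveI : (M.comap (algebraMap B C)).IsPrime := Ideal.comap_isPrime _ _
  obtain ⟨q', hq'ge, hq'prime, hq'⟩ :=
    Ideal.exists_ideal_over_prime_of_isIntegral_of_isPrime p (M.comap (algebraMap B C)) hle
  have hd' := disjoint_of_comap_le p q' hq'.le
  have hprime' : (q'.map (algebraMap B C)).IsPrime :=
    IsLocalization.isPrime_of_isPrime_disjoint _ C q' hq'prime hd'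
  have hMle : M ≤ q'.map (algebraMap B C) := by
    rw [← IsLocalization.map_under (Algebra.algebraMapSubmonoid B p.primeCompl) C M]
    exact Ideal.map_mono hq'ge
  have hMeq : M = q'.map (algebraMap B C) := hM.eq_of_le hprime'.ne_top hMle
  have : M.comap (algebraMap B C) = q' := by
    rw [hMeq]
    exact IsLocalization.under_map_of_isPrime_disjoint _ C hq'prime hd'
  rw [this, hq']

end alg


end

section


theorem comap_primeIdealOf_app {Z X : Scheme.{u}} (g : Z ⟶ X) {U : X.Opens}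
    (hU : IsAffineOpen U) (hV : IsAffineOpen (g ⁻¹ᵁ U)) (x : X) (hxU : x ∈ U) (z : Z)
    (hz : g.base z = x) :
    (hV.primeIdealOf ⟨z, show g.base z ∈ U from hz ▸ hxU⟩).asIdeal.comap (g.app U).hom =
      (hU.primeIdealOf ⟨x, hxU⟩).asIdeal := by
  subst hz
  have h1 := IsAffineOpen.comap_primeIdealOf_appLE U hU (g ⁻¹ᵁ U) hV le_rfl (x := z) hxU
  have h2 := congrArg PrimeSpectrum.asIdeal h1
  rw [Scheme.Hom.appLE_eq_app] at h2
  exact h2

theorem comap_pg_comap_phi {Z X : Scheme.{u}} (g : Z ⟶ X) {U : X.Opens}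
    (hV : IsAffineOpen (g ⁻¹ᵁ U)) (x : X) (hxU : x ∈ U) (z : Z) (hz : g.base z = x) :
    ((IsLocalRing.maximalIdeal (Z.presheaf.stalk z)).comap (phi g x z hz)).comap (pg g U x hxU) =
      (hV.primeIdealOf ⟨z, show g.base z ∈ U from hz ▸ hxU⟩).asIdeal := by
  rw [hV.primeIdealOf_eq_map_closedPoint]
  ext b
  simp only [Ideal.mem_comap]
  rw [phi_pg]
  rfl

theorem primeIdealOf_injective {Z : Scheme.{u}} {V : Z.Opens} (hV : IsAffineOpen V) (z z' : V)
    (h : (hV.primeIdealOf z).asIdeal = (hV.primeIdealOf z').asIdeal) : z.1 = z'.1 := by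
  have h1 : hV.primeIdealOf z = hV.primeIdealOf z' := PrimeSpectrum.ext h
  have h2 := congrArg (fun y => hV.fromSpec y) h1
  simp only [hV.fromSpec_primeIdealOf] at h2
  exact h2

theorem exists_point_of_comap_eq {Z X : Scheme.{u}} (g : Z ⟶ X) {U : X.Opens}
    (hU : IsAffineOpen U) (hV : IsAffineOpen (g ⁻¹ᵁ U)) (x : X) (hxU : x ∈ U)
    (q : Ideal Γ(Z, g ⁻¹ᵁ U)) [hqp : q.IsPrime]
    (hq : q.comap (g.app U).hom = (hU.primeIdealOf ⟨x, hxU⟩).asIdeal) :
    ∃ (z : Z) (hz : g.base z = x),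
      (hV.primeIdealOf ⟨z, show g.base z ∈ U from hz ▸ hxU⟩).asIdeal = q := by
  let y : PrimeSpectrum Γ(Z, g ⁻¹ᵁ U) := ⟨q, hqp⟩
  obtain ⟨z', hz'⟩ : ∃ z' : (g ⁻¹ᵁ U : Z.Opens), hV.primeIdealOf z' = y := by
    refine ⟨hV.isoSpec.inv y, ?_⟩
    change hV.isoSpec.hom (hV.isoSpec.inv y) = y
    rw [← Scheme.Hom.comp_apply, Iso.inv_hom_id]
    rfl
  have hq' : (hV.primeIdealOf z').asIdeal = q := congrArg PrimeSpectrum.asIdeal hz'
  have hgz : g.base z'.1 = x := by
    have h1 := comap_primeIdealOf_app g hU hV (g.base z'.1) z'.2 z'.1 rfl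
    have h2 : (hU.primeIdealOf ⟨g.base z'.1, z'.2⟩).asIdeal = (hU.primeIdealOf ⟨x, hxU⟩).asIdeal := by
      rw [← h1, ← hq]
      exact congrArg (fun I => Ideal.comap (g.app U).hom I) hq'
    exact primeIdealOf_injective hU ⟨g.base z'.1, z'.2⟩ ⟨x, hxU⟩ h2
  exact ⟨z'.1, hgz, hq'⟩


end

section


theorem t15547 {Z X : Scheme.{u}} (g : Z ⟶ X)
    [IsFinite g] (x : X) :
    Set.BijOn (fun z : {z : Z // g.base z = x} =>
        Ideal.comap (((g.base _* Z.presheaf).stalkCongr (Inseparable.of_eq z.2)).inv ≫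
            TopCat.Presheaf.stalkPushforward CommRingCat g.base Z.presheaf z.1).hom
          (IsLocalRing.maximalIdeal (Z.presheaf.stalk z.1)))
      Set.univ {I : Ideal ((g.base _* Z.presheaf).stalk x) | I.IsMaximal} := by
  obtain ⟨U, hU, hxU⟩ : ∃ U : X.Opens, IsAffineOpen U ∧ x ∈ U := by
    obtain ⟨_, ⟨U, hU, rfl⟩, hxU, -⟩ :=
      (X.isBasis_affineOpens).exists_subset_of_mem_open (Set.mem_univ x) isOpen_univ
    exact ⟨U, hU, hxU⟩
  have hV : IsAffineOpen (g ⁻¹ᵁ U) := hU.preimage g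
  letI algAB : Algebra Γ(X, U) Γ(Z, g ⁻¹ᵁ U) := (g.app U).hom.toAlgebra
  letI algBC : Algebra Γ(Z, g ⁻¹ᵁ U) ((g.base _* Z.presheaf).stalk x) :=
    (pg g U x hxU).toAlgebra
  haveI : Algebra.IsIntegral Γ(X, U) Γ(Z, g ⁻¹ᵁ U) := ⟨(g.finite_app U hU).to_isIntegral⟩
  haveI hloc : IsLocalization
      (Algebra.algebraMapSubmonoid Γ(Z, g ⁻¹ᵁ U) (hU.primeIdealOf ⟨x, hxU⟩).asIdeal.primeCompl)
      ((g.base _* Z.presheaf).stalk x) := isLocalization_pushStalk g hU x hxU
  -- the ideal attached to z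
  have hI : ∀ (z : Z) (hz : g.base z = x),
      Ideal.comap (phi g x z hz) (IsLocalRing.maximalIdeal (Z.presheaf.stalk z)) =
        (hV.primeIdealOf ⟨z, show g.base z ∈ U from hz ▸ hxU⟩).asIdeal.map
          (algebraMap Γ(Z, g ⁻¹ᵁ U) ((g.base _* Z.presheaf).stalk x)) := by
    intro z hz
    rw [← comap_pg_comap_phi g hV x hxU z hz]
    exact (IsLocalization.map_under (Algebra.algebraMapSubmonoid Γ(Z, g ⁻¹ᵁ U)
      (hU.primeIdealOf ⟨x, hxU⟩).asIdeal.primeCompl) _ _).symm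
  refine ⟨?_, ?_, ?_⟩
  · rintro ⟨z, hz⟩ -
    change (Ideal.comap (phi g x z hz) (IsLocalRing.maximalIdeal (Z.presheaf.stalk z))).IsMaximal
    rw [hI z hz]
    exact (isMaximal_map_of_comap_eq (hU.primeIdealOf ⟨x, hxU⟩).asIdeal _
      (comap_primeIdealOf_app g hU hV x hxU z hz)).1
  · rintro ⟨z, hz⟩ - ⟨z', hz'⟩ - hzz'
    change Ideal.comap (phi g x z hz) (IsLocalRing.maximalIdeal (Z.presheaf.stalk z)) =
      Ideal.comap (phi g x z' hz') (IsLocalRing.maximalIdeal (Z.presheaf.stalk z')) at hzz'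
    have h1 := congrArg (Ideal.comap (pg g U x hxU)) hzz'
    rw [comap_pg_comap_phi g hV x hxU z hz, comap_pg_comap_phi g hV x hxU z' hz'] at h1
    exact Subtype.ext (primeIdealOf_injective hV _ _ h1)
  · intro M hM
    have hM' : M.IsMaximal := hM
    have hq := comap_comap_eq_of_isMaximal (A := Γ(X, U)) (B := Γ(Z, g ⁻¹ᵁ U))
      (hU.primeIdealOf ⟨x, hxU⟩).asIdeal M
    haveI : M.IsPrime := hM'.isPrime
    haveI : (M.comap (algebraMap Γ(Z, g ⁻¹ᵁ U) ((g.base _* Z.presheaf).stalk x))).IsPrime :=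
      Ideal.comap_isPrime _ _
    obtain ⟨z, hz, hzq⟩ := exists_point_of_comap_eq g hU hV x hxU _ hq
    refine ⟨⟨z, hz⟩, Set.mem_univ _, ?_⟩
    change Ideal.comap (phi g x z hz) (IsLocalRing.maximalIdeal (Z.presheaf.stalk z)) = M
    rw [hI z hz, hzq]
    exact IsLocalization.map_under (Algebra.algebraMapSubmonoid Γ(Z, g ⁻¹ᵁ U)
      (hU.primeIdealOf ⟨x, hxU⟩).asIdeal.primeCompl) _ _


end
end Groth.Agent.Lib.Helper23.FinFibreMax
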