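import Mathlib
import Groth.Agent.Lib.Helper16.QFD1
import Groth.Agent.Lib.Helper3.TensorPrime

/-!
Descent of flatness at primes over a pair of ideals (S6919, helper23): flat_loc (S -> localization of the pushout S' at R'-p' is flat when R'_{p'} is R-flat), flat_atPrime (S -> S'_{q'} flat), main_local (M_q flat over R from M'_{q'} flat over R' via faithfully flat S_q -> S'_{q'} and Helper16.QFD.flat_descent), exists_prime_pushout (prime of a pushout over compatible primes), t6919.
-/

set_option autoImplicit false
set_option linter.style.haveILetI false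
set_option linter.unusedSectionVars false
set_option backward.isDefEq.respectTransparency.types false


namespace Groth.Agent.Lib.Helper23.FlatDescPair

section

open TensorProduct
universe u
variable {R S R' S' : Type u} [CommRing R] [CommRing S] [CommRing R'] [CommRing S']
    [Algebra R S] [Algebra R R'] [Algebra S S'] [Algebra R' S'] [Algebra R S'] [IsScalarTower R S S']
    [IsScalarTower R R' S'] [Algebra.IsPushout R S R' S']

theorem flat_loc (p' : Ideal R') [p'.IsPrime] (hfl : Module.Flat R (Localization.AtPrime p')) :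
    Module.Flat S (Localization (Algebra.algebraMapSubmonoid S' p'.primeCompl)) := by
  set W := Algebra.algebraMapSubmonoid S' p'.primeCompl
  let A' := Localization.AtPrime p'
  let T := Localization W
  haveI : Algebra.IsPushout R R' S S' := Algebra.IsPushout.symm inferInstance
  haveI h1 : Algebra.IsPushout R' A' S' T := (Algebra.isPushout_of_isLocalization p'.primeCompl A' S' T).symm
  haveI : IsScalarTower R A' T := IsScalarTower.of_algebraMap_eq fun r => by
    rw [IsScalarTower.algebraMap_apply R R' A', ← IsScalarTower.algebraMap_apply R' A' T,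
      ← IsScalarTower.algebraMap_apply R R' T]
  have h2 : Algebra.IsPushout R A' S T := (Algebra.IsPushout.comp_iff R R' S S').mpr h1
  have h3 : Algebra.IsPushout R S A' T := h2.symm
  exact Module.Flat.isBaseChange R S A' T h3.out

theorem flat_atPrime (q' : Ideal S') [q'.IsPrime] (p' : Ideal R') [p'.IsPrime]
    (hp' : q'.comap (algebraMap R' S') = p') (hfl : Module.Flat R (Localization.AtPrime p')) :
    Module.Flat S (Localization.AtPrime q') := by
  set W := Algebra.algebraMapSubmonoid S' p'.primeCompl with hW
  have hle : W ≤ q'.primeCompl := by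
    rintro _ ⟨r, hr, rfl⟩
    intro hmem
    apply hr
    rw [← hp']
    exact hmem
  let T := Localization W
  let C := Localization.AtPrime q'
  letI : Algebra T C := IsLocalization.localizationAlgebraOfSubmonoidLe T C W q'.primeCompl hle
  haveI : IsScalarTower S' T C :=
    IsLocalization.localization_isScalarTower_of_submonoid_le T C W q'.primeCompl hle
  haveI : IsLocalization (q'.primeCompl.map (algebraMap S' T)) C :=
    IsLocalization.isLocalization_of_submonoid_le T C W q'.primeCompl hle
  haveI : Module.Flat T C := IsLocalization.flat C (q'.primeCompl.map (algebraMap S' T))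
  haveI : Module.Flat S T := flat_loc p' hfl
  haveI : IsScalarTower S T C := IsScalarTower.of_algebraMap_eq fun s => by
    rw [IsScalarTower.algebraMap_apply S S' C, IsScalarTower.algebraMap_apply S' T C,
      ← IsScalarTower.algebraMap_apply S S' T]
  exact Module.Flat.trans S T C

variable {M M' : Type u} [AddCommGroup M] [Module S M] [Module R M] [IsScalarTower R S M]
    [AddCommGroup M'] [Module S' M'] [Module R' M'] [IsScalarTower R' S' M'] [Module S M']
    [IsScalarTower S S' M']

theorem main_local (f : M →ₗ[S] M') (hf : IsBaseChange S' f)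
    (q' : Ideal S') [q'.IsPrime] (q : Ideal S) [q.IsPrime] (hq : q = q'.comap (algebraMap S S'))
    (p' : Ideal R') [p'.IsPrime] (hp' : q'.comap (algebraMap R' S') = p')
    (hfl : Module.Flat R (Localization.AtPrime p'))
    (hY : Module.Flat R' (LocalizedModule q'.primeCompl M')) :
    Module.Flat R (LocalizedModule q.primeCompl M) := by
  let Sq := Localization.AtPrime q
  let C := Localization.AtPrime q'
  let A' := Localization.AtPrime p'
  let Mq := LocalizedModule q.primeCompl M
  let Y := LocalizedModule q'.primeCompl M'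
  letI : Algebra Sq C := (Localization.localRingHom q q' (algebraMap S S') hq).toAlgebra
  haveI : IsScalarTower S Sq C := IsScalarTower.of_algebraMap_eq fun s => by
    rw [RingHom.algebraMap_toAlgebra, Localization.localRingHom_to_map,
      ← IsScalarTower.algebraMap_apply S S' C]
  haveI : IsScalarTower R Sq C := IsScalarTower.of_algebraMap_eq fun r => by
    rw [IsScalarTower.algebraMap_apply R S Sq, ← IsScalarTower.algebraMap_apply S Sq C,
      ← IsScalarTower.algebraMap_apply R S C]
  haveI hC : Module.Flat S C := flat_atPrime q' p' hp' hfl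
  haveI : Module.Flat Sq C := (Module.flat_iff_of_isLocalization Sq q.primeCompl C).mpr hC
  haveI : IsLocalHom (algebraMap Sq C) := by
    rw [RingHom.algebraMap_toAlgebra]
    exact Localization.isLocalHom_localRingHom q q' (algebraMap S S') hq
  haveI : Module.FaithfullyFlat Sq C := Module.FaithfullyFlat.of_flat_of_isLocalHom
  refine Groth.Agent.Lib.Helper16.QFD.flat_descent (A := R) (S := Sq) (L := C) ?_
  -- the `A'`-algebra structure on `C`
  letI : Algebra A' C := (Localization.localRingHom p' q' (algebraMap R' S') hp'.symm).toAlgebra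
  haveI : IsScalarTower R' A' C := IsScalarTower.of_algebraMap_eq fun s => by
    rw [RingHom.algebraMap_toAlgebra, Localization.localRingHom_to_map,
      ← IsScalarTower.algebraMap_apply R' S' C]
  haveI : IsScalarTower R A' C := IsScalarTower.of_algebraMap_eq fun r => by
    rw [IsScalarTower.algebraMap_apply R R' A', ← IsScalarTower.algebraMap_apply R' A' C,
      ← IsScalarTower.algebraMap_apply R R' C]
  -- identify `C ⊗[Sq] Mq` with `Y`
  let ℓ : M →ₗ[S] Mq := LocalizedModule.mkLinearMap q.primeCompl M
  let ℓ' : M' →ₗ[S'] Y := LocalizedModule.mkLinearMap q'.primeCompl M'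
  have hℓ : IsBaseChange Sq ℓ := IsLocalizedModule.isBaseChange q.primeCompl Sq ℓ
  have hℓ' : IsBaseChange C ℓ' := IsLocalizedModule.isBaseChange q'.primeCompl C ℓ'
  have hc := IsBaseChange.comp hf hℓ'
  let e1 : Y ≃ₗ[C] C ⊗[S] M := hc.equiv.symm
  let e2 : C ⊗[S] M ≃ₗ[C] C ⊗[Sq] (Sq ⊗[S] M) :=
    (AlgebraTensorModule.cancelBaseChange S Sq C C M).symm
  let e3 : C ⊗[Sq] (Sq ⊗[S] M) ≃ₗ[C] C ⊗[Sq] Mq :=
    AlgebraTensorModule.congr (LinearEquiv.refl C C) hℓ.equiv
  let e : Y ≃ₗ[R'] C ⊗[Sq] Mq := (e1 ≪≫ₗ e2 ≪≫ₗ e3).restrictScalars R'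
  haveI hZ' : Module.Flat R' (C ⊗[Sq] Mq) := Module.Flat.of_linearEquiv e.symm
  haveI hZA : Module.Flat A' (C ⊗[Sq] Mq) :=
    (Module.flat_iff_of_isLocalization A' p'.primeCompl (C ⊗[Sq] Mq)).mpr hZ'
  exact Module.Flat.trans R A' (C ⊗[Sq] Mq)


end

section

open TensorProduct
universe u
variable {R S R' S' : Type u} [CommRing R] [CommRing S] [CommRing R'] [CommRing S']
    [Algebra R S] [Algebra R R'] [Algebra S S'] [Algebra R' S'] [Algebra R S'] [IsScalarTower R S S']
    [IsScalarTower R R' S'] [Algebra.IsPushout R S R' S']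

theorem exists_prime_pushout (q : Ideal S) [q.IsPrime] (p' : Ideal R') [p'.IsPrime]
    (h : q.comap (algebraMap R S) = p'.comap (algebraMap R R')) :
    ∃ q' : Ideal S', q'.IsPrime ∧ q'.comap (algebraMap S S') = q ∧
      q'.comap (algebraMap R' S') = p' := by
  obtain ⟨r, hr, h1, h2⟩ := Groth.Agent.Lib.Helper3.TensorPrime.exists_prime_tensor q p' h
  let E : S ⊗[R] R' ≃ₐ[S] S' := Algebra.IsPushout.equiv R S R' S'
  refine ⟨r.comap (E.symm : S' →+* S ⊗[R] R'), Ideal.comap_isPrime _ _, ?_, ?_⟩
  · rw [← h1, Ideal.comap_comap]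
    congr 1
    ext s
    simp [E]
  · rw [← h2, Ideal.comap_comap]
    congr 1
    ext x
    simp [E, Algebra.IsPushout.equiv_symm_algebraMap_right]

variable {M M' : Type u} [AddCommGroup M] [Module S M] [Module R M] [IsScalarTower R S M]
    [AddCommGroup M'] [Module S' M'] [Module R' M'] [IsScalarTower R' S' M'] [Module S M']
    [IsScalarTower S S' M']

theorem t6919 (I : Ideal R) (I' : Ideal R') (hII' : I.map (algebraMap R R') ≤ I')
    (f : M →ₗ[S] M') (hf : IsBaseChange S' f) (J : Ideal S)
    (hsurj : ∀ (p : Ideal R) [p.IsPrime], I ≤ p → ∃ (p' : Ideal R') (_ : p'.IsPrime), I' ≤ p' ∧ p'.comap (algebraMap R R') = p)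
    (hflat : ∀ (p' : Ideal R') [p'.IsPrime], I' ≤ p' → Module.Flat R (Localization.AtPrime p'))
    (h : (∀ (q : Ideal S') [q.IsPrime], I'.map (algebraMap R' S') ⊔ J.map (algebraMap S S') ≤ q →
      Module.Flat R' (LocalizedModule q.primeCompl M'))) :
    (∀ (q : Ideal S) [q.IsPrime], I.map (algebraMap R S) ⊔ J ≤ q →
      Module.Flat R (LocalizedModule q.primeCompl M)) := by
  intro q _ hq
  have hIp : I ≤ q.comap (algebraMap R S) := by
    rw [← Ideal.map_le_iff_le_comap]
    exact le_sup_left.trans hq
  obtain ⟨p', hp'prime, hI'p', hp'⟩ := hsurj (q.comap (algebraMap R S)) hIp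
  obtain ⟨q', hq'prime, hq'1, hq'2⟩ := exists_prime_pushout (S' := S') q p' hp'.symm
  refine main_local (R := R) f hf q' q hq'1.symm p' hq'2 (hflat p' hI'p') (h q' ?_)
  refine sup_le ?_ ?_
  · rw [Ideal.map_le_iff_le_comap, hq'2]
    exact hI'p'
  · rw [Ideal.map_le_iff_le_comap, hq'1]
    exact le_sup_right.trans hq


end
end Groth.Agent.Lib.Helper23.FlatDescPair
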