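import Mathlib

/-!
helper23: isolated points of fibres. isOpen_singleton_of_noetherianSpace (quasi-sober Noetherian space: closed point without proper generizations is isolated), isOpen_singleton_of_isLocallyNoetherian (scheme version), quasiFiniteAt_of_forall_specializes (g lft, x0 with neither proper specializations nor proper generizations inside its fibre => g.QuasiFiniteAt x0).
-/

set_option autoImplicit false
universe u
open AlgebraicGeometry CategoryTheory TopologicalSpace

namespace Groth.Agent.Lib.Helper23.IsolFib


/-- In a quasi-sober Noetherian space, a closed point without proper generizations is isolated. -/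
theorem isOpen_singleton_of_noetherianSpace {Y : Type u} [TopologicalSpace Y] [QuasiSober Y]
    [NoetherianSpace Y] (w : Y) (hcl : IsClosed ({w} : Set Y)) (hgen : ∀ y : Y, y ⤳ w → y = w) :
    IsOpen ({w} : Set Y) := by
  have hfin : (irreducibleComponents Y).Finite := NoetherianSpace.finite_irreducibleComponents
  let T : Set Y := ⋃ C ∈ {C ∈ irreducibleComponents Y | w ∉ C}, C
  have hTcl : IsClosed T := by
    refine Set.Finite.isClosed_biUnion (hfin.subset (fun C hC => hC.1)) ?_
    intro C hC
    exact isClosed_of_mem_irreducibleComponents C hC.1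
  have heq : ({w} : Set Y) = Tᶜ := by
    ext y
    simp only [Set.mem_singleton_iff, Set.mem_compl_iff]
    constructor
    · rintro rfl hy
      simp only [T, Set.mem_iUnion] at hy
      obtain ⟨C, hC, hyC⟩ := hy
      exact hC.2 hyC
    · intro hy
      have hyC : y ∈ irreducibleComponent y := mem_irreducibleComponent
      have hC : irreducibleComponent y ∈ irreducibleComponents Y :=
        irreducibleComponent_mem_irreducibleComponents y
      have hwC : w ∈ irreducibleComponent y := by
        by_contra hw
        apply hy
        simp only [T, Set.mem_iUnion]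
        exact ⟨_, ⟨hC, hw⟩, hyC⟩
      obtain ⟨ξ, hξ⟩ := QuasiSober.sober (isIrreducible_irreducibleComponent (x := y))
        isClosed_irreducibleComponent
      have hξw : ξ ⤳ w := by
        rw [specializes_iff_mem_closure, hξ.def]
        exact hwC
      have := hgen ξ hξw
      subst this
      have hcomp : irreducibleComponent y = {ξ} := by
        rw [← hξ.def, hcl.closure_eq]
      rw [hcomp] at hyC
      exact hyC
  rw [heq]
  exact hTcl.isOpen_compl

/-- In a locally Noetherian scheme, a closed point without proper generizations is isolated. -/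
theorem isOpen_singleton_of_isLocallyNoetherian {Y : Scheme.{u}} [IsLocallyNoetherian Y] (w : Y)
    (hcl : IsClosed ({w} : Set Y)) (hgen : ∀ y : Y, y ⤳ w → y = w) :
    IsOpen ({w} : Set Y) := by
  obtain ⟨_, ⟨N, hN, rfl⟩, hwN, -⟩ :=
    Y.isBasis_affineOpens.exists_subset_of_mem_open (Set.mem_univ w) isOpen_univ
  haveI : IsNoetherianRing Γ(Y, N) := IsLocallyNoetherian.component_noetherian ⟨N, hN⟩
  haveI : NoetherianSpace ↥(N : Set Y) := noetherianSpace_of_isAffineOpen N hN
  haveI : QuasiSober ↥(N : Set Y) := N.isOpenEmbedding'.quasiSober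
  let w' : ↥(N : Set Y) := ⟨w, hwN⟩
  have hcl' : IsClosed ({w'} : Set ↥(N : Set Y)) := by
    have : ({w'} : Set ↥(N : Set Y)) = Subtype.val ⁻¹' {w} := by
      ext y
      simp [w', Subtype.ext_iff]
    rw [this]
    exact hcl.preimage continuous_subtype_val
  have hgen' : ∀ y : ↥(N : Set Y), y ⤳ w' → y = w' := by
    intro y hy
    have := hgen y.1 (hy.map continuous_subtype_val)
    exact Subtype.ext this
  have hopen := isOpen_singleton_of_noetherianSpace w' hcl' hgen'
  have := N.2.isOpenMap_subtype_val _ hopen
  simpa [w'] using this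

/-- A point of a morphism locally of finite type which has neither proper specializations nor
proper generizations inside its fibre is a quasi-finite point. -/
theorem quasiFiniteAt_of_forall_specializes {Z S : Scheme.{u}} (g : Z ⟶ S) [LocallyOfFiniteType g]
    (x₀ : Z) (hsp : ∀ y : Z, g y = g x₀ → x₀ ⤳ y → y = x₀)
    (hgen : ∀ y : Z, g y = g x₀ → y ⤳ x₀ → y = x₀) : g.QuasiFiniteAt x₀ := by
  rw [Scheme.Hom.quasiFiniteAt_iff_isOpen_singleton_asFiber]
  haveI : LocallyOfFiniteType (g.fiberToSpecResidueField (g x₀)) :=
    MorphismProperty.pullback_snd _ _ inferInstance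
  haveI : IsLocallyNoetherian (g.fiber (g x₀)) :=
    LocallyOfFiniteType.isLocallyNoetherian (g.fiberToSpecResidueField (g x₀))
  have hemb : Topology.IsEmbedding (g.fiberι (g x₀)) := (g.fiberι (g x₀)).isEmbedding
  have hrange : ∀ y : g.fiber (g x₀), g (g.fiberι (g x₀) y) = g x₀ := by
    intro y
    have : g.fiberι (g x₀) y ∈ Set.range (g.fiberι (g x₀)) := ⟨y, rfl⟩
    rw [Scheme.Hom.range_fiberι] at this
    exact this
  have hw : g.fiberι (g x₀) (g.asFiber x₀) = x₀ := g.fiberι_asFiber x₀
  refine isOpen_singleton_of_isLocallyNoetherian _ ?_ ?_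
  · rw [← closure_subset_iff_isClosed]
    intro y hy
    rw [← specializes_iff_mem_closure] at hy
    have h1 : g.fiberι (g x₀) (g.asFiber x₀) ⤳ g.fiberι (g x₀) y :=
      hy.map (g.fiberι (g x₀)).continuous
    rw [hw] at h1
    have h2 := hsp _ (hrange y) h1
    exact hemb.injective (h2.trans hw.symm)
  · intro y hy
    have h1 : g.fiberι (g x₀) y ⤳ g.fiberι (g x₀) (g.asFiber x₀) :=
      hy.map (g.fiberι (g x₀)).continuous
    rw [hw] at h1
    have h2 := hgen _ (hrange y) h1
    exact hemb.injective (h2.trans hw.symm)

end Groth.Agent.Lib.Helper23.IsolFib
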