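import Mathlib
import Groth.Agent.Lib.Helper23.IsolFib
import Groth.Prelude.Def_Flat
import Groth.Agent.Lib.Helper21.FibDimR1
import Groth.Agent.Lib.Helper9.DimTrdeg
import Groth.Agent.Lib.Helper23.MiracleQF
import Groth.Agent.Lib.Helper23.FibDimLSC

/-!
helper23: quasi-finite charts over affine space with prescribed preimage (Stacks 00QE-style refinement). quasiFiniteAt_of_forall_le (ring-level: a prime of a f.t. algebra with no proper specialization/generization over the same prime is a quasi-finite point), trdeg_quotient_eq (trdeg (R/p) (S/q) = trdeg kappa(p) kappa(q)), exists_height_eq (n = r + ht Q for the fibre prime), card_subtype_le, exists_params (n-r elements of q with Q minimal over them in the fibre), eq_of_le_of_mem, eq_of_ge_of_comap_eq, vfun, comap_aeval_vfun (preimage of q under R[x] -> S is p R[x] + (x_i, i >= r)), core.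
-/

set_option autoImplicit false
universe u


namespace Groth.Agent.Lib.Helper23.QFChart


open Groth.Agent.Lib.Helper23.IsolFib TopologicalSpace

/-- A prime of a finite type algebra which is neither properly contained in nor properly contains
another prime with the same contraction is a quasi-finite point. -/
theorem quasiFiniteAt_of_forall_le (A B : Type u) [CommRing A] [CommRing B] [Algebra A B]
    [Algebra.FiniteType A B] (q : Ideal B) [hq : q.IsPrime]
    (hup : ∀ q' : Ideal B, q'.IsPrime → q ≤ q' →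
      q'.comap (algebraMap A B) = q.comap (algebraMap A B) → q' = q)
    (hdown : ∀ q' : Ideal B, q'.IsPrime → q' ≤ q →
      q'.comap (algebraMap A B) = q.comap (algebraMap A B) → q' = q) :
    Algebra.QuasiFiniteAt A q := by
  let x : PrimeSpectrum B := ⟨q, hq⟩
  let P : PrimeSpectrum A := x.comap (algebraMap A B)
  let Y := PrimeSpectrum.comap (algebraMap A B) ⁻¹' {P}
  let e := PrimeSpectrum.preimageHomeomorphFiber A B P
  haveI : Algebra.FiniteType P.asIdeal.ResidueField (P.asIdeal.Fiber B) := inferInstance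
  haveI : IsNoetherianRing (P.asIdeal.Fiber B) :=
    Algebra.FiniteType.isNoetherianRing P.asIdeal.ResidueField _
  haveI : NoetherianSpace Y := e.isInducing.noetherianSpace
  haveI : QuasiSober Y := e.isClosedEmbedding.quasiSober
  refine Algebra.QuasiFiniteAt.of_isOpen_singleton_fiber x ?_
  let w : Y := ⟨x, rfl⟩
  have key : ∀ y : Y, (y.1.asIdeal.comap (algebraMap A B) = q.comap (algebraMap A B)) := by
    intro y
    have := y.2
    exact congrArg PrimeSpectrum.asIdeal this
  refine isOpen_singleton_of_noetherianSpace (Y := Y) w ?_ ?_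
  · rw [← closure_subset_iff_isClosed]
    intro y hy
    rw [← specializes_iff_mem_closure] at hy
    have h1 : w.1 ⤳ y.1 := hy.map continuous_subtype_val
    rw [← PrimeSpectrum.le_iff_specializes] at h1
    have := hup y.1.asIdeal y.1.2 h1 (key y)
    apply Subtype.ext
    apply PrimeSpectrum.ext
    exact this
  · intro y hy
    have h1 : y.1 ⤳ w.1 := hy.map continuous_subtype_val
    rw [← PrimeSpectrum.le_iff_specializes] at h1
    have := hdown y.1.asIdeal y.1.2 h1 (key y)
    apply Subtype.ext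
    apply PrimeSpectrum.ext
    exact this



open TensorProduct Groth.Agent.Lib.Helper21.FibDim

/-- transcendence degree of the residue field extension = that of the quotient domains -/
theorem trdeg_quotient_eq (R S : Type u) [CommRing R] [CommRing S] [Algebra R S]
    (p : Ideal R) [p.IsPrime] (q : Ideal S) [q.IsPrime] [q.LiesOver p]
    [Algebra (Localization.AtPrime p) (Localization.AtPrime q)]
    [Localization.AtPrime.IsLiesOverAlgebra p q] :
    Algebra.trdeg (R ⧸ p) (S ⧸ q) = Algebra.trdeg p.ResidueField q.ResidueField := by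
  let _ : Algebra (R ⧸ p) q.ResidueField :=
    ((algebraMap (S ⧸ q) q.ResidueField).comp (algebraMap (R ⧸ p) (S ⧸ q))).toAlgebra
  have t1 : IsScalarTower (R ⧸ p) (S ⧸ q) q.ResidueField := .of_algebraMap_eq' rfl
  have t2 : IsScalarTower (R ⧸ p) p.ResidueField q.ResidueField := by
    refine .of_algebraMap_eq fun x ↦ ?_
    obtain ⟨x, rfl⟩ := Ideal.Quotient.mk_surjective x
    simp [RingHom.algebraMap_toAlgebra, ← IsScalarTower.algebraMap_apply]
  refine trdeg_eq_of_isFractionRing (R ⧸ p) (S ⧸ q) p.ResidueField q.ResidueField ?_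
  exact FaithfulSMul.algebraMap_injective (R ⧸ p) (S ⧸ q)

/-- height of the fibre prime: `n = r + ht Q`. -/
theorem exists_height_eq (R S : Type u) [CommRing R] [CommRing S] [Algebra R S]
    [Algebra.FiniteType R S] (p : Ideal R) [p.IsPrime] (q : Ideal S) [q.IsPrime] [q.LiesOver p]
    (Q : PrimeSpectrum (p.Fiber S))
    (hQ : Q.asIdeal.comap (Algebra.TensorProduct.includeRight.toRingHom) = q) (n r : ℕ)
    (hdim : FlatMor.localDim (PrimeSpectrum (p.Fiber S)) Q = (n : WithBot ℕ∞))
    (hr : Algebra.trdeg (R ⧸ p) (S ⧸ q) = r) :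
    ∃ b : ℕ, Q.asIdeal.height = b ∧ n = r + b := by
  let k := p.ResidueField
  let F := p.Fiber S
  haveI : Algebra.FiniteType k F := inferInstance
  haveI : IsNoetherianRing F := Algebra.FiniteType.isNoetherianRing k F
  have h1 : Algebra.trdeg k (F ⧸ Q.asIdeal) = r := by
    rw [trdeg_fiber_quotient R S p Q.asIdeal q hQ, hr]
  haveI : Algebra.FiniteType k (F ⧸ Q.asIdeal) :=
    Algebra.FiniteType.of_surjective (Ideal.Quotient.mkₐ k Q.asIdeal)
      (Ideal.Quotient.mkₐ_surjective k Q.asIdeal)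
  obtain ⟨s, hs1, hs2⟩ := Groth.Agent.Lib.Helper9.DimTrdeg.exists_nat_dim_eq_trdeg k (F ⧸ Q.asIdeal)
  have hsr : s = r := by
    rw [h1] at hs2
    exact_mod_cast hs2.symm
  subst hsr
  have hfin : Q.asIdeal.height ≠ ⊤ := Ideal.height_ne_top Q.2.ne_top
  obtain ⟨b, hb⟩ := ENat.ne_top_iff_exists.mp hfin
  refine ⟨b, hb.symm, ?_⟩
  have := Groth.Agent.Lib.Helper23.MiracleQF.localDim_primeSpectrum k F Q.asIdeal s b hs1 hb.symm
  have h2 : (⟨Q.asIdeal, Q.2⟩ : PrimeSpectrum F) = Q := rfl
  rw [h2, hdim] at this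
  exact_mod_cast this



open TensorProduct

theorem card_subtype_le (n r : ℕ) : Fintype.card {i : Fin n // r ≤ (i : ℕ)} = n - r := by
  rw [Fintype.card_subtype]
  have h1 := Fin.card_filter_val_lt (n := n) (m := r)
  have h2 := Finset.card_filter_add_card_filter_not (s := (Finset.univ : Finset (Fin n)))
    (fun i : Fin n => (i : ℕ) < r)
  simp only [Finset.card_univ, Fintype.card_fin, not_lt] at h2
  rw [h1] at h2
  omega

/-- parameters: `n - r` elements of `q` cutting out `Q` in the fibre up to radical, locally. -/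
theorem exists_params (R S : Type u) [CommRing R] [CommRing S] [Algebra R S]
    [Algebra.FiniteType R S] (p : Ideal R) [p.IsPrime] (q : Ideal S) [q.IsPrime] [q.LiesOver p]
    (Q : PrimeSpectrum (p.Fiber S))
    (hQ : Q.asIdeal.comap (Algebra.TensorProduct.includeRight.toRingHom) = q) (n r b : ℕ)
    (hb : Q.asIdeal.height = b) (hn : n = r + b) :
    ∃ t : {i : Fin n // r ≤ (i : ℕ)} → S, (∀ i, t i ∈ q) ∧
      Q.asIdeal ∈ (Ideal.span (Set.range fun i =>
        ((1 : p.ResidueField) ⊗ₜ[R] t i : p.Fiber S))).minimalPrimes := by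
  classical
  let k := p.ResidueField
  let F := p.Fiber S
  haveI : Algebra.FiniteType k F := inferInstance
  haveI : IsNoetherianRing F := Algebra.FiniteType.isNoetherianRing k F
  obtain ⟨s, hs, hcard⟩ := Ideal.exists_finset_card_eq_height_of_isNoetherianRing Q.asIdeal
  have hcard' : s.card = b := by
    rw [hb] at hcard
    exact_mod_cast hcard
  have hc : Fintype.card {i : Fin n // r ≤ (i : ℕ)} = Fintype.card s := by
    rw [card_subtype_le, Fintype.card_coe, hcard']
    omega
  let e : {i : Fin n // r ≤ (i : ℕ)} ≃ s := Fintype.equivOfCardEq hc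
  choose a ha c hc using fun x : F => Ideal.Fiber.exists_smul_eq_one_tmul p x
  have hunit : ∀ x : F, IsUnit (algebraMap R F (a x)) := by
    intro x
    rw [IsScalarTower.algebraMap_apply R k F]
    apply IsUnit.map
    rw [isUnit_iff_ne_zero, Ne, Ideal.algebraMap_residueField_eq_zero]
    exact ha x
  have hc' : ∀ x : F, ((1 : k) ⊗ₜ[R] c x : F) = algebraMap R F (a x) * x := by
    intro x
    rw [← hc x, Algebra.smul_def]
  let T : Set F := Set.range fun i : {i : Fin n // r ≤ (i : ℕ)} => ((1 : k) ⊗ₜ[R] c (e i).1 : F)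
  have hspan : Ideal.span T = Ideal.span (s : Set F) := by
    apply le_antisymm
    · rw [Ideal.span_le]
      rintro _ ⟨i, rfl⟩
      show ((1 : k) ⊗ₜ[R] c (e i).1 : F) ∈ _
      rw [hc']
      exact Ideal.mul_mem_left _ _ (Ideal.subset_span (e i).2)
    · rw [Ideal.span_le]
      intro x hx
      have h1 : ((1 : k) ⊗ₜ[R] c x : F) ∈ Ideal.span T := by
        apply Ideal.subset_span
        refine ⟨e.symm ⟨x, hx⟩, ?_⟩
        simp
      rw [hc'] at h1
      exact (Ideal.unit_mul_mem_iff_mem _ (hunit x)).mp h1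
  refine ⟨fun i => c (e i).1, ?_, ?_⟩
  · intro i
    rw [← hQ, Ideal.mem_comap]
    show ((1 : k) ⊗ₜ[R] c (e i).1 : F) ∈ Q.asIdeal
    rw [hc']
    apply Ideal.mul_mem_left
    exact hs.1.2 (Ideal.subset_span (e i).2)
  · show Q.asIdeal ∈ (Ideal.span T).minimalPrimes
    rw [hspan]
    exact hs



open TensorProduct

/-- no proper generization of `q` in the fibre contains the parameters. -/
theorem eq_of_le_of_mem (R S : Type u) [CommRing R] [CommRing S] [Algebra R S]
    (p : Ideal R) [p.IsPrime] (q : Ideal S) [q.IsPrime] [q.LiesOver p]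
    (Q : PrimeSpectrum (p.Fiber S))
    (hQ : Q.asIdeal.comap (Algebra.TensorProduct.includeRight.toRingHom) = q)
    {ι : Type*} (t : ι → S)
    (hmin : Q.asIdeal ∈ (Ideal.span (Set.range fun i =>
        ((1 : p.ResidueField) ⊗ₜ[R] t i : p.Fiber S))).minimalPrimes)
    (q₁ : Ideal S) [hq₁ : q₁.IsPrime] (hle : q₁ ≤ q) (hover : q₁.comap (algebraMap R S) = p)
    (ht : ∀ i, t i ∈ q₁) : q₁ = q := by
  let o := PrimeSpectrum.primesOverOrderIsoFiber R S p
  let y₁ : p.primesOver S := ⟨q₁, ⟨hq₁, ⟨hover.symm⟩⟩⟩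
  let y : p.primesOver S := ⟨q, ⟨inferInstance, inferInstance⟩⟩
  have hy : o.symm Q = y := by
    apply Subtype.ext
    rw [PrimeSpectrum.coe_primesOverOrderIsoFiber_symm_apply]
    exact hQ
  have hy' : o y = Q := by rw [← hy, o.apply_symm_apply]
  have h1 : o y₁ ≤ Q := by
    rw [← hy']
    exact o.monotone hle
  have h2 : (o y₁).asIdeal.comap (Algebra.TensorProduct.includeRight : S →ₐ[R] p.Fiber S) = q₁ := by
    rw [← PrimeSpectrum.coe_primesOverOrderIsoFiber_symm_apply, o.symm_apply_apply]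
  have h3 : Ideal.span (Set.range fun i => ((1 : p.ResidueField) ⊗ₜ[R] t i : p.Fiber S)) ≤
      (o y₁).asIdeal := by
    rw [Ideal.span_le]
    rintro _ ⟨i, rfl⟩
    have : t i ∈ (o y₁).asIdeal.comap (Algebra.TensorProduct.includeRight : S →ₐ[R] p.Fiber S) := by
      rw [h2]; exact ht i
    exact this
  have h4 : Q.asIdeal ≤ (o y₁).asIdeal := hmin.2 ⟨(o y₁).2, h3⟩ h1
  have h5 : o y₁ = Q := le_antisymm h1 h4
  have h6 : y₁ = y := by
    apply o.injective
    rw [h5, hy']
  exact congrArg Subtype.val h6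



open TensorProduct Groth.Agent.Lib.Helper23.FibDimLSC

/-- no proper specialization of `q` in the fibre of a generic projection of the right
dimension. -/
theorem eq_of_ge_of_comap_eq (R S : Type u) [CommRing R] [CommRing S] [Algebra R S]
    (p : Ideal R) [p.IsPrime] (q : Ideal S) [q.IsPrime] [q.LiesOver p] (r : ℕ)
    (π : MvPolynomial (Fin r) R →ₐ[R] S) (hπ : q.comap π.toRingHom = p.map MvPolynomial.C)
    (hr : Algebra.trdeg (R ⧸ p) (S ⧸ q) = r) (q₂ : Ideal S) [q₂.IsPrime] (hle : q ≤ q₂)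
    (hcomap : q₂.comap π.toRingHom = q.comap π.toRingHom) : q₂ = q := by
  by_contra hne
  have hlt : q < q₂ := lt_of_le_of_ne hle (Ne.symm hne)
  obtain ⟨b, hb2, hbq⟩ := Set.exists_of_ssubset hlt
  let E := S ⧸ q
  let x : Fin r → E := fun i => Ideal.Quotient.mk q (π (MvPolynomial.X i))
  have hx : AlgebraicIndependent (R ⧸ p) x := algebraicIndependent_of_comap_eq_map_C π p q hπ
  have hbasis : IsTranscendenceBasis (R ⧸ p) x := by
    apply hx.isTranscendenceBasis_of_lift_trdeg_le_of_finite
    rw [hr]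
    simp
  haveI halg : Algebra.IsAlgebraic (Algebra.adjoin (R ⧸ p) (Set.range x)) E := hbasis.isAlgebraic
  let q₂' : Ideal E := q₂.map (Ideal.Quotient.mk q)
  have hb0 : Ideal.Quotient.mk q b ≠ 0 := by
    rw [Ne, Ideal.Quotient.eq_zero_iff_mem]
    exact hbq
  have hbmem : Ideal.Quotient.mk q b ∈ q₂' := Ideal.mem_map_of_mem _ hb2
  have hne_bot := Ideal.comap_ne_bot_of_algebraic_mem (R := Algebra.adjoin (R ⧸ p) (Set.range x))
    hb0 hbmem (halg.isAlgebraic _)
  apply hne_bot
  rw [eq_bot_iff]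
  rintro ⟨d, hd⟩ hdmem
  rw [Ideal.mem_comap] at hdmem
  change d ∈ q₂' at hdmem
  rw [Algebra.adjoin_range_eq_range_aeval] at hd
  obtain ⟨G', rfl⟩ := hd
  obtain ⟨G, rfl⟩ := MvPolynomial.map_surjective (Ideal.Quotient.mk p)
    Ideal.Quotient.mk_surjective G'
  have h1 : MvPolynomial.aeval x (MvPolynomial.map (Ideal.Quotient.mk p) G) =
      Ideal.Quotient.mk q (π G) := aeval_map_mk π p q G
  have h2 : π G ∈ q₂ := by
    have : Ideal.Quotient.mk q (π G) ∈ q₂' := by rw [← h1]; exact hdmem
    exact (Ideal.mem_quotient_iff_mem hle).mp this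
  have h3 : G ∈ q₂.comap π.toRingHom := h2
  rw [hcomap] at h3
  have h4 : π G ∈ q := h3
  rw [Ideal.mem_bot]
  apply Subtype.ext
  show MvPolynomial.aeval x (MvPolynomial.map (Ideal.Quotient.mk p) G) = 0
  rw [h1, Ideal.Quotient.eq_zero_iff_mem]
  exact h4



open TensorProduct Groth.Agent.Lib.Helper23.FibDimLSC MvPolynomial

variable {R S : Type u} [CommRing R] [CommRing S] [Algebra R S]

/-- the images of the variables: first `r` from `π`, the others from `t`. -/
noncomputable def vfun (n r : ℕ) (π : MvPolynomial (Fin r) R →ₐ[R] S)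
    (t : {i : Fin n // r ≤ (i : ℕ)} → S) : Fin n → S :=
  fun i => if h : (i : ℕ) < r then π (X ⟨i, h⟩) else t ⟨i, not_lt.mp h⟩

theorem vfun_of_lt (n r : ℕ) (π : MvPolynomial (Fin r) R →ₐ[R] S)
    (t : {i : Fin n // r ≤ (i : ℕ)} → S) (i : Fin n) (h : (i : ℕ) < r) :
    vfun n r π t i = π (X ⟨i, h⟩) := by
  simp [vfun, h]

theorem vfun_of_le (n r : ℕ) (π : MvPolynomial (Fin r) R →ₐ[R] S)
    (t : {i : Fin n // r ≤ (i : ℕ)} → S) (i : Fin n) (h : r ≤ (i : ℕ)) :
    vfun n r π t i = t ⟨i, h⟩ := by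
  simp [vfun, not_lt.mpr h]

theorem aeval_vfun_comp_rename (n r : ℕ) (hrn : r ≤ n) (π : MvPolynomial (Fin r) R →ₐ[R] S)
    (t : {i : Fin n // r ≤ (i : ℕ)} → S) :
    (aeval (vfun n r π t)).comp (rename (Fin.castLE hrn)) = π := by
  apply MvPolynomial.algHom_ext
  intro i
  simp only [AlgHom.comp_apply, rename_X, aeval_X]
  rw [vfun_of_lt n r π t (Fin.castLE hrn i) (by simp)]
  congr 2

theorem comap_aeval_vfun (p : Ideal R) [p.IsPrime] (q : Ideal S) [q.IsPrime] [q.LiesOver p]
    (n r : ℕ) (hrn : r ≤ n)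
    (π : MvPolynomial (Fin r) R →ₐ[R] S) (hπ : q.comap π.toRingHom = p.map MvPolynomial.C)
    (t : {i : Fin n // r ≤ (i : ℕ)} → S) (ht : ∀ i, t i ∈ q) :
    q.comap (aeval (vfun n r π t) : MvPolynomial (Fin n) R →ₐ[R] S).toRingHom =
      p.map (MvPolynomial.C : R →+* MvPolynomial (Fin n) R) ⊔
        Ideal.span (Set.range fun i : {i : Fin n // r ≤ (i : ℕ)} =>
          (X (i : Fin n) : MvPolynomial (Fin n) R)) := by
  set φ₀ : MvPolynomial (Fin n) R →ₐ[R] S := aeval (vfun n r π t) with hφ₀
  set I : Ideal (MvPolynomial (Fin n) R) := p.map (MvPolynomial.C : R →+* MvPolynomial (Fin n) R) ⊔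
        Ideal.span (Set.range fun i : {i : Fin n // r ≤ (i : ℕ)} =>
          (X (i : Fin n) : MvPolynomial (Fin n) R)) with hI
  have hCI : ∀ a ∈ p, (C a : MvPolynomial (Fin n) R) ∈ I := fun a ha =>
    (le_sup_left : p.map C ≤ I) (Ideal.mem_map_of_mem _ ha)
  have hXI : ∀ i : Fin n, r ≤ (i : ℕ) → (X i : MvPolynomial (Fin n) R) ∈ I := fun i hi =>
    (le_sup_right : _ ≤ I) (Ideal.subset_span ⟨⟨i, hi⟩, rfl⟩)
  apply le_antisymm
  · -- the hard inclusion
    let x : Fin r → S ⧸ q := fun i => Ideal.Quotient.mk q (π (X i))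
    have hx : AlgebraicIndependent (R ⧸ p) x := algebraicIndependent_of_comap_eq_map_C π p q hπ
    let ρ : MvPolynomial (Fin n) R →+* MvPolynomial (Fin r) (R ⧸ p) :=
      eval₂Hom (C.comp (Ideal.Quotient.mk p))
        (fun i => if h : (i : ℕ) < r then X ⟨i, h⟩ else 0)
    let τ : MvPolynomial (Fin r) (R ⧸ p) →ₐ[R ⧸ p] S ⧸ q := aeval x
    have hτ : Function.Injective τ := hx
    have claim1 : τ.toRingHom.comp ρ = (Ideal.Quotient.mk q).comp φ₀.toRingHom := by
      apply MvPolynomial.ringHom_ext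
      · intro c
        simp only [RingHom.comp_apply, ρ, τ, eval₂Hom_C, AlgHom.toRingHom_eq_coe, RingHom.coe_coe,
          aeval_C]
        rw [Ideal.Quotient.algebraMap_mk_of_liesOver]
        congr 1
        have : (C c : MvPolynomial (Fin n) R) = algebraMap R _ c := rfl
        rw [this, φ₀.commutes]
      · intro i
        simp only [RingHom.comp_apply, ρ, τ, eval₂Hom_X', AlgHom.toRingHom_eq_coe, RingHom.coe_coe]
        by_cases h : (i : ℕ) < r
        · rw [dif_pos h, aeval_X, hφ₀, aeval_X, vfun_of_lt n r π t i h]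
        · rw [dif_neg h, map_zero, hφ₀, aeval_X, vfun_of_le n r π t i (not_lt.mp h)]
          symm
          rw [Ideal.Quotient.eq_zero_iff_mem]
          exact ht _
    let σ : MvPolynomial (Fin r) (R ⧸ p) →+* (MvPolynomial (Fin n) R ⧸ I) :=
      eval₂Hom (Ideal.Quotient.lift p ((Ideal.Quotient.mk I).comp C) (fun a ha => by
          rw [RingHom.comp_apply, Ideal.Quotient.eq_zero_iff_mem]
          exact hCI a ha))
        (fun j => Ideal.Quotient.mk I (X (Fin.castLE hrn j)))
    have claim2 : σ.comp ρ = Ideal.Quotient.mk I := by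
      apply MvPolynomial.ringHom_ext
      · intro c
        simp only [RingHom.comp_apply, ρ, σ, eval₂Hom_C, Ideal.Quotient.lift_mk]
      · intro i
        simp only [RingHom.comp_apply, ρ, σ, eval₂Hom_X']
        by_cases h : (i : ℕ) < r
        · rw [dif_pos h, eval₂Hom_X']
          congr 2
        · rw [dif_neg h, map_zero]
          symm
          rw [Ideal.Quotient.eq_zero_iff_mem]
          exact hXI i (not_lt.mp h)
    intro a ha
    have h1 : Ideal.Quotient.mk q (φ₀ a) = 0 := by
      rw [Ideal.Quotient.eq_zero_iff_mem]; exact ha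
    have h2 : τ (ρ a) = 0 := by
      have := congrFun (congrArg DFunLike.coe claim1) a
      simp only [RingHom.comp_apply] at this
      exact this.trans h1
    have h3 : ρ a = 0 := by
      apply hτ
      rw [h2, map_zero]
    have h4 : Ideal.Quotient.mk I a = 0 := by
      rw [← claim2, RingHom.comp_apply, h3, map_zero]
    exact Ideal.Quotient.eq_zero_iff_mem.mp h4
  · rw [sup_le_iff]
    constructor
    · rw [Ideal.map_le_iff_le_comap]
      intro a ha
      rw [Ideal.mem_comap, Ideal.mem_comap]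
      have : (C a : MvPolynomial (Fin n) R) = algebraMap R _ a := rfl
      show φ₀ (C a) ∈ q
      rw [this, φ₀.commutes, ← Ideal.mem_comap, ← Ideal.under_def, ← Ideal.over_def q p]
      exact ha
    · rw [Ideal.span_le]
      rintro _ ⟨i, rfl⟩
      show φ₀ (X (i : Fin n)) ∈ q
      rw [hφ₀, aeval_X, vfun_of_le n r π t i i.2]
      exact ht _



open TensorProduct Groth.Agent.Lib.Helper23.FibDimLSC MvPolynomial

theorem core (R S : Type u) [CommRing R] [CommRing S] [Algebra R S]
    [Algebra.FiniteType R S] (p : Ideal R) [p.IsPrime] (q : Ideal S) [q.IsPrime] [q.LiesOver p]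
    (Q : PrimeSpectrum (p.Fiber S))
    (hQ : Q.asIdeal.comap (Algebra.TensorProduct.includeRight.toRingHom) = q) (n r : ℕ)
    (hdim : FlatMor.localDim (PrimeSpectrum (p.Fiber S)) Q = (n : WithBot ℕ∞))
    (hr : Algebra.trdeg (R ⧸ p) (S ⧸ q) = r) :
    ∃ φ₀ : MvPolynomial (Fin n) R →ₐ[R] S,
      q.comap φ₀.toRingHom = p.map (MvPolynomial.C : R →+* MvPolynomial (Fin n) R) ⊔
        Ideal.span (Set.range fun i : {i : Fin n // r ≤ (i : ℕ)} =>
          (X (i : Fin n) : MvPolynomial (Fin n) R)) ∧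
      @Algebra.QuasiFiniteAt (MvPolynomial (Fin n) R) S _ _ φ₀.toRingHom.toAlgebra q _ := by
  obtain ⟨b, hb, hn⟩ := exists_height_eq R S p q Q hQ n r hdim hr
  obtain ⟨π, hπ⟩ := exists_algHom_comap_eq_map_C R S p q r hr
  obtain ⟨t, ht, hmin⟩ := exists_params R S p q Q hQ n r b hb hn
  have hrn : r ≤ n := by omega
  let φ₀ : MvPolynomial (Fin n) R →ₐ[R] S := aeval (vfun n r π t)
  have hcomap := comap_aeval_vfun p q n r hrn π hπ t ht
  refine ⟨φ₀, hcomap, ?_⟩
  letI : Algebra (MvPolynomial (Fin n) R) S := φ₀.toRingHom.toAlgebra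
  haveI : IsScalarTower R (MvPolynomial (Fin n) R) S :=
    IsScalarTower.of_algebraMap_eq' φ₀.comp_algebraMap.symm
  haveI : Algebra.FiniteType (MvPolynomial (Fin n) R) S :=
    Algebra.FiniteType.of_restrictScalars_finiteType R _ _
  have halg : algebraMap (MvPolynomial (Fin n) R) S = φ₀.toRingHom := rfl
  apply quasiFiniteAt_of_forall_le
  · intro q₂ hq₂ hle hc
    rw [halg] at hc
    refine eq_of_ge_of_comap_eq R S p q r π hπ hr q₂ hle ?_
    have h1 : π.toRingHom = φ₀.toRingHom.comp (rename (Fin.castLE hrn)).toRingHom := by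
      rw [← aeval_vfun_comp_rename n r hrn π t]
      rfl
    rw [h1, ← Ideal.comap_comap, ← Ideal.comap_comap, hc]
  · intro q₁ hq₁ hle hc
    rw [halg] at hc
    refine eq_of_le_of_mem R S p q Q hQ t hmin q₁ hle ?_ ?_
    · have h1 : algebraMap R S = φ₀.toRingHom.comp (algebraMap R (MvPolynomial (Fin n) R)) :=
        φ₀.comp_algebraMap.symm
      rw [h1, ← Ideal.comap_comap, hc, Ideal.comap_comap, ← h1]
      exact (Ideal.over_def q p).symm
    · intro i
      have h1 : (X (i : Fin n) : MvPolynomial (Fin n) R) ∈ q.comap φ₀.toRingHom := by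
        rw [hcomap]
        exact Ideal.mem_sup_right (Ideal.subset_span ⟨i, rfl⟩)
      rw [← hc] at h1
      have h2 : φ₀ (X (i : Fin n)) ∈ q₁ := h1
      have h3 : φ₀ (X (i : Fin n)) = t i := by
        show aeval (vfun n r π t) (X (i : Fin n)) = t i
        rw [aeval_X, vfun_of_le n r π t i i.2]
      rwa [h3] at h2

end Groth.Agent.Lib.Helper23.QFChart
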