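import Mathlib
import Groth.Agent.Lib.Helper23.CMFibReg
import Groth.Agent.Lib.Helper21.FibDimR1
import Groth.Agent.Lib.Helper23.QFChart
import Groth.Agent.Lib.Helper21.FibDimR2
import Groth.Agent.Lib.Helper18.FibBridge
import Groth.Agent.Lib.Helper9.DimTrdeg

/-!
helper23: dimension formula for flat local homomorphisms of local domains without Noetherian hypotheses (towards Stacks More on Morphisms). algebraicIndependent_of_flat (B flat over local A, psi : B -> L killing m_A: a family whose images satisfy no relation with a unit coefficient is algebraically independent over A; via Module.IsLocalRing.linearIndependent_of_flat on monomials), dim_closedFibre (dim B/pB = ht Q for B = C_q), trdeg_residueField_eq, trdeg_le_of_localDim (Chevalley bound: trdeg_A C <= local dimension of any fibre at any point, via QFChart.core), ringKrullDim_quotient_eq_coheight', exists_le_dim_quotient, exists_algebraicIndependent_of_adjoin_eq_top, le_trdeg_of_flat' (flat bound: dim of a component of the closed fibre <= trdeg_A B).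
-/

set_option autoImplicit false
universe u


namespace Groth.Agent.Lib.Helper23.FlatDimFormula


open IsLocalRing TensorProduct

/-- **Flatness and algebraic independence**: let `B` be a flat algebra over a local ring `A` and
`ψ : B → L` an `A`-algebra map to an `A`-algebra `L` killed by the maximal ideal of `A`. If a family
`t` in `B` is such that every polynomial relation over `A` among the images `ψ (t i)` has all its
coefficients in the maximal ideal, then `t` is algebraically independent over `A`. -/
theorem algebraicIndependent_of_flat {A B L : Type u} [CommRing A] [IsLocalRing A] [CommRing B]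
    [Algebra A B] [Module.Flat A B] [CommRing L] [Algebra A L] (ψ : B →ₐ[A] L)
    (hL : ∀ a ∈ maximalIdeal A, algebraMap A L a = 0)
    {ι : Type} (t : ι → B)
    (H : ∀ G : MvPolynomial ι A, MvPolynomial.aeval (fun i => ψ (t i)) G = 0 →
      ∀ m, MvPolynomial.coeff m G ∈ maximalIdeal A) :
    AlgebraicIndependent A t := by
  classical
  -- the monomial family
  let v : ULift.{u} (ι →₀ ℕ) → B := fun m => MvPolynomial.aeval t (MvPolynomial.monomial m.down (1 : A))
  have hv : LinearIndependent A v := by
    apply Module.IsLocalRing.linearIndependent_of_flat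
    rw [linearIndependent_iff']
    intro s c hc m hm
    -- lift the coefficients
    choose c' hc' using fun i => Ideal.Quotient.mk_surjective (c i)
    have h1 : (∑ i ∈ s, c i • (TensorProduct.mk A (ResidueField A) B 1 ∘ v) i) =
        TensorProduct.mk A (ResidueField A) B 1 (∑ i ∈ s, c' i • v i) := by
      rw [map_sum]
      apply Finset.sum_congr rfl
      intro i _
      simp only [Function.comp_apply, TensorProduct.mk_apply]
      rw [← hc' i, TensorProduct.tmul_smul, TensorProduct.smul_tmul']
      congr 1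
    rw [h1] at hc
    have h2 : (∑ i ∈ s, c' i • v i) ∈ (maximalIdeal A) • (⊤ : Submodule A B) := by
      rw [← LinearMap.ker_tensorProductMk]
      exact hc
    -- apply ψ
    have h3 : ψ (∑ i ∈ s, c' i • v i) = 0 := by
      have : ∀ x ∈ (maximalIdeal A) • (⊤ : Submodule A B), ψ x = 0 := by
        intro x hx
        refine Submodule.smul_induction_on hx ?_ ?_
        · intro a ha b _
          rw [map_smul, Algebra.smul_def, hL a ha, zero_mul]
        · intro x y hx hy
          rw [map_add, hx, hy, add_zero]
      exact this _ h2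
    -- the polynomial
    let G : MvPolynomial ι A := ∑ i ∈ s, MvPolynomial.monomial i.down (c' i)
    have h4 : MvPolynomial.aeval (fun i => ψ (t i)) G = 0 := by
      rw [← h3, map_sum, map_sum]
      apply Finset.sum_congr rfl
      intro i _
      rw [map_smul]
      simp only [v]
      have : (MvPolynomial.monomial i.down (c' i) : MvPolynomial ι A) =
          c' i • MvPolynomial.monomial i.down (1 : A) := by
        rw [MvPolynomial.smul_monomial, smul_eq_mul, mul_one]
      rw [this, map_smul]
      congr 1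
      rw [MvPolynomial.aeval_monomial, MvPolynomial.aeval_monomial, map_one, map_one, one_mul,
        one_mul, Finsupp.prod, Finsupp.prod, map_prod]
      simp
    have h5 := H G h4 m.down
    have h6 : MvPolynomial.coeff m.down G = c' m := by
      simp only [G, MvPolynomial.coeff_sum, MvPolynomial.coeff_monomial]
      rw [Finset.sum_eq_single m]
      · simp
      · intro b _ hb
        rw [if_neg]
        intro h
        exact hb (ULift.ext _ _ h)
      · intro h
        exact absurd hm h
    rw [h6] at h5
    rw [← hc' m]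
    exact Ideal.Quotient.eq_zero_iff_mem.mpr h5
  -- conclude
  rw [algebraicIndependent_iff_injective_aeval, injective_iff_map_eq_zero]
  intro P hP
  have h1 : P = ∑ m ∈ P.support, MvPolynomial.monomial m (MvPolynomial.coeff m P) :=
    (MvPolynomial.support_sum_monomial_coeff P).symm
  have h2 : ∑ m ∈ P.support.map ⟨ULift.up, ULift.up_injective⟩,
      MvPolynomial.coeff m.down P • v m = 0 := by
    rw [Finset.sum_map]
    simp only [Function.Embedding.coeFn_mk, v]
    rw [← hP]
    conv_rhs => rw [h1]
    rw [map_sum]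
    apply Finset.sum_congr rfl
    intro m _
    rw [← map_smul, MvPolynomial.smul_monomial, smul_eq_mul, mul_one]
  have h3 := linearIndependent_iff'.mp hv _ _ h2
  ext m
  rw [MvPolynomial.coeff_zero]
  by_cases hm : m ∈ P.support
  · exact h3 ⟨m⟩ (Finset.mem_map.mpr ⟨m, hm, rfl⟩)
  · exact MvPolynomial.notMem_support_iff.mp hm



open IsLocalRing TensorProduct Groth.Agent.Lib.Helper18.FibBridge Groth.Agent.Lib.Helper23.CMFibReg

/-- dimension of the closed fibre of `A → C_q` as the height of the corresponding prime of the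
fibre ring. -/
theorem dim_closedFibre (A C B : Type u) [CommRing A] [CommRing C] [CommRing B] [Algebra A C]
    [Algebra C B] [Algebra A B] [IsScalarTower A C B]
    (p : Ideal A) [p.IsPrime] (Q : Ideal (p.Fiber C)) [Q.IsPrime]
    [IsLocalization.AtPrime B (ctr p Q)] :
    ringKrullDim (B ⧸ p.map (algebraMap A B)) = (Q.height : WithBot ℕ∞) := by
  rw [← ringKrullDim_fibLocRing A C p Q]
  let e : B ≃ₐ[C] Localization.AtPrime (ctr p Q) :=
    IsLocalization.algEquiv (ctr p Q).primeCompl _ _
  refine ringKrullDim_eq_of_ringEquiv (Ideal.quotientEquiv _ _ e.toRingEquiv ?_)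
  rw [ctr_comap]
  have h1 : (e.toRingEquiv : B →+* Localization.AtPrime (ctr p Q)).comp (algebraMap A B) =
      algebraMap A (Localization.AtPrime (ctr p Q)) := by
    ext a
    simp only [RingHom.comp_apply]
    rw [IsScalarTower.algebraMap_apply A C B,
      IsScalarTower.algebraMap_apply A C (Localization.AtPrime (ctr p Q))]
    exact e.commutes _
  rw [← h1, ← Ideal.map_map]



open IsLocalRing TensorProduct Groth.Agent.Lib.Helper21.FibDim Algebra

/-- transcendence degree of the residue field extension in terms of a finite type model. -/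
theorem trdeg_residueField_eq (A C B : Type u) [CommRing A] [IsLocalRing A] [CommRing B]
    [IsLocalRing B] [CommRing C] [Algebra A C] [Algebra C B] [Algebra A B] [IsScalarTower A C B]
    [IsLocalHom (algebraMap A B)] (q : Ideal C) [q.IsPrime] [IsLocalization.AtPrime B q]
    [q.LiesOver (maximalIdeal A)] :
    Algebra.trdeg (A ⧸ maximalIdeal A) (C ⧸ q) =
      Algebra.trdeg (ResidueField A) (ResidueField B) := by
  haveI : (maximalIdeal B).LiesOver q :=
    ⟨(IsLocalization.AtPrime.comap_maximalIdeal B q).symm⟩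
  show _ = Algebra.trdeg (A ⧸ maximalIdeal A) (B ⧸ maximalIdeal B)
  have t1 : IsScalarTower (A ⧸ maximalIdeal A) (C ⧸ q) (B ⧸ maximalIdeal B) := by
    refine IsScalarTower.of_algebraMap_eq fun x => ?_
    obtain ⟨a, rfl⟩ := Ideal.Quotient.mk_surjective x
    simp only [Ideal.Quotient.algebraMap_mk_of_liesOver]
    rw [← IsScalarTower.algebraMap_apply]
  have a1 : Algebra.IsAlgebraic (C ⧸ q) (B ⧸ maximalIdeal B) := by
    refine ⟨fun x => ?_⟩
    obtain ⟨b, rfl⟩ := Ideal.Quotient.mk_surjective x
    obtain ⟨⟨c, s⟩, h⟩ := IsLocalization.surj q.primeCompl b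
    refine isAlgebraic_of_mul_eq _ (Ideal.Quotient.mk q s.1) (Ideal.Quotient.mk q c) ?_ ?_
    · rw [Ne, Ideal.Quotient.eq_zero_iff_mem]
      exact s.2
    · simp only [Ideal.Quotient.algebraMap_mk_of_liesOver]
      rw [← map_mul, mul_comm, h]
  haveI : Nontrivial (A ⧸ maximalIdeal A) := Ideal.Quotient.nontrivial_iff.mpr (Ideal.IsPrime.ne_top inferInstance)
  haveI : IsDomain (B ⧸ maximalIdeal B) := Ideal.Quotient.isDomain _
  have e1 := trdeg_add_eq (A ⧸ maximalIdeal A) (C ⧸ q) (A := B ⧸ maximalIdeal B)
  rw [trdeg_eq_zero (R := C ⧸ q) (A := B ⧸ maximalIdeal B), add_zero] at e1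
  exact e1



open IsLocalRing TensorProduct Groth.Agent.Lib.Helper21.FibDim Algebra
  Groth.Agent.Lib.Helper23.QFChart Groth.Agent.Lib.Helper23.FibDimLSC

/-- Chevalley bound: the generic relative dimension of a finite type domain is at most the local
dimension of any fibre at any point. -/
theorem trdeg_le_of_localDim (A C : Type u) [CommRing A] [IsDomain A] [CommRing C] [IsDomain C]
    [Algebra A C] [FaithfulSMul A C] [Algebra.FiniteType A C] (p : Ideal A) [p.IsPrime]
    (q : Ideal C) [q.IsPrime] [q.LiesOver p] (Q : PrimeSpectrum (p.Fiber C))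
    (hQ : Q.asIdeal.comap (Algebra.TensorProduct.includeRight.toRingHom) = q) (N r : ℕ)
    (hdim : FlatMor.localDim (PrimeSpectrum (p.Fiber C)) Q = (N : WithBot ℕ∞))
    (hr : Algebra.trdeg (A ⧸ p) (C ⧸ q) = r) :
    Algebra.trdeg A C ≤ N := by
  obtain ⟨φ₀, -, hqf⟩ := core A C p q Q hQ N r hdim hr
  letI : Algebra (MvPolynomial (Fin N) A) C := φ₀.toRingHom.toAlgebra
  haveI : IsScalarTower A (MvPolynomial (Fin N) A) C :=
    IsScalarTower.of_algebraMap_eq' φ₀.comp_algebraMap.symm
  haveI : Algebra.FiniteType (MvPolynomial (Fin N) A) C :=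
    Algebra.FiniteType.of_restrictScalars_finiteType A _ _
  haveI : Algebra.QuasiFiniteAt (MvPolynomial (Fin N) A) q := hqf
  obtain ⟨g, hg, hqf'⟩ := exists_quasiFinite_away (MvPolynomial (Fin N) A) C q
  have hg0 : g ≠ 0 := fun h => hg (h ▸ q.zero_mem)
  have hle : Submonoid.powers g ≤ nonZeroDivisors C :=
    Submonoid.powers_le.mpr (mem_nonZeroDivisors_of_ne_zero hg0)
  haveI : IsDomain (Localization.Away g) := IsLocalization.isDomain_localization hle
  have hinj : Function.Injective (algebraMap C (Localization.Away g)) :=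
    IsLocalization.injective _ hle
  haveI : FaithfulSMul A (Localization.Away g) := by
    rw [faithfulSMul_iff_algebraMap_injective, IsScalarTower.algebraMap_eq A C (Localization.Away g)]
    exact hinj.comp (FaithfulSMul.algebraMap_injective A C)
  haveI : Algebra.FiniteType A (Localization.Away g) := inferInstance
  -- transcendence degree of the localization
  have hfin : Algebra.trdeg A (Localization.Away g) < Cardinal.aleph0 :=
    trdeg_lt_aleph0_of_finiteType
  obtain ⟨n₁, hn₁⟩ := Cardinal.lt_aleph0.mp hfin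
  obtain ⟨ι, x, hx⟩ := exists_isTranscendenceBasis' A (Localization.Away g)
  have hcard : Cardinal.mk ι = n₁ := by rw [hx.cardinalMk_eq_trdeg, hn₁]
  obtain ⟨e⟩ : Nonempty (Fin n₁ ≃ ι) := by
    have : Cardinal.mk (ULift.{u} (Fin n₁)) = Cardinal.mk ι := by simp [hcard]
    obtain ⟨e'⟩ := Cardinal.eq.mp this
    exact ⟨Equiv.ulift.symm.trans e'⟩
  have hx' : AlgebraicIndependent A (x ∘ e) := hx.1.comp e e.injective
  let π : MvPolynomial (Fin n₁) A →ₐ[A] Localization.Away g := MvPolynomial.aeval (x ∘ e)
  have hπ : (⊥ : Ideal (Localization.Away g)).comap π.toRingHom =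
      (⊥ : Ideal A).map MvPolynomial.C := by
    rw [Ideal.map_bot]
    ext G
    rw [Ideal.mem_comap, Ideal.mem_bot, Ideal.mem_bot]
    constructor
    · intro h
      exact (algebraicIndependent_iff_injective_aeval.mp hx') (h.trans (map_zero _).symm)
    · rintro rfl
      exact map_zero _
  haveI : (⊥ : Ideal A).IsPrime := Ideal.isPrime_bot
  haveI : (⊥ : Ideal (Localization.Away g)).IsPrime := Ideal.isPrime_bot
  haveI : Nontrivial (A ⧸ (⊥ : Ideal A)) := Ideal.Quotient.nontrivial_iff.mpr (Ideal.IsPrime.ne_top inferInstance)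
  have h1 := le_trdeg_of_comap_eq_map_C π (⊥ : Ideal A) (⊥ : Ideal (Localization.Away g)) hπ
  have h2 := trdeg_quotient_le_of_quasiFinite A (Localization.Away g) N (⊥ : Ideal A)
    (⊥ : Ideal (Localization.Away g))
  have h3 : (n₁ : Cardinal.{u}) ≤ N := h1.trans h2
  have h4 : Algebra.trdeg A C ≤ Algebra.trdeg A (Localization.Away g) :=
    trdeg_le_of_injective (IsScalarTower.toAlgHom A C (Localization.Away g)) hinj
  rw [hn₁] at h4
  exact h4.trans h3



open IsLocalRing TensorProduct Algebra Groth.Agent.Lib.Helper18.FibBridge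

theorem ringKrullDim_quotient_eq_coheight' {F : Type u} [CommRing F] (p : PrimeSpectrum F) :
    ringKrullDim (F ⧸ p.asIdeal) = ((Order.coheight p : ℕ∞) : WithBot ℕ∞) := by
  rw [ringKrullDim_quotient, Order.coheight_eq_krullDim_Ici]
  have : PrimeSpectrum.zeroLocus (p.asIdeal : Set F) = Set.Ici p := by
    ext q
    rw [PrimeSpectrum.mem_zeroLocus, Set.mem_Ici]
    rfl
  rw [this]

/-- a prime of a ring lies above a prime `Q₀` with `dim (F/Q₀) ≥ dim (F/Q) + ht Q`. -/
theorem exists_le_dim_quotient (F : Type u) [CommRing F] (Q : Ideal F) [hQ : Q.IsPrime] (a b : ℕ)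
    (ha : ringKrullDim (F ⧸ Q) = a) (hb : Q.height = b) :
    ∃ Q₀ : Ideal F, Q₀.IsPrime ∧ Q₀ ≤ Q ∧ ((a + b : ℕ) : WithBot ℕ∞) ≤ ringKrullDim (F ⧸ Q₀) := by
  let x : PrimeSpectrum F := ⟨Q, hQ⟩
  have h1 : Order.height x = b := by
    rw [← hb, ← PrimeSpectrum.height_eq_orderHeight]
  obtain ⟨c₁, hc₁l, hc₁n⟩ := Order.exists_series_of_height_eq_coe x h1
  have h2 : Order.coheight x = a := by
    have := ringKrullDim_quotient_eq_coheight' x
    rw [show x.asIdeal = Q from rfl, ha] at this
    exact_mod_cast this.symm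
  obtain ⟨c₂, hc₂h, hc₂n⟩ := Order.exists_series_of_coheight_eq_coe x h2
  let c := c₁.smash c₂ (hc₁l.trans hc₂h.symm)
  have hlen : c.length = b + a := by
    show c₁.length + c₂.length = b + a
    rw [hc₁n, hc₂n]
  have hhead : c.head = c₁.head := RelSeries.head_smash _
  refine ⟨c₁.head.asIdeal, c₁.head.2, ?_, ?_⟩
  · have : c₁.head ≤ c₁.last := LTSeries.head_le_last c₁
    rw [hc₁l] at this
    exact this
  · rw [ringKrullDim_quotient_eq_coheight' c₁.head]
    have := Order.length_le_coheight_head (p := c)
    rw [hlen, hhead] at this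
    have h3 : ((a + b : ℕ) : ℕ∞) ≤ Order.coheight c₁.head := by
      rw [add_comm]; exact_mod_cast this
    exact_mod_cast h3



open IsLocalRing TensorProduct Algebra Groth.Agent.Lib.Helper18.FibBridge

/-- a transcendence basis can be chosen inside a generating set. -/
theorem exists_algebraicIndependent_of_adjoin_eq_top {k D : Type u} [Field k] [CommRing D]
    [IsDomain D] [Algebra k D] (S : Set D) (hgen : Algebra.adjoin k S = ⊤) (s : ℕ)
    (hs : Algebra.trdeg k D = s) :
    ∃ x : Fin s → D, (∀ i, x i ∈ S) ∧ AlgebraicIndependent k x := by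
  haveI : Algebra.IsAlgebraic (Algebra.adjoin k S) D := by
    refine ⟨fun x => ?_⟩
    have hx : x ∈ Algebra.adjoin k S := hgen ▸ Algebra.mem_top
    exact isAlgebraic_algebraMap (⟨x, hx⟩ : Algebra.adjoin k S)
  obtain ⟨t, htS, htb⟩ := exists_isTranscendenceBasis_subset (R := k) (A := D) S
  have hcard : Cardinal.mk t = s := by rw [htb.cardinalMk_eq_trdeg, hs]
  obtain ⟨e⟩ : Nonempty (Fin s ≃ t) := by
    have : Cardinal.mk (ULift.{u} (Fin s)) = Cardinal.mk t := by simp [hcard]
    obtain ⟨e'⟩ := Cardinal.eq.mp this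
    exact ⟨Equiv.ulift.symm.trans e'⟩
  exact ⟨fun i => ((e i : t) : D), fun i => htS (e i).2, htb.1.comp e e.injective⟩

/-- **Flat bound**: for a flat local algebra `B = C_q` over a local ring `A`, the transcendence
degree of `B` over `A` is at least the dimension of any component of the closed fibre. Abstract
form: `F` plays the role of the closed fibre ring `κ ⊗ C`. -/
theorem le_trdeg_of_flat' (A C B k F : Type u) [CommRing A] [IsLocalRing A] [CommRing C]
    [CommRing B] [Algebra A C] [Algebra C B] [Algebra A B] [IsScalarTower A C B] [Module.Flat A B]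
    [Field k] [Algebra A k] (hk : ∀ a, algebraMap A k a = 0 ↔ a ∈ maximalIdeal A)
    [CommRing F] [Algebra k F] [Algebra A F] [IsScalarTower A k F] (ι : C →ₐ[A] F)
    (hgen : Algebra.adjoin k (Set.range ι) = ⊤)
    (Q₀ Q : Ideal F) [Q₀.IsPrime] [Q.IsPrime] (hle : Q₀ ≤ Q)
    [IsLocalization.AtPrime B (Q.comap ι)] (s : ℕ)
    (hs : Algebra.trdeg k (F ⧸ Q₀) = s) :
    (s : Cardinal.{u}) ≤ Algebra.trdeg A B := by
  classical
  -- the map from `C`
  let ι₀ : C →ₐ[A] (F ⧸ Q₀) := (Ideal.Quotient.mkₐ A Q₀).comp ι
  -- generation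
  have hgen' : Algebra.adjoin k (Set.range ι₀) = ⊤ := by
    rw [_root_.eq_top_iff]
    rintro x -
    obtain ⟨y, rfl⟩ := Ideal.Quotient.mk_surjective x
    have hy : y ∈ Algebra.adjoin k (Set.range ι) := hgen ▸ Algebra.mem_top
    induction hy using Algebra.adjoin_induction with
    | mem z hz =>
      obtain ⟨c, rfl⟩ := hz
      exact Algebra.subset_adjoin (Set.mem_range_self c)
    | algebraMap r =>
      exact Subalgebra.algebraMap_mem _ r
    | add y z _ _ hy hz => rw [map_add]; exact Subalgebra.add_mem _ hy hz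
    | mul y z _ _ hy hz => rw [map_mul]; exact Subalgebra.mul_mem _ hy hz
  obtain ⟨x, hxS, hind⟩ := exists_algebraicIndependent_of_adjoin_eq_top (Set.range ι₀) hgen' s hs
  choose c hc using hxS
  -- the map `B → L`
  let g : C →+* FractionRing (F ⧸ Q₀) :=
    RingHom.comp (algebraMap (F ⧸ Q₀) (FractionRing (F ⧸ Q₀))) (ι₀ : C →+* (F ⧸ Q₀))
  have hunit : ∀ y : (Q.comap ι).primeCompl, IsUnit (g y) := by
    intro y
    rw [isUnit_iff_ne_zero]
    show algebraMap (F ⧸ Q₀) (FractionRing (F ⧸ Q₀)) (ι₀ y.1) ≠ 0
    rw [Ne, map_eq_zero_iff _ (IsFractionRing.injective _ _)]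
    intro h0
    have h1 : ι y.1 ∈ Q₀ := Ideal.Quotient.eq_zero_iff_mem.mp h0
    exact y.2 (hle h1)
  let ψ₀ : B →+* FractionRing (F ⧸ Q₀) :=
    IsLocalization.lift (M := (Q.comap ι).primeCompl) hunit
  have hψ₀ : ∀ z : C, ψ₀ (algebraMap C B z) =
      algebraMap _ (FractionRing (F ⧸ Q₀)) (ι₀ z) := fun z =>
    IsLocalization.lift_eq hunit z
  let ψ : B →ₐ[A] FractionRing (F ⧸ Q₀) :=
    { ψ₀ with
      commutes' := fun a => by
        show ψ₀ (algebraMap A B a) = algebraMap A _ a
        rw [IsScalarTower.algebraMap_apply A C B, hψ₀, ι₀.commutes,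
          ← IsScalarTower.algebraMap_apply A (F ⧸ Q₀)] }
  have hψ : ∀ z : C, ψ (algebraMap C B z) =
      algebraMap _ (FractionRing (F ⧸ Q₀)) (ι₀ z) := hψ₀
  -- apply the flat criterion
  have hL : ∀ a ∈ maximalIdeal A, algebraMap A (FractionRing (F ⧸ Q₀)) a = 0 := by
    intro a ha
    rw [IsScalarTower.algebraMap_apply A (F ⧸ Q₀), IsScalarTower.algebraMap_apply A k (F ⧸ Q₀),
      (hk a).mpr ha, map_zero, map_zero]
  have hkey := algebraicIndependent_of_flat ψ hL (fun i : Fin s => algebraMap C B (c i)) ?_
  · have := hkey.lift_cardinalMk_le_trdeg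
    simpa using this
  · intro G hG m
    have h1 : (fun i : Fin s => ψ (algebraMap C B (c i))) =
        fun i => algebraMap _ (FractionRing (F ⧸ Q₀)) (x i) := by
      funext i
      rw [hψ, hc i]
    rw [h1] at hG
    have h2 : MvPolynomial.aeval (fun i => algebraMap _ (FractionRing (F ⧸ Q₀)) (x i)) G =
        algebraMap _ (FractionRing (F ⧸ Q₀)) (MvPolynomial.aeval x G) := by
      rw [← MvPolynomial.aeval_algebraMap_apply]
      rfl
    rw [h2, map_eq_zero_iff _ (IsFractionRing.injective _ _)] at hG
    have h3 : MvPolynomial.aeval x (MvPolynomial.map (algebraMap A k) G) = 0 := by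
      rw [MvPolynomial.aeval_map_algebraMap]
      exact hG
    have h4 : MvPolynomial.map (algebraMap A k) G = 0 :=
      (algebraicIndependent_iff_injective_aeval.mp hind) (h3.trans (map_zero _).symm)
    have h5 := congrArg (MvPolynomial.coeff m) h4
    rw [MvPolynomial.coeff_map, MvPolynomial.coeff_zero] at h5
    exact (hk _).mp h5

end Groth.Agent.Lib.Helper23.FlatDimFormula
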