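import Mathlib
import Groth.Agent.Lib.Helper9.SemiLocalProd
import Groth.Prelude.Def_EGA41
import Groth.Agent.Lib.Helper23.FlatLiftUnique
import Groth.Agent.Lib.Helper23.FlatFibreSmooth
import Groth.Agent.S7134
import Groth.Agent.Lib.Helper23.AdicSmoothFlat

/-!
EGA 0_IV 19.7.2 for an arbitrary ideal J of the base (helper23): one_tmul_eq_zero_iff, tensor_quotient_spec ((A/J) ⊗ B complete Noetherian local), epsOf, formallySmoothAdic_of_fibre_equiv (flat lifting of a formally smooth algebra is formally smooth), exists_algEquiv_of_fibre_equiv (uniqueness), exists_flat_lift_of_quotient (existence).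
-/

set_option autoImplicit false
universe u


namespace Groth.Agent.Lib.Helper23.FlatLiftQuot


open IsLocalRing TensorProduct Function

section T

variable {A : Type u} [CommRing A] (J : Ideal A) {B : Type u} [CommRing B] [Algebra A B]

theorem one_tmul_eq_zero_iff (b : B) :
    ((1 : A ⧸ J) ⊗ₜ[A] b = 0) ↔ b ∈ J.map (algebraMap A B) := by
  have h := TensorProduct.quotTensorEquivQuotSMul_mk_tmul (M := B) J 1 b
  rw [one_smul] at h
  have hmem : b ∈ J.map (algebraMap A B) ↔ b ∈ (J • ⊤ : Submodule A B) := by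
    have := Ideal.smul_top_eq_map (R := A) (S := B) J
    rw [this]
    rfl
  rw [hmem]
  constructor
  · intro h0
    rw [← Submodule.Quotient.mk_eq_zero, ← h]
    have : (Ideal.Quotient.mk J 1 ⊗ₜ[A] b : (A ⧸ J) ⊗[A] B) = 0 := h0
    rw [this, map_zero]
  · intro hb
    have h1 := (Submodule.Quotient.mk_eq_zero _).mpr hb
    rw [← h] at h1
    exact (LinearEquiv.map_eq_zero_iff _).mp h1

theorem includeRight_surjective :
    Surjective (Algebra.TensorProduct.includeRight : B →ₐ[A] (A ⧸ J) ⊗[A] B) :=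
  Algebra.TensorProduct.includeRight_surjective _ Ideal.Quotient.mk_surjective

variable [IsLocalRing B] [IsNoetherianRing B] [IsAdicComplete (maximalIdeal B) B]

/-- `(A/J) ⊗_A B` is a complete Noetherian local ring when `JB ≠ B`. -/
theorem tensor_quotient_spec (hJ : J.map (algebraMap A B) ≠ ⊤) :
    ∃ (_ : IsLocalRing ((A ⧸ J) ⊗[A] B)), IsNoetherianRing ((A ⧸ J) ⊗[A] B) ∧
      IsAdicComplete (maximalIdeal ((A ⧸ J) ⊗[A] B)) ((A ⧸ J) ⊗[A] B) ∧
      IsLocalHom (Algebra.TensorProduct.includeRight : B →ₐ[A] (A ⧸ J) ⊗[A] B).toRingHom := by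
  have hs := includeRight_surjective (B := B) J
  haveI : Nontrivial ((A ⧸ J) ⊗[A] B) := by
    refine ⟨⟨1, 0, fun h => hJ ?_⟩⟩
    rw [Ideal.eq_top_iff_one, ← one_tmul_eq_zero_iff J]
    exact h
  haveI hloc : IsLocalRing ((A ⧸ J) ⊗[A] B) :=
    IsLocalRing.of_surjective' (Algebra.TensorProduct.includeRight :
      B →ₐ[A] (A ⧸ J) ⊗[A] B).toRingHom hs
  haveI hN : IsNoetherianRing ((A ⧸ J) ⊗[A] B) :=
    isNoetherianRing_of_surjective B _ (Algebra.TensorProduct.includeRight :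
      B →ₐ[A] (A ⧸ J) ⊗[A] B).toRingHom hs
  refine ⟨hloc, hN, ?_, IsLocalHom.of_surjective _ hs⟩
  letI : Algebra B ((A ⧸ J) ⊗[A] B) := (Algebra.TensorProduct.includeRight :
      B →ₐ[A] (A ⧸ J) ⊗[A] B).toRingHom.toAlgebra
  haveI : Module.Finite B ((A ⧸ J) ⊗[A] B) :=
    Module.Finite.of_surjective (Algebra.linearMap B ((A ⧸ J) ⊗[A] B)) hs
  exact Groth.Agent.Lib.Helper9.SemiLocalProd.isAdicComplete_maximalIdeal_of_finite B _

end T



open IsLocalRing TensorProduct Function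

section Eps

variable {A : Type u} [CommRing A] (J : Ideal A) {B : Type u} [CommRing B] [Algebra A B]
  {B₀ : Type u} [CommRing B₀] [Algebra (A ⧸ J) B₀]

/-- the surjection `B → B₀` attached to an isomorphism `u : (A/J) ⊗_A B ≅ B₀`. -/
noncomputable def epsOf (u : (A ⧸ J) ⊗[A] B ≃ₐ[A ⧸ J] B₀) : B →+* B₀ :=
  (u : (A ⧸ J) ⊗[A] B →+* B₀).comp
    (Algebra.TensorProduct.includeRight : B →ₐ[A] (A ⧸ J) ⊗[A] B).toRingHom

theorem epsOf_apply (u : (A ⧸ J) ⊗[A] B ≃ₐ[A ⧸ J] B₀) (b : B) :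
    epsOf J u b = u ((1 : A ⧸ J) ⊗ₜ[A] b) := rfl

theorem epsOf_surjective (u : (A ⧸ J) ⊗[A] B ≃ₐ[A ⧸ J] B₀) : Surjective (epsOf J u) :=
  u.surjective.comp (includeRight_surjective J)

theorem ker_epsOf (u : (A ⧸ J) ⊗[A] B ≃ₐ[A ⧸ J] B₀) :
    RingHom.ker (epsOf J u) = J.map (algebraMap A B) := by
  ext b
  rw [RingHom.mem_ker, epsOf_apply, ← one_tmul_eq_zero_iff J]
  exact map_eq_zero_iff u u.injective

theorem epsOf_algebraMap (u : (A ⧸ J) ⊗[A] B ≃ₐ[A ⧸ J] B₀) (a : A) :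
    epsOf J u (algebraMap A B a) = algebraMap (A ⧸ J) B₀ (Ideal.Quotient.mk J a) := by
  rw [epsOf_apply, ← u.commutes]
  congr 1
  rw [Algebra.algebraMap_eq_smul_one, ← TensorProduct.smul_tmul,
    Algebra.TensorProduct.algebraMap_apply]
  congr 1
  rw [Algebra.smul_def, mul_one]
  rfl

end Eps

section Uniq

variable {A : Type u} [CommRing A] (J : Ideal A) [IsLocalRing (A ⧸ J)]
  {B₀ : Type u} [CommRing B₀] [IsLocalRing B₀] [Algebra (A ⧸ J) B₀]
  [IsLocalHom (algebraMap (A ⧸ J) B₀)]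
  {B : Type u} [CommRing B] [IsLocalRing B] [IsNoetherianRing B] [Algebra A B] [Module.Flat A B]

/-- a flat lifting of a formally smooth algebra is formally smooth. -/
theorem formallySmoothAdic_of_fibre_equiv
    (hfs : EGA41.IsFormallySmoothAdic (A ⧸ J) (maximalIdeal (A ⧸ J)) B₀ (maximalIdeal B₀))
    (u : (A ⧸ J) ⊗[A] B ≃ₐ[A ⧸ J] B₀) :
    EGA41.IsFormallySmoothAdic A J B (maximalIdeal B) := by
  apply Groth.Agent.Lib.Helper23.FlatFibreSmooth.formallySmoothAdic_of_flat_of_fibre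
  have h0 : CAlgX.IsAdicFormallySmooth (A ⧸ J) B₀ (maximalIdeal B₀) :=
    Groth.Agent.S7134.adic_of_adic (maximalIdeal (A ⧸ J)) (maximalIdeal B₀)
      (map_maximalIdeal_le _) hfs
  have hker := ker_epsOf J u
  have hsurj := epsOf_surjective J u
  let e : (B ⧸ J.map (algebraMap A B)) ≃+* B₀ :=
    (Ideal.quotEquivOfEq hker.symm).trans (RingHom.quotientKerEquivOfSurjective hsurj)
  have he : ∀ b, e (Ideal.Quotient.mk _ b) = epsOf J u b := fun b => rfl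
  have hesymm : ∀ b, e.symm (epsOf J u b) = Ideal.Quotient.mk _ b := fun b => by
    rw [← he, RingEquiv.symm_apply_apply]
  refine Groth.Agent.Lib.Helper23.FormalFibreCharP.adic_of_ringEquiv (R := A ⧸ J) e.symm ?_
    (maximalIdeal B₀) _ ?_ h0
  · intro r
    obtain ⟨a, rfl⟩ := Ideal.Quotient.mk_surjective r
    rw [← epsOf_algebraMap J u a, hesymm]
    rfl
  · intro y hy
    obtain ⟨b, rfl⟩ := hsurj y
    rw [Ideal.mem_comap]
    show e.symm (epsOf J u b) ∈ _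
    rw [hesymm]
    apply Ideal.mem_map_of_mem
    rw [IsLocalRing.mem_maximalIdeal, mem_nonunits_iff]
    intro hb
    exact (IsLocalRing.mem_maximalIdeal _).mp hy (hb.map (epsOf J u))

end Uniq

section Uniq2

variable {A : Type u} [CommRing A] (J : Ideal A) [IsLocalRing (A ⧸ J)]
  {B₀ : Type u} [CommRing B₀] [IsLocalRing B₀] [Algebra (A ⧸ J) B₀]
  [IsLocalHom (algebraMap (A ⧸ J) B₀)]
  {B : Type u} [CommRing B] [IsLocalRing B] [IsNoetherianRing B] [Algebra A B] [Module.Flat A B]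
  [IsAdicComplete (maximalIdeal B) B]
  {B' : Type u} [CommRing B'] [IsLocalRing B'] [IsNoetherianRing B'] [Algebra A B']
  [Module.Flat A B'] [IsAdicComplete (maximalIdeal B') B']

/-- **EGA 0_IV 19.7.2, uniqueness.** -/
theorem exists_algEquiv_of_fibre_equiv
    (hfs : EGA41.IsFormallySmoothAdic (A ⧸ J) (maximalIdeal (A ⧸ J)) B₀ (maximalIdeal B₀))
    (hJB' : J.map (algebraMap A B') ≤ maximalIdeal B')
    (u : (A ⧸ J) ⊗[A] B ≃ₐ[A ⧸ J] B₀) (u' : (A ⧸ J) ⊗[A] B' ≃ₐ[A ⧸ J] B₀) :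
    ∃ v : B ≃ₐ[A] B', (u' : (A ⧸ J) ⊗[A] B' →ₐ[A ⧸ J] B₀).comp
        (Algebra.TensorProduct.map (AlgHom.id (A ⧸ J) (A ⧸ J)) (v : B →ₐ[A] B')) =
        (u : (A ⧸ J) ⊗[A] B →ₐ[A ⧸ J] B₀) := by
  have hfsB := formallySmoothAdic_of_fibre_equiv J hfs u
  obtain ⟨v, hv⟩ := Groth.Agent.Lib.Helper23.FlatLiftUnique.exists_algEquiv_of_fibre J J hJB' hfsB
    (epsOf J u) (epsOf J u') (epsOf_surjective J u) (epsOf_surjective J u') (ker_epsOf J u)
    (ker_epsOf J u') (fun a => by rw [epsOf_algebraMap, epsOf_algebraMap])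
  refine ⟨v, ?_⟩
  apply AlgHom.ext
  intro z
  induction z using TensorProduct.induction_on with
  | zero => rw [map_zero, map_zero]
  | add y z hy hz => rw [map_add, map_add, hy, hz]
  | tmul x b =>
    have h1 : x ⊗ₜ[A] b = x • ((1 : A ⧸ J) ⊗ₜ[A] b) := by
      rw [TensorProduct.smul_tmul', smul_eq_mul, mul_one]
    rw [h1, map_smul, map_smul]
    congr 1
    show u' ((Algebra.TensorProduct.map (AlgHom.id (A ⧸ J) (A ⧸ J)) (v : B →ₐ[A] B'))
      ((1 : A ⧸ J) ⊗ₜ[A] b)) = u ((1 : A ⧸ J) ⊗ₜ[A] b)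
    rw [Algebra.TensorProduct.map_tmul]
    exact hv b

end Uniq2



open IsLocalRing TensorProduct Function

section Exist

variable {A : Type u} [CommRing A] [IsLocalRing A] [IsNoetherianRing A] (J : Ideal A)
  [IsLocalRing (A ⧸ J)]
  (B₀ : Type u) [CommRing B₀] [IsLocalRing B₀] [IsNoetherianRing B₀]
  [IsAdicComplete (maximalIdeal B₀) B₀] [Algebra (A ⧸ J) B₀] [IsLocalHom (algebraMap (A ⧸ J) B₀)]

set_option maxHeartbeats 1600000 in
/-- **EGA 0_IV 19.7.2, existence** for an arbitrary ideal `J ⊆ 𝔪_A`. -/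
theorem exists_flat_lift_of_quotient (hJ : J ≤ maximalIdeal A)
    (hfs : EGA41.IsFormallySmoothAdic (A ⧸ J) (maximalIdeal (A ⧸ J)) B₀ (maximalIdeal B₀)) :
    ∃ (B : Type u) (_ : CommRing B) (_ : IsLocalRing B) (_ : IsNoetherianRing B) (_ : Algebra A B)
      (_ : IsLocalHom (algebraMap A B)),
      IsAdicComplete (maximalIdeal B) B ∧ Module.Flat A B ∧
        Nonempty ((A ⧸ J) ⊗[A] B ≃ₐ[A ⧸ J] B₀) := by
  set I₀ := (maximalIdeal (A ⧸ J)).map (algebraMap (A ⧸ J) B₀) with hI₀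
  have hI₀le : I₀ ≤ maximalIdeal B₀ := map_maximalIdeal_le _
  haveI : IsLocalRing (B₀ ⧸ I₀) :=
    Groth.Agent.Lib.Helper21.isLocalRing_quotient_of_le_maximalIdeal hI₀le
  have h0 : CAlgX.IsAdicFormallySmooth (A ⧸ J) B₀ (maximalIdeal B₀) :=
    Groth.Agent.S7134.adic_of_adic (maximalIdeal (A ⧸ J)) (maximalIdeal B₀)
      (map_maximalIdeal_le _) hfs
  haveI : IsRegularLocalRing (B₀ ⧸ I₀) :=
    Groth.Agent.Lib.Helper23.AdicSmoothFlat.isRegularLocalRing_quotient_of_adic h0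
  haveI : IsAdicComplete (maximalIdeal (B₀ ⧸ I₀)) (B₀ ⧸ I₀) := by
    have h1 : IsAdicComplete (maximalIdeal B₀) (B₀ ⧸ I₀) :=
      Groth.Agent.Lib.Helper9.SemiLocalProd.isAdicComplete_of_finite B₀ (B₀ ⧸ I₀)
    rw [Groth.Agent.Lib.Helper21.maximalIdeal_quotient_eq_map]
    exact (IsAdicComplete.map_algebraMap_iff (S := B₀ ⧸ I₀) (maximalIdeal B₀) (B₀ ⧸ I₀)).mpr h1
  have hmk : ∀ a ∈ maximalIdeal A, Ideal.Quotient.mk J a ∈ maximalIdeal (A ⧸ J) := by
    intro a ha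
    rw [Groth.Agent.Lib.Helper21.maximalIdeal_quotient_eq_map]
    exact Ideal.mem_map_of_mem _ ha
  let θ₀ : A →+* B₀ ⧸ I₀ :=
    (Ideal.Quotient.mk I₀).comp ((algebraMap (A ⧸ J) B₀).comp (Ideal.Quotient.mk J))
  have hθ₀ : maximalIdeal A ≤ RingHom.ker θ₀ := fun a ha => by
    rw [RingHom.mem_ker]
    show Ideal.Quotient.mk I₀ (algebraMap (A ⧸ J) B₀ (Ideal.Quotient.mk J a)) = 0
    exact Ideal.Quotient.eq_zero_iff_mem.mpr (Ideal.mem_map_of_mem _ (hmk a ha))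
  obtain ⟨B, _, _, _, _, hloc, ε, hBc, hBflat, hε, hkerε, hεalg⟩ :=
    Groth.Agent.Lib.Helper23.FlatLift.exists_flat_complete_local (B₀ ⧸ I₀) θ₀ hθ₀
  haveI := hloc
  haveI := hBc
  haveI := hBflat
  refine ⟨B, inferInstance, inferInstance, inferInstance, inferInstance, hloc, hBc, hBflat, ?_⟩
  have hJB : J.map (algebraMap A B) ≠ ⊤ := fun h =>
    (maximalIdeal.isMaximal B).ne_top (top_le_iff.mp
      (h ▸ (Ideal.map_mono hJ).trans (map_maximalIdeal_le (algebraMap A B))))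
  obtain ⟨hTloc, hTN, hTc, -⟩ := tensor_quotient_spec (B := B) J hJB
  -- the map `T → B₀/I₀`
  letI : Algebra A (B₀ ⧸ I₀) := θ₀.toAlgebra
  haveI : IsScalarTower A (A ⧸ J) (B₀ ⧸ I₀) := IsScalarTower.of_algebraMap_eq (fun a => rfl)
  let εₐ : B →ₐ[A] B₀ ⧸ I₀ := ⟨ε, hεalg⟩
  let Ψ : (A ⧸ J) ⊗[A] B →ₐ[A ⧸ J] B₀ ⧸ I₀ :=
    Algebra.TensorProduct.lift (Algebra.ofId (A ⧸ J) (B₀ ⧸ I₀)) εₐ (fun _ _ => Commute.all _ _)
  have hΨ : ∀ (x : A ⧸ J) (b : B), Ψ (x ⊗ₜ b) = algebraMap (A ⧸ J) (B₀ ⧸ I₀) x * ε b :=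
    fun x b => by simp [Ψ, εₐ, Algebra.ofId_apply]
  have hΨsurj : Surjective (Ψ : (A ⧸ J) ⊗[A] B →+* B₀ ⧸ I₀) := by
    intro y
    obtain ⟨b, rfl⟩ := hε y
    exact ⟨1 ⊗ₜ b, by show Ψ _ = _; rw [hΨ, map_one, one_mul]⟩
  have hΨalg : ∀ x : A ⧸ J, Ψ (algebraMap (A ⧸ J) ((A ⧸ J) ⊗[A] B) x) =
      Ideal.Quotient.mk I₀ (algebraMap (A ⧸ J) B₀ x) := by
    intro x
    rw [Ψ.commutes]
    rfl
  have hkerΨ : RingHom.ker (Ψ : (A ⧸ J) ⊗[A] B →+* B₀ ⧸ I₀) =
      (maximalIdeal (A ⧸ J)).map (algebraMap (A ⧸ J) ((A ⧸ J) ⊗[A] B)) := by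
    apply le_antisymm
    · intro z hz
      obtain ⟨b, rfl⟩ := includeRight_surjective (B := B) J z
      rw [RingHom.mem_ker] at hz
      have hz' : ε b = 0 := by
        have : Ψ ((1 : A ⧸ J) ⊗ₜ[A] b) = 0 := hz
        rwa [hΨ, map_one, one_mul] at this
      have hb : b ∈ (maximalIdeal A).map (algebraMap A B) := by
        rw [← hkerε]; exact hz'
      have hle : (maximalIdeal A).map (algebraMap A B) ≤
          ((maximalIdeal (A ⧸ J)).map (algebraMap (A ⧸ J) ((A ⧸ J) ⊗[A] B))).comap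
            (Algebra.TensorProduct.includeRight : B →ₐ[A] (A ⧸ J) ⊗[A] B).toRingHom := by
        rw [Ideal.map_le_iff_le_comap]
        intro a ha
        rw [Ideal.mem_comap, Ideal.mem_comap]
        have h8 : (Algebra.TensorProduct.includeRight : B →ₐ[A] (A ⧸ J) ⊗[A] B).toRingHom
            (algebraMap A B a) = algebraMap (A ⧸ J) ((A ⧸ J) ⊗[A] B) (Ideal.Quotient.mk J a) := by
          show (1 : A ⧸ J) ⊗ₜ[A] (algebraMap A B a) = (Ideal.Quotient.mk J a) ⊗ₜ[A] (1 : B)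
          rw [Algebra.algebraMap_eq_smul_one, ← TensorProduct.smul_tmul]
          congr 1
          rw [Algebra.smul_def, mul_one]
          rfl
        rw [h8]
        exact Ideal.mem_map_of_mem _ (hmk a ha)
      exact hle hb
    · rw [Ideal.map_le_iff_le_comap]
      intro x hx
      rw [Ideal.mem_comap, RingHom.mem_ker]
      show Ψ _ = 0
      rw [hΨalg]
      exact Ideal.Quotient.eq_zero_iff_mem.mpr (Ideal.mem_map_of_mem _ hx)
  have h𝔞 : (maximalIdeal (A ⧸ J)).map (algebraMap (A ⧸ J) ((A ⧸ J) ⊗[A] B)) ≤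
      maximalIdeal ((A ⧸ J) ⊗[A] B) := by
    rw [← hkerΨ]
    exact le_maximalIdeal (RingHom.ker_ne_top _)
  obtain ⟨v, -⟩ := Groth.Agent.Lib.Helper23.FlatLiftUnique.exists_algEquiv_of_fibre
    (A := A ⧸ J) (B := B₀) (B' := (A ⧸ J) ⊗[A] B) (B₀ := B₀ ⧸ I₀)
    (maximalIdeal (A ⧸ J)) (maximalIdeal (A ⧸ J)) h𝔞 hfs (Ideal.Quotient.mk I₀)
    (Ψ : (A ⧸ J) ⊗[A] B →+* B₀ ⧸ I₀) Ideal.Quotient.mk_surjective hΨsurj (by rw [Ideal.mk_ker])
    hkerΨ (fun x => (hΨalg x).symm)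
  exact ⟨v.symm⟩

end Exist

end Groth.Agent.Lib.Helper23.FlatLiftQuot
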