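import Mathlib
import Groth.Agent.Lib.Helper23.FlatFibreSmooth
import Groth.Agent.Lib.Helper23.AdicSmoothFlat
import Groth.Agent.Lib.Helper23.SmoothField

/-!
helper23: regular homomorphisms of Noetherian rings via adic formal smoothness of the local homomorphisms A_p -> B_q (EGA 0_IV 19.7.1 globalised). exists_ringEquiv_fibre, geomRegular_localization_of_adic (converse of FlatFibreSmooth.fibre_adic), geomRegular_localization_of_adic'.
-/

set_option autoImplicit false
universe u


namespace Groth.Agent.Lib.Helper23.RegularHomLocal


open EGA41 IsLocalRing TensorProduct Groth.Agent.Lib.Helper18.FibBridge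
open Groth.Agent.Lib.Helper23.FormalFibreCharP Groth.Agent.Lib.Helper23.FlatFibreSmooth

section M2

variable {B S : Type u} [CommRing B] [CommRing S] [Algebra B S] [IsNoetherianRing B]
  [IsNoetherianRing S]
  (r : Ideal B) [r.IsPrime] (𝔮 : Ideal (r.Fiber S)) [𝔮.IsPrime]
  [Algebra (Localization.AtPrime r) (Localization.AtPrime (ctr r 𝔮))]
  [IsScalarTower B (Localization.AtPrime r) (Localization.AtPrime (ctr r 𝔮))]

/-- the local ring of the fibre at `𝔮` is the closed fibre of `B_r → S_q`, compatibly with the
residue field. -/
theorem exists_ringEquiv_fibre :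
    ∃ f : Localization.AtPrime 𝔮 ≃+*
        (Localization.AtPrime (ctr r 𝔮) ⧸ (maximalIdeal (Localization.AtPrime r)).map
          (algebraMap (Localization.AtPrime r) (Localization.AtPrime (ctr r 𝔮)))),
      ∀ x : r.ResidueField, f (algebraMap r.ResidueField (Localization.AtPrime 𝔮) x) =
        algebraMap (Localization.AtPrime r ⧸ maximalIdeal (Localization.AtPrime r))
          (Localization.AtPrime (ctr r 𝔮) ⧸ (maximalIdeal (Localization.AtPrime r)).map
            (algebraMap (Localization.AtPrime r) (Localization.AtPrime (ctr r 𝔮)))) x := by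
  let e₁ := Ideal.Fiber.algEquivAux₂ (R := B) (S := S) r 𝔮
  let e₂ := Ideal.quotientEquivAlgOfEq B (map_map_eq r 𝔮)
  let e := e₁.trans e₂
  have htower : ∀ b : B, algebraMap (Localization.AtPrime r ⧸ maximalIdeal (Localization.AtPrime r))
      (Localization.AtPrime (ctr r 𝔮) ⧸ (maximalIdeal (Localization.AtPrime r)).map
        (algebraMap (Localization.AtPrime r) (Localization.AtPrime (ctr r 𝔮))))
      (algebraMap B r.ResidueField b) =
      algebraMap B (Localization.AtPrime (ctr r 𝔮) ⧸ (maximalIdeal (Localization.AtPrime r)).map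
        (algebraMap (Localization.AtPrime r) (Localization.AtPrime (ctr r 𝔮)))) b := by
    intro b
    show Ideal.Quotient.mk _ (algebraMap (Localization.AtPrime r) (Localization.AtPrime (ctr r 𝔮))
      (algebraMap B (Localization.AtPrime r) b)) =
      Ideal.Quotient.mk _ (algebraMap B (Localization.AtPrime (ctr r 𝔮)) b)
    rw [← IsScalarTower.algebraMap_apply]
  refine ⟨e.toRingEquiv, ?_⟩
  intro x
  have h1 := residueField_hom_ext r
    ((e.toRingEquiv : Localization.AtPrime 𝔮 →+* _).comp
      (algebraMap r.ResidueField (Localization.AtPrime 𝔮)))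
    (algebraMap (Localization.AtPrime r ⧸ maximalIdeal (Localization.AtPrime r))
      (Localization.AtPrime (ctr r 𝔮) ⧸ (maximalIdeal (Localization.AtPrime r)).map
        (algebraMap (Localization.AtPrime r) (Localization.AtPrime (ctr r 𝔮)))))
    (fun b => by
      refine Eq.trans ?_ (htower b).symm
      show e (algebraMap r.ResidueField (Localization.AtPrime 𝔮)
        (algebraMap B r.ResidueField b)) = _
      rw [← IsScalarTower.algebraMap_apply B r.ResidueField (Localization.AtPrime 𝔮)]
      exact e.commutes b)
  exact congrArg (fun f => f x) h1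

/-- converse of `fibre_adic`: the local ring of the fibre at `𝔮` is geometrically regular as soon
as the closed fibre of `B_r → S_q` is adically formally smooth. -/
theorem geomRegular_localization_of_adic
    (h : CAlgX.IsAdicFormallySmooth
      (Localization.AtPrime r ⧸ maximalIdeal (Localization.AtPrime r))
      (Localization.AtPrime (ctr r 𝔮) ⧸ (maximalIdeal (Localization.AtPrime r)).map
        (algebraMap (Localization.AtPrime r) (Localization.AtPrime (ctr r 𝔮))))
      ((maximalIdeal (Localization.AtPrime (ctr r 𝔮))).map (Ideal.Quotient.mk _))) :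
    CAlg.IsGeometricallyRegular r.ResidueField (Localization.AtPrime 𝔮) := by
  haveI : IsNoetherianRing (Localization.AtPrime 𝔮) :=
    IsLocalization.isNoetherianRing 𝔮.primeCompl _ inferInstance
  obtain ⟨f, hf⟩ := exists_ringEquiv_fibre r 𝔮
  have hne : (maximalIdeal (Localization.AtPrime r)).map
      (algebraMap (Localization.AtPrime r) (Localization.AtPrime (ctr r 𝔮))) ≠ ⊤ := fun htop =>
    (Ideal.IsPrime.ne_top (inferInstance : (maximalIdeal (Localization.AtPrime (ctr r 𝔮))).IsPrime))
      (top_le_iff.mp (htop ▸ map_le_maximalIdeal r 𝔮))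
  haveI : Nontrivial (Localization.AtPrime (ctr r 𝔮) ⧸ (maximalIdeal (Localization.AtPrime r)).map
      (algebraMap (Localization.AtPrime r) (Localization.AtPrime (ctr r 𝔮)))) :=
    Ideal.Quotient.nontrivial_iff.mpr hne
  haveI : IsLocalRing (Localization.AtPrime (ctr r 𝔮) ⧸ (maximalIdeal (Localization.AtPrime r)).map
      (algebraMap (Localization.AtPrime r) (Localization.AtPrime (ctr r 𝔮)))) :=
    IsLocalRing.of_surjective' (Ideal.Quotient.mk _) Ideal.Quotient.mk_surjective
  have hmax : (maximalIdeal (Localization.AtPrime (ctr r 𝔮))).map (Ideal.Quotient.mk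
        ((maximalIdeal (Localization.AtPrime r)).map
          (algebraMap (Localization.AtPrime r) (Localization.AtPrime (ctr r 𝔮))))) =
      maximalIdeal _ :=
    map_maximalIdeal_of_surjective _ Ideal.Quotient.mk_surjective
  have hI' : ((maximalIdeal (Localization.AtPrime (ctr r 𝔮))).map (Ideal.Quotient.mk
        ((maximalIdeal (Localization.AtPrime r)).map
          (algebraMap (Localization.AtPrime r) (Localization.AtPrime (ctr r 𝔮)))))) ≤
      (maximalIdeal (Localization.AtPrime 𝔮)).comap (f.symm : _ →+* Localization.AtPrime 𝔮) := by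
    rw [hmax]
    exact maximalIdeal_le_comap_ringEquiv
      (E := Localization.AtPrime (ctr r 𝔮) ⧸ (maximalIdeal (Localization.AtPrime r)).map
        (algebraMap (Localization.AtPrime r) (Localization.AtPrime (ctr r 𝔮))))
      (E' := Localization.AtPrime 𝔮) f.symm
  letI algQ : Algebra r.ResidueField
      (Localization.AtPrime (ctr r 𝔮) ⧸ (maximalIdeal (Localization.AtPrime r)).map
        (algebraMap (Localization.AtPrime r) (Localization.AtPrime (ctr r 𝔮)))) :=
    (inferInstance : Algebra (Localization.AtPrime r ⧸ maximalIdeal (Localization.AtPrime r))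
      (Localization.AtPrime (ctr r 𝔮) ⧸ (maximalIdeal (Localization.AtPrime r)).map
        (algebraMap (Localization.AtPrime r) (Localization.AtPrime (ctr r 𝔮)))))
  have he' : ∀ x : r.ResidueField, f.symm (algebraMap r.ResidueField
      (Localization.AtPrime (ctr r 𝔮) ⧸ (maximalIdeal (Localization.AtPrime r)).map
        (algebraMap (Localization.AtPrime r) (Localization.AtPrime (ctr r 𝔮)))) x) =
      algebraMap r.ResidueField (Localization.AtPrime 𝔮) x := by
    intro x
    have h2 : f.symm (f (algebraMap r.ResidueField (Localization.AtPrime 𝔮) x)) =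
        algebraMap r.ResidueField (Localization.AtPrime 𝔮) x := f.symm_apply_apply _
    rw [hf x] at h2
    exact h2
  have hadic : CAlgX.IsAdicFormallySmooth r.ResidueField (Localization.AtPrime 𝔮)
      (maximalIdeal (Localization.AtPrime 𝔮)) :=
    adic_of_ringEquiv (R := r.ResidueField) f.symm he' _ _ hI' h
  exact (Groth.Agent.Lib.Helper23.GeomRegular.geomRegular_iff_adic).mpr hadic

end M2



open EGA41 IsLocalRing TensorProduct Groth.Agent.Lib.Helper18.FibBridge
open Groth.Agent.Lib.Helper23.FlatFibreSmooth

section Key

variable {A B : Type u} [CommRing A] [CommRing B] [Algebra A B] [IsNoetherianRing A]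
  [IsNoetherianRing B]

theorem geomRegular_localization_of_adic' (p p' : Ideal A) [p.IsPrime] [p'.IsPrime] (hp : p' = p)
    (𝔮 : Ideal (p.Fiber B)) [𝔮.IsPrime]
    [Algebra (Localization.AtPrime p') (Localization.AtPrime (ctr p 𝔮))]
    [IsScalarTower A (Localization.AtPrime p') (Localization.AtPrime (ctr p 𝔮))]
    (h : CAlgX.IsAdicFormallySmooth (Localization.AtPrime p') (Localization.AtPrime (ctr p 𝔮))
      (maximalIdeal (Localization.AtPrime (ctr p 𝔮)))) :
    CAlg.IsGeometricallyRegular p.ResidueField (Localization.AtPrime 𝔮) := by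
  subst hp
  exact geomRegular_localization_of_adic p' 𝔮
    (Groth.Agent.S7134.adic_quotient (maximalIdeal (Localization.AtPrime p'))
      (maximalIdeal (Localization.AtPrime (ctr p' 𝔮))) h)

end Key

end Groth.Agent.Lib.Helper23.RegularHomLocal
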