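import Mathlib
import Groth.Prelude.Def_CAlgX
import Groth.Prelude.Def_Found
import Groth.Agent.S19864

/-!
Directed colimits of formally étale algebras (formallyUnramified_directLimit, exists_lift_directLimit); adic formal smoothness over a formally unramified intermediate algebra (adic_of_formallyUnramified); if B/A is formally unramified and A → C is regular then B → C is regular (isRegularHom_of_formallyUnramified).
-/

set_option autoImplicit false
universe u


namespace Groth.Agent.Lib.Helper23.UnramRegular


open Function

section Colim

variable {R : Type u} [CommRing R] {ι : Type u} [Preorder ι] [IsDirectedOrder ι] [Nonempty ι]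
  (G : ι → Type u) [∀ i, CommRing (G i)] [∀ i, Algebra R (G i)]
  (f : ∀ i j, i ≤ j → G i →ₐ[R] G j) [DirectedSystem G fun i j h => f i j h]

/-- a directed colimit of formally unramified algebras is formally unramified. -/
theorem formallyUnramified_directLimit (h : ∀ i, Algebra.FormallyUnramified R (G i)) :
    Algebra.FormallyUnramified R (DirectLimit G f) := by
  rw [Algebra.FormallyUnramified.iff_comp_injective]
  intro B _ _ I hI g₁ g₂ hg
  apply DirectLimit.Algebra.hom_ext
  intro i
  haveI := h i
  refine Algebra.FormallyUnramified.ext I ⟨2, hI⟩ (fun x => ?_)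
  exact AlgHom.congr_fun hg (DirectLimit.Algebra.of G f i x)

/-- a directed colimit of formally étale algebras has the lifting property. -/
theorem exists_lift_directLimit (h : ∀ i, Algebra.FormallyEtale R (G i)) {T : Type u} [CommRing T]
    [Algebra R T] (J : Ideal T) (hJ : J ^ 2 = ⊥) (ψ : DirectLimit G f →ₐ[R] T ⧸ J) :
    ∃ χ : DirectLimit G f →ₐ[R] T, (Ideal.Quotient.mkₐ R J).comp χ = ψ := by
  have hnil : IsNilpotent J := ⟨2, hJ⟩
  let χi : ∀ i, G i →ₐ[R] T := fun i =>
    Algebra.FormallySmooth.lift J hnil (ψ.comp (DirectLimit.Algebra.of G f i))
  have hχi : ∀ i x, Ideal.Quotient.mk J (χi i x) = ψ (DirectLimit.Algebra.of G f i x) := fun i x =>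
    Algebra.FormallySmooth.mk_lift J hnil _ x
  have hcompat : ∀ i j (hij : i ≤ j) (x : G i), χi j (f i j hij x) = χi i x := by
    intro i j hij x
    have : (χi j).comp (f i j hij) = χi i := by
      refine Algebra.FormallyUnramified.ext J hnil (fun y => ?_)
      rw [AlgHom.comp_apply, hχi, hχi, DirectLimit.Algebra.of_f]
    exact AlgHom.congr_fun this x
  refine ⟨DirectLimit.Algebra.lift G f T χi hcompat, ?_⟩
  apply DirectLimit.Algebra.hom_ext
  intro i
  ext x
  simp only [AlgHom.comp_apply, DirectLimit.Algebra.lift_of]
  exact hχi i x

end Colim



open Function IsLocalRing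

section U

variable {A B C : Type u} [CommRing A] [CommRing B] [CommRing C]
  [Algebra A B] [Algebra B C] [Algebra A C] [IsScalarTower A B C]

/-- if `B` is formally unramified over `A` and `C` is adically formally smooth over `A`, then `C`
is adically formally smooth over `B`. -/
theorem adic_of_formallyUnramified [Algebra.FormallyUnramified A B] (𝔫 : Ideal C)
    (h : CAlgX.IsAdicFormallySmooth A C 𝔫) : CAlgX.IsAdicFormallySmooth B C 𝔫 := by
  intro T _ _ J hJ ψ hψ
  letI algAT : Algebra A T := ((algebraMap B T).comp (algebraMap A B)).toAlgebra
  haveI : IsScalarTower A B T := IsScalarTower.of_algebraMap_eq (fun _ => rfl)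
  obtain ⟨χ, hχ⟩ := h T J hJ (ψ.restrictScalars A) hψ
  have hχ' : ∀ c, Ideal.Quotient.mk J (χ c) = ψ c := fun c => AlgHom.congr_fun hχ c
  have key : χ.comp (IsScalarTower.toAlgHom A B C) = IsScalarTower.toAlgHom A B T := by
    refine Algebra.FormallyUnramified.ext J ⟨2, hJ⟩ (fun b => ?_)
    rw [AlgHom.comp_apply, hχ']
    show ψ (algebraMap B C b) = Ideal.Quotient.mk J (algebraMap B T b)
    rw [ψ.commutes]
    rfl
  refine ⟨{ (χ : C →+* T) with commutes' := fun b => AlgHom.congr_fun key b }, ?_⟩
  ext c
  exact hχ' c

end U

section Reg

variable (A B C : Type u) [CommRing A] [CommRing B] [CommRing C]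
  [Algebra A B] [Algebra B C] [Algebra A C] [IsScalarTower A B C]
  [IsNoetherianRing A] [IsNoetherianRing B] [IsNoetherianRing C]

set_option maxHeartbeats 1600000 in
/-- if `B` is formally unramified over `A` and `A → C` is regular then `B → C` is regular. -/
theorem isRegularHom_of_formallyUnramified [Algebra.FormallyUnramified A B]
    (h : CAlg.IsRegularHom A C) : CAlg.IsRegularHom B C := by
  rw [Groth.Agent.S19864.result B C]
  intro Q hQ
  have h1 := (Groth.Agent.S19864.result A C).mp h Q
  set q : Ideal B := Q.comap (algebraMap B C) with hq
  set p : Ideal A := Q.comap (algebraMap A C) with hp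
  have hpq : p = q.comap (algebraMap A B) := by
    rw [hp, hq, Ideal.comap_comap, ← IsScalarTower.algebraMap_eq]
  letI algBC : Algebra (Localization.AtPrime q) (Localization.AtPrime Q) :=
    (Localization.localRingHom q Q (algebraMap B C) rfl).toAlgebra
  letI algAC : Algebra (Localization.AtPrime p) (Localization.AtPrime Q) :=
    (Localization.localRingHom p Q (algebraMap A C) rfl).toAlgebra
  letI algAB : Algebra (Localization.AtPrime p) (Localization.AtPrime q) :=
    (Localization.localRingHom p q (algebraMap A B) hpq).toAlgebra
  haveI : IsScalarTower (Localization.AtPrime p) (Localization.AtPrime q)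
      (Localization.AtPrime Q) := by
    refine IsScalarTower.of_algebraMap_eq' ?_
    refine IsLocalization.ringHom_ext p.primeCompl ?_
    ext a
    show Localization.localRingHom p Q (algebraMap A C) rfl (algebraMap A _ a) =
      Localization.localRingHom q Q (algebraMap B C) rfl
        (Localization.localRingHom p q (algebraMap A B) hpq (algebraMap A _ a))
    rw [Localization.localRingHom_to_map, Localization.localRingHom_to_map,
      Localization.localRingHom_to_map, ← IsScalarTower.algebraMap_apply A B C]
  haveI : IsScalarTower A (Localization.AtPrime p) (Localization.AtPrime q) := by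
    refine IsScalarTower.of_algebraMap_eq (fun a => ?_)
    show _ = Localization.localRingHom p q (algebraMap A B) hpq (algebraMap A _ a)
    rw [Localization.localRingHom_to_map]
    exact IsScalarTower.algebraMap_apply A B (Localization.AtPrime q) a
  haveI : Algebra.FormallyEtale B (Localization.AtPrime q) :=
    Algebra.FormallyEtale.of_isLocalization (Rₘ := Localization.AtPrime q) q.primeCompl
  haveI : Algebra.FormallyUnramified B (Localization.AtPrime q) := inferInstance
  haveI : Algebra.FormallyUnramified A (Localization.AtPrime q) :=
    Algebra.FormallyUnramified.comp A B (Localization.AtPrime q)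
  haveI : Algebra.FormallyUnramified (Localization.AtPrime p) (Localization.AtPrime q) :=
    Algebra.FormallyUnramified.of_restrictScalars A _ _
  exact adic_of_formallyUnramified (A := Localization.AtPrime p) (B := Localization.AtPrime q)
    (C := Localization.AtPrime Q) _ h1

end Reg

end Groth.Agent.Lib.Helper23.UnramRegular
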