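import Mathlib
import Groth.Agent.Lib.Helper23.UnramRegular
import Groth.Agent.S9314
import Groth.Agent.S2461
import Groth.Agent.S4537

/-!
G-rings ascend along formally étale maps with Noetherian target (isGRing_of_formallyEtale; via André's theorem S9314 and UnramRegular.isRegularHom_of_formallyUnramified); adic_of_formallySmooth, formallySmooth_of_exists_lift.
-/

set_option autoImplicit false
universe u


namespace Groth.Agent.Lib.Helper23.GRingEtale


open IsLocalRing Function

/-- a formally smooth algebra is adically formally smooth for every ideal. -/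
theorem adic_of_formallySmooth {R S : Type u} [CommRing R] [CommRing S] [Algebra R S]
    [Algebra.FormallySmooth R S] (𝔫 : Ideal S) : CAlgX.IsAdicFormallySmooth R S 𝔫 := by
  intro T _ _ J hJ ψ _
  exact ⟨Algebra.FormallySmooth.lift J ⟨2, hJ⟩ ψ, Algebra.FormallySmooth.comp_lift J ⟨2, hJ⟩ ψ⟩

/-- formal smoothness from the lifting property in one universe. -/
theorem formallySmooth_of_exists_lift {R S : Type u} [CommRing R] [CommRing S] [Algebra R S]
    (h : ∀ (T : Type u) [CommRing T] [Algebra R T] (J : Ideal T), J ^ 2 = ⊥ →
      ∀ ψ : S →ₐ[R] T ⧸ J, ∃ χ : S →ₐ[R] T, (Ideal.Quotient.mkₐ R J).comp χ = ψ) :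
    Algebra.FormallySmooth R S := by
  rw [Algebra.FormallySmooth.iff_comp_surjective]
  intro T _ _ J hJ ψ
  exact h T J hJ ψ

section Main

variable (A B : Type u) [CommRing A] [CommRing B] [Algebra A B] [IsNoetherianRing B]

set_option maxHeartbeats 1600000 in
/-- **G-rings ascend along formally étale maps to Noetherian rings** (in particular along
ind-étale maps with Noetherian target). -/
theorem isGRing_of_formallyEtale [Algebra.FormallyEtale A B] (hA : CAlg.IsGRing A) :
    CAlg.IsGRing B := by
  haveI := hA.1
  refine ⟨inferInstance, fun q hq => ?_⟩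
  set p : Ideal A := q.comap (algebraMap A B) with hp
  haveI : IsNoetherianRing (Localization.AtPrime p) :=
    IsLocalization.isNoetherianRing p.primeCompl _ inferInstance
  haveI : IsNoetherianRing (Localization.AtPrime q) :=
    IsLocalization.isNoetherianRing q.primeCompl _ inferInstance
  letI algAB : Algebra (Localization.AtPrime p) (Localization.AtPrime q) :=
    (Localization.localRingHom p q (algebraMap A B) rfl).toAlgebra
  haveI : IsLocalHom (algebraMap (Localization.AtPrime p) (Localization.AtPrime q)) :=
    Localization.isLocalHom_localRingHom p q (algebraMap A B) rfl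
  haveI : IsScalarTower A (Localization.AtPrime p) (Localization.AtPrime q) := by
    refine IsScalarTower.of_algebraMap_eq (fun a => ?_)
    show _ = Localization.localRingHom p q (algebraMap A B) rfl (algebraMap A _ a)
    rw [Localization.localRingHom_to_map]
    exact IsScalarTower.algebraMap_apply A B (Localization.AtPrime q) a
  haveI : Algebra.FormallyEtale B (Localization.AtPrime q) :=
    Algebra.FormallyEtale.of_isLocalization (Rₘ := Localization.AtPrime q) q.primeCompl
  haveI : Algebra.FormallyEtale A (Localization.AtPrime q) :=
    Algebra.FormallyEtale.comp A B (Localization.AtPrime q)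
  haveI : Algebra.FormallyUnramified (Localization.AtPrime p) (Localization.AtPrime q) :=
    Algebra.FormallyUnramified.of_restrictScalars A _ _
  haveI : Algebra.FormallySmooth (Localization.AtPrime p) (Localization.AtPrime q) :=
    Algebra.FormallySmooth.localization_base (R := A) p.primeCompl
  have hfs : CAlgX.IsAdicFormallySmooth (Localization.AtPrime p) (Localization.AtPrime q)
      (maximalIdeal (Localization.AtPrime q)) := adic_of_formallySmooth _
  -- the completion
  haveI : IsNoetherianRing (EGA4.Cpl (Localization.AtPrime q)) :=
    Groth.Agent.Lib.Helper21.isNoetherianRing_adicCompletion_of_fg _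
      (maximalIdeal (Localization.AtPrime q)).fg_of_isNoetherianRing
  haveI : IsScalarTower (Localization.AtPrime p) (Localization.AtPrime q)
      (EGA4.Cpl (Localization.AtPrime q)) := IsScalarTower.of_algebraMap_eq fun a => rfl
  haveI : IsLocalHom (algebraMap (Localization.AtPrime p) (EGA4.Cpl (Localization.AtPrime q))) := by
    rw [IsScalarTower.algebraMap_eq (Localization.AtPrime p) (Localization.AtPrime q)
      (EGA4.Cpl (Localization.AtPrime q))]
    exact RingHom.isLocalHom_comp _ _
  have h0 : EGA41.IsFormallySmoothAdic (Localization.AtPrime p) ⊥ (Localization.AtPrime q)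
      (maximalIdeal (Localization.AtPrime q)) := (Groth.Agent.S4537.result _).mp hfs
  have h1 := (Groth.Agent.S2461.result (⊥ : Ideal (Localization.AtPrime p))
    (maximalIdeal (Localization.AtPrime q))).mp h0
  rw [← AdicCompletion.maximalIdeal_eq_map] at h1
  have hfsC : CAlgX.IsAdicFormallySmooth (Localization.AtPrime p)
      (EGA4.Cpl (Localization.AtPrime q)) (maximalIdeal (EGA4.Cpl (Localization.AtPrime q))) :=
    (Groth.Agent.S4537.result _).mpr h1
  have h2 : CAlg.IsRegularHom (Localization.AtPrime p) (EGA4.Cpl (Localization.AtPrime q)) :=
    Groth.Agent.S9314.result (hA.2 p) hfsC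
  exact Groth.Agent.Lib.Helper23.UnramRegular.isRegularHom_of_formallyUnramified
    (Localization.AtPrime p) (Localization.AtPrime q) (EGA4.Cpl (Localization.AtPrime q)) h2

end Main

end Groth.Agent.Lib.Helper23.GRingEtale
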