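import Mathlib
import Groth.Prelude.Def_EGA4b
import Groth.Agent.S2047
import Groth.Agent.Lib.Helper18.Exc3
import Groth.Agent.Lib.Helper9.ClosedPt2

/-!
helper23: G-schemes and closed points. isGRing_of_local (Noetherian local ring with regular completion map is a G-ring; from S2047.isRegularHom_cpl_atPrime), stalk_iff (regularity of the completion map of a stalk vs. of the algebraic localization of the sections over an affine open), pt_of_specializes (the property 'O_{X,x} -> completion is regular' is stable under generization on a locally Noetherian scheme).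
-/

set_option autoImplicit false
universe u
open CategoryTheory AlgebraicGeometry

namespace Groth.Agent.Lib.Helper23.GScheme

open IsLocalRing Groth.Agent.Lib.Helper18.Exc Groth.Agent.Lib.Helper9.ClosedPt

variable {X : Scheme.{u}}

/-- local ring with regular completion map is a G-ring. -/
theorem isGRing_of_local (A : Type u) [CommRing A] [IsLocalRing A] [IsNoetherianRing A]
    (hA : CAlg.IsRegularHom A (EGA4.Cpl A)) : CAlg.IsGRing A :=
  ⟨inferInstance, fun P _ => Groth.Agent.S2047.isRegularHom_cpl_atPrime A hA P⟩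

/-- transfer of the regular-completion property between the stalk and the algebraic localization. -/
theorem stalk_iff [IsLocallyNoetherian X] {U : X.Opens} (hU : IsAffineOpen U) (y : U) :
    CAlg.IsRegularHom (X.presheaf.stalk y.1) (EGA4.Cpl (X.presheaf.stalk y.1)) ↔
      CAlg.IsRegularHom (Localization.AtPrime (hU.primeIdealOf y).asIdeal)
        (EGA4.Cpl (Localization.AtPrime (hU.primeIdealOf y).asIdeal)) := by
  haveI : IsNoetherianRing Γ(X, U) := IsLocallyNoetherian.component_noetherian ⟨U, hU⟩
  haveI := hU.isLocalization_stalk y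
  haveI : IsNoetherianRing (Localization.AtPrime (hU.primeIdealOf y).asIdeal) :=
    IsLocalization.isNoetherianRing (hU.primeIdealOf y).asIdeal.primeCompl _ inferInstance
  haveI : IsNoetherianRing (X.presheaf.stalk y.1) :=
    IsLocalization.isNoetherianRing (hU.primeIdealOf y).asIdeal.primeCompl _
      (inferInstance : IsNoetherianRing Γ(X, U))
  let e : Localization.AtPrime (hU.primeIdealOf y).asIdeal ≃+* X.presheaf.stalk y.1 :=
    (IsLocalization.algEquiv (hU.primeIdealOf y).asIdeal.primeCompl _ _).toRingEquiv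
  exact ⟨fun h => isRegularHom_cpl_of_ringEquiv e.symm h, fun h => isRegularHom_cpl_of_ringEquiv e h⟩

/-- the regular-completion property generizes. -/
theorem pt_of_specializes [IsLocallyNoetherian X] {y z : X} (h : y ⤳ z)
    (hz : CAlg.IsRegularHom (X.presheaf.stalk z) (EGA4.Cpl (X.presheaf.stalk z))) :
    CAlg.IsRegularHom (X.presheaf.stalk y) (EGA4.Cpl (X.presheaf.stalk y)) := by
  obtain ⟨_, ⟨V, hV : IsAffineOpen V, rfl⟩, hzV, -⟩ :=
    X.isBasis_affineOpens.exists_subset_of_mem_open (Set.mem_univ z) isOpen_univ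
  have hyV : y ∈ V := h.mem_open V.isOpen hzV
  haveI : IsNoetherianRing Γ(X, V) := IsLocallyNoetherian.component_noetherian ⟨V, hV⟩
  have h1 := (stalk_iff hV ⟨z, hzV⟩).mp hz
  haveI : IsNoetherianRing (Localization.AtPrime (hV.primeIdealOf ⟨z, hzV⟩).asIdeal) :=
    IsLocalization.isNoetherianRing (hV.primeIdealOf ⟨z, hzV⟩).asIdeal.primeCompl _ inferInstance
  have hG := isGRing_of_local _ h1
  have hle : (hV.primeIdealOf ⟨y, hyV⟩).asIdeal ≤ (hV.primeIdealOf ⟨z, hzV⟩).asIdeal :=
    (specializes_iff_primeIdealOf_le hV ⟨y, hyV⟩ ⟨z, hzV⟩).mp h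
  refine (stalk_iff hV ⟨y, hyV⟩).mpr ?_
  refine isRegularHom_cpl_atPrime_of_isLocalization Γ(X, V)
    (hV.primeIdealOf ⟨z, hzV⟩).asIdeal.primeCompl
    (Localization.AtPrime (hV.primeIdealOf ⟨z, hzV⟩).asIdeal) hG
    (hV.primeIdealOf ⟨y, hyV⟩).asIdeal ?_
  rw [Set.disjoint_left]
  intro a ha ha'
  exact ha (hle ha')

end Groth.Agent.Lib.Helper23.GScheme
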