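import Mathlib
import Groth.Agent.Lib.Helper23.GeomRegular2
import Groth.Agent.Lib.Helper23.RegularHom

/-!
Geometric regularity over a directed union of subfields (Stacks 07E? / S9409): isField_quot' and finite_LI' (dual derivations valued in an extension field), adic_of_LI, exists_index_finite, adic_of_union, t9409main.
-/

set_option autoImplicit false
universe u
open IsLocalRing TensorProduct Polynomial KaehlerDifferential

namespace Groth.Agent.Lib.Helper23.GeomRegularUnion


open Groth.Agent.Lib.Helper23 Groth.Agent.Lib.Helper23.KeyLemma Groth.Agent.Lib.Helper23.KeyLemma2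
  Groth.Agent.Lib.Helper23.KeyLemma3

noncomputable section

section FieldExt

variable {k : Type u} [Field k] (p : ℕ) [hp : Fact p.Prime] [CharP k p] {r : ℕ} (μ : Fin r → k)

/-- `k[T_i]/(T_i^p - μ_i)` is a field when the `μ_i` have dual derivations with values in an
extension field. -/
theorem isField_quot' (L : Type u) [Field L] [Algebra k L]
    (hD : ∀ j, ∃ D : Derivation ℤ k L, D (μ j) = 1 ∧ ∀ i, i ≠ j → D (μ i) = 0) :
    IsField (SepVar.Quot k (fun i => Gp p (μ i))) := by
  obtain ⟨hloc, h1, h2⟩ := klProp p r k μ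
  letI : Algebra (ResidueField k) L := (IsLocalRing.ResidueField.lift (algebraMap k L)).toAlgebra
  haveI : IsScalarTower k (ResidueField k) L := IsScalarTower.of_algebraMap_eq (fun x => by
    show algebraMap k L x = IsLocalRing.ResidueField.lift (algebraMap k L) (residue k x)
    rw [IsLocalRing.ResidueField.lift_residue_apply])
  have hLI : LinearIndependent (ResidueField k) (fun i => vv (μ i)) :=
    linearIndependent_of_dual_derivation' μ L hD
  have h3 := h2.mpr hLI
  rw [maximalIdeal_eq_bot, Submodule.spanFinrank_bot] at h3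
  rw [isField_iff_maximalIdeal_eq]
  exact (Submodule.spanFinrank_eq_zero_iff_eq_bot
    (maximalIdeal (SepVar.Quot k (fun i => Gp p (μ i)))).fg_of_isNoetherianRing).mp h3

end FieldExt

section Backward

variable {k A : Type u} [Field k] (p : ℕ) [CommRing A] [IsLocalRing A]
  [IsNoetherianRing A] [Algebra k A]

variable [hp : Fact p.Prime] [CharP k p]

theorem finite_LI'
    (hreg : ∀ (k' : Type u) [Field k'] [Algebra k k'], Module.Finite k k' →
      (∀ x : k', x ^ p ∈ (algebraMap k k').range) → IsRegularRing (k' ⊗[k] A))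
    {r : ℕ} (μ : Fin r → k) (L : Type u) [Field L] [Algebra k L]
    (hD : ∀ j, ∃ D : Derivation ℤ k L, D (μ j) = 1 ∧ ∀ i, i ≠ j → D (μ i) = 0) :
    LinearIndependent (ResidueField A) (fun i => vv (algebraMap k A (μ i))) := by
  haveI := regular_A p hreg
  haveI : CharP A p := charP_of_injective_algebraMap (algebraMap k A).injective p
  have hF := isField_quot' p μ L hD
  have hfin := finite_quot_Gp p μ
  have h := @hreg (SepVar.Quot k (fun i => Gp p (μ i))) hF.toField
    (inferInstanceAs (Algebra k (SepVar.Quot k (fun i => Gp p (μ i))))) hfin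
    (fun x => pow_mem_range_quot p μ x)
  let e1 := (Algebra.TensorProduct.comm k (SepVar.Quot k (fun i => Gp p (μ i))) A).toRingEquiv
  let e2 := (tensorEquiv (A := A) (fun i => Gp p (μ i))).toRingEquiv
  have hG : Gmap (A := A) (fun i => Gp p (μ i)) = fun i => Gp p (algebraMap k A (μ i)) :=
    funext (fun i => map_Gp p _ _)
  have h' : IsRegularRing (SepVar.Quot A (Gmap (A := A) (fun i => Gp p (μ i)))) :=
    @IsRegularRing.of_ringEquiv _ _ _ _ (e1.trans e2) h
  rw [hG] at h'
  exact (final_Gp p _).mp h'

include hp in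
/-- adic formal smoothness from regularity and independence of the differentials of finite
`p`-independent families. -/
theorem adic_of_LI (hregA : IsRegularLocalRing A)
    (hLI : ∀ {r : ℕ} (μ : Fin r → k),
      (∀ j, ∃ D : Derivation ℤ k k, D (μ j) = 1 ∧ ∀ i, i ≠ j → D (μ i) = 0) →
      LinearIndependent (ResidueField A) (fun i => vv (algebraMap k A (μ i)))) :
    CAlgX.IsAdicFormallySmooth k A (maximalIdeal A) := by
  classical
  rw [Groth.Agent.S4571.result]
  refine ⟨SymGrRegular.symGrBijective_of_isRegularLocalRing A, ?_⟩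
  letI : Algebra (ULift.{u} (ZMod p)) k := primeAlgebra p k
  have hΛ : Subsingleton (Ω[ULift.{u} (ZMod p)⁄ℤ]) := subsingleton_kaehler_primeField p
  obtain ⟨S, hS⟩ := PBasisField.exists_isPBasis' p (ULift.{u} (ZMod p)) (K := k)
  obtain ⟨b, hb⟩ := PBasisDer.exists_basis_kaehler p (Subtype.val : S → k) hS
  let e : Ω[k⁄ℤ] ≃ₗ[k] Ω[k⁄ULift.{u} (ZMod p)] :=
    LinearEquiv.ofBijective (KaehlerDifferential.map ℤ (ULift.{u} (ZMod p)) k k)
      (Groth.Agent.S4571.map_bijective (ULift.{u} (ZMod p)) k hΛ)
  let b' : Module.Basis S k (Ω[k⁄ℤ]) := b.map e.symm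
  have hb' : ∀ α : S, b' α = KaehlerDifferential.D ℤ k α.1 := by
    intro α
    show e.symm (b α) = _
    rw [LinearEquiv.symm_apply_eq, hb]
    show _ = KaehlerDifferential.map ℤ (ULift.{u} (ZMod p)) k k (KaehlerDifferential.D ℤ k α.1)
    rw [KaehlerDifferential.map_D]
    rfl
  let B₁ := Algebra.TensorProduct.basis A b'
  let B₂ := Algebra.TensorProduct.basis (ResidueField A) B₁
  have hinj : Function.Injective ((mapBaseChange ℤ k A).baseChange (ResidueField A)) := by
    apply LinearMap.injective_of_linearIndependent (v := B₂) B₂.span_eq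
    have hcomp : ((mapBaseChange ℤ k A).baseChange (ResidueField A)) ∘ B₂ =
        fun α : S => vv (algebraMap k A α.1) := by
      funext α
      simp only [Function.comp_apply, B₂, B₁, Algebra.TensorProduct.basis_apply, hb',
        LinearMap.baseChange_tmul, mapBaseChange_tmul, one_smul, KaehlerDifferential.map_D, vv]
    rw [hcomp, linearIndependent_iff_finset_linearIndependent]
    intro s
    rw [← linearIndependent_equiv s.equivFin.symm]
    apply hLI (fun i => (s.equivFin.symm i).1.1)
    intro j
    obtain ⟨D, hD⟩ := PBasisDer.exists_derivationA_of_pBasis p (Subtype.val : S → k) hS (L := k)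
      (fun β => if β = (s.equivFin.symm j).1 then 1 else 0)
    refine ⟨D.restrictScalars ℤ, ?_, ?_⟩
    · show D _ = 1
      rw [hD (s.equivFin.symm j).1, if_pos rfl]
    · intro i hi
      show D _ = 0
      rw [hD (s.equivFin.symm i).1, if_neg]
      intro h
      exact hi (s.equivFin.symm.injective (Subtype.ext h))
  intro x y hxy
  apply hinj
  rw [LinearMap.baseChange_eq_ltensor]
  exact hxy

end Backward

end



open Groth.Agent.Lib.Helper23 Groth.Agent.Lib.Helper23.KeyLemma Groth.Agent.Lib.Helper23.KeyLemma2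
  Groth.Agent.Lib.Helper23.KeyLemma3 Groth.Agent.Lib.Helper23.GeomRegular

section Union

variable (k : Type u) [Field k] {ι : Type u}
    (K : ι → Type u) [∀ i, Field (K i)] [∀ i, Algebra (K i) k]
    (hdir : ∀ i j, ∃ l, Set.range (algebraMap (K i) k) ⊆ Set.range (algebraMap (K l) k) ∧
      Set.range (algebraMap (K j) k) ⊆ Set.range (algebraMap (K l) k))
    (hcov : ∀ x : k, ∃ i, x ∈ Set.range (algebraMap (K i) k))

include hdir hcov in
theorem exists_index_finite {r : ℕ} (μ : Fin r → k) :
    ∃ i, ∀ j, μ j ∈ Set.range (algebraMap (K i) k) := by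
  induction r with
  | zero =>
    obtain ⟨i, -⟩ := hcov 0
    exact ⟨i, fun j => j.elim0⟩
  | succ r ih =>
    obtain ⟨i₁, h₁⟩ := ih (fun j => μ j.succ)
    obtain ⟨i₂, h₂⟩ := hcov (μ 0)
    obtain ⟨l, hl₁, hl₂⟩ := hdir i₁ i₂
    refine ⟨l, fun j => ?_⟩
    refine Fin.cases ?_ (fun j => ?_) j
    · exact hl₂ h₂
    · exact hl₁ (h₁ j)

variable (R : Type u) [CommRing R] [IsLocalRing R] [IsNoetherianRing R] [Algebra k R]
  [∀ i, Algebra (K i) R] [∀ i, IsScalarTower (K i) k R]

include hdir hcov in
theorem adic_of_union (h : ∀ i, CAlg.IsGeometricallyRegular (K i) R) :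
    CAlgX.IsAdicFormallySmooth k R (maximalIdeal R) := by
  obtain ⟨i₀, -⟩ := hcov 0
  have hregR : IsRegularLocalRing R := by
    haveI := Groth.Agent.Lib.Helper23.RegularHom.isRegularRing_of_geomRegular _ _ (h i₀)
    exact IsRegularLocalRing.of_isRegularRing_of_isLocalRing R
  obtain ⟨q, hq⟩ := ExpChar.exists k
  rcases hq with _ | ⟨hprime⟩
  · exact adic_of_regular_zero hregR
  · haveI : Fact q.Prime := ⟨hprime⟩
    apply adic_of_LI q hregR
    intro r μ hD
    obtain ⟨i, hi⟩ := exists_index_finite k K hdir hcov μ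
    choose ν hν using hi
    haveI : CharP (K i) q := (algebraMap (K i) k).charP (algebraMap (K i) k).injective q
    have hreg : ∀ (k' : Type u) [Field k'] [Algebra (K i) k'], Module.Finite (K i) k' →
        (∀ x : k', x ^ q ∈ (algebraMap (K i) k').range) → IsRegularRing (k' ⊗[K i] R) :=
      fun k' _ _ hfin _ => h i k' hfin
    have hLI := finite_LI' q hreg ν k (fun j => by
      obtain ⟨D, hD1, hD0⟩ := hD j
      refine ⟨D.compAlgebraMap (K i), ?_, ?_⟩
      · show D (algebraMap (K i) k (ν j)) = 1
        rw [hν, hD1]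
      · intro l hl
        show D (algebraMap (K i) k (ν l)) = 0
        rw [hν, hD0 l hl])
    have heq : (fun j => vv (algebraMap (K i) R (ν j))) =
        fun j => vv (algebraMap k R (μ j)) := by
      funext j
      rw [IsScalarTower.algebraMap_apply (K i) k R, hν]
    rw [heq] at hLI
    exact hLI

end Union

section Main

theorem t9409main (k : Type u) [Field k] {ι : Type u}
    (K : ι → Type u) [∀ i, Field (K i)] [∀ i, Algebra (K i) k]
    (hdir : ∀ i j, ∃ l, Set.range (algebraMap (K i) k) ⊆ Set.range (algebraMap (K l) k) ∧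
      Set.range (algebraMap (K j) k) ⊆ Set.range (algebraMap (K l) k))
    (hcov : ∀ x : k, ∃ i, x ∈ Set.range (algebraMap (K i) k))
    (A : Type u) [CommRing A] [Algebra k A] [IsNoetherianRing A] [∀ i, Algebra (K i) A]
    [∀ i, IsScalarTower (K i) k A] (h : ∀ i, CAlg.IsGeometricallyRegular (K i) A) :
    CAlg.IsGeometricallyRegular k A := by
  apply SmoothField.geomRegular_of_atPrime
  intro p _
  haveI : IsNoetherianRing (Localization.AtPrime p) :=
    IsLocalization.isNoetherianRing p.primeCompl _ inferInstance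
  rw [geomRegular_iff_adic]
  exact adic_of_union k K hdir hcov (Localization.AtPrime p)
    (fun i => SmoothField.geomRegular_atPrime (h i) p)

end Main

end Groth.Agent.Lib.Helper23.GeomRegularUnion
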