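import Mathlib
import Groth.Agent.Lib.Helper14.GorBCSch
import Groth.Agent.Lib.Helper16.GorBC3
import Groth.Agent.Lib.Helper23.CMMor2

/-!
Gorenstein locus of a flat lft morphism commutes with arbitrary base change (S3626): gor_bc_iff' (B ess.f.t. over k, arbitrary k'), gor_cf_iff', gor_CF_baseChange_iff', gorAt_baseChange_iff.
-/

set_option autoImplicit false
set_option linter.style.haveILetI false
set_option linter.unusedSectionVars false
universe u


namespace Groth.Agent.Lib.Helper23.GorBCArb


open IsLocalRing TensorProduct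
open Groth.Agent.Lib.Helper16.GorMor Groth.Agent.Lib.Helper16 Groth.Agent.Lib.Helper14.AS
open CategoryTheory CategoryTheory.Limits AlgebraicGeometry
open Groth.Agent.Lib.Helper10.FibreProductStalk Groth.Agent.Lib.Helper2

section bc

variable (k k' : Type u) [Field k] [Field k'] [Algebra k k']
  (B : Type u) [CommRing B] [IsLocalRing B] [IsNoetherianRing B] [Algebra k B]

/-- Gorenstein base change for arbitrary field extensions, `B` essentially of finite type -/
theorem gor_bc_iff' [Algebra.EssFiniteType k B] (q : PrimeSpectrum (B ⊗[k] k'))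
    (hq : q.asIdeal.comap (algebraMap B (B ⊗[k] k')) = maximalIdeal B) :
    LocCoh.IsGorensteinLocalRing B ↔
      LocCoh.IsGorensteinLocalRing (Localization.AtPrime q.asIdeal) := by
  haveI hN : IsNoetherianRing (B ⊗[k] k') :=
    Groth.Agent.Lib.Helper23.CMMor.isNoetherianRing_tensor_of_essFiniteType k k' B
  set p := q.asIdeal.comap (algebraMap B (B ⊗[k] k')) with hp
  have hκ : LocCoh.IsGorensteinRing (p.ResidueField ⊗[k] k') := by
    have : Algebra.EssFiniteType k p.ResidueField := .comp _ B _
    have hfg : ∃ s : Finset p.ResidueField,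
        IntermediateField.adjoin k (s : Set p.ResidueField) = ⊤ := IntermediateField.fg_top _ _
    haveI : IsRegularRing k' := inferInstance
    exact GorBC.bc_of_fg k p.ResidueField hfg k' (GorBC.gorRing_of_isRegularRing _)
  rw [GorBC.gor_tensor_atPrime_iff k k' B q.asIdeal hκ]
  exact (GK.gor_localization_self_iff B _ hq).symm

end bc

section alg

variable {A A' B Bp : Type u} [CommRing A] [CommRing A'] [CommRing B] [CommRing Bp]
  [IsLocalRing A] [IsLocalRing A'] [IsLocalRing B] [IsLocalRing Bp]
  [Algebra A A'] [Algebra A B] [IsLocalHom (algebraMap A A')] [IsLocalHom (algebraMap A B)]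
  (α : A' →+* Bp) (β : B →+* Bp) [IsLocalHom α] [IsLocalHom β]
  (φ : A' ⊗[A] B →+* Bp) (hφ1 : ∀ a, φ (a ⊗ₜ 1) = α a) (hφ2 : ∀ b, φ (1 ⊗ₜ b) = β b)

include hφ1 hφ2 in
theorem gor_cf_iff' (hloc : letI := φ.toAlgebra; IsLocalization.AtPrime Bp (tpQ φ))
    [IsNoetherianRing (CFa A B)] [Algebra.EssFiniteType A B] :
    LocCoh.IsGorensteinLocalRing (CFa A B) ↔ LocCoh.IsGorensteinLocalRing (CFp α) := by
  obtain ⟨q, hq, ⟨e⟩⟩ := cf_localization α β φ hφ1 hφ2 hloc
  haveI : IsScalarTower A (ResidueField A) (CFa A B) :=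
    IsScalarTower.of_algebraMap_eq fun a => rfl
  have : Algebra.EssFiniteType A (CFa A B) := inferInstance
  have : Algebra.EssFiniteType (ResidueField A) (CFa A B) := .of_comp A _ _
  rw [gor_bc_iff' (ResidueField A) (ResidueField A') (CFa A B) q hq]
  exact ⟨fun h => GK.gor_of_ringEquiv e.symm h, fun h => GK.gor_of_ringEquiv e h⟩

end alg



open IsLocalRing TensorProduct
open Groth.Agent.Lib.Helper16.GorMor Groth.Agent.Lib.Helper16 Groth.Agent.Lib.Helper14.AS
open CategoryTheory CategoryTheory.Limits AlgebraicGeometry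
open Groth.Agent.Lib.Helper10.FibreProductStalk Groth.Agent.Lib.Helper2

section sch

variable {X S X' S' : Scheme.{u}} {f : X ⟶ S} {f' : X' ⟶ S'} {g' : X' ⟶ X} {g : S' ⟶ S}

set_option backward.isDefEq.respectTransparency.types false in
/-- closed fibre rings of stalk maps under arbitrary base change, `f` locally of finite type -/
theorem gor_CF_baseChange_iff' (hc : IsPullback g' f' f g) [LocallyOfFiniteType f] (x' : X')
    [IsNoetherianRing (CF f (g' x'))] :
    LocCoh.IsGorensteinLocalRing (CF f (g' x')) ↔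
      LocCoh.IsGorensteinLocalRing (CF f' x') := by
  letI : Algebra (S.presheaf.stalk (f.base (g'.base x'))) (X.presheaf.stalk (g'.base x')) :=
    (f.stalkMap (g'.base x')).hom.toAlgebra
  letI : Algebra (S.presheaf.stalk (f.base (g'.base x'))) (S'.presheaf.stalk (f'.base x')) :=
    (baseStalkMap hc x').hom.toAlgebra
  letI : Algebra (X.presheaf.stalk (g'.base x')) (X'.presheaf.stalk x') :=
    (g'.stalkMap x').hom.toAlgebra
  letI : Algebra (S'.presheaf.stalk (f'.base x')) (X'.presheaf.stalk x') :=
    (f'.stalkMap x').hom.toAlgebra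
  letI : Algebra (S.presheaf.stalk (f.base (g'.base x'))) (X'.presheaf.stalk x') :=
    (f.stalkMap (g'.base x') ≫ g'.stalkMap x').hom.toAlgebra
  have : IsScalarTower (S.presheaf.stalk (f.base (g'.base x'))) (X.presheaf.stalk (g'.base x'))
      (X'.presheaf.stalk x') := IsScalarTower.of_algebraMap_eq fun a => rfl
  have : IsScalarTower (S.presheaf.stalk (f.base (g'.base x'))) (S'.presheaf.stalk (f'.base x'))
      (X'.presheaf.stalk x') := by
    refine IsScalarTower.of_algebraMap_eq fun a => ?_
    change (f.stalkMap (g'.base x') ≫ g'.stalkMap x').hom a =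
      (baseStalkMap hc x' ≫ f'.stalkMap x').hom a
    rw [stalkMap_comp_eq hc x']
  haveI : IsLocalHom (algebraMap (S.presheaf.stalk (f.base (g'.base x')))
      (S'.presheaf.stalk (f'.base x'))) := isLocalHom_baseStalkMap hc x'
  haveI : IsLocalHom (algebraMap (S.presheaf.stalk (f.base (g'.base x')))
      (X.presheaf.stalk (g'.base x'))) :=
    inferInstanceAs (IsLocalHom (f.stalkMap (g'.base x')).hom)
  haveI : IsNoetherianRing (CFa (S.presheaf.stalk (f.base (g'.base x')))
      (X.presheaf.stalk (g'.base x'))) := ‹IsNoetherianRing (CF f (g' x'))›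
  let φ := (Algebra.TensorProduct.productMap
      (IsScalarTower.toAlgHom (S.presheaf.stalk (f.base (g'.base x')))
        (S'.presheaf.stalk (f'.base x')) (X'.presheaf.stalk x'))
      (IsScalarTower.toAlgHom (S.presheaf.stalk (f.base (g'.base x')))
        (X.presheaf.stalk (g'.base x')) (X'.presheaf.stalk x'))).toRingHom
  have hφ1 : ∀ a, φ (a ⊗ₜ 1) = (f'.stalkMap x').hom a := fun a => by simp [φ]; rfl
  have hφ2 : ∀ b, φ (1 ⊗ₜ b) = (g'.stalkMap x').hom b := fun b => by simp [φ]; rfl
  have hloc := isLocalization_stalk_pullback hc x' φ hφ1 hφ2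
  haveI : Algebra.EssFiniteType (S.presheaf.stalk (f.base (g'.base x')))
      (X.presheaf.stalk (g'.base x')) := LocallyOfFiniteType.stalkMap f (g' x')
  exact gor_cf_iff' (f'.stalkMap x').hom (g'.stalkMap x').hom φ hφ1 hφ2 hloc

theorem gorAt_baseChange_iff (f : X ⟶ S) [Flat f] [LocallyOfFiniteType f]
    (g : S' ⟶ S) (f' : X' ⟶ S') (g' : X' ⟶ X) (hc : IsPullback g' f' f g) (x' : X') :
    Dual3.IsGorensteinAt f' x' ↔ Dual3.IsGorensteinAt f (g' x') := by
  haveI : Flat f' := MorphismProperty.of_isPullback hc inferInstance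
  haveI := Groth.Agent.Lib.Helper23.CMMor.isLocallyNoetherian_fiber_of_lft f (f (g' x'))
  haveI := isNoetherianRing_CF f (g' x')
  unfold Dual3.IsGorensteinAt
  rw [gor_fiber_stalk_iff, gor_fiber_stalk_iff, gor_CF_baseChange_iff' hc x']
  exact ⟨fun h => ⟨Flat.stalkMap f _, h.2⟩, fun h => ⟨Flat.stalkMap f' _, h.2⟩⟩

end sch

end Groth.Agent.Lib.Helper23.GorBCArb
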