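import Mathlib
import Groth.Agent.Lib.Helper4.DLimRing
import Groth.Agent.Lib.Helper4.HznInt
import Groth.Agent.Lib.Helper23.GRingPoly3
import Groth.Agent.Lib.Helper18.Exc
import Groth.Agent.Lib.Helper18.Exc2
import Groth.Prelude.Def_Hensel
import Groth.Agent.Lib.Helper4.HznHens
import Groth.Prelude.Def_CAlg

/-!
# A henselian local ring is a directed colimit of henselian local G-rings

Ring-hom directed colimits: `isUnit_of_iff`, `isLocalRing_dl`, `isLocalHom_of`, `henselianLocalRing_dl`.
G-rings: `isGRing_ulift_int`, `isGRing_of_fg_int`, `isGRing_atPrime_of_fg_int`.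
Henselization `Hz R`: `hlift`, `hlift_comp`, `hhom_ext`, `isLocalHom_of_comp`.
System of henselizations of localizations of f.g. subrings of a henselian local ring `A`:
`Idx`, `Lc`, `Gh`, `trn`, `Phi`, `Psi`, `Phi_bijective`.
-/

set_option autoImplicit false
set_option linter.unusedSectionVars false
universe u


namespace Groth.Agent.Lib.Helper23.HensColim


open IsLocalRing Polynomial

section

variable {ι : Type*} [Preorder ι] [IsDirectedOrder ι] [Nonempty ι]
  {G : ι → Type*} [∀ i, CommRing (G i)]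
  (f : ∀ i j, i ≤ j → G i →+* G j) [DirectedSystem G (fun i j h => f i j h)]

local notation "L" => DirectLimit G f
local notation "ofR" => DirectLimit.Ring.of G f

open Groth.Agent.Lib.Helper4.DLim in
theorem isUnit_of_iff {i : ι} (a : G i) :
    IsUnit (ofR i a) ↔ ∃ j, ∃ (h : i ≤ j), IsUnit (f i j h a) := by
  constructor
  · intro hu
    obtain ⟨y, hy⟩ := hu.exists_right_inv
    obtain ⟨j, b, rfl⟩ := exists_of f y
    obtain ⟨k, hik, hjk⟩ := exists_ge_ge i j
    have h1 : ofR k (f i k hik a * f j k hjk b) = 1 := by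
      rw [map_mul, of_f', of_f']
      exact hy
    rw [of_eq_one_iff] at h1
    obtain ⟨l, hkl, hl⟩ := h1
    refine ⟨l, hik.trans hkl, ?_⟩
    rw [map_mul, DirectedSystem.map_map' (f := f), DirectedSystem.map_map' (f := f)] at hl
    exact IsUnit.of_mul_eq_one _ hl
  · rintro ⟨j, h, hu⟩
    rw [← of_f' f h]
    exact hu.map _

open Groth.Agent.Lib.Helper4.DLim in
theorem isLocalRing_dl [∀ i, IsLocalRing (G i)] : IsLocalRing L := by
  refine IsLocalRing.of_isUnit_or_isUnit_one_sub_self fun x => ?_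
  obtain ⟨i, a, rfl⟩ := exists_of f x
  rcases IsLocalRing.isUnit_or_isUnit_one_sub_self a with h | h
  · exact Or.inl (h.map (ofR i))
  · right
    have := h.map (ofR i)
    rwa [map_sub, map_one] at this

theorem isLocalHom_of [∀ i, IsLocalRing (G i)] (hloc : ∀ i j h, IsLocalHom (f i j h)) (i : ι) :
    IsLocalHom (ofR i) := by
  constructor
  intro a ha
  obtain ⟨j, h, hu⟩ := (isUnit_of_iff f a).mp ha
  have := hloc i j h
  exact isUnit_of_map_unit (f i j h) a hu

open Groth.Agent.Lib.Helper4.DLim in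
theorem henselianLocalRing_dl [∀ i, HenselianLocalRing (G i)]
    (hloc : ∀ i j h, IsLocalHom (f i j h)) : HenselianLocalRing L := by
  haveI : IsLocalRing L := isLocalRing_dl f
  have hI : ∀ i j (h : i ≤ j), (maximalIdeal (G i)).map (f i j h) ≤ maximalIdeal (G j) := by
    intro i j h
    rw [Ideal.map_le_iff_le_comap]
    intro x hx
    haveI := hloc i j h
    exact map_nonunit (f i j h) x hx
  haveI := henselianRing_directLimit f (fun i => maximalIdeal (G i)) hI
  refine Groth.Agent.Lib.Helper4.Hzn.henselianLocalRing_of_henselianRing L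
    (⨆ i, (maximalIdeal (G i)).map (ofR i)) ?_
  intro x hx
  apply Ideal.le_radical
  obtain ⟨i, a, rfl⟩ := exists_of f x
  have ha : a ∈ maximalIdeal (G i) := by
    rw [mem_maximalIdeal, mem_nonunits_iff]
    intro hu
    exact (mem_maximalIdeal _).mp hx (hu.map _)
  exact (le_iSup (fun i => (maximalIdeal (G i)).map (ofR i)) i) (Ideal.mem_map_of_mem _ ha)

end



open IsLocalRing Polynomial

theorem isGRing_ulift_int : CAlg.IsGRing (ULift.{u} ℤ) := by
  haveI : IsDomain (ULift.{u} ℤ) := (ULift.ringEquiv (R := ℤ)).toMulEquiv.isDomain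
  haveI : IsPrincipalIdealRing (ULift.{u} ℤ) :=
    IsPrincipalIdealRing.of_surjective (ULift.ringEquiv (R := ℤ)).symm.toRingHom
      (ULift.ringEquiv (R := ℤ)).symm.surjective
  haveI : CharZero (ULift.{u} ℤ) :=
    charZero_of_injective_ringHom (f := (ULift.ringEquiv (R := ℤ)).symm.toRingHom)
      (ULift.ringEquiv (R := ℤ)).symm.injective
  exact Groth.Agent.Lib.Helper18.Exc.isGRing_dedekind (ULift.{u} ℤ)

theorem isGRing_of_fg_int (B : Type u) [CommRing B] (hB : Algebra.FiniteType ℤ B) :
    CAlg.IsGRing B := by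
  obtain ⟨n, f, hf⟩ := Algebra.FiniteType.iff_quotient_mvPolynomial''.mp hB
  let g : MvPolynomial (Fin n) (ULift.{u} ℤ) →+* MvPolynomial (Fin n) ℤ :=
    MvPolynomial.map (ULift.ringEquiv (R := ℤ)).toRingHom
  have hg : Function.Surjective g :=
    MvPolynomial.map_surjective _ (ULift.ringEquiv (R := ℤ)).surjective
  exact Groth.Agent.Lib.Helper23.GRingPoly.isGRing_of_surjective (f.toRingHom.comp g)
    (hf.comp hg)
    (Groth.Agent.Lib.Helper23.GRingPoly.isGRing_mvPolynomial (ULift.{u} ℤ) isGRing_ulift_int n)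

theorem isGRing_atPrime_of_fg_int (B : Type u) [CommRing B] (hB : Algebra.FiniteType ℤ B)
    (p : Ideal B) [p.IsPrime] : CAlg.IsGRing (Localization.AtPrime p) :=
  Groth.Agent.Lib.Helper18.Exc.isGRing_of_isLocalization B p.primeCompl _ (isGRing_of_fg_int B hB)



open IsLocalRing Polynomial Groth.Agent.Lib.Helper4.Hzn

section HzUniv

variable {R : Type u} [CommRing R] [IsLocalRing R]

/-- the universal map out of the henselization -/
noncomputable def hlift {T : Type u} [CommRing T] [HenselianLocalRing T] (φ : R →+* T)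
    (hφ : IsLocalHom φ) : Hz R →+* T :=
  Classical.choose (Hensel.IsHenselization.universal (R := R) (S := Hz R) T φ hφ).exists

theorem hlift_comp {T : Type u} [CommRing T] [HenselianLocalRing T] (φ : R →+* T)
    (hφ : IsLocalHom φ) : (hlift φ hφ).comp (algebraMap R (Hz R)) = φ :=
  Classical.choose_spec (Hensel.IsHenselization.universal (R := R) (S := Hz R) T φ hφ).exists

theorem hlift_algebraMap {T : Type u} [CommRing T] [HenselianLocalRing T] (φ : R →+* T)
    (hφ : IsLocalHom φ) (x : R) : hlift φ hφ (algebraMap R (Hz R) x) = φ x :=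
  congrArg (fun g => g x) (hlift_comp φ hφ)

theorem hhom_ext {T : Type u} [CommRing T] [HenselianLocalRing T] (g₁ g₂ : Hz R →+* T)
    (hloc : IsLocalHom (g₁.comp (algebraMap R (Hz R))))
    (h : g₁.comp (algebraMap R (Hz R)) = g₂.comp (algebraMap R (Hz R))) : g₁ = g₂ :=
  (Hensel.IsHenselization.universal (R := R) (S := Hz R) T _ hloc).unique rfl h.symm

theorem isLocalHom_of_comp {T : Type u} [CommRing T] [IsLocalRing T] (g : Hz R →+* T)
    (hloc : IsLocalHom (g.comp (algebraMap R (Hz R)))) : IsLocalHom g := by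
  have hm : ∀ x ∈ maximalIdeal (Hz R), g x ∈ maximalIdeal T := by
    intro x hx
    rw [← Hz.map_maximalIdeal] at hx
    have hle : (maximalIdeal R).map (algebraMap R (Hz R)) ≤ (maximalIdeal T).comap g := by
      rw [Ideal.map_le_iff_le_comap]
      intro a ha
      rw [Ideal.mem_comap, Ideal.mem_comap]
      exact map_nonunit (g.comp (algebraMap R (Hz R))) a ha
    exact hle hx
  constructor
  intro x hx
  by_contra hnu
  exact (mem_maximalIdeal _).mp (hm x ((mem_maximalIdeal x).mpr hnu)) hx

end HzUniv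



open IsLocalRing Polynomial Groth.Agent.Lib.Helper4.Hzn

section Sys

variable (A : Type u) [CommRing A] [HenselianLocalRing A]

/-- finitely generated subrings -/
abbrev Idx : Type u := {B : Subalgebra ℤ A // B.FG}

instance : Nonempty (Idx A) := ⟨⟨⊥, Subalgebra.fg_bot⟩⟩

instance : IsDirectedOrder (Idx A) :=
  ⟨fun a b => ⟨⟨a.1 ⊔ b.1, a.2.sup b.2⟩, (le_sup_left : a.1 ≤ a.1 ⊔ b.1),
    (le_sup_right : b.1 ≤ a.1 ⊔ b.1)⟩⟩

variable {A}

/-- the prime below the maximal ideal -/
def pr (i : Idx A) : Ideal ↥i.1 := (maximalIdeal A).comap (i.1.val : ↥i.1 →+* A)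

instance (i : Idx A) : (pr i).IsPrime := Ideal.comap_isPrime _ _

abbrev Lc (i : Idx A) : Type u := Localization.AtPrime (pr i)

theorem isUnit_val_of_not_mem (i : Idx A) (y : (pr i).primeCompl) :
    IsUnit ((i.1.val : ↥i.1 →+* A) y) := by
  have := y.2
  by_contra h
  exact this ((mem_maximalIdeal _).mpr h)

noncomputable def toA (i : Idx A) : Lc i →+* A :=
  IsLocalization.lift (M := (pr i).primeCompl) (g := (i.1.val : ↥i.1 →+* A))
    (isUnit_val_of_not_mem i)

theorem toA_algebraMap (i : Idx A) (b : ↥i.1) : toA i (algebraMap ↥i.1 (Lc i) b) = (b : A) :=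
  IsLocalization.lift_eq _ _

instance (i : Idx A) : IsLocalHom (toA i) := by
  constructor
  intro x hx
  obtain ⟨b, s, rfl⟩ := IsLocalization.exists_mk'_eq (pr i).primeCompl x
  have h1 : toA i (IsLocalization.mk' (Lc i) b s) * (s : ↥i.1) = (b : A) := by
    rw [← toA_algebraMap i (s : ↥i.1), ← map_mul, IsLocalization.mk'_spec, toA_algebraMap]
  have h2 : IsUnit ((b : ↥i.1) : A) := by
    rw [← h1]
    exact hx.mul (isUnit_val_of_not_mem i s)
  have h3 : b ∈ (pr i).primeCompl := by
    intro hb
    exact (mem_maximalIdeal _).mp hb h2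
  rw [IsLocalization.AtPrime.isUnit_mk'_iff (Lc i) (pr i) b s]
  exact h3

/-- inclusion maps -/
def incl {i j : Idx A} (h : i ≤ j) : ↥i.1 →+* ↥j.1 := (Subalgebra.inclusion h).toRingHom

theorem incl_coe {i j : Idx A} (h : i ≤ j) (b : ↥i.1) : ((incl h b : ↥j.1) : A) = (b : A) := rfl

theorem pr_eq {i j : Idx A} (h : i ≤ j) : pr i = (pr j).comap (incl h) := rfl

noncomputable def ell {i j : Idx A} (h : i ≤ j) : Lc i →+* Lc j :=
  Localization.localRingHom (pr i) (pr j) (incl h) (pr_eq h)

theorem ell_algebraMap {i j : Idx A} (h : i ≤ j) (b : ↥i.1) :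
    ell h (algebraMap ↥i.1 (Lc i) b) = algebraMap ↥j.1 (Lc j) (incl h b) :=
  Localization.localRingHom_to_map _ _ _ _ _

instance {i j : Idx A} (h : i ≤ j) : IsLocalHom (ell h) :=
  Localization.isLocalHom_localRingHom _ _ _ _

theorem ell_self (i : Idx A) : ell (le_refl i) = RingHom.id _ := by
  apply IsLocalization.ringHom_ext (pr i).primeCompl
  ext b
  rw [RingHom.comp_apply, ell_algebraMap]
  rfl

theorem ell_comp {i j k : Idx A} (hij : i ≤ j) (hjk : j ≤ k) :
    (ell hjk).comp (ell hij) = ell (hij.trans hjk) := by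
  apply IsLocalization.ringHom_ext (pr i).primeCompl
  ext b
  rw [RingHom.comp_apply, RingHom.comp_apply, RingHom.comp_apply, ell_algebraMap, ell_algebraMap,
    ell_algebraMap]
  rfl

theorem toA_ell {i j : Idx A} (h : i ≤ j) : (toA j).comp (ell h) = toA i := by
  apply IsLocalization.ringHom_ext (pr i).primeCompl
  ext b
  rw [RingHom.comp_apply, RingHom.comp_apply, RingHom.comp_apply, ell_algebraMap, toA_algebraMap,
    toA_algebraMap]
  rfl

abbrev Gh (i : Idx A) : Type u := Hz (Lc i)

theorem isLocalHom_comp_ell {i j : Idx A} (h : i ≤ j) :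
    IsLocalHom ((algebraMap (Lc j) (Gh j)).comp (ell h)) := by
  constructor
  intro a ha
  have h1 : IsUnit (ell h a) := isUnit_of_map_unit (algebraMap (Lc j) (Gh j)) _ ha
  exact isUnit_of_map_unit (ell h) a h1

noncomputable def trn (i j : Idx A) (h : i ≤ j) : Gh i →+* Gh j :=
  hlift ((algebraMap (Lc j) (Gh j)).comp (ell h)) (isLocalHom_comp_ell h)

theorem trn_comp_algebraMap {i j : Idx A} (h : i ≤ j) :
    (trn i j h).comp (algebraMap (Lc i) (Gh i)) = (algebraMap (Lc j) (Gh j)).comp (ell h) :=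
  hlift_comp _ _

theorem trn_algebraMap {i j : Idx A} (h : i ≤ j) (x : Lc i) :
    trn i j h (algebraMap (Lc i) (Gh i) x) = algebraMap (Lc j) (Gh j) (ell h x) :=
  hlift_algebraMap _ _ x

theorem trn_isLocalHom (i j : Idx A) (h : i ≤ j) : IsLocalHom (trn i j h) := by
  apply isLocalHom_of_comp
  rw [trn_comp_algebraMap]
  exact isLocalHom_comp_ell h

theorem trn_self (i : Idx A) : trn i i (le_refl i) = RingHom.id _ := by
  apply hhom_ext
  · rw [trn_comp_algebraMap]
    exact isLocalHom_comp_ell _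
  · rw [trn_comp_algebraMap, ell_self]
    rfl

theorem trn_trn {i j k : Idx A} (hij : i ≤ j) (hjk : j ≤ k) :
    (trn j k hjk).comp (trn i j hij) = trn i k (hij.trans hjk) := by
  apply hhom_ext
  · rw [RingHom.comp_assoc, trn_comp_algebraMap, ← RingHom.comp_assoc, trn_comp_algebraMap,
      RingHom.comp_assoc, ell_comp]
    exact isLocalHom_comp_ell _
  · rw [RingHom.comp_assoc, trn_comp_algebraMap, ← RingHom.comp_assoc, trn_comp_algebraMap,
      RingHom.comp_assoc, ell_comp, trn_comp_algebraMap]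

instance : DirectedSystem (fun i : Idx A => Gh i) (fun i j h => (trn i j h : Gh i → Gh j)) where
  map_self i x := by
    rw [trn_self]
    rfl
  map_map k j i hij hjk x := by
    rw [← trn_trn hij hjk]
    rfl

end Sys



open IsLocalRing Polynomial Groth.Agent.Lib.Helper4.Hzn

section Main

variable {A : Type u} [CommRing A] [HenselianLocalRing A]

local notation "HH" => DirectLimit (fun i : Idx A => Gh i) (fun i j h => trn i j h)
local notation "ofH" => DirectLimit.Ring.of (fun i : Idx A => Gh i) (fun i j h => trn i j h)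

/-- the maps to `A` -/
noncomputable def gA (i : Idx A) : Gh i →+* A := hlift (toA i) inferInstance

theorem gA_algebraMap (i : Idx A) (x : Lc i) : gA i (algebraMap (Lc i) (Gh i) x) = toA i x :=
  hlift_algebraMap _ _ x

theorem gA_trn {i j : Idx A} (h : i ≤ j) : (gA j).comp (trn i j h) = gA i := by
  apply hhom_ext
  · rw [RingHom.comp_assoc, trn_comp_algebraMap, ← RingHom.comp_assoc]
    have : (gA j).comp (algebraMap (Lc j) (Gh j)) = toA j := hlift_comp _ _
    rw [this, toA_ell]
    infer_instance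
  · rw [RingHom.comp_assoc, trn_comp_algebraMap, ← RingHom.comp_assoc]
    have h1 : (gA j).comp (algebraMap (Lc j) (Gh j)) = toA j := hlift_comp _ _
    have h2 : (gA i).comp (algebraMap (Lc i) (Gh i)) = toA i := hlift_comp _ _
    rw [h1, h2, toA_ell]

variable (A) in
noncomputable def Phi : HH →+* A :=
  DirectLimit.Ring.lift (fun i : Idx A => Gh i) (fun i j h => trn i j h) A gA
    (fun i j hij x => congrArg (fun g => g x) (gA_trn hij))

theorem Phi_of (i : Idx A) (x : Gh i) : Phi A (ofH i x) = gA i x := rfl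

/-- structure maps from the subring -/
noncomputable def cc (i : Idx A) : ↥i.1 →+* Gh i :=
  (algebraMap (Lc i) (Gh i)).comp (algebraMap ↥i.1 (Lc i))

theorem gA_cc (i : Idx A) (b : ↥i.1) : gA i (cc i b) = (b : A) := by
  rw [cc, RingHom.comp_apply, gA_algebraMap, toA_algebraMap]

theorem of_cc_le {i j : Idx A} (h : i ≤ j) (b : ↥i.1) :
    ofH j (cc j (incl h b)) = ofH i (cc i b) := by
  rw [← DirectLimit.Ring.of_f (f := fun i j h => trn i j h) h (cc i b)]
  congr 1
  rw [cc, cc, RingHom.comp_apply, RingHom.comp_apply, trn_algebraMap, ell_algebraMap]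

theorem of_cc_eq {i j : Idx A} (b : ↥i.1) (b' : ↥j.1) (h : (b : A) = (b' : A)) :
    ofH i (cc i b) = ofH j (cc j b') := by
  obtain ⟨k, hik, hjk⟩ := exists_ge_ge i j
  rw [← of_cc_le hik, ← of_cc_le hjk]
  congr 2
  exact Subtype.ext h

/-- index of a single element -/
def ia (a : A) : Idx A := ⟨Algebra.adjoin ℤ {a}, ⟨{a}, by rw [Finset.coe_singleton]⟩⟩

def ba (a : A) : ↥(ia a).1 := ⟨a, Algebra.subset_adjoin (Set.mem_singleton a)⟩

noncomputable def PsiFun (a : A) : HH := ofH (ia a) (cc (ia a) (ba a))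

theorem PsiFun_eq (i : Idx A) (b : ↥i.1) : PsiFun (b : A) = ofH i (cc i b) :=
  of_cc_eq _ _ rfl

theorem exists_idx2 (a a' : A) : ∃ (i : Idx A) (b b' : ↥i.1), (b : A) = a ∧ (b' : A) = a' := by
  obtain ⟨k, hik, hjk⟩ := exists_ge_ge (ia a) (ia a')
  exact ⟨k, incl hik (ba a), incl hjk (ba a'), rfl, rfl⟩

variable (A) in
noncomputable def Psi : A →+* HH where
  toFun := PsiFun
  map_one' := by
    have := PsiFun_eq (⟨⊥, Subalgebra.fg_bot⟩ : Idx A) 1
    rw [map_one, map_one] at this
    exact this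
  map_zero' := by
    have := PsiFun_eq (⟨⊥, Subalgebra.fg_bot⟩ : Idx A) 0
    rw [map_zero, map_zero] at this
    exact this
  map_mul' a a' := by
    obtain ⟨i, b, b', rfl, rfl⟩ := exists_idx2 a a'
    have h := PsiFun_eq i (b * b')
    rw [PsiFun_eq i b, PsiFun_eq i b', ← map_mul, ← map_mul, ← h]
    rfl
  map_add' a a' := by
    obtain ⟨i, b, b', rfl, rfl⟩ := exists_idx2 a a'
    have h := PsiFun_eq i (b + b')
    rw [PsiFun_eq i b, PsiFun_eq i b', ← map_add, ← map_add, ← h]
    rfl

theorem Psi_coe (i : Idx A) (b : ↥i.1) : Psi A (b : A) = ofH i (cc i b) := PsiFun_eq i b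

theorem trn_loc (i j : Idx A) (h : i ≤ j) : IsLocalHom (trn i j h) := trn_isLocalHom i j h

instance : HenselianLocalRing HH :=
  henselianLocalRing_dl (G := fun i : Idx A => Gh i) (fun i j h => trn i j h) trn_loc

theorem Psi_Phi : (Psi A).comp (Phi A) = RingHom.id _ := by
  apply DirectLimit.Ring.hom_ext
  intro i
  symm
  apply hhom_ext
  · haveI : IsLocalHom (ofH i) :=
      isLocalHom_of (G := fun i : Idx A => Gh i) (fun i j h => trn i j h) trn_loc i
    constructor
    intro a ha
    have h1 : IsUnit (algebraMap (Lc i) (Gh i) a) := isUnit_of_map_unit (ofH i) _ ha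
    exact isUnit_of_map_unit (algebraMap (Lc i) (Gh i)) a h1
  · symm
    apply IsLocalization.ringHom_ext (pr i).primeCompl
    ext b
    simp only [RingHom.comp_apply, RingHom.id_apply]
    rw [Phi_of, gA_algebraMap, toA_algebraMap, Psi_coe]
    rfl

theorem Phi_bijective : Function.Bijective (Phi A) := by
  constructor
  · intro x y hxy
    have := congrArg (Psi A) hxy
    have h1 : ∀ z, Psi A (Phi A z) = z := fun z => RingHom.congr_fun Psi_Phi z
    rwa [h1, h1] at this
  · intro a
    refine ⟨ofH (ia a) (cc (ia a) (ba a)), ?_⟩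
    rw [Phi_of, gA_cc]
    rfl

end Main

end Groth.Agent.Lib.Helper23.HensColim
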