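import Mathlib

/-!
helper23: lemma A1 requested by lead for S7681. `idem_trivial_of_surjective`: a quotient of a
finite-dimensional commutative `k`-algebra with only trivial idempotents has only trivial
idempotents (Fitting-type argument: `a^n = a^{2n} c` in an Artinian ring gives the idempotent
`a^n c`). Also the Artinian-ring version `idem_trivial_of_surjective_of_isArtinianRing`.
-/

set_option autoImplicit false
universe u

namespace Groth.Agent.Lib.Helper23.IdemQuot

theorem idem_trivial_of_surjective_of_isArtinianRing {A B : Type*} [CommRing A] [IsArtinianRing A]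
    [CommRing B] (hA : ∀ e : A, IsIdempotentElem e → e = 0 ∨ e = 1) (φ : A →+* B)
    (hφ : Function.Surjective φ) : ∀ e : B, IsIdempotentElem e → e = 0 ∨ e = 1 := by
  intro e he
  obtain ⟨a, rfl⟩ := hφ e
  -- the chain of ideals (a^n) stabilizes
  let F : ℕ →o (Ideal A)ᵒᵈ :=
    ⟨fun n => OrderDual.toDual (Ideal.span {a ^ n}), by
      intro n m hnm
      change Ideal.span {a ^ m} ≤ Ideal.span {a ^ n}
      rw [Ideal.span_singleton_le_span_singleton]
      exact pow_dvd_pow a hnm⟩
  obtain ⟨n, hn⟩ := IsArtinian.monotone_stabilizes F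
  have h2 : Ideal.span {a ^ n} = Ideal.span {a ^ (2 * n)} := by
    have := hn (2 * n) (by omega)
    exact congrArg OrderDual.ofDual this
  have hmem : a ^ n ∈ Ideal.span {a ^ (2 * n)} := h2 ▸ Ideal.mem_span_singleton_self _
  obtain ⟨c, hc⟩ := Ideal.mem_span_singleton'.mp hmem
  -- hc : c * a ^ (2 * n) = a ^ n
  have hpow : a ^ (2 * n) = a ^ n * a ^ n := by rw [two_mul, pow_add]
  have hf : IsIdempotentElem (a ^ n * c) := by
    change a ^ n * c * (a ^ n * c) = a ^ n * c
    have : a ^ n * c * (a ^ n * c) = (c * a ^ (2 * n)) * c := by rw [hpow]; ring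
    rw [this, hc]
  have hφe : ∀ m : ℕ, m ≠ 0 → φ a ^ m = φ a := fun m hm => he.pow_eq hm
  rcases hA _ hf with h0 | h1
  · -- a is nilpotent
    left
    have han : a ^ n = 0 := by
      rw [← hc, hpow, ← mul_assoc, mul_comm c, h0, zero_mul]
    by_cases hn0 : n = 0
    · subst hn0
      rw [pow_zero] at han
      have : φ a = φ a * φ 1 := by rw [map_one, mul_one]
      rw [this, han, map_zero, mul_zero]
    · rw [← hφe n hn0, ← map_pow, han, map_zero]
  · -- a is a unit
    right
    have hunit : IsUnit (φ a) := by
      by_cases hn0 : n = 0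
      · subst hn0
        -- In this case span{1} = span{a^m} for all m, so a is a unit.
        have h3 := hn 1 (by omega)
        have h4 : Ideal.span {a ^ 0} = Ideal.span {a ^ 1} := congrArg OrderDual.ofDual h3
        rw [pow_zero, pow_one, Ideal.span_singleton_one] at h4
        have : IsUnit a := Ideal.span_singleton_eq_top.mp h4.symm
        exact this.map φ
      · have hu : IsUnit (a ^ n) := IsUnit.of_mul_eq_one c h1
        exact ((isUnit_pow_iff hn0).mp hu).map φ
    have he' : φ a * φ a = φ a := he
    exact hunit.mul_left_cancel (by rw [he', mul_one])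

theorem idem_trivial_of_surjective {k A B : Type u} [Field k] [CommRing A] [Algebra k A]
    [Module.Finite k A] [CommRing B]
    (hA : ∀ e : A, IsIdempotentElem e → e = 0 ∨ e = 1) (φ : A →+* B)
    (hφ : Function.Surjective φ) : ∀ e : B, IsIdempotentElem e → e = 0 ∨ e = 1 := by
  haveI : IsArtinianRing A := IsArtinianRing.of_finite k A
  exact idem_trivial_of_surjective_of_isArtinianRing hA φ hφ

end Groth.Agent.Lib.Helper23.IdemQuot
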