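import Mathlib
import Groth.Prelude.Def_EGA4b
import Groth.Agent.Lib.Helper23.IntClosBC1
import Groth.Agent.Lib.Helper1.NormalHomBC

/-!
EGA IV 6.14.4 (general form): A → A' normal hom of Noetherian rings, B → C a homomorphism of A-algebras, D the integral closure of B in C: the integral closure in A' ⊗ C of the image of A' ⊗ B is the image of A' ⊗ D.  Reduction to IntClosBC1 (case B = A) via finitely generated subalgebras B₀ of B, base change of the normal hom to B₀ (helper1 NormalHomBC) and the iso (B₀ ⊗_A A') ⊗_{B₀} C ≃ A' ⊗_A C (E, E_tmul).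
-/

set_option autoImplicit false
set_option linter.style.haveILetI false
set_option linter.unusedSectionVars false
universe u


namespace Groth.Agent.Lib.Helper23.IntClosBC2


open Polynomial TensorProduct Groth.Agent.Lib.Helper23.IntClosBC

section iso

variable (A : Type u) [CommRing A] (A' : Type u) [CommRing A'] [Algebra A A']
  (B₀ : Type u) [CommRing B₀] [Algebra A B₀]
  (C : Type u) [CommRing C] [Algebra A C] [Algebra B₀ C] [IsScalarTower A B₀ C]

/-- `(B₀ ⊗_A A') ⊗_{B₀} C ≃ A' ⊗_A C` -/
noncomputable def E : (B₀ ⊗[A] A') ⊗[B₀] C ≃+* A' ⊗[A] C :=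
  (Algebra.TensorProduct.comm B₀ (B₀ ⊗[A] A') C).toRingEquiv.trans
    ((Algebra.TensorProduct.cancelBaseChange A B₀ B₀ C A').toRingEquiv.trans
      (Algebra.TensorProduct.comm A C A').toRingEquiv)

theorem E_tmul (b : B₀) (a : A') (c : C) :
    E A A' B₀ C ((b ⊗ₜ[A] a) ⊗ₜ[B₀] c) = a ⊗ₜ[A] (b • c) := by
  simp [E]

/-- the ring hom `A' ⊗ B₀ → A' ⊗ C` -/
noncomputable abbrev rho : A' ⊗[A] B₀ →+* A' ⊗[A] C :=
  (Algebra.TensorProduct.map (AlgHom.id A' A') (IsScalarTower.toAlgHom A B₀ C)).toRingHom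

/-- the swap `A' ⊗ B₀ → B₀ ⊗ A'` -/
noncomputable abbrev kap : A' ⊗[A] B₀ →+* B₀ ⊗[A] A' :=
  (Algebra.TensorProduct.comm A A' B₀).toRingEquiv.toRingHom

theorem rho_eq (x : A' ⊗[A] B₀) :
    rho A A' B₀ C x = E A A' B₀ C (algebraMap (B₀ ⊗[A] A') ((B₀ ⊗[A] A') ⊗[B₀] C) (kap A A' B₀ x)) := by
  induction x with
  | zero => simp
  | tmul a b =>
    simp only [rho, kap, AlgHom.toRingHom_eq_coe, RingHom.coe_coe, Algebra.TensorProduct.map_tmul,
      AlgHom.id_apply, IsScalarTower.coe_toAlgHom', AlgEquiv.toRingEquiv_toRingHom,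
      Algebra.TensorProduct.comm_tmul, Algebra.TensorProduct.algebraMap_apply, Algebra.algebraMap_self,
      RingHom.id_apply]
    have h1 : (Algebra.TensorProduct.comm A A' B₀).toRingEquiv.toRingHom (a ⊗ₜ[A] b) = b ⊗ₜ[A] a :=
      Algebra.TensorProduct.comm_tmul (R := A) (A := A') (B := B₀) a b
    rw [h1, E_tmul, Algebra.algebraMap_eq_smul_one]
  | add x y hx hy => simp only [map_add, hx, hy]

end iso

section lemX

variable (A : Type u) [CommRing A] [IsNoetherianRing A]
  (A' : Type u) [CommRing A'] [IsNoetherianRing A'] [Algebra A A']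
  (B₀ : Type u) [CommRing B₀] [Algebra A B₀] [IsNoetherianRing B₀]
  (C : Type u) [CommRing C] [Algebra A C] [Algebra B₀ C] [IsScalarTower A B₀ C]

theorem E_bc_mem (v : (B₀ ⊗[A] A') ⊗[B₀] (integralClosure B₀ C)) :
    E A A' B₀ C (bc B₀ (B₀ ⊗[A] A') (integralClosure B₀ C).val v) ∈
      Set.range (Algebra.TensorProduct.map (AlgHom.id A' A')
        ((integralClosure B₀ C).val.restrictScalars A)) := by
  induction v with
  | zero => exact ⟨0, by simp⟩
  | tmul n d =>
    induction n with
    | zero => exact ⟨0, by simp⟩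
    | tmul b a =>
      refine ⟨a ⊗ₜ (b • d), ?_⟩
      simp only [bc, Algebra.TensorProduct.map_tmul, AlgHom.id_apply]
      rw [E_tmul]
      rfl
    | add x y hx hy =>
      obtain ⟨x', hx'⟩ := hx
      obtain ⟨y', hy'⟩ := hy
      refine ⟨x' + y', ?_⟩
      rw [map_add, hx', hy', add_tmul, map_add, map_add]
  | add x y hx hy =>
    obtain ⟨x', hx'⟩ := hx
    obtain ⟨y', hy'⟩ := hy
    refine ⟨x' + y', ?_⟩
    rw [map_add, hx', hy', map_add, map_add]

theorem lemX (h : EGA4.IsNormalHom A A') [IsNoetherianRing (B₀ ⊗[A] A')]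
    (z : A' ⊗[A] C) (hz : (rho A A' B₀ C).IsIntegralElem z) :
    z ∈ Set.range (Algebra.TensorProduct.map (AlgHom.id A' A')
        ((integralClosure B₀ C).val.restrictScalars A)) := by
  have hNH : EGA4.IsNormalHom B₀ (B₀ ⊗[A] A') :=
    Groth.Agent.Lib.Helper1.NormalField.isNormalHom_baseChange A' B₀ h
  obtain ⟨p, hp, hpz⟩ := hz
  set w := (E A A' B₀ C).symm z with hw
  have hwi : IsIntegral (B₀ ⊗[A] A') w := by
    refine ⟨p.map (kap A A' B₀), hp.map _, ?_⟩
    apply (E A A' B₀ C).injective
    rw [map_zero, eval₂_map]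
    have h1 := Polynomial.hom_eval₂ p
      ((algebraMap (B₀ ⊗[A] A') ((B₀ ⊗[A] A') ⊗[B₀] C)).comp (kap A A' B₀))
      (E A A' B₀ C).toRingHom w
    have h2 : (E A A' B₀ C).toRingHom.comp
        ((algebraMap (B₀ ⊗[A] A') ((B₀ ⊗[A] A') ⊗[B₀] C)).comp (kap A A' B₀)) = rho A A' B₀ C :=
      RingHom.ext fun x => (rho_eq A A' B₀ C x).symm
    rw [h2] at h1
    have h3 : (E A A' B₀ C).toRingHom w = z := (E A A' B₀ C).apply_symm_apply z
    rw [h3, hpz] at h1
    exact h1
  obtain ⟨v, hv⟩ := mem_range_of_isIntegral B₀ (B₀ ⊗[A] A') C hNH w hwi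
  have hv' : bc B₀ (B₀ ⊗[A] A') (integralClosure B₀ C).val v = w := hv
  have := E_bc_mem A A' B₀ C v
  rw [hv', hw, RingEquiv.apply_symm_apply] at this
  exact this

end lemX



open Polynomial TensorProduct Groth.Agent.Lib.Helper23.IntClosBC

section main

variable (A : Type u) [CommRing A] [IsNoetherianRing A]
  (A' : Type u) [CommRing A'] [IsNoetherianRing A'] [Algebra A A']
  (B C : Type u) [CommRing B] [CommRing C] [Algebra A B] [Algebra A C] [Algebra B C]
  [IsScalarTower A B C]

/-- inclusion of integral closures -/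
noncomputable def icIncl' (B₀ : Subalgebra A B) : integralClosure B₀ C →ₐ[A] integralClosure B C :=
  (((integralClosure B₀ C).val.restrictScalars A)).codRestrict
    ((integralClosure B C).restrictScalars A)
    (fun c => by
      show (c : C) ∈ integralClosure B C
      rw [mem_integralClosure_iff]
      exact IsIntegral.tower_top (A := B) c.2)

theorem val_comp_icIncl' (B₀ : Subalgebra A B) :
    ((integralClosure B C).val.restrictScalars A).comp (icIncl' A B C B₀) =
      (integralClosure B₀ C).val.restrictScalars A :=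
  AlgHom.ext fun _ => rfl

theorem main_sub (h : EGA4.IsNormalHom A A') (B₀ : Subalgebra A B) (hfg : B₀.FG)
    (z : A' ⊗[A] C)
    (hz : ((bc A A' (IsScalarTower.toAlgHom A B C)).toRingHom.comp
      (bc A A' B₀.val).toRingHom).IsIntegralElem z) :
    z ∈ Set.range (Algebra.TensorProduct.map (AlgHom.id A' A')
        ((integralClosure B C).val.restrictScalars A)) := by
  haveI : Algebra.FiniteType A B₀ := (Subalgebra.fg_iff_finiteType _).mp hfg
  haveI : IsNoetherianRing B₀ := Algebra.FiniteType.isNoetherianRing A _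
  haveI : IsNoetherianRing (A' ⊗[A] B₀) := Algebra.FiniteType.isNoetherianRing A' _
  haveI : IsNoetherianRing (B₀ ⊗[A] A') :=
    isNoetherianRing_of_ringEquiv (A' ⊗[A] B₀) (Algebra.TensorProduct.comm A A' B₀).toRingEquiv
  have hrho : (bc A A' (IsScalarTower.toAlgHom A B C)).toRingHom.comp
      (bc A A' B₀.val).toRingHom = rho A A' B₀ C := by
    have := bc_comp A A' B₀.val (IsScalarTower.toAlgHom A B C)
    have h2 : (IsScalarTower.toAlgHom A B C).comp B₀.val = IsScalarTower.toAlgHom A B₀ C :=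
      AlgHom.ext fun _ => rfl
    rw [h2] at this
    exact congrArg (fun f : A' ⊗[A] B₀ →ₐ[A'] A' ⊗[A] C => f.toRingHom) this
  rw [hrho] at hz
  obtain ⟨v, hv⟩ := lemX A A' B₀ C h z hz
  refine ⟨Algebra.TensorProduct.map (AlgHom.id A' A') (icIncl' A B C B₀) v, ?_⟩
  rw [← hv, ← val_comp_icIncl' A B C B₀]
  rw [← AlgHom.comp_apply, ← Algebra.TensorProduct.map_comp, AlgHom.id_comp]

theorem main (h : EGA4.IsNormalHom A A') :
    (integralClosure
          ↥(Algebra.TensorProduct.map (AlgHom.id A' A') (IsScalarTower.toAlgHom A B C)).range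
          (A' ⊗[A] C) : Set (A' ⊗[A] C)) =
      Set.range (Algebra.TensorProduct.map (AlgHom.id A' A')
        ((integralClosure B C).val.restrictScalars A)) := by
  set ρ := bc A A' (IsScalarTower.toAlgHom A B C) with hρ
  apply Set.Subset.antisymm
  · intro z hz
    obtain ⟨p, hp, hpz⟩ := hz
    -- lift `p` to `A' ⊗ B`
    have hsurj : Function.Surjective ρ.rangeRestrict := ρ.rangeRestrict_surjective
    obtain ⟨p', hp'map, -, hp'm⟩ := Polynomial.lifts_and_natDegree_eq_and_monic
      (f := ρ.rangeRestrict.toRingHom) (p := p)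
      ((Polynomial.mem_lifts _).mpr (Polynomial.map_surjective _ hsurj p)) hp
    have hp'z : eval₂ ρ.toRingHom z p' = 0 := by
      rw [← hp'map, eval₂_map] at hpz
      exact hpz
    -- descend to a finitely generated subalgebra
    obtain ⟨s, hs⟩ := Groth.Agent.Lib.Helper23.NormalBC.exists_finset_forall_mem_range A A' B
      p'.coeffs
    have hlift : p' ∈ Polynomial.lifts (bc A A' (Algebra.adjoin A (s : Set B)).val).toRingHom := by
      rw [Polynomial.lifts_iff_coeff_lifts]
      intro n
      by_cases hn : p'.coeff n = 0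
      · exact ⟨0, by rw [hn, map_zero]⟩
      · obtain ⟨x, hx⟩ := hs _ (Polynomial.coeff_mem_coeffs hn)
        refine ⟨x, ?_⟩
        rw [← hx]
        show bc A A' (Algebra.adjoin A (s : Set B)).val x = _
        rw [← lTensor_eq_bc]
        clear hx
        induction x with
        | zero => simp
        | tmul a d => simp
        | add x y hx hy => rw [map_add, hx, hy, map_add]
    obtain ⟨p'', hp''map, -, hp''m⟩ := Polynomial.lifts_and_natDegree_eq_and_monic hlift hp'm
    apply main_sub A A' B C h (Algebra.adjoin A (s : Set B)) (Subalgebra.fg_adjoin_finset s) z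
    refine ⟨p'', hp''m, ?_⟩
    rw [← hp''map, eval₂_map] at hp'z
    exact hp'z
  · rintro _ ⟨w, rfl⟩
    show _ ∈ integralClosure _ _
    rw [mem_integralClosure_iff]
    induction w with
    | zero => rw [map_zero]; exact isIntegral_zero
    | tmul a d =>
      have h1 : Algebra.TensorProduct.map (AlgHom.id A' A')
          ((integralClosure B C).val.restrictScalars A) (a ⊗ₜ d) =
          (a ⊗ₜ[A] (1 : C)) * ((1 : A') ⊗ₜ[A] (d : C)) := by
        simp
      rw [h1]
      apply IsIntegral.mul
      · have : (a ⊗ₜ[A] (1 : C)) = algebraMap (↥ρ.range) (A' ⊗[A] C) ⟨a ⊗ₜ[A] (1 : C),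
            ⟨a ⊗ₜ[A] (1 : B), by simp [hρ, bc]⟩⟩ := rfl
        rw [this]
        exact isIntegral_algebraMap
      · have hd : IsIntegral B (d : C) := d.2
        exact hd.map_of_comp_eq
          (ρ.rangeRestrict.toRingHom.comp
            (Algebra.TensorProduct.includeRight : B →ₐ[A] A' ⊗[A] B).toRingHom)
          (Algebra.TensorProduct.includeRight : C →ₐ[A] A' ⊗[A] C).toRingHom
          (RingHom.ext fun b => by
            simp only [RingHom.comp_apply]
            show ρ ((1 : A') ⊗ₜ[A] b) = (1 : A') ⊗ₜ[A] (algebraMap B C b)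
            simp [hρ, bc])
    | add x y hx hy => rw [map_add]; exact hx.add hy

end main

end Groth.Agent.Lib.Helper23.IntClosBC2
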