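import Mathlib
import Groth.Prelude.Def_Found
import Groth.Agent.Lib.Helper6.UnivHomeoRing

/-!
EGA 0_IV 23.2.x (S4614): A domain, B Noetherian flat A-algebra with B/q N-2 for minimal q, K'/Frac A finite: among the finite A-subalgebras C of K' with fraction field K' there is C_α with (C_α⊗B)_red → (C⊗B)_red bijective for all C ⊇ C_α; if B is faithfully flat, Spec A' → Spec C_α is radicial.  Method: images of B⊗C in the product over the minimal primes P of B⊗K' of integralClosure B κ(P) (finite B-modules: QuasiFinite residue field finiteness + N-2) form a family of submodules of a Noetherian module; field-point argument for radiciality.  Key lemmas: under_mem_minimalPrimes, finite_integralClosure_residueField, PhiC/PsiInt, isNilpotent_of_PsiInt_eq_zero, exists_stable, exists_PC, hom_ext_of_stable, main.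
-/

set_option autoImplicit false
set_option linter.style.haveILetI false
set_option linter.unusedSectionVars false
universe u


namespace Groth.Agent.Lib.Helper23.RedStab


open TensorProduct

section setup

variable (A B K' : Type u) [CommRing A] [IsDomain A] [CommRing B] [Algebra A B]
  [Field K'] [Algebra A K'] [Algebra (FractionRing A) K'] [IsScalarTower A (FractionRing A) K']
  [FiniteDimensional (FractionRing A) K']

theorem quasiFinite_base : Algebra.QuasiFinite A K' :=
  Algebra.QuasiFinite.trans A (FractionRing A) K'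

theorem essFiniteType_base : Algebra.EssFiniteType A K' := by
  haveI : Algebra.EssFiniteType A (FractionRing A) :=
    Algebra.EssFiniteType.of_isLocalization (FractionRing A) (nonZeroDivisors A)
  exact Algebra.EssFiniteType.comp A (FractionRing A) K'

instance : Algebra.QuasiFinite B (B ⊗[A] K') := by
  haveI := quasiFinite_base A K'
  infer_instance

instance : Algebra.EssFiniteType B (B ⊗[A] K') := by
  haveI := essFiniteType_base A K'
  infer_instance

instance [IsNoetherianRing B] : IsNoetherianRing (B ⊗[A] K') :=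
  Algebra.EssFiniteType.isNoetherianRing B _

instance [Module.Flat A B] : Module.Flat B (B ⊗[A] K') := by
  haveI : Module.Flat A (FractionRing A) := IsLocalization.flat _ (nonZeroDivisors A)
  haveI : Module.Flat A K' := Module.Flat.trans A (FractionRing A) K'
  infer_instance

/-- minimal primes of `B ⊗ K'` contract to minimal primes of `B` -/
theorem under_mem_minimalPrimes [Module.Flat A B] (P : Ideal (B ⊗[A] K')) (hP : P ∈ minimalPrimes (B ⊗[A] K')) :
    P.under B ∈ minimalPrimes B := by
  haveI : P.IsPrime := hP.1.1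
  haveI : (P.under B).IsPrime := Ideal.IsPrime.under B P
  obtain ⟨q', hq', hle⟩ := Ideal.exists_minimalPrimes_le (I := (⊥ : Ideal B)) (J := P.under B) bot_le
  haveI : q'.IsPrime := hq'.1.1
  obtain ⟨P', hP'le, hP'prime, hP'over⟩ := Ideal.exists_ideal_le_liesOver_of_le (p := q') (q := P.under B) P hle
  have heq : P' = P := le_antisymm hP'le (hP.2 ⟨hP'prime, bot_le⟩ hP'le)
  have : q' = P.under B := by
    rw [← heq]
    exact hP'over.over
  rw [← this]
  exact hq'

end setup



open TensorProduct

section fin

variable (A B K' : Type u) [CommRing A] [IsDomain A] [CommRing B] [Algebra A B]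
  [IsNoetherianRing B] [Module.Flat A B]
  [Field K'] [Algebra A K'] [Algebra (FractionRing A) K'] [IsScalarTower A (FractionRing A) K']
  [FiniteDimensional (FractionRing A) K']

theorem finite_integralClosure_residueField
    (hJ : ∀ (q : Ideal B) [q.IsPrime], q ∈ minimalPrimes B → CAlg.IsN2 (B ⧸ q))
    (P : Ideal (B ⊗[A] K')) [P.IsPrime] (hP : P ∈ minimalPrimes (B ⊗[A] K')) :
    Module.Finite B (integralClosure B P.ResidueField) := by
  set q := P.under B with hqdef
  have hq : q ∈ minimalPrimes B := under_mem_minimalPrimes A B K' P hP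
  haveI : q.IsPrime := hq.1.1
  have hker : ∀ b : B, algebraMap B P.ResidueField b = 0 ↔ b ∈ q := by
    intro b
    rw [IsScalarTower.algebraMap_apply B (B ⊗[A] K') P.ResidueField,
      Ideal.algebraMap_residueField_eq_zero]
    rfl
  let φ : B ⧸ q →+* P.ResidueField :=
    Ideal.Quotient.lift q (algebraMap B P.ResidueField) (fun b hb => (hker b).mpr hb)
  letI : Algebra (B ⧸ q) P.ResidueField := φ.toAlgebra
  haveI : IsScalarTower B (B ⧸ q) P.ResidueField :=
    IsScalarTower.of_algebraMap_eq (fun b => rfl)
  have hinj : Function.Injective (algebraMap (B ⧸ q) P.ResidueField) := by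
    rw [injective_iff_map_eq_zero]
    intro x hx
    obtain ⟨b, rfl⟩ := Ideal.Quotient.mk_surjective x
    have : algebraMap B P.ResidueField b = 0 := hx
    exact Ideal.Quotient.eq_zero_iff_mem.mpr ((hker b).mp this)
  haveI : FaithfulSMul (B ⧸ q) P.ResidueField :=
    (faithfulSMul_iff_algebraMap_injective _ _).mpr hinj
  letI : Algebra (FractionRing (B ⧸ q)) P.ResidueField := FractionRing.liftAlgebra (B ⧸ q) _
  haveI : IsScalarTower (B ⧸ q) (FractionRing (B ⧸ q)) P.ResidueField :=
    FractionRing.isScalarTower_liftAlgebra (B ⧸ q) _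
  haveI : IsScalarTower B (FractionRing (B ⧸ q)) P.ResidueField :=
    IsScalarTower.of_algebraMap_eq (fun b => by
      rw [IsScalarTower.algebraMap_apply B (B ⧸ q) (FractionRing (B ⧸ q)),
        ← IsScalarTower.algebraMap_apply (B ⧸ q) (FractionRing (B ⧸ q)) P.ResidueField,
        ← IsScalarTower.algebraMap_apply B (B ⧸ q) P.ResidueField])
  haveI : Algebra.QuasiFinite B P.ResidueField := inferInstance
  haveI : Algebra.QuasiFinite (FractionRing (B ⧸ q)) P.ResidueField :=
    Algebra.QuasiFinite.of_restrictScalars B _ _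
  haveI hfd : FiniteDimensional (FractionRing (B ⧸ q)) P.ResidueField :=
    Module.Finite.of_quasiFinite
  have h := hJ q hq P.ResidueField hfd
  haveI := h
  haveI : Module.Finite B (integralClosure (B ⧸ q) P.ResidueField) :=
    Module.Finite.trans (B ⧸ q) _
  haveI : Algebra.IsIntegral B (B ⧸ q) :=
    Algebra.isIntegral_of_surjective Ideal.Quotient.mk_surjective
  let f : ↥(integralClosure (B ⧸ q) P.ResidueField) →ₗ[B] ↥(integralClosure B P.ResidueField) :=
    { toFun := fun x => ⟨x.1, isIntegral_trans _ x.2⟩
      map_add' := fun x y => rfl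
      map_smul' := fun b x => by
        apply Subtype.ext
        simp only [RingHom.id_apply]
        rfl }
  refine Module.Finite.of_surjective f ?_
  intro y
  exact ⟨⟨y.1, IsIntegral.tower_top y.2⟩, rfl⟩

end fin



open TensorProduct

section stab

variable (A B K' : Type u) [CommRing A] [IsDomain A] [CommRing B] [Algebra A B]
  [IsNoetherianRing B] [Module.Flat A B]
  [Field K'] [Algebra A K'] [Algebra (FractionRing A) K'] [IsScalarTower A (FractionRing A) K']
  [FiniteDimensional (FractionRing A) K']

/-- index type: the minimal primes of `B ⊗ K'` -/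
abbrev MPL : Type u := {P : Ideal (B ⊗[A] K') // P ∈ minimalPrimes (B ⊗[A] K')}

instance instPrimeMPL (i : MPL A B K') : i.1.IsPrime := i.2.1.1

noncomputable instance : Fintype (MPL A B K') :=
  (minimalPrimes.finite_of_isNoetherianRing (B ⊗[A] K')).fintype

/-- the target module: product of the integral closures of `B` in the residue fields -/
abbrev Fint : Type u := ∀ i : MPL A B K', ↥(integralClosure B i.1.ResidueField)

variable {A B K'}

/-- the map `B ⊗ C → B ⊗ K'` -/
noncomputable abbrev PhiC (C : Subalgebra A K') : B ⊗[A] C →ₐ[B] B ⊗[A] K' :=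
  Algebra.TensorProduct.map (AlgHom.id B B) C.val

theorem PhiC_injective (C : Subalgebra A K') : Function.Injective (PhiC (B := B) C) := by
  have := Module.Flat.lTensor_preserves_injective_linearMap (M := B) C.val.toLinearMap
    Subtype.val_injective
  have hfun : ∀ x, LinearMap.lTensor B C.val.toLinearMap x = PhiC (B := B) C x := by
    intro x
    induction x with
    | zero => simp
    | tmul a d => simp
    | add x y hx hy => rw [map_add, hx, hy, map_add]
  intro x y hxy
  apply this
  rw [hfun, hfun, hxy]

theorem PhiC_comp {C C' : Subalgebra A K'} (hle : C ≤ C') (x : B ⊗[A] C) :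
    PhiC (B := B) C' (Algebra.TensorProduct.map (AlgHom.id B B) (Subalgebra.inclusion hle) x) =
      PhiC (B := B) C x := by
  rw [← AlgHom.comp_apply, ← Algebra.TensorProduct.map_comp]
  rfl

/-- the map to the product of integral closures -/
noncomputable def PsiInt (C : Subalgebra A K') (hC : Module.Finite A C) :
    B ⊗[A] C →ₗ[B] Fint A B K' :=
  LinearMap.pi (fun i =>
    LinearMap.codRestrict (Subalgebra.toSubmodule (integralClosure B i.1.ResidueField))
      ((Algebra.linearMap (B ⊗[A] K') i.1.ResidueField).restrictScalars B ∘ₗ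
        (PhiC (B := B) C).toLinearMap)
      (fun z => by
        haveI := hC
        haveI : Algebra.IsIntegral B (B ⊗[A] C) := Algebra.IsIntegral.of_finite B _
        have h1 : IsIntegral B z := Algebra.IsIntegral.isIntegral z
        have h2 : IsIntegral B (PhiC (B := B) C z) := h1.map (PhiC (B := B) C)
        exact h2.map (IsScalarTower.toAlgHom B (B ⊗[A] K') i.1.ResidueField)))

theorem PsiInt_apply (C : Subalgebra A K') (hC : Module.Finite A C) (z : B ⊗[A] C)
    (i : MPL A B K') :
    ((PsiInt C hC z) i : i.1.ResidueField) =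
      algebraMap (B ⊗[A] K') i.1.ResidueField (PhiC (B := B) C z) := rfl

theorem PsiInt_comp {C C' : Subalgebra A K'} (hC : Module.Finite A C) (hC' : Module.Finite A C')
    (hle : C ≤ C') (x : B ⊗[A] C) :
    PsiInt C' hC' (Algebra.TensorProduct.map (AlgHom.id B B) (Subalgebra.inclusion hle) x) =
      PsiInt C hC x := by
  funext i
  apply Subtype.ext
  rw [PsiInt_apply, PsiInt_apply, PhiC_comp]

theorem isNilpotent_of_PsiInt_eq_zero (C : Subalgebra A K') (hC : Module.Finite A C)
    (z : B ⊗[A] C) (hz : PsiInt C hC z = 0) : IsNilpotent z := by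
  have h1 : PhiC (B := B) C z ∈ nilradical (B ⊗[A] K') := by
    have : nilradical (B ⊗[A] K') = sInf (minimalPrimes (B ⊗[A] K')) := by
      rw [minimalPrimes, Ideal.sInf_minimalPrimes]
      rfl
    rw [this, Ideal.mem_sInf]
    intro P hP
    haveI : P.IsPrime := hP.1.1
    have h2 := congrFun hz ⟨P, hP⟩
    have h3 : algebraMap (B ⊗[A] K') P.ResidueField (PhiC (B := B) C z) = 0 := by
      have := congrArg Subtype.val h2
      rw [PsiInt_apply] at this
      exact this
    exact (Ideal.algebraMap_residueField_eq_zero).mp h3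
  obtain ⟨n, hn⟩ := h1
  refine ⟨n, PhiC_injective C ?_⟩
  rw [map_pow, hn, map_zero]

variable (A B K')

theorem isNoetherian_Fint
    (hJ : ∀ (q : Ideal B) [q.IsPrime], q ∈ minimalPrimes B → CAlg.IsN2 (B ⧸ q)) :
    IsNoetherian B (Fint A B K') := by
  haveI : ∀ i : MPL A B K', IsNoetherian B ↥(integralClosure B i.1.ResidueField) := by
    intro i
    haveI := finite_integralClosure_residueField A B K' hJ i.1 i.2
    exact isNoetherian_of_isNoetherianRing_of_finite B _
  exact isNoetherian_pi

/-- the family of admissible subalgebras -/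
def PC (C : Subalgebra A K') : Prop :=
  Module.Finite A C ∧ ∀ x : K', ∃ a b : C, (b : K') ≠ 0 ∧ x * b = a

theorem exists_stable
    (hJ : ∀ (q : Ideal B) [q.IsPrime], q ∈ minimalPrimes B → CAlg.IsN2 (B ⧸ q))
    (hne : ∃ C : Subalgebra A K', PC A K' C) :
    ∃ Cα : Subalgebra A K', PC A K' Cα ∧
      ∀ C : Subalgebra A K', PC A K' C → ∀ hle : Cα ≤ C, ∀ y : B ⊗[A] C, ∃ x : B ⊗[A] Cα,
        IsNilpotent (Algebra.TensorProduct.map (AlgHom.id B B) (Subalgebra.inclusion hle) x - y) := by
  haveI := isNoetherian_Fint A B K' hJ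
  let 𝒮 : Set (Submodule B (Fint A B K')) :=
    {N | ∃ (C : Subalgebra A K') (hC : PC A K' C), N = LinearMap.range (PsiInt (B := B) C hC.1)}
  have h𝒮 : 𝒮.Nonempty := by
    obtain ⟨C, hC⟩ := hne
    exact ⟨_, C, hC, rfl⟩
  obtain ⟨N, ⟨Cα, hCα, rfl⟩, hmax⟩ := (wellFounded_gt (α := Submodule B (Fint A B K'))).has_min 𝒮 h𝒮
  refine ⟨Cα, hCα, fun C hC hle y => ?_⟩
  have hmono : LinearMap.range (PsiInt (B := B) Cα hCα.1) ≤ LinearMap.range (PsiInt (B := B) C hC.1) := by
    rintro _ ⟨x, rfl⟩
    exact ⟨_, PsiInt_comp hCα.1 hC.1 hle x⟩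
  have heq : LinearMap.range (PsiInt (B := B) C hC.1) = LinearMap.range (PsiInt (B := B) Cα hCα.1) := by
    by_contra hne'
    exact hmax _ ⟨C, hC, rfl⟩ (lt_of_le_of_ne hmono (Ne.symm hne'))
  have hy : PsiInt C hC.1 y ∈ LinearMap.range (PsiInt (B := B) Cα hCα.1) := by
    rw [← heq]; exact ⟨y, rfl⟩
  obtain ⟨x, hx⟩ := hy
  refine ⟨x, isNilpotent_of_PsiInt_eq_zero C hC.1 _ ?_⟩
  rw [map_sub, PsiInt_comp hCα.1 hC.1 hle, hx, sub_self]

end stab



open TensorProduct

section ne

variable (A K' : Type u) [CommRing A] [IsDomain A]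
  [Field K'] [Algebra A K'] [Algebra (FractionRing A) K'] [IsScalarTower A (FractionRing A) K']
  [FiniteDimensional (FractionRing A) K']

theorem algebraMap_injective_K' : Function.Injective (algebraMap A K') := by
  rw [IsScalarTower.algebraMap_eq A (FractionRing A) K']
  exact (algebraMap (FractionRing A) K').injective.comp (IsFractionRing.injective A _)

theorem exists_PC : ∃ C : Subalgebra A K', PC A K' C := by
  classical
  obtain ⟨s, b, hb⟩ := FiniteDimensional.exists_is_basis_integral A (FractionRing A) K'
  refine ⟨Algebra.adjoin A (Set.range b), ?_, ?_⟩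
  · have h := fg_adjoin_of_finite (R := A) (Set.finite_range b) (by
      rintro _ ⟨i, rfl⟩
      exact hb i)
    exact Module.Finite.iff_fg.mpr h
  · intro x
    obtain ⟨d, hd⟩ := IsLocalization.exist_integer_multiples_of_finite (nonZeroDivisors A)
      (fun i : s => b.repr x i)
    choose m hm using hd
    have hbmem : ∀ i : s, b i ∈ Algebra.adjoin A (Set.range b) :=
      fun i => Algebra.subset_adjoin ⟨i, rfl⟩
    refine ⟨∑ i : s, m i • ⟨b i, hbmem i⟩, algebraMap A _ (d : A), ?_, ?_⟩
    · intro h0
      have h1 : algebraMap A K' (d : A) = 0 := h0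
      have h2 := algebraMap_injective_K' A K' (h1.trans (map_zero _).symm)
      exact nonZeroDivisors.coe_ne_zero d h2
    · have hx : x = ∑ i : s, b.repr x i • b i := (b.sum_repr x).symm
      have h1 : ((algebraMap A ↥(Algebra.adjoin A (Set.range b)) (d : A) : ↥(Algebra.adjoin A (Set.range b))) : K') =
          algebraMap A K' (d : A) := rfl
      rw [h1]
      have h2 : ((∑ i : s, m i • (⟨b i, hbmem i⟩ : ↥(Algebra.adjoin A (Set.range b))) :
          ↥(Algebra.adjoin A (Set.range b))) : K') = ∑ i : s, m i • b i := by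
        rw [AddSubmonoidClass.coe_finset_sum]
        rfl
      rw [h2]
      conv_lhs => rw [hx]
      rw [Finset.sum_mul]
      refine Finset.sum_congr rfl (fun i _ => ?_)
      have h3 := hm i
      -- `algebraMap A K (m i) = d • repr`
      rw [mul_comm, ← Algebra.smul_def, ← smul_assoc]
      have h4 : (d : A) • (b.repr x i) = algebraMap A (FractionRing A) (m i) := h3.symm
      rw [h4, algebraMap_smul]

end ne



open TensorProduct AlgebraicGeometry

section radicial

variable (A B K' : Type u) [CommRing A] [IsDomain A] [CommRing B] [Algebra A B]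
  [Field K'] [Algebra A K']

/-- the radicial step: field-valued points of `C` are determined by their restriction to `Cα` -/
theorem hom_ext_of_stable [Module.FaithfullyFlat A B] (Cα C : Subalgebra A K') (hle : Cα ≤ C)
    (hst : ∀ y : B ⊗[A] C, ∃ x : B ⊗[A] Cα,
      IsNilpotent (Algebra.TensorProduct.map (AlgHom.id B B) (Subalgebra.inclusion hle) x - y))
    (F : Type u) [Field F] (g₁ g₂ : C →+* F)
    (hg : g₁.comp (Subalgebra.inclusion hle).toRingHom = g₂.comp (Subalgebra.inclusion hle).toRingHom) :
    g₁ = g₂ := by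
  letI : Algebra A F := (g₁.comp (algebraMap A C)).toAlgebra
  have hcomm₂ : ∀ a : A, g₂ (algebraMap A C a) = algebraMap A F a := by
    intro a
    have h1 : algebraMap A C a = Subalgebra.inclusion hle (algebraMap A Cα a) := rfl
    rw [h1]
    have := congrArg (fun f => f (algebraMap A Cα a)) hg
    exact this.symm
  let G₁ : C →ₐ[A] F := { g₁ with commutes' := fun a => rfl }
  let G₂ : C →ₐ[A] F := { g₂ with commutes' := hcomm₂ }
  have hG : G₁.comp (Subalgebra.inclusion hle) = G₂.comp (Subalgebra.inclusion hle) := by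
    apply AlgHom.ext
    intro x
    exact congrArg (fun f => f x) hg
  haveI : Nontrivial (B ⊗[A] F) := inferInstance
  obtain ⟨𝔪, h𝔪⟩ := Ideal.exists_maximal (B ⊗[A] F)
  letI : Field ((B ⊗[A] F) ⧸ 𝔪) := Ideal.Quotient.field 𝔪
  let h₁ : B ⊗[A] C →+* (B ⊗[A] F) ⧸ 𝔪 :=
    (Ideal.Quotient.mk 𝔪).comp (Algebra.TensorProduct.map (AlgHom.id B B) G₁).toRingHom
  let h₂ : B ⊗[A] C →+* (B ⊗[A] F) ⧸ 𝔪 :=
    (Ideal.Quotient.mk 𝔪).comp (Algebra.TensorProduct.map (AlgHom.id B B) G₂).toRingHom
  have hres : ∀ x : B ⊗[A] Cα,
      h₁ (Algebra.TensorProduct.map (AlgHom.id B B) (Subalgebra.inclusion hle) x) =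
      h₂ (Algebra.TensorProduct.map (AlgHom.id B B) (Subalgebra.inclusion hle) x) := by
    intro x
    show (Ideal.Quotient.mk 𝔪) ((Algebra.TensorProduct.map (AlgHom.id B B) G₁)
      (Algebra.TensorProduct.map (AlgHom.id B B) (Subalgebra.inclusion hle) x)) =
      (Ideal.Quotient.mk 𝔪) ((Algebra.TensorProduct.map (AlgHom.id B B) G₂)
      (Algebra.TensorProduct.map (AlgHom.id B B) (Subalgebra.inclusion hle) x))
    rw [← AlgHom.comp_apply, ← AlgHom.comp_apply, ← Algebra.TensorProduct.map_comp,
      ← Algebra.TensorProduct.map_comp, hG]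
  have hh : ∀ y : B ⊗[A] C, h₁ y = h₂ y := by
    intro y
    obtain ⟨x, hx⟩ := hst y
    have e1 : h₁ (Algebra.TensorProduct.map (AlgHom.id B B) (Subalgebra.inclusion hle) x - y) = 0 :=
      (hx.map h₁).eq_zero
    have e2 : h₂ (Algebra.TensorProduct.map (AlgHom.id B B) (Subalgebra.inclusion hle) x - y) = 0 :=
      (hx.map h₂).eq_zero
    rw [map_sub, sub_eq_zero] at e1 e2
    rw [← e1, ← e2, hres]
  let ρ : F →+* (B ⊗[A] F) ⧸ 𝔪 :=
    (Ideal.Quotient.mk 𝔪).comp (Algebra.TensorProduct.includeRight : F →ₐ[A] B ⊗[A] F).toRingHom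
  apply RingHom.ext
  intro c
  apply ρ.injective
  have := hh ((1 : B) ⊗ₜ[A] c)
  simpa [h₁, h₂, ρ, G₁, G₂] using this

end radicial

section final

variable (A B K' : Type u) [CommRing A] [IsDomain A] [CommRing B] [Algebra A B]
  [IsNoetherianRing B] [Module.Flat A B]
  [Field K'] [Algebra A K'] [Algebra (FractionRing A) K'] [IsScalarTower A (FractionRing A) K']
  [FiniteDimensional (FractionRing A) K']

theorem comm_map {C C' : Subalgebra A K'} (hle : C ≤ C') (x : ↥C ⊗[A] B) :
    Algebra.TensorProduct.comm A ↥C' B
      (Algebra.TensorProduct.map (Subalgebra.inclusion hle) (AlgHom.id A B) x) =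
    Algebra.TensorProduct.map (AlgHom.id B B) (Subalgebra.inclusion hle)
      (Algebra.TensorProduct.comm A ↥C B x) := by
  induction x with
  | zero => simp
  | tmul c b => simp
  | add x y hx hy => simp only [map_add, hx, hy]

theorem main
    (hJ : ∀ (q : Ideal B) [q.IsPrime], q ∈ minimalPrimes B → CAlg.IsN2 (B ⧸ q)) :
    let P : Subalgebra A K' → Prop := fun C : Subalgebra A K' =>
      Module.Finite A C ∧ ∀ x : K', ∃ a b : C, (b : K') ≠ 0 ∧ x * b = a
    ∃ Cα : Subalgebra A K', P Cα ∧
      (∀ C : Subalgebra A K', P C → ∀ hle : Cα ≤ C,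
        (∀ x : ↥Cα ⊗[A] B, IsNilpotent (Algebra.TensorProduct.map (Subalgebra.inclusion hle) (AlgHom.id A B) x) →
          IsNilpotent x) ∧
        (∀ y : ↥C ⊗[A] B, ∃ x : ↥Cα ⊗[A] B,
          IsNilpotent (Algebra.TensorProduct.map (Subalgebra.inclusion hle) (AlgHom.id A B) x - y))) ∧
      (Module.FaithfullyFlat A B → ∀ hint : Cα ≤ integralClosure A K',
        UniversallyInjective (Spec.map (CommRingCat.ofHom (Subalgebra.inclusion hint).toRingHom))) := by
  intro P
  obtain ⟨Cα, hCα, hst⟩ := exists_stable A B K' hJ (exists_PC A K')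
  refine ⟨Cα, hCα, ?_, ?_⟩
  · intro C hC hle
    refine ⟨?_, ?_⟩
    · intro x hx
      have hinj : Function.Injective
          (Algebra.TensorProduct.map (Subalgebra.inclusion hle) (AlgHom.id A B)) := by
        have := Module.Flat.rTensor_preserves_injective_linearMap (M := B)
          (Subalgebra.inclusion hle).toLinearMap (Subalgebra.inclusion_injective hle)
        have hfun : ∀ z, LinearMap.rTensor B (Subalgebra.inclusion hle).toLinearMap z =
            Algebra.TensorProduct.map (Subalgebra.inclusion hle) (AlgHom.id A B) z := by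
          intro z
          induction z with
          | zero => simp
          | tmul a d => simp
          | add x y hx hy => rw [map_add, hx, hy, map_add]
        intro x y hxy
        apply this
        rw [hfun, hfun, hxy]
      obtain ⟨n, hn⟩ := hx
      refine ⟨n, hinj ?_⟩
      rw [map_pow, hn, map_zero]
    · intro y
      obtain ⟨x', hx'⟩ := hst C hC hle (Algebra.TensorProduct.comm A ↥C B y)
      refine ⟨(Algebra.TensorProduct.comm A ↥Cα B).symm x', ?_⟩
      have h1 : Algebra.TensorProduct.comm A ↥C B
          (Algebra.TensorProduct.map (Subalgebra.inclusion hle) (AlgHom.id A B)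
            ((Algebra.TensorProduct.comm A ↥Cα B).symm x') - y) =
          Algebra.TensorProduct.map (AlgHom.id B B) (Subalgebra.inclusion hle) x' -
            Algebra.TensorProduct.comm A ↥C B y := by
        rw [map_sub, comm_map, AlgEquiv.apply_symm_apply]
      have h2 := hx'
      rw [← h1] at h2
      have h3 := h2.map (Algebra.TensorProduct.comm A ↥C B).symm
      rwa [AlgEquiv.symm_apply_apply] at h3
  · intro hff hint
    haveI := hff
    rw [Groth.Agent.Lib.Helper6.UnivHomeoRing.universallyInjective_SpecMap_iff]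
    intro F _ σ τ hστ
    apply RingHom.ext
    intro x
    -- a member of the family containing `x`
    have hxint : IsIntegral A (x : K') := x.2
    haveI : Module.Finite A ↥(Algebra.adjoin A {(x : K')}) :=
      Module.Finite.iff_fg.mpr hxint.fg_adjoin_singleton
    haveI := hCα.1
    set C : Subalgebra A K' := Cα ⊔ Algebra.adjoin A {(x : K')} with hC
    have hCfin : Module.Finite A C := Subalgebra.finite_sup Cα (Algebra.adjoin A {(x : K')})
    have hle : Cα ≤ C := le_sup_left
    have hCP : PC A K' C := by
      refine ⟨hCfin, fun z => ?_⟩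
      obtain ⟨a, b, hb, hab⟩ := hCα.2 z
      exact ⟨Subalgebra.inclusion hle a, Subalgebra.inclusion hle b, hb, hab⟩
    have hCint : C ≤ integralClosure A K' :=
      sup_le hint (Algebra.adjoin_le (by
        intro y hy
        rw [Set.mem_singleton_iff] at hy
        subst hy
        exact hxint))
    have hxC : (x : K') ∈ C :=
      (le_sup_right : Algebra.adjoin A {(x : K')} ≤ C) (Algebra.subset_adjoin rfl)
    have key := hom_ext_of_stable A B K' Cα C hle (hst C hCP hle) F
      (σ.comp (Subalgebra.inclusion hCint).toRingHom)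
      (τ.comp (Subalgebra.inclusion hCint).toRingHom)
      (by
        apply RingHom.ext
        intro c
        exact congrArg (fun f => f c) hστ)
    have := congrArg (fun f => f ⟨(x : K'), hxC⟩) key
    exact this

end final

end Groth.Agent.Lib.Helper23.RedStab
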