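import Mathlib
import Groth.Prelude.Def_Found
import Groth.Agent.Lib.Helper23.RedStab
import Groth.Agent.Lib.Helper18.Nag5
import Groth.Agent.Lib.Helper18.FormEquid1
import Groth.Agent.Lib.Helper21.AdicNoetherian

/-!
S4615: the case B = completion of a Noetherian local domain A of RedStab.main (complete local rings are Nagata, helper18 Nag5).
-/

set_option autoImplicit false
set_option linter.style.haveILetI false
set_option linter.unusedSectionVars false
universe u


namespace Groth.Agent.Lib.Helper23.RedStabCpl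


open TensorProduct AlgebraicGeometry IsLocalRing

theorem main (A K' : Type u) [CommRing A] [IsDomain A]
    [IsLocalRing A] [IsNoetherianRing A] [Field K'] [Algebra A K'] [Algebra (FractionRing A) K']
    [IsScalarTower A (FractionRing A) K'] [FiniteDimensional (FractionRing A) K'] :
    let Ah := AdicCompletion (IsLocalRing.maximalIdeal A) A
    let P : Subalgebra A K' → Prop := fun C : Subalgebra A K' => Module.Finite A C ∧ ∀ x : K', ∃ a b : C, (b : K') ≠ 0 ∧ x * b = a
    ∃ Cα : Subalgebra A K', P Cα ∧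
      (∀ C : Subalgebra A K', P C → ∀ hle : Cα ≤ C,
        (∀ x : ↥Cα ⊗[A] Ah, IsNilpotent (Algebra.TensorProduct.map (Subalgebra.inclusion hle) (AlgHom.id A Ah) x) →
          IsNilpotent x) ∧
        (∀ y : ↥C ⊗[A] Ah, ∃ x : ↥Cα ⊗[A] Ah,
          IsNilpotent (Algebra.TensorProduct.map (Subalgebra.inclusion hle) (AlgHom.id A Ah) x - y))) ∧
      (∀ hint : Cα ≤ integralClosure A K',
        UniversallyInjective (Spec.map (CommRingCat.ofHom (Subalgebra.inclusion hint).toRingHom))) := by
  intro Ah P
  haveI : IsNoetherianRing Ah :=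
    Groth.Agent.Lib.Helper21.isNoetherianRing_adicCompletion_of_fg _
      (maximalIdeal A).fg_of_isNoetherianRing
  haveI : IsAdicComplete (maximalIdeal (EGA4.Cpl A)) (EGA4.Cpl A) :=
    Groth.Agent.Lib.Helper18.FormEquid.isAdicComplete_cpl A
  haveI : IsAdicComplete (maximalIdeal Ah) Ah := ‹IsAdicComplete (maximalIdeal (EGA4.Cpl A)) (EGA4.Cpl A)›
  haveI : Module.Flat A Ah := inferInstance
  haveI : IsLocalHom (algebraMap A Ah) := inferInstance
  haveI : Module.FaithfullyFlat A Ah := Module.FaithfullyFlat.of_flat_of_isLocalHom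
  have hJ : ∀ (q : Ideal Ah) [q.IsPrime], q ∈ minimalPrimes Ah → CAlg.IsN2 (Ah ⧸ q) :=
    fun q _ _ => (Groth.Agent.Lib.Helper18.Nag.isNagata_of_isAdicComplete Ah).2 q
  obtain ⟨Cα, h1, h2, h3⟩ := Groth.Agent.Lib.Helper23.RedStab.main A Ah K' hJ
  exact ⟨Cα, h1, h2, h3 inferInstance⟩

end Groth.Agent.Lib.Helper23.RedStabCpl
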