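import Mathlib
import Groth.Prelude.Def_Found
import Groth.Agent.Lib.Helper23.RedStabCpl
import Groth.Agent.Lib.Helper6.UnivHomeoRing

/-!
Integral closure of a Noetherian local domain in a finite field extension is semilocal with finite residue extensions (EGA 0_IV 23.2.7 style, via RedStabCpl).
-/

set_option autoImplicit false
set_option linter.style.haveILetI false
set_option linter.unusedSectionVars false
universe u


namespace Groth.Agent.Lib.Helper23.IntClosSemilocal


open TensorProduct AlgebraicGeometry IsLocalRing Groth.Agent.Lib.Helper23.RedStab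

section

variable (A K' : Type u) [CommRing A] [IsDomain A]
    [IsLocalRing A] [IsNoetherianRing A] [Field K'] [Algebra A K'] [Algebra (FractionRing A) K']
    [IsScalarTower A (FractionRing A) K'] [FiniteDimensional (FractionRing A) K']

theorem comap_eq_maximalIdeal (n : Ideal (integralClosure A K')) [hn : n.IsMaximal] :
    n.comap (algebraMap A (integralClosure A K')) = maximalIdeal A := by
  haveI : Algebra.IsIntegral A (integralClosure A K') := inferInstance
  have := Ideal.isMaximal_comap_of_isIntegral_of_isMaximal (R := A) n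
  exact IsLocalRing.eq_maximalIdeal this

/-- the residue map `Â → A'/n` -/
noncomputable def rho (n : Ideal (integralClosure A K')) [hn : n.IsMaximal] :
    AdicCompletion (maximalIdeal A) A →ₐ[A] (integralClosure A K' ⧸ n) :=
  (Ideal.Quotient.liftₐ (maximalIdeal A ^ 1) (Algebra.ofId A (integralClosure A K' ⧸ n))
    (fun a ha => by
      rw [pow_one, ← comap_eq_maximalIdeal A K' n] at ha
      exact Ideal.Quotient.eq_zero_iff_mem.mpr ha)).comp
    (AdicCompletion.evalₐ (maximalIdeal A) 1)

theorem rho_exists (n : Ideal (integralClosure A K')) [hn : n.IsMaximal]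
    (z : AdicCompletion (maximalIdeal A) A) :
    ∃ a : A, rho A K' n z = algebraMap A _ a := by
  obtain ⟨a, ha⟩ := Ideal.Quotient.mk_surjective (AdicCompletion.evalₐ (maximalIdeal A) 1 z)
  refine ⟨a, ?_⟩
  simp only [rho, AlgHom.comp_apply]
  rw [← ha]
  rfl

/-- the map `C ⊗ Â → A'/n` -/
noncomputable def theta (n : Ideal (integralClosure A K')) [hn : n.IsMaximal]
    (C : Subalgebra A K') (hC : C ≤ integralClosure A K') :
    ↥C ⊗[A] AdicCompletion (maximalIdeal A) A →ₐ[A] (integralClosure A K' ⧸ n) :=
  Algebra.TensorProduct.lift ((Ideal.Quotient.mkₐ A n).comp (Subalgebra.inclusion hC))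
    (rho A K' n) (fun _ _ => Commute.all _ _)

theorem theta_tmul (n : Ideal (integralClosure A K')) [hn : n.IsMaximal]
    (C : Subalgebra A K') (hC : C ≤ integralClosure A K') (c : C)
    (z : AdicCompletion (maximalIdeal A) A) :
    theta A K' n C hC (c ⊗ₜ z) = Ideal.Quotient.mk n (Subalgebra.inclusion hC c) * rho A K' n z := by
  simp [theta]

theorem theta_map_mem (n : Ideal (integralClosure A K')) [hn : n.IsMaximal]
    (Cα C : Subalgebra A K') (hle : Cα ≤ C) (hC : C ≤ integralClosure A K')
    (x : ↥Cα ⊗[A] AdicCompletion (maximalIdeal A) A) :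
    ∃ c₀ : Cα, theta A K' n C hC
      (Algebra.TensorProduct.map (Subalgebra.inclusion hle) (AlgHom.id A _) x) =
        Ideal.Quotient.mk n (Subalgebra.inclusion (hle.trans hC) c₀) := by
  induction x with
  | zero => exact ⟨0, by simp⟩
  | tmul c z =>
    obtain ⟨a, ha⟩ := rho_exists A K' n z
    refine ⟨c * algebraMap A Cα a, ?_⟩
    rw [Algebra.TensorProduct.map_tmul, theta_tmul, AlgHom.id_apply, ha, map_mul, map_mul]
    rfl
  | add x y hx hy =>
    obtain ⟨c₁, h₁⟩ := hx
    obtain ⟨c₂, h₂⟩ := hy
    exact ⟨c₁ + c₂, by rw [map_add, map_add, h₁, h₂, map_add, map_add]⟩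

theorem main :
    {m : Ideal (integralClosure A K') | m.IsMaximal}.Finite ∧
      ∀ (m : Ideal (integralClosure A K')), m.IsMaximal →
        Module.Finite A (integralClosure A K' ⧸ m) := by
  obtain ⟨Cα, hCα, hst, hrad⟩ := Groth.Agent.Lib.Helper23.RedStabCpl.main A K'
  haveI := hCα.1
  have hint : Cα ≤ integralClosure A K' := by
    intro c hc
    haveI : Algebra.IsIntegral A Cα := Algebra.IsIntegral.of_finite A Cα
    have : IsIntegral A (⟨c, hc⟩ : Cα) := Algebra.IsIntegral.isIntegral _
    exact this.map Cα.val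
  -- surjectivity of `Cα → A'/n`
  have hsurj : ∀ (n : Ideal (integralClosure A K')) [n.IsMaximal] (x : integralClosure A K'),
      ∃ c₀ : Cα, Ideal.Quotient.mk n (Subalgebra.inclusion hint c₀) = Ideal.Quotient.mk n x := by
    intro n hn x
    have hxint : IsIntegral A (x : K') := x.2
    haveI : Module.Finite A ↥(Algebra.adjoin A {(x : K')}) :=
      Module.Finite.iff_fg.mpr hxint.fg_adjoin_singleton
    set C : Subalgebra A K' := Cα ⊔ Algebra.adjoin A {(x : K')} with hC
    have hCfin : Module.Finite A C := Subalgebra.finite_sup Cα (Algebra.adjoin A {(x : K')})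
    have hle : Cα ≤ C := le_sup_left
    have hCP : Module.Finite A C ∧ ∀ z : K', ∃ a b : C, (b : K') ≠ 0 ∧ z * b = a := by
      refine ⟨hCfin, fun z => ?_⟩
      obtain ⟨a, b, hb, hab⟩ := hCα.2 z
      exact ⟨Subalgebra.inclusion hle a, Subalgebra.inclusion hle b, hb, hab⟩
    have hCint : C ≤ integralClosure A K' :=
      sup_le hint (Algebra.adjoin_le (by
        intro y hy
        rw [Set.mem_singleton_iff] at hy
        subst hy
        exact hxint))
    have hxC : (x : K') ∈ C :=
      (le_sup_right : Algebra.adjoin A {(x : K')} ≤ C) (Algebra.subset_adjoin rfl)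
    obtain ⟨x', hx'⟩ := (hst C hCP hle).2 ((⟨(x : K'), hxC⟩ : C) ⊗ₜ 1)
    have h0 : theta A K' n C hCint
        (Algebra.TensorProduct.map (Subalgebra.inclusion hle) (AlgHom.id A _) x' -
          (⟨(x : K'), hxC⟩ : C) ⊗ₜ 1) = 0 := by
      haveI : IsDomain (integralClosure A K' ⧸ n) := Ideal.Quotient.isDomain n
      exact (hx'.map (theta A K' n C hCint)).eq_zero
    rw [map_sub, sub_eq_zero, theta_tmul, map_one, mul_one] at h0
    obtain ⟨c₀, hc₀⟩ := theta_map_mem A K' n Cα C hle hCint x'
    refine ⟨c₀, ?_⟩
    have : Subalgebra.inclusion (hle.trans hCint) c₀ = Subalgebra.inclusion hint c₀ := rfl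
    rw [← this, ← hc₀, h0]
    rfl
  refine ⟨?_, ?_⟩
  · -- finitely many maximal ideals
    have hcrit := (Groth.Agent.Lib.Helper6.UnivHomeoRing.universallyInjective_SpecMap_iff
      (CommRingCat.ofHom (Subalgebra.inclusion hint).toRingHom)).mp (hrad hint)
    haveI : Algebra.QuasiFinite A Cα := inferInstance
    have hfin := Algebra.QuasiFinite.finite_primesOver (R := A) (S := Cα) (maximalIdeal A)
    let φ : Ideal (integralClosure A K') → Ideal Cα :=
      fun n => n.comap (Subalgebra.inclusion hint).toRingHom
    refine Set.Finite.of_finite_image (f := φ) (hfin.subset ?_) ?_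
    · rintro _ ⟨n, hn, rfl⟩
      haveI : n.IsMaximal := hn
      refine ⟨Ideal.comap_isPrime _ _, ⟨?_⟩⟩
      have h1 := comap_eq_maximalIdeal A K' n
      rw [← h1]
      show _ = Ideal.comap (algebraMap A Cα) (Ideal.comap (Subalgebra.inclusion hint).toRingHom n)
      rw [Ideal.comap_comap]
      rfl
    · intro n₁ hn₁ n₂ hn₂ h12
      haveI : n₁.IsMaximal := hn₁
      haveI : n₂.IsMaximal := hn₂
      -- common field
      set p : Ideal Cα := φ n₁ with hp
      haveI : p.IsPrime := Ideal.comap_isPrime _ _
      letI : Field (integralClosure A K' ⧸ n₁) := Ideal.Quotient.field n₁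
      letI : Field (integralClosure A K' ⧸ n₂) := Ideal.Quotient.field n₂
      letI a1 : Algebra Cα (integralClosure A K' ⧸ n₁) :=
        ((Ideal.Quotient.mk n₁).comp (Subalgebra.inclusion hint).toRingHom).toAlgebra
      letI a2 : Algebra Cα (integralClosure A K' ⧸ n₂) :=
        ((Ideal.Quotient.mk n₂).comp (Subalgebra.inclusion hint).toRingHom).toAlgebra
      -- both are generated by `Cα`: use surjectivity to build a hom `A'/n₂ → A'/n₁`
      -- simpler: tensor product over `Cα`
      let g₁ : Cα →+* (integralClosure A K' ⧸ n₁) :=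
        (Ideal.Quotient.mk n₁).comp (Subalgebra.inclusion hint).toRingHom
      let g₂ : Cα →+* (integralClosure A K' ⧸ n₂) :=
        (Ideal.Quotient.mk n₂).comp (Subalgebra.inclusion hint).toRingHom
      have hs₂ : Function.Surjective g₂ := by
        intro y
        obtain ⟨x, rfl⟩ := Ideal.Quotient.mk_surjective y
        obtain ⟨c₀, hc₀⟩ := hsurj n₂ x
        exact ⟨c₀, hc₀⟩
      have hk : ∀ a ∈ RingHom.ker g₂, g₁ a = 0 := by
        intro a ha
        have h2 : a ∈ φ n₂ := by
          rw [RingHom.mem_ker] at ha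
          have ha' : Ideal.Quotient.mk n₂ (Subalgebra.inclusion hint a) = 0 := ha
          have ha'' : Subalgebra.inclusion hint a ∈ n₂ := Ideal.Quotient.eq_zero_iff_mem.mp ha'
          exact ha''
        rw [← h12] at h2
        have h2' : Subalgebra.inclusion hint a ∈ n₁ := h2
        exact Ideal.Quotient.eq_zero_iff_mem.mpr h2'
      let τ : integralClosure A K' →+* (integralClosure A K' ⧸ n₁) :=
        (Ideal.Quotient.lift (RingHom.ker g₂) g₁ hk).comp
          ((RingHom.quotientKerEquivOfSurjective hs₂).symm.toRingHom.comp (Ideal.Quotient.mk n₂))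
      have hστ : (Ideal.Quotient.mk n₁).comp (Subalgebra.inclusion hint).toRingHom =
          τ.comp (Subalgebra.inclusion hint).toRingHom := by
        ext c
        show g₁ c = Ideal.Quotient.lift (RingHom.ker g₂) g₁ hk
          ((RingHom.quotientKerEquivOfSurjective hs₂).symm (g₂ c))
        have : (RingHom.quotientKerEquivOfSurjective hs₂).symm (g₂ c) =
            Ideal.Quotient.mk (RingHom.ker g₂) c := by
          rw [RingEquiv.symm_apply_eq]
          rfl
        rw [this, Ideal.Quotient.lift_mk]
      have hστ' := hcrit (integralClosure A K' ⧸ n₁) (Ideal.Quotient.mk n₁) τ hστ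
      have hle : n₂ ≤ n₁ := by
        intro x hx
        have : τ x = 0 := by
          show Ideal.Quotient.lift (RingHom.ker g₂) g₁ hk
            ((RingHom.quotientKerEquivOfSurjective hs₂).symm (Ideal.Quotient.mk n₂ x)) = 0
          rw [Ideal.Quotient.eq_zero_iff_mem.mpr hx, map_zero, map_zero]
        rw [← hστ'] at this
        exact Ideal.Quotient.eq_zero_iff_mem.mp this
      exact (hn₂.eq_of_le hn₁.ne_top hle).symm
  · intro n hn
    haveI : n.IsMaximal := hn
    let f : Cα →ₗ[A] (integralClosure A K' ⧸ n) :=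
      ((Ideal.Quotient.mkₐ A n).comp (Subalgebra.inclusion hint)).toLinearMap
    refine Module.Finite.of_surjective f ?_
    intro y
    obtain ⟨x, rfl⟩ := Ideal.Quotient.mk_surjective y
    obtain ⟨c₀, hc₀⟩ := hsurj n x
    exact ⟨c₀, hc₀⟩

end

end Groth.Agent.Lib.Helper23.IntClosSemilocal
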