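import Mathlib
import Groth.Prelude.Def_W4c6modpairsegaMP
import Groth.Agent.Lib.Helper23.FinFibreMax
import Groth.Agent.Lib.Helper28.UncountableNss

/-!
helper23: S16917. exists_maximal_ge (ACC above a member in a family of irreducible closed subsets of a locally Noetherian scheme, via Krull height in an affine nbhd of the generic point); exists_le_of_closedPoints / exists_mem_le_of_closedPoints (irreducible closed T in f.t. scheme over uncountable alg. closed k whose closed points are covered by countably many closeds lies in one of them; uses Helper28.exists_maximal_not_mem); subset_of_closedPoints_eq; t16917.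
-/

set_option autoImplicit false
universe u
open CategoryTheory AlgebraicGeometry TopologicalSpace

namespace Groth.Agent.Lib.Helper23.IrredCountable

section


/-- ACC above a given member in a family of irreducible closed subsets of a locally Noetherian
scheme: every member lies below a maximal member. -/
theorem exists_maximal_ge {X : Scheme.{u}} [IsLocallyNoetherian X] (𝒞 : Set (Closeds X))
    (h𝒞 : ∀ T ∈ 𝒞, IsIrreducible (T : Set X)) (T₀ : Closeds X) (hT₀ : T₀ ∈ 𝒞) :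
    ∃ T ∈ 𝒞, T₀ ≤ T ∧ ∀ T' ∈ 𝒞, T ≤ T' → T' = T := by
  classical
  obtain ⟨η₀, hη₀⟩ : ∃ η₀, IsGenericPoint η₀ (T₀ : Set X) :=
    QuasiSober.sober (h𝒞 T₀ hT₀) T₀.isClosed
  obtain ⟨_, ⟨U, hU, rfl⟩, hη₀U, -⟩ :=
    X.isBasis_affineOpens.exists_subset_of_mem_open (Set.mem_univ η₀) isOpen_univ
  have hUaff : IsAffineOpen U := hU
  haveI : IsNoetherianRing Γ(X, U) := IsLocallyNoetherian.component_noetherian ⟨U, hU⟩
  let P : Set U := {y | ∃ T ∈ 𝒞, T₀ ≤ T ∧ IsGenericPoint y.1 (T : Set X)}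
  have hPne : P.Nonempty := ⟨⟨η₀, hη₀U⟩, T₀, hT₀, le_rfl, hη₀⟩
  let ht : U → ℕ∞ := fun y => (hUaff.primeIdealOf y).asIdeal.height
  obtain ⟨y, hyP, hymin⟩ := (InvImage.wf ht wellFounded_lt).has_min P hPne
  obtain ⟨T, hT𝒞, hT₀T, hyT⟩ := hyP
  refine ⟨T, hT𝒞, hT₀T, ?_⟩
  intro T' hT'𝒞 hTT'
  by_contra hne
  obtain ⟨η', hη'⟩ : ∃ η', IsGenericPoint η' (T' : Set X) :=
    QuasiSober.sober (h𝒞 T' hT'𝒞) T'.isClosed
  have hspec : η' ⤳ y.1 := by
    rw [specializes_iff_mem_closure, hη'.def]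
    exact hTT' hyT.mem
  have hη'U : η' ∈ U := hspec.mem_open U.isOpen y.2
  have hy'P : (⟨η', hη'U⟩ : U) ∈ P := ⟨T', hT'𝒞, hT₀T.trans hTT', hη'⟩
  apply hymin ⟨η', hη'U⟩ hy'P
  change (hUaff.primeIdealOf ⟨η', hη'U⟩).asIdeal.height < (hUaff.primeIdealOf y).asIdeal.height
  have hle : hUaff.primeIdealOf ⟨η', hη'U⟩ ≤ hUaff.primeIdealOf y := by
    rw [PrimeSpectrum.le_iff_specializes]
    have h1 : (⟨η', hη'U⟩ : U) ⤳ y := by
      rw [← Topology.IsInducing.subtypeVal.specializes_iff]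
      exact hspec
    exact h1.map (hUaff.isoSpec.hom.continuous)
  have hneq : hUaff.primeIdealOf ⟨η', hη'U⟩ ≠ hUaff.primeIdealOf y := by
    intro heq
    have h2 := Groth.Agent.Lib.Helper23.FinFibreMax.primeIdealOf_injective hUaff
      ⟨η', hη'U⟩ y (congrArg PrimeSpectrum.asIdeal heq)
    apply hne
    apply SetLike.coe_injective
    rw [← hη'.def, ← hyT.def]
    exact congrArg (fun z => closure {z}) h2
  have hlt : (hUaff.primeIdealOf ⟨η', hη'U⟩).asIdeal < (hUaff.primeIdealOf y).asIdeal :=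
    lt_of_le_of_ne hle (fun h => hneq (PrimeSpectrum.ext h))
  exact Ideal.height_strict_mono_of_isPrime_of_isPrime hlt


end

section


/-- An irreducible closed subset of a finite type scheme over an uncountable algebraically
closed field whose closed points are covered by countably many closed subsets is contained in
one of them. -/
theorem exists_le_of_closedPoints (k : Type u) [Field k] [IsAlgClosed k] [Uncountable k]
    (X : Scheme.{u}) (sX : X ⟶ Spec (CommRingCat.of k)) [LocallyOfFiniteType sX]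
    (T : Closeds X) (hT : IsIrreducible (T : Set X)) (T' : ℕ → Closeds X)
    (h : ∀ x : X, IsClosed ({x} : Set X) → x ∈ T → ∃ n, x ∈ T' n) : ∃ n, T ≤ T' n := by
  classical
  by_contra hcon
  push_neg at hcon
  have hJac : JacobsonSpace X := LocallyOfFiniteType.jacobsonSpace sX
  obtain ⟨η, hη⟩ : ∃ η, IsGenericPoint η (T : Set X) := QuasiSober.sober hT T.isClosed
  have hηT' : ∀ n, η ∉ T' n := by
    intro n hn
    apply hcon n
    intro x hx
    have : x ∈ closure ({η} : Set X) := hη.def ▸ hx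
    exact (closure_minimal (Set.singleton_subset_iff.mpr hn) (T' n).isClosed) this
  obtain ⟨_, ⟨U, hU, rfl⟩, hηU, -⟩ :=
    X.isBasis_affineOpens.exists_subset_of_mem_open (Set.mem_univ η) isOpen_univ
  have hUaff : IsAffineOpen U := hU
  let φ₀ : k →+* Γ(X, U) :=
    (sX.appLE ⊤ U (by simp)).hom.comp (Scheme.ΓSpecIso (CommRingCat.of k)).inv.hom
  let _ : Algebra k Γ(X, U) := φ₀.toAlgebra
  have hft : Algebra.FiniteType k Γ(X, U) := by
    have h1 : (sX.appLE ⊤ U (by simp)).hom.FiniteType :=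
      sX.finiteType_appLE (isAffineOpen_top _) hUaff _
    have h2 : ((Scheme.ΓSpecIso (CommRingCat.of k)).inv.hom).FiniteType :=
      RingHom.FiniteType.of_surjective _
        (ConcreteCategory.bijective_of_isIso (Scheme.ΓSpecIso (CommRingCat.of k)).inv).2
    exact h1.comp h2
  have hjemb : Topology.IsOpenEmbedding hUaff.fromSpec := hUaff.fromSpec.isOpenEmbedding
  have hjrange : Set.range hUaff.fromSpec = U := hUaff.range_fromSpec
  obtain ⟨y₀, hy₀⟩ : ∃ y₀ : PrimeSpectrum Γ(X, U), hUaff.fromSpec y₀ = η := by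
    have : η ∈ Set.range hUaff.fromSpec := hjrange ▸ hηU
    exact this
  -- choose the functions
  have hex : ∀ n, ∃ f : Γ(X, U), f ∉ y₀.asIdeal ∧
      ∀ q : PrimeSpectrum Γ(X, U), f ∉ q.asIdeal → hUaff.fromSpec q ∉ T' n := by
    intro n
    set W : Set (PrimeSpectrum Γ(X, U)) := hUaff.fromSpec ⁻¹' (T' n : Set X) with hW
    have hWcl : IsClosed W := (T' n).isClosed.preimage hjemb.continuous
    have hp : y₀ ∉ W := fun hy => hηT' n (hy₀ ▸ hy)
    have hWz : W = PrimeSpectrum.zeroLocus (PrimeSpectrum.vanishingIdeal W : Set Γ(X, U)) := by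
      rw [PrimeSpectrum.zeroLocus_vanishingIdeal_eq_closure, hWcl.closure_eq]
    rw [hWz, PrimeSpectrum.mem_zeroLocus, Set.not_subset] at hp
    obtain ⟨f, hfW, hfp⟩ := hp
    refine ⟨f, hfp, fun q hq hqZ => hq ?_⟩
    exact (PrimeSpectrum.mem_vanishingIdeal W f).mp hfW q hqZ
  choose f hf1 hf2 using hex
  -- the quotient domain
  let R := Γ(X, U) ⧸ y₀.asIdeal
  haveI : IsDomain R := Ideal.Quotient.isDomain _
  haveI : Algebra.FiniteType k R :=
    Algebra.FiniteType.of_surjective (Ideal.Quotient.mkₐ k y₀.asIdeal)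
      (Ideal.Quotient.mkₐ_surjective k y₀.asIdeal)
  have hnil : nilradical R = ⊥ := nilradical_eq_zero R
  have hprime : (nilradical R).IsPrime := hnil ▸ Ideal.isPrime_bot
  have hfbar : ∀ n, Ideal.Quotient.mk y₀.asIdeal (f n) ∉ nilradical R := by
    intro n hn
    rw [hnil, Ideal.mem_bot, Ideal.Quotient.eq_zero_iff_mem] at hn
    exact hf1 n hn
  obtain ⟨mbar, hmbar, hfm⟩ := Groth.Agent.Lib.Helper28.exists_maximal_not_mem (k := k) hprime
    (fun n => Ideal.Quotient.mk y₀.asIdeal (f n)) hfbar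
  let m : Ideal Γ(X, U) := mbar.comap (Ideal.Quotient.mk y₀.asIdeal)
  have hm : m.IsMaximal := Ideal.comap_isMaximal_of_surjective _ Ideal.Quotient.mk_surjective
  have hpm : y₀.asIdeal ≤ m := by
    intro a ha
    change Ideal.Quotient.mk y₀.asIdeal a ∈ mbar
    rw [Ideal.Quotient.eq_zero_iff_mem.mpr ha]
    exact mbar.zero_mem
  let y : PrimeSpectrum Γ(X, U) := ⟨m, hm.isPrime⟩
  have hxcl : IsClosed ({hUaff.fromSpec y} : Set X) := by
    apply isClosed_singleton_of_isLocallyClosed_singleton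
    have hycl : IsClosed ({y} : Set (PrimeSpectrum Γ(X, U))) :=
      (PrimeSpectrum.isClosed_singleton_iff_isMaximal y).mpr hm
    have := hycl.isLocallyClosed.image hjemb.isInducing hjemb.isOpen_range.isLocallyClosed
    simpa using this
  have hxT : hUaff.fromSpec y ∈ T := by
    have h1 : y₀ ⤳ y := (PrimeSpectrum.le_iff_specializes y₀ y).mp hpm
    have h2 : hUaff.fromSpec y₀ ⤳ hUaff.fromSpec y := h1.map hjemb.continuous
    rw [hy₀, specializes_iff_mem_closure, hη.def] at h2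
    exact h2
  obtain ⟨n, hn⟩ := h _ hxcl hxT
  exact hf2 n y (hfm n) hn


end

section


/-- countable-set version of `exists_le_of_closedPoints`. -/
theorem exists_mem_le_of_closedPoints (k : Type u) [Field k] [IsAlgClosed k] [Uncountable k]
    (X : Scheme.{u}) (sX : X ⟶ Spec (CommRingCat.of k)) [LocallyOfFiniteType sX]
    (T : Closeds X) (hT : IsIrreducible (T : Set X)) (S' : Set (Closeds X)) (hS' : S'.Countable)
    (h : ∀ x : X, IsClosed ({x} : Set X) → x ∈ T → ∃ T' ∈ S', x ∈ T') : ∃ T' ∈ S', T ≤ T' := by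
  have hc : (S' ∪ {⊥}).Countable := hS'.union (Set.countable_singleton _)
  have hne : (S' ∪ {⊥}).Nonempty := ⟨⊥, Or.inr rfl⟩
  obtain ⟨e, he⟩ := hc.exists_eq_range hne
  obtain ⟨n, hn⟩ := exists_le_of_closedPoints k X sX T hT e (by
    intro x hx hxT
    obtain ⟨T', hT', hxT'⟩ := h x hx hxT
    have : T' ∈ Set.range e := he ▸ Or.inl hT'
    obtain ⟨n, rfl⟩ := this
    exact ⟨n, hxT'⟩)
  have hen : e n ∈ S' ∪ {⊥} := he ▸ Set.mem_range_self n
  rcases hen with hen | hen
  · exact ⟨e n, hen, hn⟩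
  · exfalso
    rw [Set.mem_singleton_iff] at hen
    rw [hen] at hn
    obtain ⟨x, hx⟩ := hT.nonempty
    exact hn hx

theorem subset_of_closedPoints_eq (k : Type u) [Field k] [IsAlgClosed k] [Uncountable k]
    (X : Scheme.{u}) (sX : X ⟶ Spec (CommRingCat.of k)) [LocallyOfFiniteType sX]
    (S S' : Set (Closeds X)) (hSc : S.Countable) (hS'c : S'.Countable)
    (hSirr : ∀ T ∈ S, IsIrreducible (T : Set X)) (hS'irr : ∀ T ∈ S', IsIrreducible (T : Set X))
    (hSanti : IsAntichain (· ≤ ·) S)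
    (heq : {x : X | IsClosed ({x} : Set X) ∧ ∃ T ∈ S, x ∈ T} =
      {x : X | IsClosed ({x} : Set X) ∧ ∃ T ∈ S', x ∈ T}) : S ⊆ S' := by
  intro T hT
  obtain ⟨T', hT', hTT'⟩ := exists_mem_le_of_closedPoints k X sX T (hSirr T hT) S' hS'c (by
    intro x hx hxT
    have : x ∈ {x : X | IsClosed ({x} : Set X) ∧ ∃ T ∈ S', x ∈ T} := heq ▸ ⟨hx, T, hT, hxT⟩
    exact this.2)
  obtain ⟨T'', hT'', hT'T''⟩ := exists_mem_le_of_closedPoints k X sX T' (hS'irr T' hT') S hSc (by
    intro x hx hxT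
    have : x ∈ {x : X | IsClosed ({x} : Set X) ∧ ∃ T ∈ S, x ∈ T} := heq ▸ ⟨hx, T', hT', hxT⟩
    exact this.2)
  have h1 : T = T'' := by
    by_contra hne
    exact hSanti hT hT'' hne (hTT'.trans hT'T'')
  have h2 : T = T' := le_antisymm hTT' (h1 ▸ hT'T'')
  exact h2 ▸ hT'

theorem t16917 (k : Type u) [Field k] [IsAlgClosed k]
    [Uncountable k] (X : Scheme.{u}) (sX : X ⟶ Spec (CommRingCat.of k)) [LocallyOfFiniteType sX]
    [QuasiCompact sX] (Z : ℕ → TopologicalSpace.Closeds X) :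
    ∃! S : Set (TopologicalSpace.Closeds X), S.Countable ∧ (∀ T ∈ S, IsIrreducible (T : Set X)) ∧
      IsAntichain (· ≤ ·) S ∧
      {x : X | IsClosed ({x} : Set X) ∧ ∃ T ∈ S, x ∈ T} =
        {x : X | IsClosed ({x} : Set X) ∧ ∃ n, x ∈ Z n} := by
  classical
  haveI : IsLocallyNoetherian X := LocallyOfFiniteType.isLocallyNoetherian sX
  haveI : CompactSpace X := QuasiCompact.compactSpace_of_compactSpace sX
  haveI : IsNoetherian X := {}
  haveI : NoetherianSpace X := inferInstance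
  choose F hFfin hFcl hFirr hFsup using fun n =>
    NoetherianSpace.exists_finite_set_isClosed_irreducible (Z n).isClosed
  let 𝒞 : Set (Closeds X) := {T | ∃ n, (T : Set X) ∈ F n}
  have h𝒞count : 𝒞.Countable := by
    have h1 : (⋃ n, F n).Countable := Set.countable_iUnion fun n => (hFfin n).countable
    have h2 : 𝒞 = (fun T : Closeds X => (T : Set X)) ⁻¹' (⋃ n, F n) := by
      ext T
      simp [𝒞]
    rw [h2]
    exact h1.preimage_of_injOn (SetLike.coe_injective.injOn)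
  have h𝒞irr : ∀ T ∈ 𝒞, IsIrreducible (T : Set X) := by
    rintro T ⟨n, hT⟩
    exact hFirr n _ hT
  have h𝒞cover : ∀ x : X, (∃ n, x ∈ Z n) ↔ ∃ T ∈ 𝒞, x ∈ T := by
    intro x
    constructor
    · rintro ⟨n, hn⟩
      have : x ∈ ⋃₀ F n := hFsup n ▸ hn
      obtain ⟨t, ht, hxt⟩ := this
      exact ⟨⟨t, hFcl n t ht⟩, ⟨n, ht⟩, hxt⟩
    · rintro ⟨T, ⟨n, hT⟩, hxT⟩
      refine ⟨n, ?_⟩
      change x ∈ (Z n : Set X)
      rw [hFsup n]
      exact ⟨_, hT, hxT⟩
  let S : Set (Closeds X) := {T | T ∈ 𝒞 ∧ ∀ T' ∈ 𝒞, T ≤ T' → T' = T}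
  have hSsub : S ⊆ 𝒞 := fun T hT => hT.1
  have hSc : S.Countable := h𝒞count.mono hSsub
  have hSirr : ∀ T ∈ S, IsIrreducible (T : Set X) := fun T hT => h𝒞irr T hT.1
  have hSanti : IsAntichain (· ≤ ·) S := by
    intro T hT T' hT' hne hle
    exact hne (hT.2 T' hT'.1 hle).symm
  have hScover : {x : X | IsClosed ({x} : Set X) ∧ ∃ T ∈ S, x ∈ T} =
      {x : X | IsClosed ({x} : Set X) ∧ ∃ n, x ∈ Z n} := by
    ext x
    constructor
    · rintro ⟨hx, T, hT, hxT⟩
      exact ⟨hx, (h𝒞cover x).2 ⟨T, hT.1, hxT⟩⟩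
    · rintro ⟨hx, hn⟩
      obtain ⟨T₀, hT₀, hxT₀⟩ := (h𝒞cover x).1 hn
      obtain ⟨T, hT, hT₀T, hmax⟩ := exists_maximal_ge 𝒞 h𝒞irr T₀ hT₀
      exact ⟨hx, T, ⟨hT, hmax⟩, hT₀T hxT₀⟩
  refine ⟨S, ⟨hSc, hSirr, hSanti, hScover⟩, ?_⟩
  rintro S' ⟨hS'c, hS'irr, hS'anti, hS'cover⟩
  apply Set.Subset.antisymm
  · exact subset_of_closedPoints_eq k X sX S' S hS'c hSc hS'irr hSirr hS'anti
      (hS'cover.trans hScover.symm)
  · exact subset_of_closedPoints_eq k X sX S S' hSc hS'c hSirr hS'irr hSanti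
      (hScover.trans hS'cover.symm)


end
end Groth.Agent.Lib.Helper23.IrredCountable
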