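import Mathlib
import Groth.Prelude.Def_CurvBase

/-!
helper23: S6555. core_bijective: O local noetherian formally smooth k-algebra with Omega_{O/k} free on omega, residue field separable over k => m_O principal and for every irreducible s, a |-> a ds is bijective (conormal sequence split-injective via Algebra.FormallySmooth.iff_split_injection). alg_main: same for O = B_q, B standard smooth of relative dimension 1 over k (localized basis of Omega). bijective_smul_of_basis_unique. t6555: scheme version (stalk at closed point of a k-scheme smooth of rel. dim 1 nearby).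
-/

set_option autoImplicit false
universe u
attribute [local instance] Curv2.resAlgebra Curv2.stalkAlgebra
open TensorProduct IsLocalRing KaehlerDifferential
open CategoryTheory CategoryTheory.Limits AlgebraicGeometry

namespace Groth.Agent.Lib.Helper23.KaehlerUnif

section


section core
variable (k : Type u) [Field k] (O : Type u) [CommRing O] [IsLocalRing O] [Algebra k O]
  [IsNoetherianRing O] [Algebra.FormallySmooth k O]
  [Algebra k (ResidueField O)] [IsScalarTower k O (ResidueField O)]
  [Algebra.IsSeparable k (ResidueField O)]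
  (ω : Ω[O⁄k]) (hω : Function.Bijective (fun a : O => a • ω))

include hω

/-- the coefficient of a differential w.r.t. the generator `ω` -/
theorem exists_coeff (η : Ω[O⁄k]) : ∃ c : O, η = c • ω := by
  obtain ⟨c, hc⟩ := hω.2 η
  exact ⟨c, hc.symm⟩

/-- the functional `κ ⊗ Ω → κ` dual to `1 ⊗ ω` -/
theorem exists_functional : ∃ l : ResidueField O ⊗[O] Ω[O⁄k] →ₗ[O] ResidueField O,
    ∀ (z : ResidueField O) (c : O), l (z ⊗ₜ (c • ω)) = residue O c * z := by
  let φ : O ≃ₗ[O] Ω[O⁄k] := LinearEquiv.ofBijective (LinearMap.toSpanSingleton O _ ω) hω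
  refine ⟨(TensorProduct.rid O (ResidueField O)).toLinearMap ∘ₗ
    (LinearMap.lTensor (ResidueField O) φ.symm.toLinearMap), ?_⟩
  intro z c
  have h1 : φ.symm (c • ω) = c := by
    apply φ.injective
    rw [LinearEquiv.apply_symm_apply]
    rfl
  simp only [LinearMap.coe_comp, LinearEquiv.coe_coe, Function.comp_apply, LinearMap.lTensor_tmul,
    TensorProduct.rid_tmul, h1]
  rw [Algebra.smul_def]
  rfl

end core


end

section


section core
variable (k : Type u) [Field k] (O : Type u) [CommRing O] [IsLocalRing O] [Algebra k O]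
  [IsNoetherianRing O] [Algebra.FormallySmooth k O]
  [Algebra k (ResidueField O)] [IsScalarTower k O (ResidueField O)]
  [Algebra.IsSeparable k (ResidueField O)]
  (ω : Ω[O⁄k]) (hω : Function.Bijective (fun a : O => a • ω))

include hω

theorem core_bijective (s : O) (hs : Irreducible s) :
    Function.Bijective (fun a : O => a • KaehlerDifferential.D k O s) := by
  have hsurj : Function.Surjective (algebraMap O (ResidueField O)) := by
    rw [ResidueField.algebraMap_eq]
    exact IsLocalRing.residue_surjective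
  haveI : Algebra.FormallyEtale k (ResidueField O) := Algebra.FormallyEtale.of_isSeparable k _
  haveI : Algebra.FormallySmooth k (ResidueField O) := inferInstance
  obtain ⟨l0, hl0⟩ := (Algebra.FormallySmooth.iff_split_injection (R := k) (P := O)
    (A := ResidueField O) hsurj).mp inferInstance
  have hinj : Function.Injective (kerCotangentToTensor k O (ResidueField O)) := by
    intro a b hab
    have := congrArg l0 hab
    rwa [← LinearMap.comp_apply, ← LinearMap.comp_apply, hl0] at this
  haveI : Subsingleton Ω[ResidueField O⁄k] := inferInstance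
  have hsurj2 : Function.Surjective (kerCotangentToTensor k O (ResidueField O)) := by
    intro z
    exact (exact_kerCotangentToTensor_mapBaseChange k O (ResidueField O) hsurj z).mp
      (Subsingleton.elim _ _)
  obtain ⟨l, hl⟩ := exists_functional k O ω hω
  have hkerI : RingHom.ker (algebraMap O (ResidueField O)) = maximalIdeal O := by
    rw [ResidueField.algebraMap_eq]
    exact IsLocalRing.ker_residue
  -- (I)
  have hI : ∀ x ∈ maximalIdeal O, ∀ cx : O, D k O x = cx • ω → cx ∈ maximalIdeal O →
      x ∈ (maximalIdeal O) ^ 2 := by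
    intro x hx cx hcx hcm
    have hxk : x ∈ RingHom.ker (algebraMap O (ResidueField O)) := by rw [hkerI]; exact hx
    have h0 : kerCotangentToTensor k O (ResidueField O) (Ideal.toCotangent _ ⟨x, hxk⟩) = 0 := by
      rw [kerCotangentToTensor_toCotangent]
      change (1 : ResidueField O) ⊗ₜ[O] D k O x = 0
      rw [hcx, ← TensorProduct.smul_tmul, Algebra.smul_def, mul_one, ResidueField.algebraMap_eq,
        (IsLocalRing.residue_eq_zero_iff cx).2 hcm, TensorProduct.zero_tmul]
    have h1 := hinj (h0.trans (map_zero _).symm)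
    rw [Ideal.toCotangent_eq_zero] at h1
    rw [← hkerI]
    exact h1
  -- (II)
  obtain ⟨t, htm, ct, hct, hctu⟩ : ∃ t ∈ maximalIdeal O, ∃ ct : O, D k O t = ct • ω ∧ IsUnit ct := by
    obtain ⟨ξ, hξ⟩ := hsurj2 ((1 : ResidueField O) ⊗ₜ ω)
    obtain ⟨⟨t, ht⟩, rfl⟩ := Ideal.toCotangent_surjective _ ξ
    rw [kerCotangentToTensor_toCotangent] at hξ
    obtain ⟨ct, hct⟩ := exists_coeff k O ω hω (D k O t)
    refine ⟨t, by rw [← hkerI]; exact ht, ct, hct, ?_⟩
    have h2 := congrArg l hξ
    change l ((1 : ResidueField O) ⊗ₜ[O] D k O t) = _ at h2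
    rw [hct, hl, ← one_smul O ω, hl, map_one, mul_one] at h2
    by_contra hnu
    have : ct ∈ maximalIdeal O := (IsLocalRing.mem_maximalIdeal ct).2 hnu
    rw [(IsLocalRing.residue_eq_zero_iff ct).2 this, one_mul] at h2
    exact zero_ne_one h2
  obtain ⟨u, rfl⟩ := hctu
  -- 𝔪 = (t)
  have hle : maximalIdeal O ≤ Ideal.span {t} := by
    apply Submodule.le_of_le_smul_of_le_jacobson_bot (I := maximalIdeal O)
      (IsNoetherian.noetherian _) (IsLocalRing.maximalIdeal_le_jacobson ⊥)
    intro m hm
    obtain ⟨cm, hcm⟩ := exists_coeff k O ω hω (D k O m)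
    obtain ⟨ca, hca⟩ := exists_coeff k O ω hω (D k O (cm * ↑u⁻¹))
    have hm' : m - (cm * ↑u⁻¹) * t ∈ maximalIdeal O :=
      Ideal.sub_mem _ hm (Ideal.mul_mem_left _ _ htm)
    have hd : D k O (m - (cm * ↑u⁻¹) * t) = (-(t * ca)) • ω := by
      rw [map_sub, Derivation.leibniz, hcm, hct, hca, smul_smul, smul_smul, ← add_smul, ← sub_smul]
      congr 1
      have : cm * ↑u⁻¹ * ↑u = cm := by rw [mul_assoc, Units.inv_mul, mul_one]
      rw [this]
      ring
    have h3 := hI _ hm' _ hd (Ideal.neg_mem_iff _ |>.2 (Ideal.mul_mem_right _ _ htm))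
    have h4 : m = (cm * ↑u⁻¹) * t + (m - (cm * ↑u⁻¹) * t) := by ring
    rw [h4]
    refine Submodule.add_mem_sup (Ideal.mem_span_singleton'.2 ⟨_, rfl⟩) ?_
    rw [smul_eq_mul, ← pow_two]
    exact h3
  -- s = a t with a unit
  have hsm : s ∈ maximalIdeal O := (IsLocalRing.mem_maximalIdeal s).2 hs.not_isUnit
  obtain ⟨a, ha⟩ := Ideal.mem_span_singleton'.1 (hle hsm)
  have hau : IsUnit a := by
    rcases hs.isUnit_or_isUnit ha.symm with h | h
    · exact h
    · exact absurd h ((IsLocalRing.mem_maximalIdeal t).1 htm)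
  obtain ⟨ca, hca⟩ := exists_coeff k O ω hω (D k O a)
  have hds : D k O s = (a * ↑u + t * ca) • ω := by
    rw [← ha, Derivation.leibniz, hct, hca, smul_smul, smul_smul, ← add_smul]
  have hunit : IsUnit (a * ↑u + t * ca) := by
    by_contra hnu
    have h5 : a * ↑u + t * ca ∈ maximalIdeal O := (IsLocalRing.mem_maximalIdeal _).2 hnu
    have h6 : a * ↑u ∈ maximalIdeal O := by
      have := Ideal.sub_mem _ h5 (Ideal.mul_mem_right ca _ htm)
      rwa [add_sub_cancel_right] at this
    exact (IsLocalRing.mem_maximalIdeal _).1 h6 (hau.mul u.isUnit)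
  obtain ⟨v, hv⟩ := hunit
  have hcomp : (fun b : O => b • D k O s) = (fun b : O => b • ω) ∘ (fun b : O => b * ↑v) := by
    funext b
    simp only [Function.comp_apply]
    rw [hds, ← hv, smul_smul]
  rw [hcomp]
  exact hω.comp (Units.mulRight_bijective v)

end core


end

section


theorem bijective_smul_of_basis_unique {R M ι : Type*} [CommRing R] [AddCommGroup M] [Module R M]
    [Unique ι] (b : Module.Basis ι R M) : Function.Bijective (fun a : R => a • b default) := by
  let e : R ≃ₗ[R] M := (b.equivFun.trans (LinearEquiv.funUnique ι R R)).symm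
  have he : ∀ a : R, e a = a • b default := by
    intro a
    have h1 : e.symm (a • b default) = a := by
      simp [e, Module.Basis.equivFun_apply]
    rw [← h1, LinearEquiv.apply_symm_apply, h1]
  have : (fun a : R => a • b default) = e := funext fun a => (he a).symm
  rw [this]
  exact e.bijective

theorem alg_main (k : Type u) [Field k] (B : Type u) [CommRing B] [Algebra k B]
    [Algebra.IsStandardSmoothOfRelativeDimension 1 k B]
    (O : Type u) [CommRing O] [IsLocalRing O] [Algebra k O] [Algebra B O] [IsScalarTower k B O]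
    (q : Ideal B) [q.IsPrime] [IsLocalization.AtPrime O q]
    [Algebra k (ResidueField O)] [IsScalarTower k O (ResidueField O)]
    [Algebra.IsSeparable k (ResidueField O)]
    (s : O) (hs : Irreducible s) :
    Function.Bijective (fun a : O => a • KaehlerDifferential.D k O s) := by
  haveI : Algebra.IsStandardSmooth k B :=
    Algebra.IsStandardSmoothOfRelativeDimension.isStandardSmooth 1
  haveI : IsNoetherianRing B := Algebra.FiniteType.isNoetherianRing k B
  haveI : IsNoetherianRing O := IsLocalization.isNoetherianRing q.primeCompl O inferInstance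
  haveI : Algebra.FormallySmooth B O := Algebra.FormallySmooth.of_isLocalization q.primeCompl
  haveI : Algebra.FormallySmooth k O := Algebra.FormallySmooth.comp k B O
  haveI : Nontrivial B := (algebraMap B O).domain_nontrivial
  have hrank := Algebra.IsStandardSmoothOfRelativeDimension.rank_kaehlerDifferential
    (R := k) (S := B) 1
  let b := Module.Free.chooseBasis B Ω[B⁄k]
  have hcard : Cardinal.mk (Module.Free.ChooseBasisIndex B Ω[B⁄k]) = 1 := by
    rw [b.mk_eq_rank'', hrank]
    simp
  obtain ⟨hsub, ⟨i0⟩⟩ := Cardinal.eq_one_iff_unique.mp hcard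
  haveI : Unique (Module.Free.ChooseBasisIndex B Ω[B⁄k]) := ⟨⟨i0⟩, fun i => Subsingleton.elim _ _⟩
  let b' : Module.Basis (Module.Free.ChooseBasisIndex B Ω[B⁄k]) O Ω[O⁄k] :=
    b.ofIsLocalizedModule O q.primeCompl (KaehlerDifferential.map k k B O)
  exact core_bijective k O (b' default) (bijective_smul_of_basis_unique b') s hs


end

section


theorem t6555 (k : Type u) [Field k] (X : Scheme.{u}) [X.Over (Spec (CommRingCat.of k))]
    (x : X) (hx : IsClosed ({x} : Set X))
    (hsm : ∃ U : X.Opens, x ∈ U ∧ SmoothOfRelativeDimension 1 (U.ι ≫ (X ↘ (Spec (CommRingCat.of k)))))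
    (hsep : Algebra.IsSeparable k (X.residueField x))
    (s : X.presheaf.stalk x) (hs : Irreducible s) :
    Function.Bijective (fun a : X.presheaf.stalk x => a • KaehlerDifferential.D k (X.presheaf.stalk x) s) := by
  obtain ⟨U, hxU, hU⟩ := hsm
  obtain ⟨U₀, hU₀, V₀, hV₀, hx'V₀, e, H⟩ :=
    hU.exists_isStandardSmoothOfRelativeDimension ⟨x, hxU⟩
  obtain rfl : U₀ = ⊤ := by
    ext y
    simp only [TopologicalSpace.Opens.coe_top, Set.mem_univ, iff_true]
    have : y = (U.ι ≫ (X ↘ (Spec (CommRingCat.of k)))).base ⟨x, hxU⟩ := Subsingleton.elim _ _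
    rw [this]
    exact e hx'V₀
  -- the affine open of X
  have hV : IsAffineOpen (U.ι ''ᵁ V₀) := hV₀.image_of_isOpenImmersion U.ι
  have hxV : x ∈ U.ι ''ᵁ V₀ := ⟨⟨x, hxU⟩, hx'V₀, rfl⟩
  -- k-algebra structure on B
  let ee : k ≃+* Γ(Spec (CommRingCat.of k), ⊤) :=
    (Scheme.ΓSpecIso (CommRingCat.of k)).symm.commRingCatIsoToRingEquiv
  have Hψ := (RingHom.isStandardSmoothOfRelativeDimension_respectsIso (n := 1)).2 _ ee H
  letI algB : Algebra k Γ(X, U.ι ''ᵁ V₀) :=
    (((U.ι ≫ (X ↘ (Spec (CommRingCat.of k)))).appLE ⊤ V₀ e).hom.comp ee.toRingHom).toAlgebra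
  haveI : Algebra.IsStandardSmoothOfRelativeDimension 1 k Γ(X, U.ι ''ᵁ V₀) := Hψ
  letI := X.presheaf.algebra_section_stalk ⟨x, hxV⟩
  haveI := hV.isLocalization_stalk ⟨x, hxV⟩
  haveI : IsScalarTower k Γ(X, U.ι ''ᵁ V₀) (X.presheaf.stalk x) := by
    apply IsScalarTower.of_algebraMap_eq'
    ext a
    change (X.presheaf.germ ⊤ x trivial).hom ((X ↘ Spec (CommRingCat.of k)).appTop.hom
        ((Scheme.ΓSpecIso (CommRingCat.of k)).inv.hom a)) =
      (X.presheaf.germ (U.ι ''ᵁ V₀) x hxV).hom
        (((U.ι ≫ (X ↘ Spec (CommRingCat.of k))).appLE ⊤ V₀ e).hom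
          ((Scheme.ΓSpecIso (CommRingCat.of k)).inv.hom a))
    generalize (Scheme.ΓSpecIso (CommRingCat.of k)).inv.hom a = b
    simp only [Scheme.Hom.appLE, Scheme.Hom.comp_app, Scheme.Opens.ι_app]
    rw [Scheme.Opens.toScheme_presheaf_map]
    simp only [CommRingCat.comp_apply]
    erw [TopCat.Presheaf.germ_res_apply, TopCat.Presheaf.germ_res_apply]
    rfl
  haveI : IsScalarTower k (X.presheaf.stalk x) (IsLocalRing.ResidueField (X.presheaf.stalk x)) :=
    IsScalarTower.of_algebraMap_eq' rfl
  haveI : Algebra.IsSeparable k (IsLocalRing.ResidueField (X.presheaf.stalk x)) := hsep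
  exact alg_main k Γ(X, U.ι ''ᵁ V₀) (X.presheaf.stalk x) (hV.primeIdealOf ⟨x, hxV⟩).asIdeal s hs


end
end Groth.Agent.Lib.Helper23.KaehlerUnif
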