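import Mathlib

/-!
S16254: kernel of A[a_0..a_N] -> A[y_1..y_s], a_j |-> sum_i m_ij y_i, equals the ideal of maximal minors of [m; a] when m is linearly independent with projective cokernel.
det_mul_mem: Cauchy-Binet membership: det (T * W) lies in the ideal of column-minors of T (T : r x n, W : n x r).
exists_retraction: matrix R with m * R = 1.
sub_theta_mem: p - theta p in span {X_j - theta X_j} for an algebra endomorphism theta of MvPolynomial.
-/




namespace Groth.Agent.Lib.Helper23.MaxMinorsKer

section

universe u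
open MvPolynomial

/-- Cauchy–Binet membership: `det (T * W)` lies in the ideal of column-minors of `T`. -/
theorem det_mul_mem {P : Type*} [CommRing P] {n r : ℕ}
    (T : Matrix (Fin r) (Fin n) P) (W : Matrix (Fin n) (Fin r) P) :
    (T * W).det ∈ Ideal.span (Set.range fun c : Fin r → Fin n =>
      (Matrix.of fun i j => T i (c j)).det) := by
  rw [← Matrix.det_transpose]
  have h1 : (T * W).transpose = Matrix.of (fun k : Fin r => ∑ l : Fin n, W l k • (fun i => T i l)) := by
    ext k i
    simp [Matrix.mul_apply, mul_comm]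
  rw [h1]
  change (Matrix.detRowAlternating (R := P) (n := Fin r)).toMultilinearMap
    (fun k : Fin r => ∑ l : Fin n, W l k • (fun i => T i l)) ∈ _
  rw [MultilinearMap.map_sum]
  refine Ideal.sum_mem _ fun c _ => ?_
  rw [MultilinearMap.map_smul_univ]
  refine Ideal.mul_mem_left _ _ (Ideal.subset_span ⟨c, ?_⟩)
  change _ = Matrix.det (Matrix.of fun k i => T i (c k))
  rw [← Matrix.det_transpose]
  rfl


end

section

universe u
open MvPolynomial

/-- A retraction matrix: `m * R = 1`. -/
theorem exists_retraction (A : Type u) [CommRing A] (N s : ℕ) (m : Fin s → (Fin (N + 1) → A))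
    (hli : LinearIndependent A m)
    (hproj : Module.Projective A ((Fin (N + 1) → A) ⧸ Submodule.span A (Set.range m))) :
    ∃ R : Fin (N + 1) → Fin s → A, ∀ i k, ∑ j, m i j * R j k = if i = k then 1 else 0 := by
  classical
  obtain ⟨σ, hσ⟩ := Module.projective_lifting_property (Submodule.span A (Set.range m)).mkQ
    LinearMap.id (Submodule.mkQ_surjective _)
  have hρ : ∀ x, x - σ ((Submodule.span A (Set.range m)).mkQ x) ∈ Submodule.span A (Set.range m) := by
    intro x
    have h0 : (Submodule.span A (Set.range m)).mkQ (x - σ ((Submodule.span A (Set.range m)).mkQ x)) = 0 := by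
      rw [map_sub]
      have := LinearMap.congr_fun hσ ((Submodule.span A (Set.range m)).mkQ x)
      simp only [LinearMap.comp_apply, LinearMap.id_apply] at this
      rw [this, sub_self]
    exact (Submodule.Quotient.mk_eq_zero _).1 h0
  let ρ : (Fin (N + 1) → A) →ₗ[A] Submodule.span A (Set.range m) :=
    LinearMap.codRestrict _ (LinearMap.id - σ.comp (Submodule.span A (Set.range m)).mkQ)
      (fun x => by simpa using hρ x)
  let r : (Fin (N + 1) → A) →ₗ[A] (Fin s →₀ A) := hli.repr.comp ρ
  have hr : ∀ i, r (m i) = Finsupp.single i 1 := by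
    intro i
    have hmi : m i ∈ Submodule.span A (Set.range m) := Submodule.subset_span ⟨i, rfl⟩
    change hli.repr (ρ (m i)) = _
    apply hli.repr_eq_single i
    simp [ρ, (Submodule.Quotient.mk_eq_zero _).2 hmi]
  refine ⟨fun j k => r (Pi.single j 1) k, fun i k => ?_⟩
  have h2 : m i = ∑ j, m i j • (Pi.single j (1 : A) : Fin (N + 1) → A) := by
    ext l
    simp [Finset.sum_apply, Pi.single_apply]
  have h3 := congrArg (fun v => r v k) h2
  simp only [hr, map_sum, map_smul, Finsupp.coe_finset_sum, Finsupp.coe_smul, Finset.sum_apply,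
    Pi.smul_apply, smul_eq_mul] at h3
  rw [← h3, Finsupp.single_apply]

end

section

universe u
open MvPolynomial

section
variable (A : Type u) [CommRing A] (N s : ℕ) (m : Fin s → (Fin (N + 1) → A))

/-- the restriction map on symmetric algebras -/
noncomputable abbrev phi : MvPolynomial (Fin (N + 1)) A →ₐ[A] MvPolynomial (Fin s) A :=
  MvPolynomial.aeval (R := A) (S₁ := MvPolynomial (Fin s) A)
    (fun j : Fin (N + 1) => ∑ i : Fin s, MvPolynomial.C (m i j) * MvPolynomial.X i)

/-- the ideal of maximal minors -/
noncomputable abbrev minorIdeal : Ideal (MvPolynomial (Fin (N + 1)) A) :=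
  Ideal.span (Set.range fun c : Fin (s + 1) → Fin (N + 1) =>
    (Matrix.of fun (i : Fin (s + 1)) (j : Fin (s + 1)) =>
      (Fin.snoc (α := fun _ => MvPolynomial (Fin (N + 1)) A)
        (fun i' : Fin s => MvPolynomial.C (m i' (c j))) (MvPolynomial.X (c j)) i)).det)

theorem minor_mem_ker (c : Fin (s + 1) → Fin (N + 1)) :
    phi A N s m ((Matrix.of fun (i : Fin (s + 1)) (j : Fin (s + 1)) =>
      (Fin.snoc (α := fun _ => MvPolynomial (Fin (N + 1)) A)
        (fun i' : Fin s => MvPolynomial.C (m i' (c j))) (MvPolynomial.X (c j)) i)).det) = 0 := by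
  rw [AlgHom.map_det]
  set B := (phi A N s m).mapMatrix (Matrix.of fun (i : Fin (s + 1)) (j : Fin (s + 1)) =>
      (Fin.snoc (α := fun _ => MvPolynomial (Fin (N + 1)) A)
        (fun i' : Fin s => MvPolynomial.C (m i' (c j))) (MvPolynomial.X (c j)) i)) with hBdef
  set cf : Fin (s + 1) → MvPolynomial (Fin s) A :=
    Fin.snoc (α := fun _ => MvPolynomial (Fin s) A) (fun i => MvPolynomial.X i) 0 with hcf
  have hB : B = B.updateRow (Fin.last s) (∑ k, cf k • B k) := by
    refine Matrix.ext fun i j => ?_
    refine Fin.lastCases ?_ (fun i' => ?_) i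
    · rw [Matrix.updateRow_self, Finset.sum_apply, Fin.sum_univ_castSucc]
      simp only [hBdef, hcf, AlgHom.mapMatrix_apply, Matrix.map_apply, Matrix.of_apply,
        Fin.snoc_last, Fin.snoc_castSucc, Pi.smul_apply, smul_eq_mul, zero_mul, add_zero,
        MvPolynomial.aeval_X, MvPolynomial.aeval_C, MvPolynomial.algebraMap_eq]
      exact Finset.sum_congr rfl fun i _ => by ring
    · rw [Matrix.updateRow_ne (Fin.castSucc_lt_last i').ne]
  rw [hB, Matrix.det_updateRow_sum]
  simp [hcf]

end

end

section

universe u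
open MvPolynomial

section
variable (A : Type u) [CommRing A] (N s : ℕ) (m : Fin s → (Fin (N + 1) → A))

/-- the section of `phi` attached to a retraction matrix -/
noncomputable abbrev psi (R : Fin (N + 1) → Fin s → A) :
    MvPolynomial (Fin s) A →ₐ[A] MvPolynomial (Fin (N + 1)) A :=
  MvPolynomial.aeval (R := A) (S₁ := MvPolynomial (Fin (N + 1)) A)
    (fun k : Fin s => ∑ j : Fin (N + 1), MvPolynomial.C (R j k) * MvPolynomial.X j)

theorem sub_theta_mem (θ : MvPolynomial (Fin (N + 1)) A →ₐ[A] MvPolynomial (Fin (N + 1)) A)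
    (p : MvPolynomial (Fin (N + 1)) A) :
    p - θ p ∈ Ideal.span (Set.range fun j : Fin (N + 1) => (MvPolynomial.X j - θ (MvPolynomial.X j) :
      MvPolynomial (Fin (N + 1)) A)) := by
  set J := Ideal.span (Set.range fun j : Fin (N + 1) => (MvPolynomial.X j - θ (MvPolynomial.X j) :
      MvPolynomial (Fin (N + 1)) A)) with hJ
  have h : (Ideal.Quotient.mkₐ A J).comp θ = Ideal.Quotient.mkₐ A J := by
    refine MvPolynomial.algHom_ext fun j => ?_
    simp only [AlgHom.comp_apply, Ideal.Quotient.mkₐ_eq_mk]
    refine (Ideal.Quotient.eq.2 ?_).symm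
    exact Ideal.subset_span ⟨j, rfl⟩
  have h2 := AlgHom.congr_fun h p
  simp only [AlgHom.comp_apply, Ideal.Quotient.mkₐ_eq_mk] at h2
  exact Ideal.Quotient.eq.1 h2.symm

theorem X_sub_mem (R : Fin (N + 1) → Fin s → A)
    (hR : ∀ i k, ∑ j, m i j * R j k = if i = k then 1 else 0) (j : Fin (N + 1)) :
    (MvPolynomial.X j - (psi A N s R) (phi A N s m (MvPolynomial.X j)) :
      MvPolynomial (Fin (N + 1)) A) ∈ minorIdeal A N s m := by
  classical
  set T : Matrix (Fin (s + 1)) (Fin (N + 1)) (MvPolynomial (Fin (N + 1)) A) :=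
    Matrix.of fun i l => Fin.snoc (α := fun _ => MvPolynomial (Fin (N + 1)) A)
      (fun i' : Fin s => MvPolynomial.C (m i' l)) (MvPolynomial.X l) i with hT
  set W : Matrix (Fin (N + 1)) (Fin (s + 1)) (MvPolynomial (Fin (N + 1)) A) :=
    Matrix.of fun l k => Fin.snoc (α := fun _ => MvPolynomial (Fin (N + 1)) A)
      (fun k' : Fin s => MvPolynomial.C (R l k'))
      (MvPolynomial.C ((if l = j then 1 else 0) - ∑ i, R l i * m i j)) k with hW
  have hmem := det_mul_mem T W
  have hdet : (T * W).det = MvPolynomial.X j - (psi A N s R) (phi A N s m (MvPolynomial.X j)) := by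
    rw [Matrix.det_succ_column _ (Fin.last s), Fin.sum_univ_castSucc]
    have h0 : ∀ i' : Fin s, (T * W) (Fin.castSucc i') (Fin.last s) = 0 := by
      intro i'
      simp only [Matrix.mul_apply, hT, hW, Matrix.of_apply, Fin.snoc_castSucc, Fin.snoc_last]
      rw [← Finset.sum_congr rfl (fun l _ => (MvPolynomial.C_mul (σ := Fin (N + 1))
        (a := m i' l) (a' := (if l = j then 1 else 0) - ∑ i, R l i * m i j))), ← map_sum]
      have : ∑ l, m i' l * ((if l = j then 1 else 0) - ∑ i, R l i * m i j) = 0 := by
        simp only [mul_sub, Finset.sum_sub_distrib, Finset.mul_sum, mul_ite, mul_one, mul_zero,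
          Finset.sum_ite_eq', Finset.mem_univ, if_true]
        rw [Finset.sum_comm]
        have : ∀ i, ∑ l, m i' l * (R l i * m i j) = (if i' = i then 1 else 0) * m i j := by
          intro i
          rw [← hR i' i, Finset.sum_mul]
          exact Finset.sum_congr rfl fun l _ => by ring
        simp only [this, ite_mul, one_mul, zero_mul, Finset.sum_ite_eq, Finset.mem_univ, if_true,
          sub_self]
      rw [this, map_zero]
    have h1 : (T * W).submatrix (Fin.last s).succAbove (Fin.last s).succAbove = 1 := by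
      refine Matrix.ext fun a b => ?_
      simp only [Matrix.submatrix_apply, Fin.succAbove_last, Matrix.mul_apply, hT, hW,
        Matrix.of_apply, Fin.snoc_castSucc]
      rw [← Finset.sum_congr rfl (fun l _ => (MvPolynomial.C_mul (σ := Fin (N + 1))
        (a := m a l) (a' := R l b))), ← map_sum, hR, Matrix.one_apply]
      split_ifs <;> simp
    have h2 : (T * W) (Fin.last s) (Fin.last s) =
        MvPolynomial.X j - (psi A N s R) (phi A N s m (MvPolynomial.X j)) := by
      simp only [Matrix.mul_apply, hT, hW, Matrix.of_apply, Fin.snoc_last, map_sub, mul_sub,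
        Finset.sum_sub_distrib, MvPolynomial.aeval_X, map_sum, map_mul, MvPolynomial.aeval_C,
        MvPolynomial.algebraMap_eq]
      congr 1
      · simp [apply_ite, Finset.sum_ite_eq']
      · simp only [Finset.mul_sum]
        rw [Finset.sum_comm]
        exact Finset.sum_congr rfl fun i _ => Finset.sum_congr rfl fun l _ => by ring
    simp only [h0, mul_zero, zero_mul, Finset.sum_const_zero, zero_add, h1, Matrix.det_one,
      mul_one, h2]
    rw [← two_mul, pow_mul]
    simp
  rw [← hdet]
  exact hmem

end

end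

section

universe u
open MvPolynomial

theorem t16254
    (A : Type u) [CommRing A] (N s : ℕ) (m : Fin s → (Fin (N + 1) → A))
    (hli : LinearIndependent A m)
    (hproj : Module.Projective A ((Fin (N + 1) → A) ⧸ Submodule.span A (Set.range m))) :
    RingHom.ker (MvPolynomial.aeval (R := A) (S₁ := MvPolynomial (Fin s) A)
        (fun j : Fin (N + 1) => ∑ i : Fin s, MvPolynomial.C (m i j) * MvPolynomial.X i)) =
      Ideal.span (Set.range fun c : Fin (s + 1) → Fin (N + 1) =>
        (Matrix.of fun (i : Fin (s + 1)) (j : Fin (s + 1)) =>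
          (Fin.snoc (α := fun _ => MvPolynomial (Fin (N + 1)) A)
            (fun i' : Fin s => MvPolynomial.C (m i' (c j))) (MvPolynomial.X (c j)) i)).det) := by
  obtain ⟨R, hR⟩ := exists_retraction A N s m hli hproj
  apply le_antisymm
  · intro p hp
    have hp0 : phi A N s m p = 0 := hp
    have h1 := sub_theta_mem A N ((psi A N s R).comp (phi A N s m)) p
    rw [AlgHom.comp_apply, hp0, map_zero, sub_zero] at h1
    refine (Ideal.span_le.2 ?_) h1
    rintro _ ⟨j, rfl⟩
    exact X_sub_mem A N s m R hR j
  · refine Ideal.span_le.2 ?_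
    rintro _ ⟨c, rfl⟩
    exact minor_mem_ker A N s m c


end
end Groth.Agent.Lib.Helper23.MaxMinorsKer
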