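import Mathlib
import Groth.Agent.Lib.Helper24.EtaleNormal
import Groth.Prelude.Def_Pi1
import Groth.Agent.Lib.Helper9.PurFF

/-!
Unramified domains over normal domains are étale; relative normalization of a normal integral scheme in an integral dominant scheme is étale when unramified (helper23, for S0288)
-/

set_option autoImplicit false
universe u
open TensorProduct
open AlgebraicGeometry CategoryTheory CategoryTheory.Limits

namespace Groth.Agent.Lib.Helper23.NormEtale

section


/-- kernel of a map from an étale algebra over a normal domain `A` onto (into) a domain containing `A`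
is generated by an idempotent -/
theorem ker_eq_span (A C D : Type u) [CommRing A] [IsDomain A] [IsIntegrallyClosed A]
    [CommRing C] [Algebra A C] [Algebra.Etale A C] [CommRing D] [IsDomain D] [Algebra A D]
    (hinj : Function.Injective (algebraMap A D)) (φ : C →ₐ[A] D) :
    ∃ r : C, IsIdempotentElem r ∧ RingHom.ker φ.toRingHom = Ideal.span {1 - r} := by
  classical
  let _ : Algebra (FractionRing A) (C ⊗[A] FractionRing A) := Algebra.TensorProduct.rightAlgebra
  have hcl : IsIntegrallyClosedIn C (C ⊗[A] FractionRing A) :=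
    Groth.Agent.Lib.Helper24.ENorm.isIntegrallyClosedIn_tensor_fractionRing A C
  have hinjT : Function.Injective (algebraMap C (C ⊗[A] FractionRing A)) :=
    Algebra.TensorProduct.includeLeft_injective (S := C) (IsFractionRing.injective A (FractionRing A))
  let e : FractionRing A ⊗[A] C ≃ₐ[FractionRing A] C ⊗[A] FractionRing A :=
    { Algebra.TensorProduct.comm A (FractionRing A) C with
      commutes' := fun k => by
        show (Algebra.TensorProduct.comm A (FractionRing A) C) (k ⊗ₜ[A] (1 : C)) = (1 : C) ⊗ₜ[A] k
        rw [Algebra.TensorProduct.comm_tmul] }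
  have hEt : Algebra.Etale (FractionRing A) (C ⊗[A] FractionRing A) := Algebra.Etale.of_equiv e
  have hfin : Module.Finite (FractionRing A) (C ⊗[A] FractionRing A) :=
    Algebra.FormallyUnramified.finite_of_free (FractionRing A) _
  have hArt : IsArtinianRing (C ⊗[A] FractionRing A) := IsArtinianRing.of_finite (FractionRing A) _
  have hRed : IsReduced (C ⊗[A] FractionRing A) :=
    Algebra.FormallyUnramified.isReduced_of_field (FractionRing A) _
  -- the map to the fraction field of `D`
  have hinjFD : Function.Injective (Algebra.ofId A (FractionRing D)) := by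
    have : ⇑(Algebra.ofId A (FractionRing D)) = (algebraMap D (FractionRing D)) ∘ (algebraMap A D) := by
      funext a
      exact IsScalarTower.algebraMap_apply A D (FractionRing D) a
    rw [this]
    exact (IsFractionRing.injective D (FractionRing D)).comp hinj
  let ι : FractionRing A →ₐ[A] FractionRing D := IsFractionRing.liftAlgHom hinjFD
  let φ' : C →ₐ[A] FractionRing D := (IsScalarTower.toAlgHom A D (FractionRing D)).comp φ
  let ψ : C ⊗[A] FractionRing A →ₐ[A] FractionRing D :=
    Algebra.TensorProduct.lift φ' ι (fun _ _ => Commute.all _ _)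
  have hψ : ∀ x : C, ψ (algebraMap C (C ⊗[A] FractionRing A) x) =
      algebraMap D (FractionRing D) (φ x) := by
    intro x
    change ψ (x ⊗ₜ[A] (1 : FractionRing A)) = _
    simp [ψ, φ']
  have hker : ∀ x : C, algebraMap C (C ⊗[A] FractionRing A) x ∈ RingHom.ker ψ.toRingHom ↔
      x ∈ RingHom.ker φ.toRingHom := by
    intro x
    rw [RingHom.mem_ker, RingHom.mem_ker]
    change ψ _ = 0 ↔ φ x = 0
    rw [hψ]
    constructor
    · intro h
      exact (IsFractionRing.injective D (FractionRing D)) (by rw [h, map_zero])
    · intro h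
      rw [h, map_zero]
  haveI hprime : (RingHom.ker ψ.toRingHom).IsPrime := RingHom.ker_isPrime _
  obtain ⟨r, hr, hri, hrq⟩ := IsArtinianRing.exists_not_mem_forall_mem_of_ne (RingHom.ker ψ.toRingHom)
  -- `1 - r` lies in the kernel
  have h1r : 1 - r ∈ RingHom.ker ψ.toRingHom := by
    have h0 : r * (1 - r) ∈ RingHom.ker ψ.toRingHom := by
      have : r * (1 - r) = 0 := by
        rw [mul_sub, mul_one, hri.eq, sub_self]
      rw [this]
      exact Ideal.zero_mem _
    exact (hprime.mem_or_mem h0).resolve_left hr
  -- elements of the kernel are killed by `r`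
  have hkill : ∀ x ∈ RingHom.ker ψ.toRingHom, x * r = 0 := by
    intro x hx
    have hnil : x * r ∈ nilradical (C ⊗[A] FractionRing A) := by
      rw [nilradical_eq_sInf, Ideal.mem_sInf]
      intro q hq
      have hq' : q.IsPrime := hq
      by_cases hqp : q = RingHom.ker ψ.toRingHom
      · rw [hqp]
        exact Ideal.mul_mem_right _ _ hx
      · exact Ideal.mul_mem_left _ _ (hrq q hq' hqp)
    exact (nilradical_eq_zero (C ⊗[A] FractionRing A)) ▸ hnil |> fun h => by
      simpa using h
  -- descend `r`
  haveI : Nontrivial C := by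
    by_contra h
    rw [not_nontrivial_iff_subsingleton] at h
    have h10 : (1 : C ⊗[A] FractionRing A) = 0 := by
      rw [← map_one (algebraMap C (C ⊗[A] FractionRing A)), Subsingleton.elim (1 : C) 0, map_zero]
    exact hprime.ne_top ((Ideal.eq_top_iff_one _).mpr (h10 ▸ Ideal.zero_mem _))
  have hrint : IsIntegral C r := by
    refine ⟨Polynomial.X ^ 2 - Polynomial.X, ?_, ?_⟩
    · exact Polynomial.monic_X_pow_sub (by
        rw [Polynomial.degree_X]
        exact_mod_cast (by norm_num : (1 : ℕ) < 2))
    · simp [pow_two, hri.eq]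
  obtain ⟨r', hr'⟩ := (IsIntegrallyClosedIn.isIntegral_iff (R := C) (A := C ⊗[A] FractionRing A)).mp hrint
  have hr'i : IsIdempotentElem r' := by
    apply hinjT
    rw [map_mul, hr', hri.eq]
  refine ⟨r', hr'i, ?_⟩
  apply le_antisymm
  · intro x hx
    have hx' := (hker x).mpr hx
    have h0 := hkill _ hx'
    rw [← hr', ← map_mul] at h0
    have h0' : x * r' = 0 := hinjT (by rw [h0, map_zero])
    rw [Ideal.mem_span_singleton]
    refine ⟨x, ?_⟩
    rw [mul_comm, mul_sub, mul_one, h0', sub_zero]
  · rw [Ideal.span_singleton_le_iff_mem]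
    apply (hker _).mp
    rw [map_sub, map_one, hr']
    exact h1r


end

section


/-- a domain `D` containing the normal domain `A` which is a quotient of an étale `A`-algebra is étale -/
theorem etale_of_surj (A C D : Type u) [CommRing A] [IsDomain A] [IsIntegrallyClosed A]
    [CommRing C] [Algebra A C] [Algebra.Etale A C] [CommRing D] [IsDomain D] [Algebra A D]
    (hinj : Function.Injective (algebraMap A D)) (φ : C →ₐ[A] D) (hφ : Function.Surjective φ) :
    Algebra.Etale A D := by
  obtain ⟨r, hri, hker⟩ := ker_eq_span A C D hinj φ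
  haveI : IsLocalization.Away r (C ⧸ Ideal.span {1 - r}) :=
    IsLocalization.Away.quotient_of_isIdempotentElem hri
  haveI : Algebra.Etale C (C ⧸ Ideal.span {1 - r}) := Algebra.Etale.of_isLocalizationAway r
  haveI : Algebra.Etale A (C ⧸ Ideal.span {1 - r}) := Algebra.Etale.comp A C _
  have hker' : RingHom.ker φ = Ideal.span {1 - r} := hker
  let e1 : (C ⧸ RingHom.ker φ) ≃ₐ[A] D := Ideal.quotientKerAlgEquivOfSurjective hφ
  let e2 : (C ⧸ Ideal.span {1 - r}) ≃ₐ[A] (C ⧸ RingHom.ker φ) :=
    Ideal.quotientEquivAlgOfEq A hker'.symm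
  exact Algebra.Etale.of_equiv (e2.trans e1)


end

section


/-- a domain `B` containing the normal domain `A` which is unramified over `A` is étale over `A` -/
theorem etale_of_unramified (A B : Type u) [CommRing A] [IsDomain A] [IsIntegrallyClosed A]
    [CommRing B] [IsDomain B] [Algebra A B] (hinj : Function.Injective (algebraMap A B))
    [Algebra.FiniteType A B] [Algebra.FormallyUnramified A B] : Algebra.Etale A B := by
  rw [← RingHom.etale_algebraMap]
  apply RingHom.Etale.ofLocalizationSpanTarget (algebraMap A B)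
    {f : B | Algebra.Etale A (Localization.Away f)}
  · by_contra hne
    obtain ⟨Q, hQ, hle⟩ := Ideal.exists_le_maximal _ hne
    haveI : Q.IsPrime := hQ.isPrime
    haveI : Algebra.IsUnramifiedAt A Q := inferInstance
    obtain ⟨f, hfQ, P, φ, hφ⟩ := Algebra.IsUnramifiedAt.exists_hasStandardEtaleSurjectionOn (R := A) Q
    have hf0 : f ≠ 0 := fun h => hfQ (h ▸ Q.zero_mem)
    have hle0 : Submonoid.powers f ≤ nonZeroDivisors B :=
      powers_le_nonZeroDivisors_of_noZeroDivisors hf0
    haveI : IsDomain (Localization.Away f) :=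
      IsLocalization.isDomain_of_le_nonZeroDivisors (Localization.Away f) hle0
    have hinj' : Function.Injective (algebraMap A (Localization.Away f)) := by
      rw [IsScalarTower.algebraMap_eq A B (Localization.Away f)]
      exact (IsLocalization.injective (Localization.Away f) hle0).comp hinj
    have hEt : Algebra.Etale A (Localization.Away f) :=
      etale_of_surj A P.Ring (Localization.Away f) hinj' φ hφ
    exact hfQ (hle (Ideal.subset_span hEt))
  · rintro ⟨r, hr⟩
    have hr' : Algebra.Etale A (Localization.Away r) := hr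
    rw [← IsScalarTower.algebraMap_eq A B (Localization.Away r), RingHom.etale_algebraMap]
    exact hr'


end

section


theorem app_injective {X Z : Scheme.{u}} [IsIntegral X] (g : Z ⟶ X)
    (hη : genericPoint X ∈ Set.range g.base) (U : X.Opens) :
    Function.Injective (g.app U).hom := by
  rw [injective_iff_map_eq_zero]
  intro a ha
  by_contra hne
  have hb : X.basicOpen a ≠ ⊥ := by rwa [Ne, AlgebraicGeometry.basicOpen_eq_bot_iff]
  have hmem : genericPoint X ∈ X.basicOpen a := by
    refine ((genericPoint_spec X).mem_open_set_iff (X.basicOpen a).2).mpr ?_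
    rw [Set.univ_inter]
    exact (TopologicalSpace.Opens.ne_bot_iff_nonempty _).mp hb
  obtain ⟨z, hz⟩ := hη
  have hz' : z ∈ g ⁻¹ᵁ (X.basicOpen a) := by
    show g.base z ∈ X.basicOpen a
    rw [hz]
    exact hmem
  rw [Scheme.preimage_basicOpen] at hz'
  have ha' : (g.app U) a = 0 := ha
  rw [ha', Scheme.basicOpen_zero] at hz'
  exact hz'.elim

theorem preimage_nonempty {X Z : Scheme.{u}} [IsIntegral X] (g : Z ⟶ X)
    (hη : genericPoint X ∈ Set.range g.base) (U : X.Opens) [hU : Nonempty U] :
    Nonempty (g ⁻¹ᵁ U : Z.Opens) := by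
  obtain ⟨z, hz⟩ := hη
  refine ⟨⟨z, ?_⟩⟩
  show g.base z ∈ U
  rw [hz]
  refine ((genericPoint_spec X).mem_open_set_iff U.2).mpr ?_
  rw [Set.univ_inter]
  obtain ⟨⟨x, hx⟩⟩ := hU
  exact ⟨x, hx⟩


end

section


set_option backward.isDefEq.respectTransparency false in
theorem etale_fromNormalization {X Z : Scheme.{u}} [IsIntegral X] (hX : Pi1.IsNormalScheme X)
    [IsIntegral Z] (g : Z ⟶ X) [QuasiCompact g] [QuasiSeparated g]
    (hη : genericPoint X ∈ Set.range g.base)
    [FormallyUnramified g.fromNormalization] [LocallyOfFiniteType g.fromNormalization] :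
    Etale g.fromNormalization := by
  apply IsZariskiLocalAtTarget.of_forall_exists_morphismRestrict (P := @Etale)
  intro x
  obtain ⟨_, ⟨U, hU : IsAffineOpen U, rfl⟩, hxU, -⟩ :=
    X.isBasis_affineOpens.exists_subset_of_mem_open (Set.mem_univ x) isOpen_univ
  refine ⟨U, hxU, ?_⟩
  haveI : Nonempty U := ⟨⟨x, hxU⟩⟩
  haveI := preimage_nonempty g hη U
  rw [Groth.Agent.Lib.Helper9.PurFF.etale_morphismRestrict_iff _ hU]
  have hft : RingHom.FiniteType (g.fromNormalization.app U).hom := by
    rw [Scheme.Hom.app_eq_appLE]
    exact HasRingHomProperty.appLE (P := @LocallyOfFiniteType) _ inferInstance ⟨U, hU⟩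
      ⟨_, hU.preimage g.fromNormalization⟩ le_rfl
  have hfu : RingHom.FormallyUnramified (g.fromNormalization.app U).hom := by
    rw [Scheme.Hom.app_eq_appLE]
    exact HasRingHomProperty.appLE (P := @FormallyUnramified) _ inferInstance ⟨U, hU⟩
      ⟨_, hU.preimage g.fromNormalization⟩ le_rfl
  letI := (g.app U).hom.toAlgebra
  rw [g.fromNormalization_app hU, CommRingCat.hom_comp] at hft hfu ⊢
  rw [RingHom.finiteType_respectsIso.cancel_right_isIso] at hft
  rw [RingHom.FormallyUnramified.respectsIso.cancel_right_isIso] at hfu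
  rw [RingHom.Etale.respectsIso.cancel_right_isIso]
  change (algebraMap Γ(X, U) (integralClosure Γ(X, U) Γ(Z, g ⁻¹ᵁ U))).FiniteType at hft
  change (algebraMap Γ(X, U) (integralClosure Γ(X, U) Γ(Z, g ⁻¹ᵁ U))).FormallyUnramified at hfu
  change (algebraMap Γ(X, U) (integralClosure Γ(X, U) Γ(Z, g ⁻¹ᵁ U))).Etale
  rw [RingHom.finiteType_algebraMap] at hft
  rw [RingHom.formallyUnramified_algebraMap] at hfu
  rw [RingHom.etale_algebraMap]
  haveI : IsIntegrallyClosed Γ(X, U) :=
    Groth.Agent.Lib.Helper24.ENorm.isIntegrallyClosed_of_isAffineOpen (fun x => (hX x).2) hU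
  have hinjE : Function.Injective (algebraMap Γ(X, U) Γ(Z, g ⁻¹ᵁ U)) := app_injective g hη U
  have hinj : Function.Injective
      (algebraMap Γ(X, U) (integralClosure Γ(X, U) Γ(Z, g ⁻¹ᵁ U))) := by
    intro a b hab
    apply hinjE
    have := congrArg (Subtype.val) hab
    exact this
  exact etale_of_unramified Γ(X, U) (integralClosure Γ(X, U) Γ(Z, g ⁻¹ᵁ U)) hinj


end
end Groth.Agent.Lib.Helper23.NormEtale
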