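import Mathlib
import Groth.Prelude.Def_EGA41

/-!
# Extending ring homomorphisms along a `p`-basis (Def_EGA41.IsPBasis)

* `pMonomial_*` : basic lemmas on `EGA41.pMonomial`.
* `exists_ringHom_of_pBasis`: if `x` is a `p`-basis of `B` over `A`, `θ : A[B^p] →+* E` a ring hom and
  `z : ι → E` with `θ ((x^q)^p) = (z^q)^p`, there is a ring hom `w : B →+* E` extending `θ` with `w (x i) = z i`.
* `ringHom_ext_of_pGenerating`: ring homs agreeing on `A[B^p]` and on the `x i` agree.
-/

set_option autoImplicit false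
universe u
open EGA41

namespace Groth.Agent.Lib.Helper23.PBasis

section
variable (p : ℕ) {ι : Type u}

lemma pMonomial_split {R : Type u} [CommRing R] (y : ι → R) (e : ι →₀ ℕ) :
    pMonomial y e = pMonomial y (e.mapRange (· % p) (Nat.zero_mod p)) *
      (pMonomial y (e.mapRange (· / p) (Nat.zero_div p))) ^ p := by
  classical
  unfold pMonomial
  rw [Finsupp.prod_mapRange_index (by intro i; simp), Finsupp.prod_mapRange_index (by intro i; simp)]
  simp only [Finsupp.prod]
  rw [← Finset.prod_pow, ← Finset.prod_mul_distrib]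
  refine Finset.prod_congr rfl fun i _ => ?_
  rw [← pow_mul, ← pow_add, Nat.mod_add_div']

lemma pMonomial_add {R : Type u} [CommRing R] (y : ι → R) (e e' : ι →₀ ℕ) :
    pMonomial y (e + e') = pMonomial y e * pMonomial y e' := by
  classical
  unfold pMonomial
  rw [Finsupp.prod_add_index' (by intro i; simp) (by intro i m n; exact pow_add _ _ _)]

lemma pMonomial_single {R : Type u} [CommRing R] (y : ι → R) (i : ι) :
    pMonomial y (Finsupp.single i 1) = y i := by
  unfold pMonomial
  rw [Finsupp.prod_single_index (by simp), pow_one]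

lemma pMonomial_zero {R : Type u} [CommRing R] (y : ι → R) :
    pMonomial y 0 = 1 := by
  unfold pMonomial
  simp

lemma map_pMonomial {R R' : Type u} [CommRing R] [CommRing R'] (f : R →+* R') (y : ι → R)
    (e : ι →₀ ℕ) : f (pMonomial y e) = pMonomial (fun i => f (y i)) e := by
  unfold pMonomial
  rw [map_finsuppProd]
  simp only [map_pow]

end

lemma pow_mem_pPowerSubalgebra (p : ℕ) (A : Type u) {B : Type u} [CommRing A] [CommRing B]
    [Algebra A B] (b : B) : b ^ p ∈ pPowerSubalgebra p A B :=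
  Algebra.subset_adjoin ⟨b, rfl⟩

theorem ringHom_ext_of_pGenerating (p : ℕ) {A B : Type u} [CommRing A] [CommRing B] [Algebra A B]
    {ι : Type u} (x : ι → B) (hx : IsPGenerating p A x) {E : Type*} [CommRing E]
    (w w' : B →+* E) (hS : ∀ s : pPowerSubalgebra p A B, w s.1 = w' s.1)
    (hxi : ∀ i, w (x i) = w' (x i)) : w = w' := by
  have hspan : ∀ b : B, b ∈ Submodule.span (pPowerSubalgebra p A B)
      (Set.range fun e : {e : ι →₀ ℕ // ∀ i, e i < p} => pMonomial x e.1) := by
    intro b; rw [hx]; exact Submodule.mem_top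
  ext b
  refine Submodule.span_induction ?_ ?_ ?_ ?_ (hspan b)
  · rintro _ ⟨e, rfl⟩
    unfold pMonomial
    rw [map_finsuppProd, map_finsuppProd]
    simp only [map_pow, hxi]
  · simp
  · intro b b' _ _ h h'
    rw [map_add, map_add, h, h']
  · intro s b _ h
    rw [Algebra.smul_def, map_mul, map_mul, h]
    congr 1
    exact hS s

theorem exists_ringHom_of_pBasis (p : ℕ) [Fact p.Prime] {A B : Type u} [CommRing A] [CommRing B]
    [Algebra A B] {ι : Type u} (x : ι → B) (hx : IsPBasis p A x) {E : Type u} [CommRing E]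
    (θ : pPowerSubalgebra p A B →+* E) (z : ι → E)
    (hθ : ∀ q : ι →₀ ℕ, θ ⟨(pMonomial x q) ^ p, pow_mem_pPowerSubalgebra p A _⟩ =
      (pMonomial z q) ^ p) :
    ∃ w : B →+* E, (∀ s : pPowerSubalgebra p A B, w s.1 = θ s) ∧ (∀ i, w (x i) = z i) := by
  classical
  letI : Algebra (pPowerSubalgebra p A B) E := θ.toAlgebra
  have hsmul : ∀ (s : pPowerSubalgebra p A B) (e : E), s • e = θ s * e := fun s e => rfl
  let ℬ : Module.Basis {e : ι →₀ ℕ // ∀ i, e i < p} (pPowerSubalgebra p A B) B :=
    Module.Basis.mk hx.1 (by rw [hx.2])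
  have hℬ : ∀ e, ℬ e = pMonomial x e.1 := fun e => by simp [ℬ]
  let w₀ : B →ₗ[pPowerSubalgebra p A B] E :=
    ℬ.constr (pPowerSubalgebra p A B) (fun e => pMonomial z e.1)
  have hw₀ℬ : ∀ e, w₀ (ℬ e) = pMonomial z e.1 := fun e => ℬ.constr_basis _ _ e
  have key : ∀ e : ι →₀ ℕ, w₀ (pMonomial x e) = pMonomial z e := by
    intro e
    have hr : ∀ i, (e.mapRange (· % p) (Nat.zero_mod p)) i < p := fun i => by
      rw [Finsupp.mapRange_apply]
      exact Nat.mod_lt _ (Fact.out : p.Prime).pos
    rw [pMonomial_split p x e, pMonomial_split p z e]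
    have h1 : pMonomial x (e.mapRange (· % p) (Nat.zero_mod p)) *
        (pMonomial x (e.mapRange (· / p) (Nat.zero_div p))) ^ p =
        (⟨(pMonomial x (e.mapRange (· / p) (Nat.zero_div p))) ^ p,
          pow_mem_pPowerSubalgebra p A _⟩ : pPowerSubalgebra p A B) • ℬ ⟨_, hr⟩ := by
      rw [hℬ, mul_comm]
      rfl
    rw [h1, map_smul, hw₀ℬ, hsmul, hθ, mul_comm]
  have hone : w₀ 1 = 1 := by
    rw [← pMonomial_zero x, key, pMonomial_zero]
  have hmul : ∀ b b' : B, w₀ (b * b') = w₀ b * w₀ b' := by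
    have hL : (LinearMap.mul (pPowerSubalgebra p A B) B).compr₂ w₀ =
        (LinearMap.mul (pPowerSubalgebra p A B) E).compl₁₂ w₀ w₀ := by
      refine ℬ.ext fun e => ℬ.ext fun e' => ?_
      simp only [LinearMap.compr₂_apply, LinearMap.mul_apply', LinearMap.compl₁₂_apply]
      rw [hℬ, hℬ, ← pMonomial_add, key, key, key, pMonomial_add]
    intro b b'
    exact congrArg (fun L => L b b') hL
  let w : B →+* E :=
    { toFun := w₀
      map_one' := hone
      map_mul' := hmul
      map_zero' := map_zero w₀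
      map_add' := map_add w₀ }
  have hww₀ : ∀ b, w b = w₀ b := fun b => rfl
  refine ⟨w, ?_, ?_⟩
  · intro s
    have : s.1 = s • (1 : B) := by rw [Algebra.smul_def, mul_one]; rfl
    rw [hww₀, this, map_smul, hone, hsmul, mul_one]
  · intro i
    rw [hww₀, ← pMonomial_single x i, key, pMonomial_single]

end Groth.Agent.Lib.Helper23.PBasis
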