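import Mathlib
import Groth.Agent.Lib.Helper23.CKTfae
import Groth.Agent.Lib.Helper23.Imperf1
import Groth.Agent.Lib.Helper23.FieldSep3
import Groth.Agent.Lib.Helper23.GeomRegular2
import Groth.Agent.Lib.Helper23.CohenDomain
import Groth.Agent.Lib.Helper23.CK6
import Groth.Agent.S5074

/-!
EGA 0_IV 21.9.x / 22.x: for a complete Noetherian local domain A over a field k with [k:k^p] finite and finite residue extension, there is a finite purely inseparable k' (model: Fr k p e = k viewed over itself through Frobenius^e) such that (k' ⊗ A)_red = Bq k p e A is a local domain, finite injective over k'[[T_1..T_n]] and unramified at the generic point. Key lemmas: theta (c ⊗ a ↦ c a^{p^e}), ker_theta = nilradical, thetaBar_injective, algAB_* (A → Bq finite injective local), exists_sep_subfield, geomReduced_fractionRing_Bq, geomRegular_field, geomRegular_of_algEquiv, injective_of_dim, exists_chart_of_geomRegular_bot, main, t5992.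
-/

set_option autoImplicit false
set_option linter.unusedSectionVars false
set_option linter.style.haveILetI false
universe u


namespace Groth.Agent.Lib.Helper23.PIChart

section

open IsLocalRing TensorProduct

/-- the field `k` viewed as an extension of itself through the `e`-th iterate of Frobenius
(a model of `k^{1/p^e}`). -/
def Fr (k : Type u) (_p _e : ℕ) : Type u := k

/-- a ring with its `k`-algebra structure twisted by the `e`-th iterate of Frobenius. -/
def Tw (A : Type u) (_p _e : ℕ) : Type u := A

section Defs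

variable (k : Type u) [Field k] (p e : ℕ)

noncomputable instance : Field (Fr k p e) := inferInstanceAs (Field k)

/-- the identity. -/
def Fr.equiv : Fr k p e ≃+* k := RingEquiv.refl k

variable [ExpChar k p]

noncomputable instance : Algebra k (Fr k p e) :=
  ((Fr.equiv k p e).symm.toRingHom.comp (iterateFrobenius k p e)).toAlgebra

theorem Fr.algebraMap_apply (c : k) :
    algebraMap k (Fr k p e) c = (Fr.equiv k p e).symm (c ^ p ^ e) := rfl

instance : ExpChar (Fr k p e) p := inferInstanceAs (ExpChar k p)

theorem Fr.pow_eq (x : Fr k p e) : x ^ p ^ e = algebraMap k (Fr k p e) (Fr.equiv k p e x) := rfl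

theorem iterateFrobenius_finite (hk : (frobenius k p).Finite) :
    ∀ e : ℕ, (iterateFrobenius k p e).Finite := by
  intro e
  induction e with
  | zero => rw [iterateFrobenius_zero]; exact RingHom.Finite.id k
  | succ e ih =>
    have h1 : iterateFrobenius k p (e + 1) = (iterateFrobenius k p e).comp (frobenius k p) := by
      rw [iterateFrobenius_add, iterateFrobenius_one]
    rw [h1]
    exact RingHom.Finite.comp ih hk

theorem Fr.finite (hk : (frobenius k p).Finite) : Module.Finite k (Fr k p e) := by
  apply RingHom.finite_algebraMap.mp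
  exact RingHom.Finite.comp (RingHom.Finite.of_surjective _ (Fr.equiv k p e).symm.surjective)
    (iterateFrobenius_finite k p hk e)

theorem Fr.isPurelyInseparable : IsPurelyInseparable k (Fr k p e) :=
  (isPurelyInseparable_iff_pow_mem k p).mpr fun x => ⟨e, Fr.equiv k p e x, (Fr.pow_eq k p e x).symm⟩

theorem Fr.frobenius_finite (hk : (frobenius k p).Finite) :
    (frobenius (Fr k p e) p).Finite := hk

end Defs

section TwDefs

variable (k : Type u) [Field k] (p e : ℕ) [ExpChar k p] (A : Type u) [CommRing A] [Algebra k A]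

noncomputable instance : CommRing (Tw A p e) := inferInstanceAs (CommRing A)

/-- the identity. -/
def Tw.equiv : Tw A p e ≃+* A := RingEquiv.refl A

noncomputable instance : Algebra k (Tw A p e) :=
  ((Tw.equiv p e A).symm.toRingHom.comp ((algebraMap k A).comp (iterateFrobenius k p e))).toAlgebra

theorem Tw.algebraMap_apply (c : k) :
    algebraMap k (Tw A p e) c = (Tw.equiv p e A).symm (algebraMap k A (c ^ p ^ e)) := rfl

variable [ExpChar A p]

/-- `x ↦ x`, as a `k`-algebra map `Fr → Tw A`. -/
noncomputable def fHom : Fr k p e →ₐ[k] Tw A p e :=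
  { (Tw.equiv p e A).symm.toRingHom.comp ((algebraMap k A).comp (Fr.equiv k p e).toRingHom) with
    commutes' := fun c => rfl }

/-- `a ↦ a ^ p ^ e`, as a `k`-algebra map `A → Tw A`. -/
noncomputable def gHom : A →ₐ[k] Tw A p e :=
  { (Tw.equiv p e A).symm.toRingHom.comp (iterateFrobenius A p e) with
    commutes' := fun c => by
      show (Tw.equiv p e A).symm (iterateFrobenius A p e (algebraMap k A c)) = _
      rw [iterateFrobenius_def, ← map_pow]
      rfl }

/-- the map `c ⊗ a ↦ c · a ^ p ^ e`. -/
noncomputable def theta : Fr k p e ⊗[k] A →+* A :=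
  (Tw.equiv p e A).toRingHom.comp
    (Algebra.TensorProduct.lift (fHom k p e A) (gHom k p e A) (fun _ _ => Commute.all _ _)).toRingHom

theorem theta_tmul (x : Fr k p e) (a : A) :
    theta k p e A (x ⊗ₜ[k] a) = algebraMap k A (Fr.equiv k p e x) * a ^ p ^ e := by
  unfold theta
  rw [RingHom.comp_apply]
  change (Tw.equiv p e A) (Algebra.TensorProduct.lift (fHom k p e A) (gHom k p e A) _ (x ⊗ₜ[k] a)) = _
  rw [Algebra.TensorProduct.lift_tmul, map_mul]
  rfl

theorem theta_one_tmul (a : A) : theta k p e A ((1 : Fr k p e) ⊗ₜ[k] a) = a ^ p ^ e := by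
  rw [theta_tmul, map_one, map_one, one_mul]

theorem nontrivial_tensor [Nontrivial A] : Nontrivial (Fr k p e ⊗[k] A) :=
  (theta k p e A).domain_nontrivial

theorem expChar_tensor [Nontrivial A] : ExpChar (Fr k p e ⊗[k] A) p := by
  haveI := nontrivial_tensor k p e A
  exact expChar_of_injective_algebraMap (algebraMap (Fr k p e) (Fr k p e ⊗[k] A)).injective p

/-- the basic identity `z ^ p ^ e = 1 ⊗ θ z`. -/
theorem pow_eq_one_tmul_theta [Nontrivial A] (z : Fr k p e ⊗[k] A) :
    z ^ p ^ e = (1 : Fr k p e) ⊗ₜ[k] theta k p e A z := by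
  haveI := expChar_tensor k p e A
  induction z using TensorProduct.induction_on with
  | zero =>
    rw [map_zero, TensorProduct.tmul_zero, zero_pow]
    exact pow_ne_zero _ (expChar_ne_zero k p)
  | tmul x a =>
    rw [Algebra.TensorProduct.tmul_pow, theta_tmul, Fr.pow_eq, Algebra.algebraMap_eq_smul_one,
      TensorProduct.smul_tmul, Algebra.smul_def]
  | add x y hx hy =>
    rw [add_pow_expChar_pow, hx, hy, map_add, TensorProduct.tmul_add]

theorem isLocalHom_theta [Nontrivial A] : IsLocalHom (theta k p e A) := by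
  refine ⟨fun z hz => ?_⟩
  have h1 : IsUnit (z ^ p ^ e) := by
    rw [pow_eq_one_tmul_theta]
    exact hz.map (Algebra.TensorProduct.includeRight (R := k) (A := Fr k p e) (B := A))
  exact (isUnit_pow_iff (pow_ne_zero _ (expChar_ne_zero k p))).mp h1

theorem isLocalRing_tensor [IsLocalRing A] : IsLocalRing (Fr k p e ⊗[k] A) := by
  haveI := isLocalHom_theta k p e A
  exact RingHom.domain_isLocalRing (theta k p e A)

theorem ker_theta [Nontrivial A] [IsReduced A] :
    RingHom.ker (theta k p e A) = nilradical (Fr k p e ⊗[k] A) := by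
  ext z
  rw [RingHom.mem_ker, mem_nilradical]
  constructor
  · intro hz
    refine ⟨p ^ e, ?_⟩
    rw [pow_eq_one_tmul_theta, hz, TensorProduct.tmul_zero]
  · intro hz
    exact (hz.map (theta k p e A)).eq_zero

/-- the induced embedding of the reduction into `A`. -/
noncomputable def thetaBar [Nontrivial A] [IsReduced A] :
    (Fr k p e ⊗[k] A) ⧸ nilradical (Fr k p e ⊗[k] A) →+* A :=
  Ideal.Quotient.lift _ (theta k p e A) (fun z hz => by
    rw [← ker_theta] at hz; exact hz)

theorem thetaBar_mk [Nontrivial A] [IsReduced A] (z : Fr k p e ⊗[k] A) :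
    thetaBar k p e A (Ideal.Quotient.mk _ z) = theta k p e A z := rfl

theorem thetaBar_injective [Nontrivial A] [IsReduced A] :
    Function.Injective (thetaBar k p e A) := by
  rw [injective_iff_map_eq_zero]
  intro y hy
  obtain ⟨z, rfl⟩ := Ideal.Quotient.mk_surjective y
  rw [thetaBar_mk] at hy
  rw [Ideal.Quotient.eq_zero_iff_mem, ← ker_theta]
  exact hy

end TwDefs


end

section

open IsLocalRing TensorProduct

section B

variable (k : Type u) [Field k] (p e : ℕ) [ExpChar k p] (A : Type u) [CommRing A] [Algebra k A]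
  [IsDomain A]

/-- the reduction of `k^{1/p^e} ⊗ A`. -/
abbrev Bq : Type u := (Fr k p e ⊗[k] A) ⧸ nilradical (Fr k p e ⊗[k] A)

include k in
theorem expChar_A : ExpChar A p :=
  expChar_of_injective_algebraMap (algebraMap k A).injective p

theorem isDomain_Bq : IsDomain (Bq k p e A) := by
  haveI := expChar_A k p A
  exact Function.Injective.isDomain (thetaBar k p e A) (thetaBar_injective k p e A)

theorem isLocalRing_Bq [IsLocalRing A] : IsLocalRing (Bq k p e A) := by
  haveI := expChar_A k p A
  haveI := isLocalRing_tensor k p e A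
  haveI := isDomain_Bq k p e A
  exact IsLocalRing.of_surjective' (Ideal.Quotient.mk _) Ideal.Quotient.mk_surjective

/-- the `A`-algebra structure on the reduction. -/
noncomputable def algAB : Algebra A (Bq k p e A) :=
  ((Ideal.Quotient.mk (nilradical (Fr k p e ⊗[k] A))).comp
    (Algebra.TensorProduct.includeRight (R := k) (A := Fr k p e) (B := A)).toRingHom).toAlgebra

theorem algAB_apply (a : A) :
    letI := algAB k p e A
    algebraMap A (Bq k p e A) a = Ideal.Quotient.mk _ ((1 : Fr k p e) ⊗ₜ[k] a) := rfl

theorem thetaBar_algebraMap (a : A) :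
    letI := algAB k p e A
    haveI := expChar_A k p A
    thetaBar k p e A (algebraMap A (Bq k p e A) a) = a ^ p ^ e := by
  haveI := expChar_A k p A
  letI := algAB k p e A
  rw [algAB_apply, thetaBar_mk, theta_one_tmul]

theorem algAB_injective :
    letI := algAB k p e A
    Function.Injective (algebraMap A (Bq k p e A)) := by
  haveI := expChar_A k p A
  letI := algAB k p e A
  rw [injective_iff_map_eq_zero]
  intro a ha
  have h1 := thetaBar_algebraMap k p e A a
  rw [ha, map_zero] at h1
  exact pow_eq_zero_iff (pow_ne_zero _ (expChar_ne_zero k p)) |>.mp h1.symm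

theorem algAB_tower :
    letI := algAB k p e A
    IsScalarTower k A (Bq k p e A) := by
  letI := algAB k p e A
  refine IsScalarTower.of_algebraMap_eq (fun c => ?_)
  rw [algAB_apply]
  show Ideal.Quotient.mk _ (algebraMap k (Fr k p e ⊗[k] A) c) = _
  rw [Algebra.TensorProduct.algebraMap_apply, Algebra.algebraMap_eq_smul_one,
    TensorProduct.smul_tmul, ← Algebra.algebraMap_eq_smul_one]

theorem algAB_finite (hk : (frobenius k p).Finite) :
    letI := algAB k p e A
    Module.Finite A (Bq k p e A) := by
  letI := algAB k p e A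
  haveI := Fr.finite k p e hk
  let ψ : A ⊗[k] Fr k p e →+* Bq k p e A :=
    (Ideal.Quotient.mk _).comp (Algebra.TensorProduct.comm k A (Fr k p e)).toAlgHom.toRingHom
  let ψl : A ⊗[k] Fr k p e →ₗ[A] Bq k p e A :=
    { toFun := ψ
      map_add' := map_add ψ
      map_smul' := fun a x => by
        rw [RingHom.id_apply, Algebra.smul_def, Algebra.smul_def, map_mul]
        congr 1 }
  refine Module.Finite.of_surjective ψl ?_
  intro y
  obtain ⟨z, rfl⟩ := Ideal.Quotient.mk_surjective y
  exact ⟨(Algebra.TensorProduct.comm k A (Fr k p e)).symm z, by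
    show Ideal.Quotient.mk _ ((Algebra.TensorProduct.comm k A (Fr k p e))
      ((Algebra.TensorProduct.comm k A (Fr k p e)).symm z)) = _
    rw [AlgEquiv.apply_symm_apply]⟩

theorem algAB_isLocalHom [IsLocalRing A] :
    letI := algAB k p e A
    IsLocalHom (algebraMap A (Bq k p e A)) := by
  haveI := expChar_A k p A
  letI := algAB k p e A
  refine ⟨fun a ha => ?_⟩
  have h1 : IsUnit (thetaBar k p e A (algebraMap A (Bq k p e A) a)) := ha.map _
  rw [thetaBar_algebraMap] at h1
  exact (isUnit_pow_iff (pow_ne_zero _ (expChar_ne_zero k p))).mp h1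

end B

section B2

variable (k : Type u) [Field k] (p e : ℕ) [ExpChar k p] (A : Type u) [CommRing A] [Algebra k A]
  [IsDomain A] [IsLocalRing A] [IsNoetherianRing A] [IsAdicComplete (maximalIdeal A) A]
  [Module.Finite k (ResidueField A)]

theorem isNoetherianRing_Bq (hk : (frobenius k p).Finite) : IsNoetherianRing (Bq k p e A) := by
  letI := algAB k p e A
  haveI := algAB_finite k p e A hk
  exact IsNoetherianRing.of_finite A (Bq k p e A)

theorem isAdicComplete_Bq (hk : (frobenius k p).Finite) :
    letI := isLocalRing_Bq k p e A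
    IsAdicComplete (maximalIdeal (Bq k p e A)) (Bq k p e A) := by
  letI := isLocalRing_Bq k p e A
  letI := algAB k p e A
  haveI := algAB_finite k p e A hk
  exact Groth.Agent.Lib.Helper9.SemiLocalProd.isAdicComplete_maximalIdeal_of_finite A (Bq k p e A)

theorem ringKrullDim_Bq (hk : (frobenius k p).Finite) :
    ringKrullDim (Bq k p e A) = ringKrullDim A := by
  letI := algAB k p e A
  haveI := algAB_finite k p e A hk
  exact (Groth.Agent.Lib.Helper12.ringKrullDim_eq_of_isIntegral_of_injective A (Bq k p e A)
    (algAB_injective k p e A)).symm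

theorem finite_residueField_Bq (hk : (frobenius k p).Finite) :
    letI := isLocalRing_Bq k p e A
    Module.Finite (Fr k p e) (ResidueField (Bq k p e A)) := by
  letI := isLocalRing_Bq k p e A
  letI := algAB k p e A
  haveI := algAB_finite k p e A hk
  haveI := algAB_isLocalHom k p e A
  haveI := algAB_tower k p e A
  haveI : Module.Finite (ResidueField A) (ResidueField (Bq k p e A)) := inferInstance
  haveI : IsScalarTower k (ResidueField A) (ResidueField (Bq k p e A)) := by
    refine IsScalarTower.of_algebraMap_eq (fun c => ?_)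
    rw [IsScalarTower.algebraMap_apply k (Bq k p e A) (ResidueField (Bq k p e A)),
      IsScalarTower.algebraMap_apply k A (ResidueField A),
      IsScalarTower.algebraMap_apply k A (Bq k p e A)]
    rfl
  haveI : Module.Finite k (ResidueField (Bq k p e A)) := Module.Finite.trans (ResidueField A) _
  exact Module.Finite.of_restrictScalars_finite k (Fr k p e) (ResidueField (Bq k p e A))

end B2


end

section

open IsLocalRing TensorProduct KaehlerDifferential
open Groth.Agent.Lib.Helper23.Imperf Groth.Agent.Lib.Helper23.FieldSep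

section C1

variable (k A L : Type u) [Field k] [CommRing A] [IsDomain A] [IsNoetherianRing A]
  [IsLocalRing A] [Algebra k A] [IsAdicComplete (IsLocalRing.maximalIdeal A) A]
  [Module.Finite k (IsLocalRing.ResidueField A)]
  [Field L] [Algebra A L] [IsFractionRing A L] [Algebra k L] [IsScalarTower k A L]

/-- a separable subextension of `Frac A` over `k` containing all `p^e`-th powers. -/
theorem exists_sep_subfield (p : ℕ) [ExpChar k p] (n : ℕ) (hn : ringKrullDim A = n) :
    ∃ (e : ℕ) (M : IntermediateField k L), Algebra.IsGeometricallyReduced k M ∧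
      ∀ a : L, a ^ p ^ e ∈ M := by
  classical
  obtain ⟨algPC, towPC, finPC, hinjPC, E, hE1, hE2, hE3, algkE, towkPE, algEL, towkEL, hfinEL⟩ :=
    exists_field_tower k A L n hn
  letI := algPC
  letI := hE1
  letI := hE2
  letI := algkE
  letI := algEL
  haveI := towPC
  haveI := hE3
  haveI := towkPE
  haveI := towkEL
  haveI := hfinEL
  haveI : Algebra.IsAlgebraic E L := Algebra.IsAlgebraic.of_finite E L
  let M₀ : IntermediateField E L := separableClosure E L
  haveI : ExpChar E p := expChar_of_injective_algebraMap (algebraMap k E).injective p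
  haveI : ExpChar M₀ p := expChar_of_injective_algebraMap (algebraMap E M₀).injective p
  haveI : IsPurelyInseparable M₀ L := separableClosure.isPurelyInseparable E L
  haveI : FiniteDimensional M₀ L := IntermediateField.finiteDimensional_right M₀
  haveI : Algebra.IsSeparable E M₀ := separableClosure.isSeparable E L
  haveI : Algebra.FormallyEtale E M₀ := Algebra.FormallyEtale.of_isSeparable E M₀
  have h1 : Function.Injective (mapBaseChange ℤ k E) := mapBaseChange_injective k n E
  have h2 : Function.Injective (mapBaseChange ℤ k M₀) := by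
    rw [← comp_fmap k E M₀]
    exact (tensorKaehlerEquivOfFormallyEtale ℤ E M₀).injective.comp (fmap_injective k E M₀ h1)
  have h3 : Algebra.IsGeometricallyReduced k M₀ := (isGeometricallyReduced_iff_injective k M₀).mpr h2
  refine ⟨IsPurelyInseparable.exponent M₀ L, M₀.restrictScalars k, h3, fun a => ?_⟩
  obtain ⟨m, hm⟩ := IsPurelyInseparable.exponent_def' M₀ p a
  rw [← hm]
  exact m.2

end C1


end

section

open IsLocalRing TensorProduct
open Groth.Agent.Lib.Helper23.FieldSep

section D1

/-- a geometrically reduced field extension is geometrically regular. -/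
theorem geomRegular_field (k F : Type u) [Field k] [Field F] [Algebra k F]
    (h : Algebra.IsGeometricallyReduced k F) : CAlg.IsGeometricallyRegular k F := by
  haveI : Algebra.FormallySmooth k F := (formallySmooth_iff_isGeometricallyReduced k F).mpr h
  intro k'' _ _ hfin
  haveI : IsNoetherianRing (k'' ⊗[k] F) :=
    Groth.Agent.Lib.Helper23.GeomRegular2.isNoetherianRing_tensor_of_essFiniteType k''
  haveI : Algebra.FormallySmooth k'' (k'' ⊗[k] F) := inferInstance
  exact isRegularRing_of_formallySmooth_field k'' (k'' ⊗[k] F)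

theorem geomRegular_of_algEquiv (k S S' : Type u) [Field k] [CommRing S] [CommRing S']
    [Algebra k S] [Algebra k S'] (e : S ≃ₐ[k] S') (h : CAlg.IsGeometricallyRegular k S) :
    CAlg.IsGeometricallyRegular k S' := by
  intro k'' _ _ hfin
  haveI := h k'' hfin
  exact IsRegularRing.of_ringEquiv
    (Algebra.TensorProduct.congr (AlgEquiv.refl : k'' ≃ₐ[k] k'') e).toRingEquiv

end D1

section D2

variable (k : Type u) [Field k] (p : ℕ) [ExpChar k p] (A : Type u) [CommRing A] [Algebra k A]
  [IsDomain A] (L : Type u) [Field L] [Algebra A L] [IsFractionRing A L] [Algebra k L]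
  [IsScalarTower k A L] (e : ℕ) (M : IntermediateField k L)

theorem theta_mem (hpow : ∀ a : L, a ^ p ^ e ∈ M) (z : Fr k p e ⊗[k] A) :
    haveI := expChar_A k p A
    algebraMap A L (theta k p e A z) ∈ M := by
  haveI := expChar_A k p A
  induction z using TensorProduct.induction_on with
  | zero => rw [map_zero, map_zero]; exact zero_mem M
  | tmul x a =>
    rw [theta_tmul, map_mul, map_pow, ← IsScalarTower.algebraMap_apply k A L]
    exact mul_mem (M.algebraMap_mem _) (hpow _)
  | add x y hx hy =>
    rw [map_add, map_add]; exact add_mem hx hy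

end D2

section D3

variable (k : Type u) [Field k] (p : ℕ) [ExpChar k p] (A : Type u) [CommRing A] [Algebra k A]
  [IsDomain A] (L : Type u) [Field L] [Algebra A L] [IsFractionRing A L] [Algebra k L]
  [IsScalarTower k A L] (e : ℕ) (M : IntermediateField k L)

theorem geomReduced_fractionRing_Bq (hM : Algebra.IsGeometricallyReduced k M)
    (hpow : ∀ a : L, a ^ p ^ e ∈ M) :
    letI := isDomain_Bq k p e A
    Algebra.IsGeometricallyReduced (Fr k p e) (FractionRing (Bq k p e A)) := by
  letI := isDomain_Bq k p e A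
  haveI := expChar_A k p A
  letI algM : Algebra (Fr k p e) M := inferInstanceAs (Algebra k M)
  haveI hM' : Algebra.IsGeometricallyReduced (Fr k p e) M := hM
  let ι₀ : Bq k p e A →+* L := (algebraMap A L).comp (thetaBar k p e A)
  have hι₀ : ∀ y, ι₀ y ∈ M := by
    intro y
    obtain ⟨z, rfl⟩ := Ideal.Quotient.mk_surjective y
    exact theta_mem k p A L e M hpow z
  let ι : Bq k p e A →+* M := RingHom.codRestrict ι₀ M hι₀
  have hιinj : Function.Injective ι := by
    intro a b hab
    have h1 : ι₀ a = ι₀ b := congrArg Subtype.val hab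
    exact thetaBar_injective k p e A (IsFractionRing.injective A L h1)
  let ιa : Bq k p e A →ₐ[Fr k p e] M :=
    { ι with
      commutes' := fun x => by
        apply Subtype.ext
        show algebraMap A L (theta k p e A (x ⊗ₜ[k] (1 : A))) = algebraMap k L (Fr.equiv k p e x)
        rw [theta_tmul, one_pow, mul_one, ← IsScalarTower.algebraMap_apply k A L] }
  have hιa : Function.Injective ιa := hιinj
  let j : FractionRing (Bq k p e A) →ₐ[Fr k p e] M := IsFractionRing.liftAlgHom hιa
  exact Algebra.IsGeometricallyReduced.of_injective j j.toRingHom.injective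

end D3

section D4

variable (k : Type u) [Field k] (p : ℕ) [ExpChar k p] (A : Type u) [CommRing A] [Algebra k A]
  [IsDomain A] (L : Type u) [Field L] [Algebra A L] [IsFractionRing A L] [Algebra k L]
  [IsScalarTower k A L] (e : ℕ) (M : IntermediateField k L)

theorem geomRegular_localization_bot (hM : Algebra.IsGeometricallyReduced k M)
    (hpow : ∀ a : L, a ^ p ^ e ∈ M) :
    letI := isDomain_Bq k p e A
    CAlg.IsGeometricallyRegular (Fr k p e) (Localization.AtPrime (⊥ : Ideal (Bq k p e A))) := by
  letI := isDomain_Bq k p e A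
  have h1 := geomReduced_fractionRing_Bq k p A L e M hM hpow
  have h2 := geomRegular_field (Fr k p e) (FractionRing (Bq k p e A)) h1
  haveI : IsLocalization (⊥ : Ideal (Bq k p e A)).primeCompl (FractionRing (Bq k p e A)) := by
    rw [Ideal.primeCompl_bot]; infer_instance
  let e₁ : FractionRing (Bq k p e A) ≃ₐ[Bq k p e A] Localization.AtPrime (⊥ : Ideal (Bq k p e A)) :=
    IsLocalization.algEquiv (⊥ : Ideal (Bq k p e A)).primeCompl _ _
  exact geomRegular_of_algEquiv (Fr k p e) _ _ (e₁.restrictScalars (Fr k p e)) h2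

end D4


end

section

open IsLocalRing TensorProduct
open Groth.Agent.Lib.Helper20 Groth.Agent.Lib.Helper1.ArtFunLib

section E1

/-- injectivity by dimension. -/
theorem injective_of_dim (k B : Type u) [Field k] [CommRing B] [IsDomain B] (n : ℕ)
    [Algebra (MvPowerSeries (Fin n) k) B] [Module.Finite (MvPowerSeries (Fin n) k) B]
    (hdim4 : ringKrullDim B = n) :
    Function.Injective (algebraMap (MvPowerSeries (Fin n) k) B) := by
  rw [injective_iff_map_eq_zero]
  intro F hF
  by_contra hF0
  obtain ⟨𝔨, h𝔨⟩ : ∃ 𝔨 : Ideal (MvPowerSeries (Fin n) k),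
      𝔨 = RingHom.ker (algebraMap (MvPowerSeries (Fin n) k) B) := ⟨_, rfl⟩
  have hF𝔨 : F ∈ 𝔨 := by rw [h𝔨]; exact hF
  letI : Algebra (MvPowerSeries (Fin n) k ⧸ 𝔨) B :=
    (Ideal.Quotient.lift 𝔨 (algebraMap (MvPowerSeries (Fin n) k) B)
      (fun a ha => by rw [h𝔨] at ha; exact ha)).toAlgebra
  haveI : IsScalarTower (MvPowerSeries (Fin n) k) (MvPowerSeries (Fin n) k ⧸ 𝔨) B :=
    IsScalarTower.of_algebraMap_eq (R := MvPowerSeries (Fin n) k)
      (S := MvPowerSeries (Fin n) k ⧸ 𝔨) (A := B) (fun _ => rfl)
  haveI : Algebra.IsIntegral (MvPowerSeries (Fin n) k ⧸ 𝔨) B := by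
    haveI : Module.Finite (MvPowerSeries (Fin n) k ⧸ 𝔨) B :=
      Module.Finite.of_restrictScalars_finite (MvPowerSeries (Fin n) k) _ _
    infer_instance
  have hinj : Function.Injective (algebraMap (MvPowerSeries (Fin n) k ⧸ 𝔨) B) := by
    rw [injective_iff_map_eq_zero]
    intro y hy
    obtain ⟨G, rfl⟩ := Ideal.Quotient.mk_surjective y
    rw [Ideal.Quotient.eq_zero_iff_mem, h𝔨]
    exact hy
  have hdim1 := Groth.Agent.Lib.Helper12.ringKrullDim_eq_of_isIntegral_of_injective
    (MvPowerSeries (Fin n) k ⧸ 𝔨) B hinj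
  have hdim2 : ringKrullDim (MvPowerSeries (Fin n) k ⧸ 𝔨) + 1 ≤
      ringKrullDim (MvPowerSeries (Fin n) k) :=
    ringKrullDim_succ_le_of_surjective (Ideal.Quotient.mk 𝔨) Ideal.Quotient.mk_surjective
      (mem_nonZeroDivisors_of_ne_zero hF0) (Ideal.Quotient.eq_zero_iff_mem.mpr hF𝔨)
  have hdim3 : ringKrullDim (MvPowerSeries (Fin n) k) ≤ n := by
    refine le_trans (ringKrullDim_le_spanFinrank_maximalIdeal _) ?_
    exact_mod_cast spanFinrank_maximalIdeal_mvPowerSeries_le k n
  rw [hdim1, hdim4] at hdim2
  have h5 : ((n : WithBot ℕ∞) + 1) ≤ n := le_trans hdim2 hdim3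
  have h6 : ((n + 1 : ℕ) : WithBot ℕ∞) ≤ (n : ℕ) := by exact_mod_cast h5
  have h7 : n + 1 ≤ n := by exact_mod_cast h6
  omega

end E1

section E2

theorem exists_chart_of_geomRegular_bot (p : ℕ) (k B : Type u) [Field k] [ExpChar k p]
    (hk : (frobenius k p).Finite)
    [CommRing B] [IsDomain B] [IsLocalRing B] [IsNoetherianRing B] [Algebra k B]
    [IsAdicComplete (maximalIdeal B) B] [Module.Finite k (ResidueField B)]
    (hB : ¬ IsField B)
    (hreg : CAlg.IsGeometricallyRegular k (Localization.AtPrime (⊥ : Ideal B)))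
    (n : ℕ) (hn : ringKrullDim B = n) :
    ∃ (_ : Algebra (MvPowerSeries (Fin n) k) B) (_ : IsScalarTower k (MvPowerSeries (Fin n) k) B),
      IsLocalHom (algebraMap (MvPowerSeries (Fin n) k) B) ∧
      Function.Injective (algebraMap (MvPowerSeries (Fin n) k) B) ∧
      Module.Finite (MvPowerSeries (Fin n) k) B ∧
      Algebra.IsUnramifiedAt (MvPowerSeries (Fin n) k) (⊥ : Ideal B) := by
  have hmin : (⊥ : Ideal B) ∈ minimalPrimes B := by
    rw [IsDomain.minimalPrimes_eq_singleton_bot]; rfl
  have hdim : ringKrullDim (B ⧸ (⊥ : Ideal B)) = n := by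
    rw [ringKrullDim_eq_of_ringEquiv (RingEquiv.quotientBot B), hn]
  obtain ⟨hfree, hrank⟩ := Groth.Agent.S5074.result p k B hk ⊥ hreg ⊥ hmin le_rfl n hdim
  haveI := hfree
  haveI : Module.Finite B (AdicCompletion (maximalIdeal B) (KaehlerDifferential k B)) :=
    Groth.Agent.Lib.Helper23.CompletedKaehlerSep.finite_mhat' (k := k) (A := B)
  let b := Module.finBasis (Localization.AtPrime (⊥ : Ideal B))
    (LocalizedModule (⊥ : Ideal B).primeCompl
      (AdicCompletion (maximalIdeal B) (KaehlerDifferential k B)))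
  let s : Fin n → LocalizedModule (⊥ : Ideal B).primeCompl
      (AdicCompletion (maximalIdeal B) (KaehlerDifferential k B)) :=
    fun i => b (Fin.cast hrank.symm i)
  have hs : Submodule.span (Localization.AtPrime (⊥ : Ideal B)) (Set.range s) = ⊤ := by
    have : Set.range s = Set.range b := by
      ext y
      constructor
      · rintro ⟨i, rfl⟩; exact ⟨_, rfl⟩
      · rintro ⟨i, rfl⟩; exact ⟨Fin.cast hrank i, by simp [s]⟩
    rw [this, b.span_eq]
  have hp : (⊥ : Ideal B) ≠ maximalIdeal B := fun h =>
    hB (IsLocalRing.isField_iff_maximalIdeal_eq.mpr h.symm)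
  have hq : ∃ q ∈ minimalPrimes B, q ≤ (⊥ : Ideal B) ∧
      ringKrullDim (B ⧸ q) = ringKrullDim B := ⟨⊥, hmin, le_rfl, by rw [hdim, hn]⟩
  obtain ⟨alg, tower, hloc, hfin, hunr⟩ :=
    (Groth.Agent.Lib.Helper23.CK.t5054 k B ⊥ hp hq n).mp ⟨s, hs⟩
  exact ⟨alg, tower, hloc, injective_of_dim k B n hn, hfin, hunr⟩

end E2


end

section

open IsLocalRing TensorProduct

section F

theorem main (p : ℕ) (k A : Type u) [Field k]
    [ExpChar k p] (hk : (frobenius k p).Finite) [CommRing A] [IsDomain A] [IsNoetherianRing A]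
    [IsLocalRing A] [Algebra k A] [IsAdicComplete (IsLocalRing.maximalIdeal A) A]
    [Module.Finite k (IsLocalRing.ResidueField A)] (hA : ¬ IsField A) (n : ℕ)
    (hn : ringKrullDim A = n) :
    ∃ e : ℕ, ∃ (_ : IsDomain (Bq k p e A)) (_ : IsLocalRing (Bq k p e A))
        (_ : Algebra (MvPowerSeries (Fin n) (Fr k p e)) (Bq k p e A))
        (_ : IsScalarTower (Fr k p e) (MvPowerSeries (Fin n) (Fr k p e)) (Bq k p e A)),
        IsLocalHom (algebraMap (MvPowerSeries (Fin n) (Fr k p e)) (Bq k p e A)) ∧
        Function.Injective (algebraMap (MvPowerSeries (Fin n) (Fr k p e)) (Bq k p e A)) ∧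
        Module.Finite (MvPowerSeries (Fin n) (Fr k p e)) (Bq k p e A) ∧
        Algebra.IsUnramifiedAt (MvPowerSeries (Fin n) (Fr k p e)) (⊥ : Ideal (Bq k p e A)) := by
  obtain ⟨e, M, hM, hpow⟩ := exists_sep_subfield k A (FractionRing A) p n hn
  refine ⟨e, ?_⟩
  letI hdom := isDomain_Bq k p e A
  letI hlocal := isLocalRing_Bq k p e A
  haveI := isNoetherianRing_Bq k p e A hk
  haveI := isAdicComplete_Bq k p e A hk
  haveI := finite_residueField_Bq k p e A hk
  have hdim : ringKrullDim (Bq k p e A) = n := by rw [ringKrullDim_Bq k p e A hk, hn]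
  have hB : ¬ IsField (Bq k p e A) := by
    intro hf
    letI := algAB k p e A
    haveI := algAB_finite k p e A hk
    haveI : Algebra.IsIntegral A (Bq k p e A) := inferInstance
    exact hA (isField_of_isIntegral_of_isField (algAB_injective k p e A) hf)
  have hreg := geomRegular_localization_bot k p A (FractionRing A) e M hM hpow
  obtain ⟨alg, tower, hloc, hinj, hfin, hunr⟩ :=
    exists_chart_of_geomRegular_bot p (Fr k p e) (Bq k p e A) (Fr.frobenius_finite k p e hk)
      hB hreg n hdim
  exact ⟨hdom, hlocal, alg, tower, hloc, hinj, hfin, hunr⟩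

theorem t5992 (p : ℕ) (k A : Type u) [Field k]
    [ExpChar k p] (hk : (frobenius k p).Finite) [CommRing A] [IsDomain A] [IsNoetherianRing A] [IsLocalRing A]
    [Algebra k A] [IsAdicComplete (IsLocalRing.maximalIdeal A) A]
    [Module.Finite k (IsLocalRing.ResidueField A)] (hA : ¬ IsField A) (n : ℕ) (hn : ringKrullDim A = n) :
    ∃ (k' : Type u) (_ : Field k') (_ : Algebra k k'), Module.Finite k k' ∧ IsPurelyInseparable k k' ∧
      ∃ (_ : IsDomain ((k' ⊗[k] A) ⧸ nilradical (k' ⊗[k] A)))
        (_ : IsLocalRing ((k' ⊗[k] A) ⧸ nilradical (k' ⊗[k] A)))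
        (_ : Algebra (MvPowerSeries (Fin n) k') ((k' ⊗[k] A) ⧸ nilradical (k' ⊗[k] A)))
        (_ : IsScalarTower k' (MvPowerSeries (Fin n) k') ((k' ⊗[k] A) ⧸ nilradical (k' ⊗[k] A))),
        IsLocalHom (algebraMap (MvPowerSeries (Fin n) k') ((k' ⊗[k] A) ⧸ nilradical (k' ⊗[k] A))) ∧
        Function.Injective (algebraMap (MvPowerSeries (Fin n) k') ((k' ⊗[k] A) ⧸ nilradical (k' ⊗[k] A))) ∧
        Module.Finite (MvPowerSeries (Fin n) k') ((k' ⊗[k] A) ⧸ nilradical (k' ⊗[k] A)) ∧
        Algebra.IsUnramifiedAt (MvPowerSeries (Fin n) k') (⊥ : Ideal ((k' ⊗[k] A) ⧸ nilradical (k' ⊗[k] A))) := by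
  obtain ⟨e, h⟩ := main p k A hk hA n hn
  exact ⟨Fr k p e, inferInstance, inferInstance, Fr.finite k p e hk, Fr.isPurelyInseparable k p e, h⟩

end F


end
end Groth.Agent.Lib.Helper23.PIChart
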