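import Mathlib

/-!
EGA 0_IV 21.8.? (S4550): coefficient subrings of k[[T]] for subfields F of k; mem_of_mul_mem (k[[T]] ∩ Frac F[[T]] = F[[T]] via an F-linear retraction k → F), pow_mem (f^q has coefficients in k₀ when k^q ⊆ k₀), main (⋂ F_i((T)) = (⋂ F_i)((T))).
-/

set_option autoImplicit false
universe u


namespace Groth.Agent.Lib.Helper23.PSSubfield

open MvPowerSeries

variable {k : Type u} [Field k] {σ : Type*}

/-- power series with coefficients in a subfield. -/
def coeffSubring (σ : Type*) (F : Subfield k) : Subring (MvPowerSeries σ k) where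
  carrier := {f | ∀ n, coeff n f ∈ F}
  mul_mem' := by
    intro a b ha hb n
    classical
    rw [coeff_mul]
    exact Subfield.sum_mem _ (fun p _ => F.mul_mem (ha _) (hb _))
  one_mem' := by
    intro n
    classical
    rw [coeff_one]
    split_ifs
    · exact F.one_mem
    · exact F.zero_mem
  add_mem' := fun {a b} ha hb n => by
    rw [map_add]; exact F.add_mem (ha n) (hb n)
  zero_mem' := fun n => by
    rw [map_zero]; exact F.zero_mem
  neg_mem' := fun {a} ha n => by
    rw [map_neg]; exact F.neg_mem (ha n)

theorem mem_coeffSubring {F : Subfield k} {f : MvPowerSeries σ k} :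
    f ∈ coeffSubring σ F ↔ ∀ n, coeff n f ∈ F := Iff.rfl

theorem coeffSubring_mono {F G : Subfield k} (h : F ≤ G) : coeffSubring σ F ≤ coeffSubring σ G :=
  fun _ hf n => h (hf n)

theorem mem_of_mul_mem (F : Subfield k) {h a b : MvPowerSeries σ k}
    (ha : a ∈ coeffSubring σ F) (hb : b ∈ coeffSubring σ F) (hb0 : b ≠ 0) (hab : h * b = a) :
    h ∈ coeffSubring σ F := by
  classical
  obtain ⟨π, hπ⟩ := LinearMap.exists_leftInverse_of_injective (Algebra.linearMap F k)
    (LinearMap.ker_eq_bot.mpr (algebraMap F k).injective)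
  have hπ' : ∀ c : F, π (c : k) = c := fun c => by
    have := congrArg (fun g => g c) hπ
    exact this
  let h' : MvPowerSeries σ k := fun n => ((π (coeff n h) : F) : k)
  have hc : ∀ n, coeff n h' = ((π (coeff n h) : F) : k) := fun n => rfl
  have h1 : h' * b = a := by
    ext n
    rw [coeff_mul, ← hab, coeff_mul]
    have : ∀ p ∈ Finset.HasAntidiagonal.antidiagonal n, coeff p.1 h' * coeff p.2 b =
        ((π (coeff p.1 h * coeff p.2 b) : F) : k) := by
      intro p _
      rw [hc]
      have hbF : coeff p.2 b = ((⟨coeff p.2 b, hb p.2⟩ : F) : k) := rfl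
      have : coeff p.1 h * coeff p.2 b = (⟨coeff p.2 b, hb p.2⟩ : F) • coeff p.1 h := by
        rw [Subfield.smul_def, smul_eq_mul, mul_comm]
      rw [this, map_smul, smul_eq_mul, Subfield.coe_mul, mul_comm]
    rw [Finset.sum_congr rfl this]
    have h2 : (∑ p ∈ Finset.HasAntidiagonal.antidiagonal n, ((π (coeff p.1 h * coeff p.2 b) : F) : k)) =
        ((π (∑ p ∈ Finset.HasAntidiagonal.antidiagonal n, coeff p.1 h * coeff p.2 b) : F) : k) := by
      rw [map_sum]
      simp
    rw [h2, ← coeff_mul, hab]
    exact congrArg _ (hπ' ⟨coeff n a, ha n⟩)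
  have h3 : (h - h') * b = 0 := by rw [sub_mul, hab, h1, sub_self]
  have h4 : h = h' := by
    rcases mul_eq_zero.mp h3 with h5 | h5
    · exact sub_eq_zero.mp h5
    · exact absurd h5 hb0
  intro n
  rw [h4, hc]
  exact (π (coeff n h)).2


open MvPowerSeries

variable {k : Type u} [Field k]

theorem pow_mem {σ : Type*} [Finite σ] (k₀ : Subfield k) (p : ℕ) [ExpChar k p] (e : ℕ)
    (hq : ∀ x : k, x ^ p ^ e ∈ k₀)
    (f : MvPowerSeries σ k) : f ^ p ^ e ∈ coeffSubring σ k₀ := by
  have hp : p ≠ 0 := expChar_ne_zero k p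
  rw [← MvPowerSeries.map_iterateFrobenius_expand p hp f e]
  intro n
  rw [coeff_map, iterateFrobenius_def]
  exact hq _

theorem main {ι : Type u} [Nonempty ι] (F : ι → Subfield k) (e : ℕ)
    (hq : ∀ x : k, x ^ ringExpChar k ^ e ∈ ⨅ i, F i) (r : ℕ) :
    (⨅ i, Subfield.closure (algebraMap (MvPowerSeries (Fin r) k)
        (FractionRing (MvPowerSeries (Fin r) k)) '' {f | ∀ n, MvPowerSeries.coeff n f ∈ F i})) =
      Subfield.closure (algebraMap (MvPowerSeries (Fin r) k)
        (FractionRing (MvPowerSeries (Fin r) k)) ''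
          {f | ∀ n, MvPowerSeries.coeff n f ∈ ⨅ i, F i}) := by
  apply le_antisymm
  · intro x hx
    rw [Subfield.mem_iInf] at hx
    obtain ⟨f, g, hg, rfl⟩ := IsFractionRing.div_surjective (A := MvPowerSeries (Fin r) k) x
    have hg0 : algebraMap (MvPowerSeries (Fin r) k) (FractionRing (MvPowerSeries (Fin r) k)) g ≠ 0 :=
      IsFractionRing.to_map_ne_zero_of_mem_nonZeroDivisors hg
    have hqpos : 0 < ringExpChar k ^ e := pow_pos (expChar_pos k (ringExpChar k)) e
    have hd : g ^ (ringExpChar k ^ e) ∈ coeffSubring (Fin r) (⨅ i, F i) :=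
      pow_mem _ (ringExpChar k) e hq g
    have hgq : g ^ (ringExpChar k ^ e) = g * g ^ (ringExpChar k ^ e - 1) := by
      rw [← pow_succ', Nat.sub_add_cancel hqpos]
    have hx' : algebraMap (MvPowerSeries (Fin r) k) (FractionRing (MvPowerSeries (Fin r) k)) f /
        algebraMap (MvPowerSeries (Fin r) k) (FractionRing (MvPowerSeries (Fin r) k)) g =
        algebraMap (MvPowerSeries (Fin r) k) (FractionRing (MvPowerSeries (Fin r) k))
          (f * g ^ (ringExpChar k ^ e - 1)) /
        algebraMap (MvPowerSeries (Fin r) k) (FractionRing (MvPowerSeries (Fin r) k))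
          (g ^ (ringExpChar k ^ e)) := by
      rw [hgq, map_mul, map_mul, mul_div_mul_right]
      rw [map_pow]
      exact pow_ne_zero _ hg0
    have hh : ∀ i, f * g ^ (ringExpChar k ^ e - 1) ∈ coeffSubring (Fin r) (F i) := by
      intro i
      have hxi := hx i
      have hmem : algebraMap (MvPowerSeries (Fin r) k) (FractionRing (MvPowerSeries (Fin r) k))
          (f * g ^ (ringExpChar k ^ e - 1)) ∈ Subfield.closure
            (algebraMap (MvPowerSeries (Fin r) k) (FractionRing (MvPowerSeries (Fin r) k)) ''
              {f | ∀ n, MvPowerSeries.coeff n f ∈ F i}) := by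
        have h1 : algebraMap (MvPowerSeries (Fin r) k) (FractionRing (MvPowerSeries (Fin r) k))
            (f * g ^ (ringExpChar k ^ e - 1)) =
            (algebraMap (MvPowerSeries (Fin r) k) (FractionRing (MvPowerSeries (Fin r) k)) f /
              algebraMap (MvPowerSeries (Fin r) k) (FractionRing (MvPowerSeries (Fin r) k)) g) *
            algebraMap (MvPowerSeries (Fin r) k) (FractionRing (MvPowerSeries (Fin r) k))
              (g ^ (ringExpChar k ^ e)) := by
          rw [hx', div_mul_cancel₀]
          rw [map_pow]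
          exact pow_ne_zero _ hg0
        rw [h1]
        exact mul_mem hxi (Subfield.subset_closure
          ⟨_, coeffSubring_mono (iInf_le F i) hd, rfl⟩)
      rw [Subfield.mem_closure_iff] at hmem
      obtain ⟨y, hy, z, hz, hyz⟩ := hmem
      have hcl : Subring.closure (algebraMap (MvPowerSeries (Fin r) k)
          (FractionRing (MvPowerSeries (Fin r) k)) '' {f | ∀ n, MvPowerSeries.coeff n f ∈ F i}) =
          (coeffSubring (Fin r) (F i)).map (algebraMap (MvPowerSeries (Fin r) k)
          (FractionRing (MvPowerSeries (Fin r) k))) := by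
        have : (algebraMap (MvPowerSeries (Fin r) k)
          (FractionRing (MvPowerSeries (Fin r) k)) '' {f | ∀ n, MvPowerSeries.coeff n f ∈ F i}) =
          (((coeffSubring (Fin r) (F i)).map (algebraMap (MvPowerSeries (Fin r) k)
          (FractionRing (MvPowerSeries (Fin r) k))) : Subring _) : Set _) := rfl
        rw [this, Subring.closure_eq]
      rw [hcl] at hy hz
      obtain ⟨a, ha, rfl⟩ := hy
      obtain ⟨b, hb, rfl⟩ := hz
      by_cases hb0 : b = 0
      · subst hb0
        rw [map_zero, div_zero] at hyz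
        have h0 : f * g ^ (ringExpChar k ^ e - 1) = 0 :=
          IsFractionRing.injective (MvPowerSeries (Fin r) k)
            (FractionRing (MvPowerSeries (Fin r) k)) (by rw [← hyz, map_zero])
        rw [h0]
        exact Subring.zero_mem _
      · have hb0' : algebraMap (MvPowerSeries (Fin r) k)
            (FractionRing (MvPowerSeries (Fin r) k)) b ≠ 0 := by
          intro hc
          exact hb0 (IsFractionRing.injective (MvPowerSeries (Fin r) k)
            (FractionRing (MvPowerSeries (Fin r) k)) (by rw [hc, map_zero]))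
        have hm : f * g ^ (ringExpChar k ^ e - 1) * b = a := by
          apply IsFractionRing.injective (MvPowerSeries (Fin r) k)
            (FractionRing (MvPowerSeries (Fin r) k))
          rw [map_mul, ← hyz, div_mul_cancel₀ _ hb0']
        exact mem_of_mul_mem (F i) ha hb hb0 hm
    have hh0 : f * g ^ (ringExpChar k ^ e - 1) ∈ coeffSubring (Fin r) (⨅ i, F i) :=
      fun n => Subfield.mem_iInf.mpr (fun i => hh i n)
    rw [hx']
    exact div_mem (Subfield.subset_closure ⟨_, hh0, rfl⟩) (Subfield.subset_closure ⟨_, hd, rfl⟩)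
  · exact le_iInf fun i => Subfield.closure_mono
      (Set.image_mono (fun f hf n => (iInf_le F i) (hf n)))

end Groth.Agent.Lib.Helper23.PSSubfield
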