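import Mathlib
import Groth.Prelude.Def_Adeq2
import Groth.Agent.Lib.Lead.AdeqModInst
import Groth.Agent.Lib.Lead.AdeqCoeff

/-!
Parasitic adequate modules on the big fppf site: equivalent characterisations (parasitic, parasitic for the topology, vanishing on opens, vanishing on an affine open cover). Uses lead's Adeq libs (descent of adequacy, flat base change for adequate functors, sheaf separatedness).
-/

set_option autoImplicit false
universe u
open CategoryTheory Limits AlgebraicGeometry Opposite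

namespace Groth.Agent.Lib.Helper23.ParasiticTFAE

section


open Adeq Groth.Agent.Lib.Lead.AdeqBasic

/-- vanishing of sections is invariant under isomorphism of objects of the big site -/
theorem subsingleton_of_over_iso {S : Scheme.{u}} (M : BigSite.Mod Scheme.fppfPrecoverage S)
    {U V : Over S} (e : U ≅ V)
    (h : Subsingleton (BigSite.sectMod Scheme.fppfPrecoverage M U)) :
    Subsingleton (BigSite.sectMod Scheme.fppfPrecoverage M V) := by
  let E := M.val.presheaf.mapIso e.op
  have hU : Subsingleton (M.val.presheaf.obj (op U)) := h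
  have : Subsingleton (M.val.presheaf.obj (op V)) :=
    E.addCommGroupIsoToAddEquiv.toEquiv.subsingleton
  exact this

/-- Step A: sections over flat affine objects over an affine object with no sections vanish -/
theorem subsingleton_specOver_of_flat {S : Scheme.{u}} (M : BigSite.Mod Scheme.fppfPrecoverage S)
    (hM : Adeq.adequateMod Scheme.fppfPrecoverage S M)
    (R : CommRingCat.{u}) (a : Spec R ⟶ S) (B : Adeq.Alg R)
    (f : Adeq.algOf R R ⟶ B) (hf : f.hom.toRingHom.Flat)
    (h0 : Subsingleton (BigSite.sectMod Scheme.fppfPrecoverage M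
      ((Adeq.specOver a).obj (op (Adeq.algOf R R))))) :
    Subsingleton (BigSite.sectMod Scheme.fppfPrecoverage M ((Adeq.specOver a).obj (op B))) := by
  have hFad : Adeq.adequate R ((Adeq.toMVF Scheme.fppfPrecoverage a).obj M) :=
    Groth.Agent.Lib.Lead.AdeqModMain.adequate_toMVF Scheme.fppfPrecoverage
      Groth.Agent.Lib.Lead.AdeqModInst.hasAffineRefinements_fppf M hM R a
  have hiso := Groth.Agent.Lib.Lead.AdeqFlat.isIso_bc_of_adequate_flat _ hFad f hf
  have hsurj : Function.Surjective (((Adeq.toMVF Scheme.fppfPrecoverage a).obj M).bc f) :=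
    (ConcreteCategory.bijective_of_isIso _).2
  have key : ∀ z : ((Adeq.toMVF Scheme.fppfPrecoverage a).obj M).obj (pt B), z = 0 := by
    apply Groth.Agent.Lib.Lead.AdeqCoeff.gen_induction f _ hsurj (motive := fun z => z = 0) rfl
    · intro x y hx hy
      rw [hx, hy, add_zero]
    · intro c g
      have hg : g = 0 := Subsingleton.elim (α := BigSite.sectMod Scheme.fppfPrecoverage M
        ((Adeq.specOver a).obj (op (Adeq.algOf R R)))) g 0
      rw [hg]
      unfold tr
      rw [map_zero]
      exact (Adeq.moduleValue ((Adeq.toMVF Scheme.fppfPrecoverage a).obj M) B).toDistribMulAction.smul_zero c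
  exact ⟨fun x y => (key x).trans (key y).symm⟩


end

section


open Adeq Groth.Agent.Lib.Lead.AdeqBasic Groth.Agent.Lib.Lead.AdeqModBase

theorem specOver_self {S : Scheme.{u}} (R : CommRingCat.{u}) (a : Spec R ⟶ S) :
    (Adeq.specOver a).obj (op (Adeq.algOf R R)) = Over.mk a := by
  show Over.mk (Spec.map (CommRingCat.ofHom (algebraMap (R : Type u) (R : Type u))) ≫ a) = Over.mk a
  have h1 : Spec.map (CommRingCat.ofHom (algebraMap (R : Type u) (R : Type u))) = 𝟙 (Spec R) := by
    change Spec.map (CommRingCat.ofHom (RingHom.id _)) = 𝟙 _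
    rw [CommRingCat.ofHom_id]
    exact Spec.map_id _
  have h2 : Spec.map (CommRingCat.ofHom (algebraMap (R : Type u) (R : Type u))) ≫ a = a := by
    rw [h1]
    exact Category.id_comp a
  exact congrArg Over.mk h2

/-- Step B: the affine pieces -/
theorem subsingleton_piece {S : Scheme.{u}} (M : BigSite.Mod Scheme.fppfPrecoverage S)
    (hM : Adeq.adequateMod Scheme.fppfPrecoverage S M)
    (V : S.Opens) (hV : IsAffineOpen V)
    (h4 : Subsingleton (BigSite.sectMod Scheme.fppfPrecoverage M ((BigSite.zarIncl S).obj V)))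
    (U : Over S) (hU : Flat U.hom) (W : U.left.Opens) (hW : IsAffineOpen W)
    (hle : W ≤ U.hom ⁻¹ᵁ V) :
    Subsingleton (BigSite.sectMod Scheme.fppfPrecoverage M (Over.mk (hW.fromSpec ≫ U.hom))) := by
  let R : CommRingCat.{u} := Γ(S, V)
  let a : Spec R ⟶ S := hV.fromSpec
  let φ : Γ(S, V) ⟶ Γ(U.left, W) := U.hom.appLE V W hle
  letI : Algebra R Γ(U.left, W) := φ.hom.toAlgebra
  let B : Adeq.Alg R := Adeq.algOf R Γ(U.left, W)
  let f : Adeq.algOf R R ⟶ B := CommAlgCat.ofHom (Algebra.ofId R Γ(U.left, W))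
  have hf : f.hom.toRingHom.Flat := Flat.flat_appLE U.hom hV hW hle
  have h0 : Subsingleton (BigSite.sectMod Scheme.fppfPrecoverage M
      ((Adeq.specOver a).obj (op (Adeq.algOf R R)))) := by
    rw [specOver_self]
    refine subsingleton_of_over_iso M (?_ : (BigSite.zarIncl S).obj V ≅ Over.mk a) h4
    refine Over.isoMk hV.isoSpec ?_
    show hV.isoSpec.hom ≫ hV.fromSpec = V.ι
    rw [← hV.isoSpec_inv_ι, Iso.hom_inv_id_assoc]
  have hB := subsingleton_specOver_of_flat M hM R a B f hf h0
  have e : (Adeq.specOver a).obj (op B) = Over.mk (hW.fromSpec ≫ U.hom) :=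
    congrArg Over.mk (IsAffineOpen.SpecMap_appLE_fromSpec U.hom hV hW hle)
  rw [← e]
  exact hB

theorem subsingleton_of_flat {S : Scheme.{u}} (M : BigSite.Mod Scheme.fppfPrecoverage S)
    (hM : Adeq.adequateMod Scheme.fppfPrecoverage S M)
    (ι : Type u) (V : ι → S.Opens) (hV : ∀ i, IsAffineOpen (V i)) (hcov : (⨆ i, V i) = ⊤)
    (h4 : ∀ i, Subsingleton (BigSite.sectMod Scheme.fppfPrecoverage M
      ((BigSite.zarIncl S).obj (V i))))
    (U : Over S) (hU : Flat U.hom) :
    Subsingleton (BigSite.sectMod Scheme.fppfPrecoverage M U) := by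
  let I := { p : U.left.Opens × ι // IsAffineOpen p.1 ∧ p.1 ≤ U.hom ⁻¹ᵁ (V p.2) }
  let X : I → Over S := fun p => Over.mk (p.2.1.fromSpec ≫ U.hom)
  let g : ∀ p : I, X p ⟶ U := fun p => Over.homMk p.2.1.fromSpec rfl
  have hcovU : Sieve.ofArrows X g ∈ QuotSh.J Scheme.fppfPrecoverage S U := by
    rw [GrothendieckTopology.mem_over_iff, Sieve.overEquiv_ofArrows]
    apply Precoverage.generate_mem_toGrothendieck
    show Presieve.ofArrows (fun p : I => Spec Γ(U.left, p.1.1)) (fun p : I => p.2.1.fromSpec) ∈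
      Scheme.precoverage (@Flat ⊓ @LocallyOfFinitePresentation) U.left
    rw [Scheme.ofArrows_mem_precoverage_iff]
    refine ⟨fun x => ?_, fun p => ⟨inferInstance, inferInstance⟩⟩
    have hx : U.hom x ∈ (⨆ i, V i) := by rw [hcov]; trivial
    obtain ⟨i, hi⟩ := TopologicalSpace.Opens.mem_iSup.mp hx
    obtain ⟨W, hW, hxW, hWle⟩ := TopologicalSpace.Opens.isBasis_iff_nbhd.mp
      (Scheme.isBasis_affineOpens U.left) (show x ∈ U.hom ⁻¹ᵁ (V i) from hi)
    refine ⟨⟨(W, i), hW, hWle⟩, ?_⟩
    show x ∈ Set.range hW.fromSpec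
    rw [hW.range_fromSpec]
    exact hxW
  have hx : ∀ z : BigSite.sectMod Scheme.fppfPrecoverage M U, z = 0 := by
    intro z
    apply sheaf_sep_zero (QuotSh.J Scheme.fppfPrecoverage S) M.val.presheaf M.isSheaf X g hcovU z
    intro p
    haveI : Subsingleton (BigSite.sectMod Scheme.fppfPrecoverage M (X p)) :=
      subsingleton_piece M hM (V p.1.2) (hV p.1.2) (h4 p.1.2) U hU p.1.1 p.2.1 p.2.2
    exact Subsingleton.elim (α := BigSite.sectMod Scheme.fppfPrecoverage M (X p)) _ _
  exact ⟨fun x y => (hx x).trans (hx y).symm⟩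


end

section


open Adeq

theorem main (S : Scheme.{u}) (M : BigSite.Mod Scheme.fppfPrecoverage S)
    (hM : Adeq.adequateMod Scheme.fppfPrecoverage S M) :
    List.TFAE [Adeq.parasitic Scheme.fppfPrecoverage S M, Adeq.parasiticFor Scheme.fppfPrecoverage S M,
      ∀ U : S.Opens, Subsingleton (BigSite.sectMod Scheme.fppfPrecoverage M ((BigSite.zarIncl S).obj U)),
      ∃ (ι : Type u) (U : ι → S.Opens), (∀ i, IsAffineOpen (U i)) ∧ (⨆ i, U i) = ⊤ ∧
        ∀ i, Subsingleton (BigSite.sectMod Scheme.fppfPrecoverage M ((BigSite.zarIncl S).obj (U i)))] := by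
  tfae_have 1 → 2 := by
    intro h1 P hP V g hg
    have hP' : P ∈ Scheme.precoverage (@Flat ⊓ @LocallyOfFinitePresentation) S := hP
    exact h1 (Over.mk g) (show Flat g from (hP'.2 hg).1)
  tfae_have 1 → 3 := by
    intro h1 U
    exact h1 _ (show Flat U.ι from inferInstance)
  tfae_have 3 → 4 := by
    intro h3
    exact ⟨S.affineOpens, fun W => W.1, fun W => W.2, iSup_affineOpens_eq_top S, fun W => h3 W.1⟩
  tfae_have 4 → 1 := by
    rintro ⟨ι, V, hV, hcov, h4⟩ U hU
    exact subsingleton_of_flat M hM ι V hV hcov h4 U hU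
  tfae_have 2 → 4 := by
    intro h2
    refine ⟨S.affineOpens, fun W => W.1, fun W => W.2, iSup_affineOpens_eq_top S, fun W => ?_⟩
    have hmem : Presieve.ofArrows (fun W : S.affineOpens => (W.1 : Scheme.{u}))
        (fun W : S.affineOpens => W.1.ι) ∈ Scheme.fppfPrecoverage.coverings S := by
      show _ ∈ Scheme.precoverage (@Flat ⊓ @LocallyOfFinitePresentation) S
      rw [Scheme.ofArrows_mem_precoverage_iff]
      refine ⟨fun x => ?_, fun W => ⟨inferInstance, inferInstance⟩⟩
      obtain ⟨W, hW, hxW, -⟩ := TopologicalSpace.Opens.isBasis_iff_nbhd.mp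
        (Scheme.isBasis_affineOpens S) (show x ∈ (⊤ : S.Opens) from trivial)
      refine ⟨⟨W, hW⟩, ?_⟩
      show x ∈ Set.range (Scheme.Opens.ι W)
      rw [Scheme.Opens.range_ι]
      exact hxW
    exact h2 hmem W.1.ι (Presieve.ofArrows.mk W)
  tfae_finish


end
end Groth.Agent.Lib.Helper23.ParasiticTFAE
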