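import Mathlib
import Groth.Prelude.Def_Flat
import Groth.Agent.Lib.Helper18.TopDim
import Groth.Agent.Lib.Helper21.FibDimR2

/-!
Local fibre dimension = dimension of the fibre of a principal localization (towards Stacks 00QE)
-/

set_option autoImplicit false
universe u


namespace Groth.Agent.Lib.Helper23.QFPoly

open TensorProduct TopologicalSpace

/-- A finite local dimension is attained on some open neighbourhood. -/
theorem exists_open_dim_eq {X : Type*} [TopologicalSpace X] (x : X) :
    ∃ U : Opens X, x ∈ U ∧ topologicalKrullDim (U : Set X) = FlatMor.localDim X x := by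
  haveI : Nonempty {U : Opens X // x ∈ U} := ⟨⟨⊤, trivial⟩⟩
  obtain ⟨U, hU⟩ := ciInf_mem (fun U : {U : Opens X // x ∈ U} => topologicalKrullDim (U.1 : Set X))
  exact ⟨U.1, U.2, hU⟩

/-- In a prime spectrum, the local dimension at a point is the dimension of a suitable principal
localization. -/
theorem exists_away_dim_eq (F : Type u) [CommRing F] (Q : PrimeSpectrum F) :
    ∃ x : F, x ∉ Q.asIdeal ∧ ∀ y : F, y ∉ Q.asIdeal →
      ringKrullDim (Localization.Away (x * y)) = FlatMor.localDim (PrimeSpectrum F) Q := by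
  obtain ⟨U, hQU, hU⟩ := exists_open_dim_eq Q
  obtain ⟨_, ⟨x, rfl⟩, hQx, hxU⟩ :=
    (Opens.isBasis_iff_nbhd.mp PrimeSpectrum.isBasis_basic_opens) hQU
  refine ⟨x, hQx, fun y hy => ?_⟩
  have hQxy : Q ∈ PrimeSpectrum.basicOpen (x * y) := by
    rw [PrimeSpectrum.basicOpen_mul]
    exact ⟨hQx, hy⟩
  have hle : PrimeSpectrum.basicOpen (x * y) ≤ U := by
    rw [PrimeSpectrum.basicOpen_mul]
    exact inf_le_left.trans hxU
  -- dimension of the basic open
  have h1 : topologicalKrullDim (PrimeSpectrum.basicOpen (x * y) : Set (PrimeSpectrum F)) =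
      FlatMor.localDim (PrimeSpectrum F) Q := by
    apply le_antisymm
    · rw [← hU]
      exact (Topology.IsEmbedding.inclusion hle).isInducing.topologicalKrullDim_le
    · exact Groth.Agent.Lib.Helper18.TopDim.localDim_le_topologicalKrullDim_open _ hQxy
  rw [← h1, ← PrimeSpectrum.topologicalKrullDim_eq_ringKrullDim]
  have hemb := PrimeSpectrum.localization_away_isOpenEmbedding (Localization.Away (x * y)) (x * y)
  have hrange := PrimeSpectrum.localization_away_comap_range (Localization.Away (x * y)) (x * y)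
  let e := hemb.toIsEmbedding.toHomeomorph
  have := e.isHomeomorph.topologicalKrullDim_eq
  rw [this]
  rw [hrange]

/-- The local dimension of a fibre at a point is the dimension of the fibre of a principal
localization. -/
theorem exists_away_fiber_dim (R S : Type u) [CommRing R] [CommRing S] [Algebra R S]
    (p : Ideal R) [p.IsPrime] (q : Ideal S) [q.IsPrime] (Q : PrimeSpectrum (p.Fiber S))
    (hQ : Q.asIdeal.comap (Algebra.TensorProduct.includeRight.toRingHom) = q) :
    ∃ g₀ : S, g₀ ∉ q ∧ ringKrullDim (p.ResidueField ⊗[R] Localization.Away g₀) =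
      FlatMor.localDim (PrimeSpectrum (p.Fiber S)) Q := by
  obtain ⟨x, hx, H⟩ := exists_away_dim_eq (p.Fiber S) Q
  obtain ⟨r, hr, s₀, hrs⟩ := Ideal.Fiber.exists_smul_eq_one_tmul p x
  have hy : algebraMap R (p.Fiber S) r ∉ Q.asIdeal := by
    intro hmem
    have h1 : r ∈ Q.asIdeal.under R := hmem
    rw [← Ideal.over_def Q.asIdeal p] at h1
    exact hr h1
  have hxy : x * algebraMap R (p.Fiber S) r = (1 : p.ResidueField) ⊗ₜ[R] s₀ := by
    rw [← hrs, Algebra.smul_def, mul_comm]
  have hdim := H _ hy
  rw [hxy] at hdim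
  have hs₀ : s₀ ∉ q := by
    intro hmem
    rw [← hQ] at hmem
    have h1 : (1 : p.ResidueField) ⊗ₜ[R] s₀ ∈ Q.asIdeal := hmem
    rw [← hxy] at h1
    rcases Q.2.mem_or_mem h1 with h2 | h2
    · exact hx h2
    · exact hy h2
  refine ⟨s₀, hs₀, ?_⟩
  rw [← hdim]
  exact ringKrullDim_eq_of_ringEquiv
    (IsLocalization.Away.tensorProductEquivTMulRight R p.ResidueField s₀
      (Localization.Away s₀)).toRingEquiv

end Groth.Agent.Lib.Helper23.QFPoly
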