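import Mathlib

/-!
helper23: primes with quasi-finite quotient in essentially finite type local algebras (Stacks 0ASZ-type). eq_maximalIdeal_of_forall_mem (Noetherian local G-domain has dim <= 1), exists_prime_dim_one (open set in Spec of Noetherian local ring contains a prime of coheight one), quasiFiniteAt_of_isolated, quasiFinite_quotient.
-/

set_option autoImplicit false
universe u


namespace Groth.Agent.Lib.Helper23.QFPrime


open IsLocalRing

/-- In a Noetherian local domain in which every nonzero prime contains a fixed nonzero element,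
every nonzero prime is the maximal ideal. -/
theorem eq_maximalIdeal_of_forall_mem {D : Type u} [CommRing D] [IsDomain D] [IsNoetherianRing D]
    [IsLocalRing D] (f : D) (hf0 : f ≠ 0)
    (hf : ∀ P : Ideal D, P.IsPrime → P ≠ ⊥ → f ∈ P)
    (P : Ideal D) [hP : P.IsPrime] (hP0 : P ≠ ⊥) : P = maximalIdeal D := by
  by_contra hne
  have hPm : P < maximalIdeal D := lt_of_le_of_ne (le_maximalIdeal hP.ne_top) hne
  have hbot : (⊥ : Ideal D) < P := bot_lt_iff_ne_bot.mpr hP0
  have hbotprime : (⊥ : Ideal D).IsPrime := Ideal.isPrime_bot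
  have hm2 : (2 : ℕ∞) ≤ (maximalIdeal D).height := by
    have h1 := Ideal.height_add_one_le_of_lt_of_isPrime hbot
    have h2 := Ideal.height_add_one_le_of_lt_of_isPrime hPm
    calc (2 : ℕ∞) = 0 + 1 + 1 := by norm_num
      _ ≤ (⊥ : Ideal D).height + 1 + 1 := by gcongr; exact zero_le
      _ ≤ P.height + 1 := by gcongr
      _ ≤ _ := h2
  have hfm : f ∈ maximalIdeal D := hf _ inferInstance (ne_bot_of_gt hPm)
  have hTfin : (Ideal.span {f}).minimalPrimes.Finite :=
    Ideal.finite_minimalPrimes_of_isNoetherianRing D _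
  -- the maximal ideal is not contained in the union of the minimal primes over `f`
  have hnot : ¬ ((maximalIdeal D : Set D) ⊆ ⋃ Q ∈ (hTfin.toFinset : Set (Ideal D)), (Q : Set D)) := by
    intro hsub
    rw [Ideal.subset_union_prime (f := fun Q : Ideal D => Q) ⊥ ⊥] at hsub
    · obtain ⟨Q, hQ, hmQ⟩ := hsub
      have hQmin : Q ∈ (Ideal.span {f}).minimalPrimes := by simpa using hQ
      have hQprime : Q.IsPrime := hQmin.1.1
      have hQeq : Q = maximalIdeal D := le_antisymm (le_maximalIdeal hQprime.ne_top) hmQ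
      have := Ideal.height_le_one_of_isPrincipal_of_mem_minimalPrimes _ _ hQmin
      rw [hQeq] at this
      have : (2 : ℕ∞) ≤ 1 := hm2.trans this
      norm_num at this
    · intro Q hQ _ _
      have hQmin : Q ∈ (Ideal.span {f}).minimalPrimes := by simpa using hQ
      exact hQmin.1.1
  rw [Set.not_subset] at hnot
  obtain ⟨x, hxm, hxT⟩ := hnot
  have hxT' : ∀ Q ∈ (Ideal.span {f}).minimalPrimes, x ∉ Q := by
    intro Q hQ hxQ
    apply hxT
    simp only [Set.mem_iUnion]
    exact ⟨Q, by simpa using hQ, hxQ⟩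
  obtain ⟨Q0, hQ0, _⟩ := Ideal.exists_minimalPrimes_le
    (I := Ideal.span {f}) (J := maximalIdeal D) ((Ideal.span_singleton_le_iff_mem _).mpr hfm)
  have hx0 : x ≠ 0 := by
    rintro rfl
    exact hxT' Q0 hQ0 (zero_mem _)
  obtain ⟨Q, hQ, _⟩ := Ideal.exists_minimalPrimes_le
    (I := Ideal.span {x}) (J := maximalIdeal D) ((Ideal.span_singleton_le_iff_mem _).mpr hxm)
  have hQprime : Q.IsPrime := hQ.1.1
  have hxQ : x ∈ Q := hQ.1.2 (Ideal.mem_span_singleton_self x)
  have hQ0' : Q ≠ ⊥ := by
    rintro rfl
    exact hx0 (by simpa using hxQ)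
  have hQht : Q.height ≤ 1 := Ideal.height_le_one_of_isPrincipal_of_mem_minimalPrimes _ _ hQ
  have hfQ : f ∈ Q := hf Q hQprime hQ0'
  obtain ⟨P1, hP1, hP1Q⟩ := Ideal.exists_minimalPrimes_le
    (I := Ideal.span {f}) (J := Q) ((Ideal.span_singleton_le_iff_mem _).mpr hfQ)
  have hP1prime : P1.IsPrime := hP1.1.1
  have hP10 : P1 ≠ ⊥ := by
    rintro rfl
    have : f ∈ (⊥ : Ideal D) := hP1.1.2 (Ideal.mem_span_singleton_self f)
    exact hf0 (by simpa using this)
  rcases eq_or_lt_of_le hP1Q with h | h
  · exact hxT' P1 hP1 (h ▸ hxQ)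
  · have h1 := Ideal.height_add_one_le_of_lt_of_isPrime (bot_lt_iff_ne_bot.mpr hP10)
    have h2 := Ideal.height_add_one_le_of_lt_of_isPrime h
    have : (2 : ℕ∞) ≤ 1 := by
      calc (2 : ℕ∞) = 0 + 1 + 1 := by norm_num
        _ ≤ (⊥ : Ideal D).height + 1 + 1 := by gcongr; exact zero_le
        _ ≤ P1.height + 1 := by gcongr
        _ ≤ Q.height := h2
        _ ≤ 1 := hQht
    norm_num at this

/-- In a Noetherian local ring, a nonempty open subset of the spectrum not containing the closed
point contains a prime `q` such that the only prime strictly containing `q` is the maximal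
ideal. -/
theorem exists_prime_dim_one {B : Type u} [CommRing B] [IsNoetherianRing B] [IsLocalRing B]
    (W : Set (PrimeSpectrum B)) (hW : IsOpen W) (hne : W.Nonempty)
    (hm : closedPoint B ∉ W) :
    ∃ q ∈ W, ∀ Q : Ideal B, Q.IsPrime → q.asIdeal < Q → Q = maximalIdeal B := by
  -- a maximal element of `W`
  obtain ⟨q, hqW, hqmax⟩ : ∃ q ∈ W, ∀ q' ∈ W, q.asIdeal ≤ q'.asIdeal → q' = q := by
    have hwf : WellFoundedGT (Ideal B) := inferInstance
    let S : Set (Ideal B) := (fun q : PrimeSpectrum B => q.asIdeal) '' W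
    have hS : S.Nonempty := hne.image _
    obtain ⟨I, ⟨q, hqW, rfl⟩, hmax⟩ := hwf.wf.has_min S hS
    refine ⟨q, hqW, fun q' hq' hle => ?_⟩
    have := hmax q'.asIdeal ⟨q', hq', rfl⟩
    have heq : q.asIdeal = q'.asIdeal := by
      by_contra hne'
      exact this (lt_of_le_of_ne hle hne')
    exact (PrimeSpectrum.ext heq).symm
  refine ⟨q, hqW, ?_⟩
  -- `W` is the complement of a zero locus
  obtain ⟨K, hK⟩ := (PrimeSpectrum.isClosed_iff_zeroLocus_ideal _).mp hW.isClosed_compl
  have hqK : ¬ (K ≤ q.asIdeal) := by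
    intro hle
    have : q ∈ Wᶜ := by rw [hK]; exact hle
    exact this hqW
  obtain ⟨f, hfK, hfq⟩ := SetLike.not_le_iff_exists.mp hqK
  have hfQ : ∀ Q : Ideal B, Q.IsPrime → q.asIdeal < Q → f ∈ Q := by
    intro Q hQ hlt
    by_contra hfQ
    have hQW : (⟨Q, hQ⟩ : PrimeSpectrum B) ∈ W := by
      by_contra hnot
      have : (⟨Q, hQ⟩ : PrimeSpectrum B) ∈ PrimeSpectrum.zeroLocus (K : Set B) := by
        rw [← hK]; exact hnot
      exact hfQ (this hfK)
    have := hqmax ⟨Q, hQ⟩ hQW hlt.le
    exact hlt.ne (congrArg PrimeSpectrum.asIdeal this).symm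
  -- pass to the quotient domain
  intro Q hQ hlt
  let D := B ⧸ q.asIdeal
  have hsurj : Function.Surjective (Ideal.Quotient.mk q.asIdeal) := Ideal.Quotient.mk_surjective
  haveI : IsLocalRing D := IsLocalRing.of_surjective' (Ideal.Quotient.mk q.asIdeal) hsurj
  have key : ∀ P : Ideal D, P.IsPrime → P ≠ ⊥ → Ideal.Quotient.mk q.asIdeal f ∈ P := by
    intro P hP hP0
    have hcomap : q.asIdeal < P.comap (Ideal.Quotient.mk q.asIdeal) := by
      refine lt_of_le_of_ne ?_ ?_
      · intro x hx
        simp [Ideal.mem_comap, Ideal.Quotient.eq_zero_iff_mem.mpr hx]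
      · intro heq
        apply hP0
        rw [← Ideal.map_comap_of_surjective _ hsurj P, ← heq]
        simp
    exact hfQ _ (Ideal.comap_isPrime _ _) hcomap
  have hf0 : Ideal.Quotient.mk q.asIdeal f ≠ 0 := by
    rwa [Ne, Ideal.Quotient.eq_zero_iff_mem]
  have hker : RingHom.ker (Ideal.Quotient.mk q.asIdeal) ≤ Q := by
    rw [Ideal.mk_ker]; exact hlt.le
  haveI hQD : (Q.map (Ideal.Quotient.mk q.asIdeal)).IsPrime :=
    Ideal.map_isPrime_of_surjective hsurj hker
  have hQD0 : Q.map (Ideal.Quotient.mk q.asIdeal) ≠ ⊥ := by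
    intro h0
    obtain ⟨y, hyQ, hyq⟩ := SetLike.exists_of_lt hlt
    have : Ideal.Quotient.mk q.asIdeal y ∈ Q.map (Ideal.Quotient.mk q.asIdeal) :=
      Ideal.mem_map_of_mem _ hyQ
    rw [h0] at this
    exact hyq (Ideal.Quotient.eq_zero_iff_mem.mp (by simpa using this))
  have hmain := eq_maximalIdeal_of_forall_mem (D := D) _ hf0 key
    (Q.map (Ideal.Quotient.mk q.asIdeal)) hQD0
  -- pull back
  refine le_antisymm (le_maximalIdeal hQ.ne_top) ?_
  intro y hy
  have hyD : Ideal.Quotient.mk q.asIdeal y ∈ maximalIdeal D := by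
    rw [mem_maximalIdeal, mem_nonunits_iff]
    intro hu
    have : IsUnit y := by
      have hloc : IsLocalHom (Ideal.Quotient.mk q.asIdeal) :=
        IsLocalHom.of_surjective _ hsurj
      exact hloc.map_nonunit y hu
    exact hy this
  rw [← hmain] at hyD
  have := Ideal.mem_comap.mpr hyD
  rwa [Ideal.comap_map_of_surjective _ hsurj, ← RingHom.ker_eq_comap_bot, Ideal.mk_ker,
    sup_eq_left.mpr hlt.le] at this



open IsLocalRing

section QF

variable {A B : Type u} [CommRing A] [CommRing B] [IsLocalRing A] [IsLocalRing B]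
  [IsNoetherianRing A] [Algebra A B] [IsLocalHom (algebraMap A B)]

/-- The residue field of `B` is integral over `A` when it is finite over the residue field of `A`. -/
theorem isIntegral_residue [Module.Finite (ResidueField A) (ResidueField B)] :
    ((residue B).comp (algebraMap A B)).IsIntegral := by
  have h1 : (residue A).IsIntegral := RingHom.isIntegral_of_surjective _ residue_surjective
  have h2 : (algebraMap (ResidueField A) (ResidueField B)).IsIntegral :=
    algebraMap_isIntegral_iff.mpr inferInstance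
  have := h1.trans _ _ h2
  have heq : (algebraMap (ResidueField A) (ResidueField B)).comp (residue A) =
      (residue B).comp (algebraMap A B) := by
    ext a
    rfl
  rwa [heq] at this

variable (E : Type u) [CommRing E] [Algebra A E] [Algebra.FiniteType A E]

/-- A maximal ideal of a finite type algebra over a Noetherian ring which is minimal among the primes
of its fibre is a quasi-finite point. -/
theorem quasiFiniteAt_of_isolated (n : Ideal E) [hn : n.IsMaximal]
    (p : Ideal A) (hpn : p.map (algebraMap A E) ≤ n)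
    (hp' : ∀ P : Ideal E, P.IsPrime → P.comap (algebraMap A E) = n.comap (algebraMap A E) →
      p.map (algebraMap A E) ≤ P)
    (hmin : ∀ P : Ideal E, P.IsPrime → p.map (algebraMap A E) ≤ P → P ≤ n → P = n) :
    Algebra.QuasiFiniteAt A n := by
  haveI : IsNoetherianRing E := Algebra.FiniteType.isNoetherianRing A E
  let I : Ideal E := p.map (algebraMap A E)
  have hfin : I.minimalPrimes.Finite := Ideal.finite_minimalPrimes_of_isNoetherianRing E I
  let S : Finset (Ideal E) := hfin.toFinset.erase n
  have hS : ∀ P ∈ S, P ∈ I.minimalPrimes ∧ P ≠ n := by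
    intro P hP
    have := Finset.mem_erase.mp hP
    exact ⟨by simpa using this.2, this.1⟩
  -- an element of all other minimal primes, not in `n`
  have hJ : ¬ (S.inf (fun P => P) ≤ n) := by
    intro hle
    obtain ⟨P, hPS, hPn⟩ := (Ideal.IsPrime.inf_le' hn.isPrime).mp hle
    obtain ⟨hPmin, hPne⟩ := hS P hPS
    exact hPne (hmin P hPmin.1.1 hPmin.1.2 hPn)
  obtain ⟨g, hgJ, hgn⟩ := SetLike.not_le_iff_exists.mp hJ
  have hgS : ∀ P ∈ S, g ∈ P := by
    intro P hP
    exact (Finset.inf_le hP : S.inf (fun P => P) ≤ P) hgJ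
  let pt : PrimeSpectrum E := ⟨n, hn.isPrime⟩
  have hpt : Algebra.QuasiFiniteAt A pt.asIdeal := by
    refine Algebra.QuasiFiniteAt.of_isOpen_singleton_fiber pt ?_
    rw [isOpen_induced_iff]
    refine ⟨PrimeSpectrum.basicOpen g, (PrimeSpectrum.basicOpen g).isOpen, ?_⟩
    ext ⟨P, hP⟩
    simp only [Set.mem_preimage, Set.mem_singleton_iff, Subtype.mk.injEq]
    constructor
    · intro hgP
      have hgP' : g ∉ P.asIdeal := hgP
      have hcomap : P.asIdeal.comap (algebraMap A E) = n.comap (algebraMap A E) := by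
        have := congrArg PrimeSpectrum.asIdeal hP
        simpa using this
      have hIP : I ≤ P.asIdeal := hp' P.asIdeal P.isPrime hcomap
      obtain ⟨P0, hP0, hP0P⟩ := Ideal.exists_minimalPrimes_le hIP
      have hP0n : P0 = n := by
        by_contra hne
        have : P0 ∈ S := Finset.mem_erase.mpr ⟨hne, by simpa using hP0⟩
        exact hgP' (hP0P (hgS P0 this))
      have : n ≤ P.asIdeal := hP0n ▸ hP0P
      exact PrimeSpectrum.ext (hn.eq_of_le P.isPrime.ne_top this).symm
    · intro h
      rw [h]
      exact hgn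
  exact hpt

end QF



open IsLocalRing

theorem quasiFinite_quotient {A B : Type u} [CommRing A] [CommRing B] [IsLocalRing A] [IsLocalRing B]
    [IsNoetherianRing A] [Algebra A B] [IsLocalHom (algebraMap A B)] [Algebra.EssFiniteType A B]
    [Module.Finite (ResidueField A) (ResidueField B)]
    (q : Ideal B) [hq : q.IsPrime]
    (hq1 : ∀ Q : Ideal B, Q.IsPrime → q < Q → Q = maximalIdeal B)
    (a : A) (ha : a ∈ maximalIdeal A) (haq : algebraMap A B a ∉ q) :
    Algebra.QuasiFinite A (B ⧸ q) := by
  classical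
  obtain ⟨σ, hσ⟩ := (Algebra.essFiniteType_iff A B).mp inferInstance
  let R := MvPolynomial (↥σ) A
  let φ : R →ₐ[A] B := MvPolynomial.aeval (fun i : ↥σ => (i : B))
  have hrange : φ.range = Algebra.adjoin A (σ : Set B) := by
    have := Algebra.adjoin_range_eq_range_aeval A (fun i : ↥σ => (i : B))
    rw [← this]
    congr 1
    exact Subtype.range_coe
  have hφ : ∀ b ∈ Algebra.adjoin A (σ : Set B), ∃ r : R, φ r = b := by
    intro b hb
    rw [← hrange] at hb
    exact hb
  let q' : Ideal R := q.comap φ.toRingHom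
  let E := R ⧸ q'
  let D := B ⧸ q
  have hqm : q ≤ maximalIdeal B := le_maximalIdeal hq.ne_top
  let ψ : E →ₐ[A] D := Ideal.quotientMapₐ q φ le_rfl
  have hψmk : ∀ r : R, ψ (Ideal.Quotient.mk q' r) = Ideal.Quotient.mk q (φ r) := fun r => rfl
  have hψinj : Function.Injective ψ := by
    have : Function.Injective (Ideal.quotientMap q φ.toRingHom (le_rfl : q' ≤ q.comap φ.toRingHom)) :=
      Ideal.quotientMap_injective' le_rfl
    exact this
  letI algED : Algebra E D := ψ.toRingHom.toAlgebra
  haveI towerAED : IsScalarTower A E D := IsScalarTower.of_algebraMap_eq fun x => (ψ.commutes x).symm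
  have halg : ∀ e : E, algebraMap E D e = ψ e := fun e => rfl
  have hsurj : Function.Surjective (Ideal.Quotient.mk q) := Ideal.Quotient.mk_surjective
  let mD : Ideal D := (maximalIdeal B).map (Ideal.Quotient.mk q)
  have hmD : ∀ y : B, Ideal.Quotient.mk q y ∈ mD ↔ y ∈ maximalIdeal B := fun y =>
    Ideal.mem_quotient_iff_mem hqm
  haveI hmDmax : mD.IsMaximal :=
    Ideal.IsMaximal.map_of_surjective_of_ker_le hsurj (by rw [Ideal.mk_ker]; exact hqm)
  let nE : Ideal E := mD.comap ψ.toRingHom
  haveI hnEprime : nE.IsPrime := Ideal.comap_isPrime _ _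
  have hnE : ∀ r : R, Ideal.Quotient.mk q' r ∈ nE ↔ φ r ∈ maximalIdeal B := by
    intro r
    change ψ (Ideal.Quotient.mk q' r) ∈ mD ↔ _
    rw [hψmk, hmD]
  -- `D` is the localization of `E` at `nE`
  haveI hloc : IsLocalization.AtPrime D nE := by
    refine ⟨⟨?_, ?_, ?_⟩⟩
    · rintro ⟨e, he⟩
      obtain ⟨r, rfl⟩ := Ideal.Quotient.mk_surjective e
      have hr : φ r ∉ maximalIdeal B := fun h => he ((hnE r).mpr h)
      have hu : IsUnit (φ r) := by
        by_contra hnu
        exact hr hnu
      rw [halg, hψmk]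
      exact hu.map (Ideal.Quotient.mk q)
    · intro d
      obtain ⟨b, rfl⟩ := hsurj d
      obtain ⟨t, ht, htu, hbt⟩ := hσ b
      obtain ⟨t', rfl⟩ := hφ t ht
      obtain ⟨c', hc'⟩ := hφ _ hbt
      have ht' : Ideal.Quotient.mk q' t' ∉ nE := by
        rw [hnE]
        intro h
        exact h htu
      refine ⟨(Ideal.Quotient.mk q' c', ⟨Ideal.Quotient.mk q' t', ht'⟩), ?_⟩
      simp only [halg, hψmk, hc', map_mul]
    · intro x y hxy
      refine ⟨1, ?_⟩
      rw [halg, halg] at hxy
      simp [hψinj hxy]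
  -- `nE` is maximal
  haveI hnEmax : nE.IsMaximal := by
    let θ : ResidueField B →+* D ⧸ mD :=
      Ideal.Quotient.lift (maximalIdeal B) ((Ideal.Quotient.mk mD).comp (Ideal.Quotient.mk q))
        (fun y hy => by
          simp only [RingHom.comp_apply]
          exact Ideal.Quotient.eq_zero_iff_mem.mpr ((hmD y).mpr hy))
    have hθ : Function.Surjective θ := by
      intro z
      obtain ⟨d, rfl⟩ := Ideal.Quotient.mk_surjective z
      obtain ⟨b, rfl⟩ := hsurj d
      exact ⟨residue B b, rfl⟩
    have h1 : (θ.comp ((residue B).comp (algebraMap A B))).IsIntegral :=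
      (isIntegral_residue (A := A) (B := B)).trans _ _ (RingHom.isIntegral_of_surjective _ hθ)
    let χ : E →+* D ⧸ mD := (Ideal.Quotient.mk mD).comp ψ.toRingHom
    have hcomp : χ.comp (algebraMap A E) = θ.comp ((residue B).comp (algebraMap A B)) := by
      ext x
      simp only [RingHom.comp_apply, χ]
      change Ideal.Quotient.mk mD (ψ (algebraMap A E x)) = _
      rw [ψ.commutes]
      rfl
    have hχ : χ.IsIntegral := RingHom.IsIntegral.tower_top (algebraMap A E) χ (hcomp ▸ h1)
    haveI : (⊥ : Ideal (D ⧸ mD)).IsMaximal := (Ideal.bot_quotient_isMaximal_iff mD).mpr hmDmax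
    have := Ideal.isMaximal_comap_of_isIntegral_of_isMaximal' χ hχ ⊥
    have heq : Ideal.comap χ ⊥ = nE := by
      change Ideal.comap ((Ideal.Quotient.mk mD).comp ψ.toRingHom) ⊥ = _
      rw [← Ideal.comap_comap, ← RingHom.ker_eq_comap_bot, Ideal.mk_ker]
    rwa [heq] at this
  -- the maximal ideal of `A` maps into `nE`
  have hmA : (maximalIdeal A).map (algebraMap A E) ≤ nE := by
    rw [Ideal.map_le_iff_le_comap]
    intro x hx
    change ψ (algebraMap A E x) ∈ mD
    rw [ψ.commutes]
    change Ideal.Quotient.mk q (algebraMap A B x) ∈ mD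
    rw [hmD]
    exact (map_mem_nonunits_iff (algebraMap A B) x).mpr hx
  haveI : Algebra.FiniteType A E := inferInstance
  have hQFat : Algebra.QuasiFiniteAt A nE := by
    refine quasiFiniteAt_of_isolated E nE (maximalIdeal A) hmA ?_ ?_
    · intro P hP hcomap
      rw [Ideal.map_le_iff_le_comap, hcomap, ← Ideal.map_le_iff_le_comap]
      exact hmA
    · intro P hP hIP hPn
      refine le_antisymm hPn ?_
      have hdisj : Disjoint (nE.primeCompl : Set E) (P : Set E) := by
        rw [Set.disjoint_left]
        intro x hx hxP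
        exact hx (hPn hxP)
      have hPDprime : (P.map (algebraMap E D)).IsPrime :=
        IsLocalization.isPrime_of_isPrime_disjoint nE.primeCompl D P hP hdisj
      have hPDcomap : (P.map (algebraMap E D)).comap (algebraMap E D) = P :=
        IsLocalization.under_map_of_isPrime_disjoint nE.primeCompl D hP hdisj
      -- the prime of `B` below `PD`
      let Q : Ideal B := (P.map (algebraMap E D)).comap (Ideal.Quotient.mk q)
      have hQprime : Q.IsPrime := Ideal.comap_isPrime _ _
      have haQ : algebraMap A B a ∈ Q := by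
        change Ideal.Quotient.mk q (algebraMap A B a) ∈ P.map (algebraMap E D)
        have h1 : algebraMap A E a ∈ P := hIP (Ideal.mem_map_of_mem _ ha)
        have h2 := Ideal.mem_map_of_mem (algebraMap E D) h1
        rw [halg, ψ.commutes] at h2
        exact h2
      have hqQ : q < Q := by
        refine lt_of_le_of_ne ?_ ?_
        · intro y hy
          change Ideal.Quotient.mk q y ∈ P.map (algebraMap E D)
          rw [Ideal.Quotient.eq_zero_iff_mem.mpr hy]
          exact zero_mem _
        · intro h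
          exact haq (h ▸ haQ)
      have hQm : Q = maximalIdeal B := hq1 Q hQprime hqQ
      intro e he
      obtain ⟨r, rfl⟩ := Ideal.Quotient.mk_surjective e
      have hr : φ r ∈ maximalIdeal B := (hnE r).mp he
      rw [← hQm] at hr
      have : algebraMap E D (Ideal.Quotient.mk q' r) ∈ P.map (algebraMap E D) := by
        rw [halg, hψmk]
        exact hr
      rw [← hPDcomap]
      exact this
  -- transfer along the localization isomorphism
  let e : Localization.AtPrime nE ≃ₐ[E] D := IsLocalization.algEquiv nE.primeCompl _ _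
  exact (Algebra.QuasiFinite.iff_of_algEquiv (e.restrictScalars A)).mp hQFat

end Groth.Agent.Lib.Helper23.QFPrime
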