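import Mathlib
import Groth.Prelude.Def_EGA4b
import Groth.Agent.Lib.Helper9.RegularDescent
import Groth.Agent.Lib.Helper18.PMor4

/-!
Descent of geometrically reduced fibres along R → S with q S_q = p S_q and separable algebraic residue extensions (isGeometricallyReduced_fiber_of_base); K ⊗[S] T embeds in a localization of K ⊗[R] T (isReduced_tensor_of_exists, exists_diag_killer); exists_lift_residueField.
-/

set_option autoImplicit false
universe u


namespace Groth.Agent.Lib.Helper23.ReducedDescent


open TensorProduct Function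

section Red

variable {R S T K : Type u} [CommRing R] [CommRing S] [CommRing T] [CommRing K]
  [Algebra R S] [Algebra S T] [Algebra R T] [IsScalarTower R S T]
  [Algebra S K] [Algebra R K] [IsScalarTower R S K]

variable (R S K) in
/-- the multiplication map `K ⊗[R] S → K` -/
noncomputable def mu : K ⊗[R] S →ₐ[R] K :=
  Algebra.TensorProduct.lift (AlgHom.id R K) (IsScalarTower.toAlgHom R S K)
    (fun _ _ => Commute.all _ _)

theorem mu_tmul (a : K) (s : S) : mu R S K (a ⊗ₜ s) = a * algebraMap S K s := by
  simp [mu]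

variable (R S T K) in
/-- the canonical surjection `K ⊗[R] T → K ⊗[S] T` -/
noncomputable def piRS : K ⊗[R] T →ₐ[R] K ⊗[S] T :=
  Algebra.TensorProduct.lift
    ((Algebra.TensorProduct.includeLeft : K →ₐ[S] K ⊗[S] T).restrictScalars R)
    ((Algebra.TensorProduct.includeRight : T →ₐ[S] K ⊗[S] T).restrictScalars R)
    (fun _ _ => Commute.all _ _)

theorem piRS_tmul (a : K) (t : T) : piRS R S T K (a ⊗ₜ t) = a ⊗ₜ t := by
  simp [piRS]

variable (R S T K) in
/-- the map `K ⊗[R] S → K ⊗[R] T` -/
noncomputable def jRS : K ⊗[R] S →ₐ[R] K ⊗[R] T :=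
  Algebra.TensorProduct.map (AlgHom.id R K) (IsScalarTower.toAlgHom R S T)

theorem jRS_tmul (a : K) (s : S) : jRS R S T K (a ⊗ₜ s) = a ⊗ₜ algebraMap S T s := by
  simp [jRS]

theorem piRS_jRS (w : K ⊗[R] S) : piRS R S T K (jRS R S T K w) = (mu R S K w) ⊗ₜ 1 := by
  induction w using TensorProduct.induction_on with
  | zero => simp
  | tmul a s =>
    rw [jRS_tmul, piRS_tmul, mu_tmul, Algebra.algebraMap_eq_smul_one, ← TensorProduct.smul_tmul,
      Algebra.smul_def, mul_comm]
  | add x y hx hy => rw [map_add, map_add, hx, hy, map_add, TensorProduct.add_tmul]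

set_option maxHeartbeats 800000 in
theorem isReduced_tensor_aux
    (HW : ∀ s : S, ∃ v : K ⊗[R] S, mu R S K v = 1 ∧
      v * (algebraMap S K s ⊗ₜ[R] (1 : S) - (1 : K) ⊗ₜ[R] s) = 0)
    (V : Submonoid (K ⊗[R] T)) (hV : ∀ v, v ∈ V ↔ piRS R S T K v = 1)
    (L : Type u) [CommRing L] [Algebra (K ⊗[R] T) L] [IsLocalization V L] [IsReduced L] :
    IsReduced (K ⊗[S] T) := by
  let π := piRS R S T K
  let ιK : K →+* L := (algebraMap (K ⊗[R] T) L).comp
    (Algebra.TensorProduct.includeLeftRingHom : K →+* K ⊗[R] T)
  let ιT : T →+* L := (algebraMap (K ⊗[R] T) L).comp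
    ((Algebra.TensorProduct.includeRight : T →ₐ[R] K ⊗[R] T) : T →+* K ⊗[R] T)
  have hclaim : ∀ s : S, ιK (algebraMap S K s) = ιT (algebraMap S T s) := by
    intro s
    obtain ⟨vW, hv1, hv2⟩ := HW s
    have hvV : jRS R S T K vW ∈ V := by
      rw [hV, piRS_jRS, hv1]
      rfl
    show algebraMap (K ⊗[R] T) L (algebraMap S K s ⊗ₜ 1) =
      algebraMap (K ⊗[R] T) L (1 ⊗ₜ algebraMap S T s)
    rw [IsLocalization.eq_iff_exists V L]
    refine ⟨⟨_, hvV⟩, ?_⟩
    have h3 := congrArg (jRS R S T K) hv2
    rw [map_mul, map_sub, jRS_tmul, jRS_tmul, map_one, map_zero, mul_sub, sub_eq_zero] at h3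
    exact h3
  letI algSL : Algebra S L := (ιT.comp (algebraMap S T)).toAlgebra
  let fK : K →ₐ[S] L := { ιK with commutes' := fun s => hclaim s }
  let fT : T →ₐ[S] L := { ιT with commutes' := fun s => rfl }
  let σ : K ⊗[S] T →ₐ[S] L := Algebra.TensorProduct.lift fK fT (fun _ _ => Commute.all _ _)
  let π' : L →+* K ⊗[S] T := IsLocalization.lift (M := V) (g := (π : K ⊗[R] T →+* K ⊗[S] T))
    (fun v => by
      have : π v.1 = 1 := (hV _).mp v.2
      show IsUnit (π v.1)
      rw [this]
      exact isUnit_one)
  have hπσ : ∀ z, π' (σ z) = z := by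
    intro z
    induction z using TensorProduct.induction_on with
    | zero => simp
    | tmul a t =>
      have h1 : σ (a ⊗ₜ t) = algebraMap (K ⊗[R] T) L (a ⊗ₜ[R] t) := by
        show Algebra.TensorProduct.lift fK fT _ (a ⊗ₜ t) = _
        rw [Algebra.TensorProduct.lift_tmul]
        show algebraMap (K ⊗[R] T) L (a ⊗ₜ 1) * algebraMap (K ⊗[R] T) L (1 ⊗ₜ t) = _
        rw [← map_mul, Algebra.TensorProduct.tmul_mul_tmul, mul_one, one_mul]
      rw [h1, IsLocalization.lift_eq]
      exact piRS_tmul a t
    | add x y hx hy => rw [map_add, map_add, hx, hy]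
  exact isReduced_of_injective σ.toRingHom (fun x y hxy => by
    have := congrArg π' hxy
    simpa [hπσ] using this)

/-- if the diagonal elements `s̄ ⊗ 1 - 1 ⊗ s` of `K ⊗[R] S` are killed by elements of augmentation
one, then `K ⊗[S] T` embeds in a localization of `K ⊗[R] T`; in particular it is reduced when
`K ⊗[R] T` is. -/
theorem isReduced_tensor_of_exists
    (HW : ∀ s : S, ∃ v : K ⊗[R] S, mu R S K v = 1 ∧
      v * (algebraMap S K s ⊗ₜ[R] (1 : S) - (1 : K) ⊗ₜ[R] s) = 0)
    [IsReduced (K ⊗[R] T)] : IsReduced (K ⊗[S] T) := by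
  let V : Submonoid (K ⊗[R] T) :=
    MonoidHom.mker ((piRS R S T K : K ⊗[R] T →+* K ⊗[S] T) : K ⊗[R] T →* K ⊗[S] T)
  haveI : IsReduced (Localization V) := isReduced_localizationPreserves V _ inferInstance
  exact isReduced_tensor_aux HW V (fun v => Iff.rfl) (Localization V)

end Red



open TensorProduct Function Polynomial

section W

variable {R S : Type u} [CommRing R] [CommRing S] [Algebra R S] (q : Ideal S) [q.IsPrime]
  {kp kq K : Type u} [Field kp] [Field kq] [Field K]
  [Algebra R kp] [Algebra S kq] [Algebra kp kq] [Algebra R kq] [IsScalarTower R kp kq]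
  [IsScalarTower R S kq]
  [Algebra kq K] [Algebra S K] [IsScalarTower S kq K] [Algebra R K] [IsScalarTower R S K]

set_option maxHeartbeats 1600000 in
/-- the diagonal elements of `K ⊗[R] S` are killed by elements of augmentation one, when
`q S_q = p S_q` and `κ(q)/κ(p)` is separable algebraic. -/
theorem exists_diag_killer
    (hkq : ∀ x : S, algebraMap S kq x = 0 ↔ x ∈ q)
    (hlift : ∀ f : kp[X], ∃ (b : R) (f₀ : R[X]), algebraMap R kp b ≠ 0 ∧
      f₀.map (algebraMap R kp) = C (algebraMap R kp b) * f)
    (hq : ∀ x ∈ q, ∃ t ∉ q, t * x ∈ (q.under R).map (algebraMap R S))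
    [Algebra.IsSeparable kp kq] (s : S) :
    ∃ v : K ⊗[R] S, mu R S K v = 1 ∧
      v * (algebraMap S K s ⊗ₜ[R] (1 : S) - (1 : K) ⊗ₜ[R] s) = 0 := by
  letI algkpK : Algebra kp K := ((algebraMap kq K).comp (algebraMap kp kq)).toAlgebra
  haveI : IsScalarTower kp kq K := IsScalarTower.of_algebraMap_eq (fun _ => rfl)
  have hRK : ∀ r : R, algebraMap R K r = algebraMap kp K (algebraMap R kp r) := by
    intro r
    rw [IsScalarTower.algebraMap_apply R S K, IsScalarTower.algebraMap_apply S kq K,
      ← IsScalarTower.algebraMap_apply R S kq, IsScalarTower.algebraMap_apply R kp kq]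
    rfl
  set sq : kq := algebraMap S kq s with hsq
  set sK : K := algebraMap S K s with hsK
  have hsKq : sK = algebraMap kq K sq := IsScalarTower.algebraMap_apply S kq K s
  have hsep : IsSeparable kp sq := Algebra.IsSeparable.isSeparable kp sq
  set f := minpoly kp sq with hf
  have hfsep : f.Separable := hsep
  have hfroot : aeval sq f = 0 := minpoly.aeval kp sq
  obtain ⟨b, f₀, hb, hf₀⟩ := hlift f
  have h1 : aeval s f₀ ∈ q := by
    rw [← hkq, ← Polynomial.aeval_algebraMap_apply, ← hsq, ← Polynomial.aeval_map_algebraMap kp,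
      hf₀, map_mul, aeval_C, hfroot, mul_zero]
  obtain ⟨t, htq, ht⟩ := hq _ h1
  let ι : K →+* K ⊗[R] S := Algebra.TensorProduct.includeLeftRingHom
  set w : K ⊗[R] S := (1 : K) ⊗ₜ[R] s with hw
  have hp0 : ∀ y ∈ (q.under R).map (algebraMap R S), (1 : K) ⊗ₜ[R] y = 0 := by
    have hle : (q.under R).map (algebraMap R S) ≤ RingHom.ker
        ((Algebra.TensorProduct.includeRight : S →ₐ[R] K ⊗[R] S) : S →+* K ⊗[R] S) := by
      rw [Ideal.map_le_iff_le_comap]
      intro a ha
      rw [Ideal.mem_comap, RingHom.mem_ker]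
      show (1 : K) ⊗ₜ[R] (algebraMap R S a) = 0
      have h0 : algebraMap R K a = 0 := by
        rw [IsScalarTower.algebraMap_apply R S K, IsScalarTower.algebraMap_apply S kq K]
        have : algebraMap S kq (algebraMap R S a) = 0 := (hkq _).mpr ha
        rw [this, map_zero]
      rw [Algebra.algebraMap_eq_smul_one, ← TensorProduct.smul_tmul, Algebra.smul_def, mul_one, h0,
        TensorProduct.zero_tmul]
    intro y hy
    exact hle hy
  have h2 : ((1 : K) ⊗ₜ[R] t) * aeval w f₀ = 0 := by
    have h : aeval w f₀ = (1 : K) ⊗ₜ[R] (aeval s f₀) :=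
      Polynomial.aeval_algHom_apply (Algebra.TensorProduct.includeRight : S →ₐ[R] K ⊗[R] S) s f₀
    rw [h, Algebra.TensorProduct.tmul_mul_tmul, one_mul]
    exact hp0 _ ht
  set fK : K[X] := f.map (algebraMap kp K) with hfK
  have hmap : f₀.map (algebraMap R K) = C (algebraMap R K b) * fK := by
    have : algebraMap R K = (algebraMap kp K).comp (algebraMap R kp) := RingHom.ext hRK
    rw [this, ← Polynomial.map_map, hf₀, Polynomial.map_mul, Polynomial.map_C]
    rfl
  have h3 : aeval w f₀ = ι (algebraMap R K b) * eval₂ ι w fK := by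
    have hR : algebraMap R (K ⊗[R] S) = ι.comp (algebraMap R K) := by
      ext r
      show algebraMap R (K ⊗[R] S) r = (algebraMap R K r) ⊗ₜ 1
      rw [Algebra.TensorProduct.algebraMap_apply]
    rw [Polynomial.aeval_def, hR, ← Polynomial.eval₂_map, hmap, Polynomial.eval₂_mul,
      Polynomial.eval₂_C]
  have hroot : fK.IsRoot sK := by
    rw [Polynomial.IsRoot.def, hfK, Polynomial.eval_map, hsKq, ← Polynomial.aeval_def,
      Polynomial.aeval_algebraMap_apply, hfroot, map_zero]
  set g := fK /ₘ (X - C sK) with hg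
  have hfac : (X - C sK) * g = fK := Polynomial.mul_divByMonic_eq_iff_isRoot.mpr hroot
  have hgne : g.eval sK ≠ 0 := by
    have hsepK : fK.Separable := hfsep.map
    have h4 := hsepK.aeval_derivative_ne_zero (x := sK) (by
      rw [Polynomial.aeval_def, Polynomial.eval₂_eq_eval_map, Algebra.algebraMap_self,
        Polynomial.map_id]
      exact hroot)
    rw [← hfac, Polynomial.derivative_mul, Polynomial.derivative_sub, Polynomial.derivative_X,
      Polynomial.derivative_C, sub_zero, one_mul, map_add, map_mul, map_sub, aeval_X, aeval_C,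
      Algebra.algebraMap_self, RingHom.id_apply, sub_self, zero_mul, add_zero] at h4
    rwa [Polynomial.aeval_def, Polynomial.eval₂_eq_eval_map, Algebra.algebraMap_self,
      Polynomial.map_id] at h4
  have h5 : eval₂ ι w fK = (w - ι sK) * eval₂ ι w g := by
    rw [← hfac, Polynomial.eval₂_mul, Polynomial.eval₂_sub, Polynomial.eval₂_X, Polynomial.eval₂_C]
  set v₀ : K ⊗[R] S := ((1 : K) ⊗ₜ[R] t) * ι (algebraMap R K b) * eval₂ ι w g with hv₀
  have hμι : ∀ x : K, mu R S K (ι x) = x := by
    intro x
    show mu R S K (x ⊗ₜ 1) = x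
    rw [mu_tmul, map_one, mul_one]
  have hμw : mu R S K w = sK := by
    rw [hw, mu_tmul, one_mul]
  have hμg : mu R S K (eval₂ ι w g) = g.eval sK := by
    have := Polynomial.hom_eval₂ g ι ((mu R S K : K ⊗[R] S →+* K)) w
    have hc : ((mu R S K : K ⊗[R] S →+* K)).comp ι = RingHom.id K := RingHom.ext hμι
    rw [hc] at this
    show (mu R S K : K ⊗[R] S →+* K) (eval₂ ι w g) = _
    rw [this]
    show eval₂ (RingHom.id K) (mu R S K w) g = _
    rw [hμw, Polynomial.eval₂_id]
  have hbK : algebraMap R K b ≠ 0 := by
    rw [hRK]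
    exact fun h => hb ((algebraMap kp K).injective (by rw [h, map_zero]))
  have htK : algebraMap S K t ≠ 0 := by
    rw [IsScalarTower.algebraMap_apply S kq K]
    intro h
    have h' : algebraMap S kq t = 0 := (algebraMap kq K).injective (by rw [h, map_zero])
    exact htq ((hkq t).mp h')
  set c : K := mu R S K v₀ with hc
  have hcval : c = algebraMap S K t * algebraMap R K b * g.eval sK := by
    rw [hc, hv₀, map_mul, map_mul, mu_tmul, one_mul, hμι, hμg]
  have hcne : c ≠ 0 := by
    rw [hcval]
    exact mul_ne_zero (mul_ne_zero htK hbK) hgne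
  refine ⟨ι c⁻¹ * v₀, ?_, ?_⟩
  · rw [map_mul, hμι, ← hc, inv_mul_cancel₀ hcne]
  · have h6 : v₀ * (w - ι sK) = 0 := by
      have : v₀ * (w - ι sK) = ((1 : K) ⊗ₜ[R] t) * aeval w f₀ := by
        rw [h3, h5, hv₀]
        ring
      rw [this, h2]
    have h7 : algebraMap S K s ⊗ₜ[R] (1 : S) - (1 : K) ⊗ₜ[R] s = -(w - ι sK) := by
      rw [neg_sub]
      rfl
    rw [h7, mul_neg, mul_assoc, h6, mul_zero, neg_zero]

end W



open TensorProduct Function Polynomial
open Groth.Agent.Lib.Helper9.RegularDescent

section Lift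

variable {R : Type u} [CommRing R] (p : Ideal R) [p.IsPrime]

/-- polynomials over `κ(p)` come from `R[X]` up to a unit multiple. -/
theorem exists_lift_residueField (f : p.ResidueField[X]) :
    ∃ (b : R) (f₀ : R[X]), algebraMap R p.ResidueField b ≠ 0 ∧
      f₀.map (algebraMap R p.ResidueField) = C (algebraMap R p.ResidueField b) * f := by
  obtain ⟨g, rfl⟩ := Polynomial.map_surjective (IsLocalRing.residue (Localization.AtPrime p))
    IsLocalRing.residue_surjective f
  obtain ⟨b, hb, hspec⟩ := IsLocalization.integerNormalization_spec p.primeCompl g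
  refine ⟨b, IsLocalization.integerNormalization p.primeCompl g, ?_, ?_⟩
  · rw [Ne, Ideal.algebraMap_residueField_eq_zero]
    exact hb
  · have h1 : algebraMap R p.ResidueField =
        (IsLocalRing.residue (Localization.AtPrime p)).comp
          (algebraMap R (Localization.AtPrime p)) := rfl
    rw [h1, ← Polynomial.map_map, hspec, Algebra.smul_def, Polynomial.map_mul]
    congr 1
    rw [Polynomial.algebraMap_apply, Polynomial.map_C]
    rfl

end Lift

section D

variable (R S T : Type u) [CommRing R] [CommRing S] [CommRing T] [Algebra R S] [Algebra S T]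
  [Algebra R T] [IsScalarTower R S T]

set_option maxHeartbeats 1600000 in
/-- **descent of geometrically reduced fibres** along `R → S` with `q S_q = p S_q` and separable
algebraic residue field extensions. -/
theorem isGeometricallyReduced_fiber_of_base (q : Ideal S) [q.IsPrime]
    (hq : ∀ x ∈ q, ∃ s ∉ q, s * x ∈ (q.under R).map (algebraMap R S))
    (hsep : letI := (resMapQ R S q).toAlgebra
      Algebra.IsSeparable (q.under R).ResidueField q.ResidueField)
    (h : Algebra.IsGeometricallyReduced (q.under R).ResidueField ((q.under R).Fiber T)) :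
    Algebra.IsGeometricallyReduced q.ResidueField (q.Fiber T) := by
  letI algpq : Algebra (q.under R).ResidueField q.ResidueField := (resMapQ R S q).toAlgebra
  haveI : IsScalarTower R (q.under R).ResidueField q.ResidueField :=
    IsScalarTower.of_algebraMap_eq (fun r => (resMapQ_algebraMap R S q r).symm)
  apply Groth.Agent.Lib.Helper18.PMor.isGeometricallyReduced_of_forall_finite
  intro K _ _ hfin
  letI algSK : Algebra S K := ((algebraMap q.ResidueField K).comp (algebraMap S q.ResidueField)).toAlgebra
  haveI : IsScalarTower S q.ResidueField K := IsScalarTower.of_algebraMap_eq (fun _ => rfl)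
  letI algRK : Algebra R K := ((algebraMap S K).comp (algebraMap R S)).toAlgebra
  haveI : IsScalarTower R S K := IsScalarTower.of_algebraMap_eq (fun _ => rfl)
  letI algpK : Algebra (q.under R).ResidueField K :=
    ((algebraMap q.ResidueField K).comp (algebraMap (q.under R).ResidueField q.ResidueField)).toAlgebra
  haveI : IsScalarTower (q.under R).ResidueField q.ResidueField K :=
    IsScalarTower.of_algebraMap_eq (fun _ => rfl)
  haveI : IsScalarTower R (q.under R).ResidueField K := by
    refine IsScalarTower.of_algebraMap_eq (fun r => ?_)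
    show algebraMap q.ResidueField K (algebraMap S q.ResidueField (algebraMap R S r)) =
      algebraMap q.ResidueField K (algebraMap (q.under R).ResidueField q.ResidueField
        (algebraMap R (q.under R).ResidueField r))
    rw [← IsScalarTower.algebraMap_apply R S q.ResidueField,
      ← IsScalarTower.algebraMap_apply R (q.under R).ResidueField q.ResidueField]
  haveI : Algebra.IsAlgebraic (q.under R).ResidueField q.ResidueField :=
    Algebra.IsSeparable.isAlgebraic _ _
  haveI : Algebra.IsAlgebraic q.ResidueField K := Algebra.IsAlgebraic.of_finite _ _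
  haveI : Algebra.IsAlgebraic (q.under R).ResidueField K :=
    Algebra.IsAlgebraic.trans (q.under R).ResidueField q.ResidueField K
  -- `K ⊗[R] T` is reduced
  haveI hE : IsReduced (K ⊗[R] T) := by
    haveI := h
    haveI : IsReduced (K ⊗[(q.under R).ResidueField] ((q.under R).Fiber T)) := inferInstance
    let e := Algebra.TensorProduct.cancelBaseChange R (q.under R).ResidueField K K T
    exact isReduced_of_injective e.symm.toRingEquiv.toRingHom e.symm.injective
  -- `K ⊗[S] T` is reduced
  haveI hF : IsReduced (K ⊗[S] T) := by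
    refine isReduced_tensor_of_exists (R := R) (S := S) (T := T) (K := K) (fun s => ?_)
    exact exists_diag_killer (R := R) (S := S) q (kp := (q.under R).ResidueField)
      (kq := q.ResidueField) (K := K)
      (fun x => Ideal.algebraMap_residueField_eq_zero)
      (exists_lift_residueField (q.under R)) hq s
  let e := Algebra.TensorProduct.cancelBaseChange S q.ResidueField K K T
  exact isReduced_of_injective e.toRingEquiv.toRingHom e.injective

end D

end Groth.Agent.Lib.Helper23.ReducedDescent
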