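import Mathlib
import Groth.Agent.Lib.Helper23.SliceCMRing
import Groth.Agent.Lib.Helper23.CMMor2
import Groth.Prelude.Def_Mor2

/-!
# Slicing a Cohen–Macaulay morphism at a closed point of a fibre (helper23)

`slice_cm`: `f` l.f.p., Cohen–Macaulay at `x`, `x` closed in its fibre.  Then there are an open
`V ∋ x` and a regular closed immersion `i : Z ⟶ V` through `x` with `Z ⟶ S` flat, l.f.p. and locally
quasi-finite and `x` the only point of `Z` over `f x`.
-/

set_option autoImplicit false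
set_option linter.style.haveILetI false
set_option linter.unusedSectionVars false

open TensorProduct Function Pointwise

universe u

namespace Groth.Agent.Lib.Helper23.SliceCM


open AlgebraicGeometry CategoryTheory Limits

/-- a point closed in its fibre has no proper specialisations inside the fibre. -/
theorem eq_of_specializes_of_isClosed_asFiber {X S : Scheme.{u}} (f : X ⟶ S) (x x' : X)
    (hcl : IsClosed ({f.asFiber x} : Set ↑(f.fiber (f x)))) (hsp : x ⤳ x')
    (hf : f x' = f x) : x' = x := by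
  have h1 : (⟨x, rfl⟩ : f ⁻¹' {f x}) ⤳ ⟨x', hf⟩ :=
    (Topology.IsInducing.subtypeVal.specializes_iff (x := (⟨x, rfl⟩ : f ⁻¹' {f x}))
      (y := ⟨x', hf⟩)).mp hsp
  have h2 := h1.map (f.fiberHomeo (f x)).symm.continuous
  have h3 : (f.fiberHomeo (f x)).symm ⟨x', hf⟩ ∈ closure {f.asFiber x} :=
    specializes_iff_mem_closure.mp h2
  rw [hcl.closure_eq, Set.mem_singleton_iff] at h3
  have h4 := (f.fiberHomeo (f x)).symm.injective h3
  exact congrArg Subtype.val h4



open Groth.Agent.Lib27.LocalCore Groth.Agent.Lib.Helper18 Groth.Agent.Lib.Helper23.QFFlat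
open AlgebraicGeometry CategoryTheory Limits

/-- transport of a regular sequence along a ring isomorphism. -/
theorem isRegular_map_ringEquiv {R S : Type*} [CommRing R] [CommRing S] (e : R ≃+* S)
    (rs : List R) (h : RingTheory.Sequence.IsRegular R rs) :
    RingTheory.Sequence.IsRegular S (rs.map e) := by
  refine (AddEquiv.isRegular_congr (e := e.toAddEquiv) (as := rs) (bs := rs.map e) ?_).mp h
  refine List.forall₂_map_right_iff.mpr (List.forall₂_same.mpr fun r _ x => ?_)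
  exact map_mul e r x

set_option maxHeartbeats 1600000 in
/-- **Slicing a Cohen–Macaulay morphism at a closed point of a fibre.** -/
theorem slice_cm {X S : Scheme.{u}} (f : X ⟶ S) [LocallyOfFinitePresentation f] (x : X)
    (hcm : MoreMor.IsCMAt f x) (hcl : IsClosed ({f.asFiber x} : Set ↑(f.fiber (f x)))) :
    ∃ (V : X.Opens) (Z : Scheme.{u}) (i : Z ⟶ (V : Scheme.{u})),
      Mor2.IsRegularClosedImmersion i ∧ x ∈ Set.range ⇑(i ≫ V.ι) ∧
      Flat (i ≫ V.ι ≫ f) ∧ LocallyOfFinitePresentation (i ≫ V.ι ≫ f) ∧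
      LocallyQuasiFinite (i ≫ V.ι ≫ f) ∧
      ∀ z : Z, f (V.ι (i z)) = f x → V.ι (i z) = x := by
  classical
  rw [Groth.Agent.Lib.Helper23.CMMor.isCMAt_iff] at hcm
  obtain ⟨hflat, hCM⟩ := hcm
  obtain ⟨⟨W, hW⟩, hfxW⟩ : ∃ W : S.affineOpens, f x ∈ W.1 := by
    obtain ⟨_, ⟨W, hW : IsAffineOpen W, rfl⟩, hxW, -⟩ :=
      S.isBasis_affineOpens.exists_subset_of_mem_open (Set.mem_univ (f x)) isOpen_univ
    exact ⟨⟨W, hW⟩, hxW⟩
  obtain ⟨⟨V, hV⟩, hxV, hVW⟩ : ∃ V : X.affineOpens, x ∈ V.1 ∧ V.1 ≤ f ⁻¹ᵁ W := by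
    obtain ⟨_, ⟨V, hV : IsAffineOpen V, rfl⟩, hxV, hVW⟩ :=
      X.isBasis_affineOpens.exists_subset_of_mem_open (show x ∈ (f ⁻¹ᵁ W : Set X) from hfxW)
        (f ⁻¹ᵁ W).isOpen
    exact ⟨⟨V, hV⟩, hxV, hVW⟩
  have hfp : RingHom.FinitePresentation (f.appLE W V hVW).hom :=
    HasRingHomProperty.appLE (P := @LocallyOfFinitePresentation) f inferInstance ⟨W, hW⟩ ⟨V, hV⟩
      hVW
  algebraize [(f.appLE W V hVW).hom]
  letI algBL : Algebra Γ(X, V) (X.presheaf.stalk x) := X.presheaf.algebra_section_stalk ⟨x, hxV⟩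
  haveI locL : IsLocalization.AtPrime (X.presheaf.stalk x) (hV.primeIdealOf ⟨x, hxV⟩).asIdeal :=
    hV.isLocalization_stalk ⟨x, hxV⟩
  letI algAL : Algebra Γ(S, W) (X.presheaf.stalk x) :=
    ((algebraMap Γ(X, V) (X.presheaf.stalk x)).comp (algebraMap Γ(S, W) Γ(X, V))).toAlgebra
  haveI towerL : IsScalarTower Γ(S, W) Γ(X, V) (X.presheaf.stalk x) :=
    IsScalarTower.of_algebraMap_eq (fun _ => rfl)
  have hcomp : (f.stalkMap x).hom.comp (S.presheaf.germ W (f x) hfxW).hom =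
      algebraMap Γ(S, W) (X.presheaf.stalk x) := by
    ext a
    change f.stalkMap x (S.presheaf.germ W (f x) hfxW a) =
      X.presheaf.germ V x hxV (f.appLE W V hVW a)
    rw [Scheme.Hom.germ_stalkMap_apply, Scheme.Hom.appLE, CommRingCat.comp_apply,
      X.presheaf.germ_res_apply]
  haveI flatL : Module.Flat Γ(S, W) (X.presheaf.stalk x) := by
    have h1 : (S.presheaf.germ W (f x) hfxW).hom.Flat := by
      letI := S.presheaf.algebra_section_stalk ⟨f x, hfxW⟩
      haveI := hW.isLocalization_stalk ⟨f x, hfxW⟩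
      exact RingHom.flat_algebraMap_iff.mpr
        (IsLocalization.flat (S.presheaf.stalk (f x))
          (hW.primeIdealOf ⟨f x, hfxW⟩).asIdeal.primeCompl)
    have h2 := RingHom.Flat.comp h1 hflat
    rw [hcomp] at h2
    exact RingHom.flat_algebraMap_iff.mp h2
  have hp : (hW.primeIdealOf ⟨f x, hfxW⟩).asIdeal =
      (hV.primeIdealOf ⟨x, hxV⟩).asIdeal.comap (algebraMap Γ(S, W) Γ(X, V)) :=
    congr($(IsAffineOpen.comap_primeIdealOf_appLE W hW V hV hVW hxV).1).symm
  have hJ : Ideal.map (f.stalkMap x).hom (IsLocalRing.maximalIdeal (S.presheaf.stalk (f x))) =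
      fibIdeal (A := Γ(S, W)) (hV.primeIdealOf ⟨x, hxV⟩).asIdeal (X.presheaf.stalk x) := by
    letI := S.presheaf.algebra_section_stalk ⟨f x, hfxW⟩
    haveI := hW.isLocalization_stalk ⟨f x, hfxW⟩
    have hmax := IsLocalization.AtPrime.map_eq_maximalIdeal
      (hW.primeIdealOf ⟨f x, hfxW⟩).asIdeal (S.presheaf.stalk (f x))
    rw [← hmax, Ideal.map_map, fibIdeal, ← hp]
    exact congrArg (fun φ => Ideal.map φ (hW.primeIdealOf ⟨f x, hfxW⟩).asIdeal) hcomp
  have hCM' : LocCoh.IsCohenMacaulayLocalRing (X.presheaf.stalk x ⧸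
      fibIdeal (A := Γ(S, W)) (hV.primeIdealOf ⟨x, hxV⟩).asIdeal (X.presheaf.stalk x)) :=
    (Groth.Agent.Lib.Helper23.CMMor.cm_congr_ideal hJ).mp hCM
  -- maximality of `q` in its fibre
  have hmax : ∀ q' : Ideal Γ(X, V), q'.IsPrime → (hV.primeIdealOf ⟨x, hxV⟩).asIdeal ≤ q' →
      q'.comap (algebraMap Γ(S, W) Γ(X, V)) =
        (hV.primeIdealOf ⟨x, hxV⟩).asIdeal.comap (algebraMap Γ(S, W) Γ(X, V)) →
      q' = (hV.primeIdealOf ⟨x, hxV⟩).asIdeal := by
    intro q' hq' hle hcomap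
    let y' : Spec Γ(X, V) := ⟨q', hq'⟩
    have hsp0 : hV.primeIdealOf ⟨x, hxV⟩ ⤳ y' :=
      (PrimeSpectrum.le_iff_specializes _ _).mp hle
    have hsp : x ⤳ hV.fromSpec y' := by
      have := hsp0.map hV.fromSpec.continuous
      rwa [hV.fromSpec_primeIdealOf ⟨x, hxV⟩] at this
    have hfy : f (hV.fromSpec y') = f x := by
      rw [← Scheme.Hom.comp_apply, ← IsAffineOpen.SpecMap_appLE_fromSpec f hW hV hVW,
        Scheme.Hom.comp_apply]
      have h1 : Spec.map (f.appLE W V hVW) y' = hW.primeIdealOf ⟨f x, hfxW⟩ := by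
        apply PrimeSpectrum.ext
        rw [hp]
        exact hcomap
      rw [h1]
      exact hW.fromSpec_primeIdealOf ⟨f x, hfxW⟩
    have hxx := eq_of_specializes_of_isClosed_asFiber f x (hV.fromSpec y') hcl hsp hfy
    have h2 : y' = hV.primeIdealOf ⟨x, hxV⟩ := by
      apply hV.fromSpec.isOpenEmbedding.injective
      rw [hxx, hV.fromSpec_primeIdealOf ⟨x, hxV⟩]
    exact congrArg PrimeSpectrum.asIdeal h2
  obtain ⟨g, bs, hgq, hbsq, hmain⟩ := exists_slice_cm (A := Γ(S, W))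
    (hV.primeIdealOf ⟨x, hxV⟩).asIdeal (X.presheaf.stalk x) hCM' hmax
  have hxU : x ∈ X.basicOpen g := by
    rw [Scheme.mem_basicOpen X g x hxV]
    exact IsLocalization.map_units (X.presheaf.stalk x)
      (⟨g, hgq⟩ : (hV.primeIdealOf ⟨x, hxV⟩).asIdeal.primeCompl)
  have hU : IsAffineOpen (X.basicOpen g) := hV.basicOpen g
  haveI locU : IsLocalization.Away g Γ(X, X.basicOpen g) := hV.isLocalization_basicOpen g
  letI algAU : Algebra Γ(S, W) Γ(X, X.basicOpen g) :=
    ((algebraMap Γ(X, V) Γ(X, X.basicOpen g)).comp (algebraMap Γ(S, W) Γ(X, V))).toAlgebra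
  haveI towerU : IsScalarTower Γ(S, W) Γ(X, V) Γ(X, X.basicOpen g) :=
    IsScalarTower.of_algebraMap_eq (fun _ => rfl)
  obtain ⟨hreg, hfl, hqf, hiso⟩ := hmain Γ(X, X.basicOpen g)
  obtain ⟨rs, hrs⟩ : ∃ rs : List Γ(X, X.basicOpen g),
      rs = bs.map (algebraMap Γ(X, V) Γ(X, X.basicOpen g)) := ⟨_, rfl⟩
  rw [← hrs] at hreg hfl hqf hiso
  obtain ⟨I, hI⟩ : ∃ I : Ideal Γ(X, X.basicOpen g), I = Ideal.ofList rs := ⟨_, rfl⟩
  rw [← hI] at hfl hqf hiso
  have hUW : X.basicOpen g ≤ f ⁻¹ᵁ W := (X.basicOpen_le g).trans hVW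
  let φ : Γ(X, X.basicOpen g) ⟶ CommRingCat.of (Γ(X, X.basicOpen g) ⧸ I) :=
    CommRingCat.ofHom (Ideal.Quotient.mk I)
  let i : Spec (CommRingCat.of (Γ(X, X.basicOpen g) ⧸ I)) ⟶ ↑(X.basicOpen g) :=
    Spec.map φ ≫ hU.isoSpec.inv
  have hiι : i ≫ (X.basicOpen g).ι = Spec.map φ ≫ hU.fromSpec := by
    rw [Category.assoc, hU.isoSpec_inv_ι]
  have hcompf : i ≫ (X.basicOpen g).ι ≫ f =
      Spec.map (f.appLE W (X.basicOpen g) hUW ≫ φ) ≫ hW.fromSpec := by
    rw [← Category.assoc, hiι, Category.assoc,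
      ← IsAffineOpen.SpecMap_appLE_fromSpec f hW hU hUW, Spec.map_comp, Category.assoc]
  have halgU : algebraMap Γ(S, W) Γ(X, X.basicOpen g) = (f.appLE W (X.basicOpen g) hUW).hom := by
    rw [← Scheme.Hom.appLE_map f hVW (homOfLE (X.basicOpen_le g)).op]
    rfl
  have halgA : algebraMap Γ(S, W) (Γ(X, X.basicOpen g) ⧸ I) =
      (f.appLE W (X.basicOpen g) hUW ≫ φ).hom := by
    rw [← Scheme.Hom.appLE_map f hVW (homOfLE (X.basicOpen_le g)).op]
    rfl
  -- compatibility of points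
  have hpt : ∀ P : Spec Γ(X, X.basicOpen g),
      hV.fromSpec (Spec.map (X.presheaf.map (homOfLE (X.basicOpen_le g)).op) P) =
        hU.fromSpec P := by
    intro P
    rw [← Scheme.Hom.comp_apply, hV.map_fromSpec hU]
  have hqU : (hU.primeIdealOf ⟨x, hxU⟩).asIdeal.comap
      (algebraMap Γ(X, V) Γ(X, X.basicOpen g)) = (hV.primeIdealOf ⟨x, hxV⟩).asIdeal := by
    have h1 : Spec.map (X.presheaf.map (homOfLE (X.basicOpen_le g)).op)
        (hU.primeIdealOf ⟨x, hxU⟩) = hV.primeIdealOf ⟨x, hxV⟩ := by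
      apply hV.fromSpec.isOpenEmbedding.injective
      rw [hpt, hU.fromSpec_primeIdealOf ⟨x, hxU⟩, hV.fromSpec_primeIdealOf ⟨x, hxV⟩]
    exact congrArg PrimeSpectrum.asIdeal h1
  have hIqU : I ≤ (hU.primeIdealOf ⟨x, hxU⟩).asIdeal := by
    rw [hI, Ideal.ofList, Ideal.span_le]
    intro r hr
    rw [hrs] at hr
    obtain ⟨b, hb, rfl⟩ := List.mem_map.mp hr
    have : b ∈ (hU.primeIdealOf ⟨x, hxU⟩).asIdeal.comap
        (algebraMap Γ(X, V) Γ(X, X.basicOpen g)) := by
      rw [hqU]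
      exact hbsq b hb
    exact this
  haveI hφci : IsClosedImmersion (Spec.map φ) :=
    IsClosedImmersion.spec_of_surjective φ Ideal.Quotient.mk_surjective
  haveI hici : IsClosedImmersion i := inferInstance
  refine ⟨X.basicOpen g, Spec (CommRingCat.of (Γ(X, X.basicOpen g) ⧸ I)), i, ⟨hici, ?_⟩, ?_, ?_, ?_,
    ?_, ?_⟩
  · -- regular immersion
    intro z
    haveI : IsAffine ↑(X.basicOpen g) := hU
    refine ⟨⊤, isAffineOpen_top _, trivial, ?_⟩
    let e : Γ(X, X.basicOpen g) ≃+* Γ(↑(X.basicOpen g), ⊤) :=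
      (X.basicOpen g).topIso.symm.commRingCatIsoToRingEquiv
    refine ⟨rs.map e, isRegular_map_ringEquiv e rs hreg, ?_⟩
    rw [Scheme.Hom.ker_apply]
    have happ : i.appTop = (X.basicOpen g).topIso.hom ≫ φ ≫
        (Scheme.ΓSpecIso (CommRingCat.of (Γ(X, X.basicOpen g) ⧸ I))).inv := by
      change (Spec.map φ ≫ hU.isoSpec.inv).appTop = _
      rw [Scheme.Hom.comp_appTop, hU.isoSpec_inv_appTop, Category.assoc,
        ← Scheme.ΓSpecIso_inv_naturality]
    ext y
    change y ∈ RingHom.ker i.appTop.hom ↔ _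
    have hmapI : Ideal.ofList (rs.map e) =
        I.map (e : Γ(X, X.basicOpen g) →+* Γ(↑(X.basicOpen g), ⊤)) := by
      rw [hI, Ideal.map_ofList]
      rfl
    rw [RingHom.mem_ker, happ, hmapI]
    have hinj : Function.Injective
        (Scheme.ΓSpecIso (CommRingCat.of (Γ(X, X.basicOpen g) ⧸ I))).inv.hom :=
      (ConcreteCategory.bijective_of_isIso
        (Scheme.ΓSpecIso (CommRingCat.of (Γ(X, X.basicOpen g) ⧸ I))).inv).1
    constructor
    · intro hy
      have h1 : (Ideal.Quotient.mk I) ((X.basicOpen g).topIso.hom.hom y) = 0 := by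
        apply hinj
        rw [map_zero]
        exact hy
      rw [Ideal.Quotient.eq_zero_iff_mem] at h1
      have h2 : e ((X.basicOpen g).topIso.hom.hom y) = y :=
        (X.basicOpen g).topIso.symm.commRingCatIsoToRingEquiv.apply_symm_apply y
      rw [← h2]
      exact Ideal.mem_map_of_mem _ h1
    · intro hy
      rw [Ideal.mem_map_iff_of_surjective
        (e : Γ(X, X.basicOpen g) →+* Γ(↑(X.basicOpen g), ⊤)) e.surjective] at hy
      obtain ⟨w, hw, rfl⟩ := hy
      have h2 : (X.basicOpen g).topIso.hom.hom (e w) = w :=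
        (X.basicOpen g).topIso.symm.commRingCatIsoToRingEquiv.symm_apply_apply w
      change (Scheme.ΓSpecIso (CommRingCat.of (Γ(X, X.basicOpen g) ⧸ I))).inv.hom
        ((Ideal.Quotient.mk I) ((X.basicOpen g).topIso.hom.hom (e w))) = 0
      rw [h2, Ideal.Quotient.eq_zero_iff_mem.mpr hw, map_zero]
  · -- `x` lies in the image
    rw [hiι]
    have hkerle : RingHom.ker (Ideal.Quotient.mk I) ≤ (hU.primeIdealOf ⟨x, hxU⟩).asIdeal := by
      rw [Ideal.mk_ker]; exact hIqU
    let z₀ : Spec (CommRingCat.of (Γ(X, X.basicOpen g) ⧸ I)) :=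
      ⟨(hU.primeIdealOf ⟨x, hxU⟩).asIdeal.map (Ideal.Quotient.mk I),
        Ideal.map_isPrime_of_surjective Ideal.Quotient.mk_surjective hkerle⟩
    have hz₀ : Spec.map φ z₀ = hU.primeIdealOf ⟨x, hxU⟩ := by
      apply PrimeSpectrum.ext
      change ((hU.primeIdealOf ⟨x, hxU⟩).asIdeal.map (Ideal.Quotient.mk I)).comap
        (Ideal.Quotient.mk I) = _
      rw [Ideal.comap_map_of_surjective _ Ideal.Quotient.mk_surjective,
        ← RingHom.ker_eq_comap_bot]
      exact sup_eq_left.mpr hkerle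
    refine ⟨z₀, ?_⟩
    rw [Scheme.Hom.comp_apply, hz₀]
    exact hU.fromSpec_primeIdealOf ⟨x, hxU⟩
  · -- flat
    rw [hcompf]
    haveI : Flat (Spec.map (f.appLE W (X.basicOpen g) hUW ≫ φ)) := by
      rw [Flat.SpecMap_iff, ← halgA]
      exact RingHom.flat_algebraMap_iff.mpr hfl
    infer_instance
  · -- locally of finite presentation
    haveI : LocallyOfFinitePresentation (Spec.map φ) := by
      rw [LocallyOfFinitePresentation.SpecMap_iff]
      refine RingHom.FinitePresentation.of_surjective _ Ideal.Quotient.mk_surjective ?_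
      change (RingHom.ker (Ideal.Quotient.mk I)).FG
      rw [Ideal.mk_ker, hI]
      exact fg_ofList rs
    haveI : LocallyOfFinitePresentation i := inferInstance
    infer_instance
  · -- locally quasi-finite
    rw [hcompf]
    haveI : LocallyQuasiFinite (Spec.map (f.appLE W (X.basicOpen g) hUW ≫ φ)) := by
      rw [HasRingHomProperty.Spec_iff (P := @LocallyQuasiFinite), ← halgA]
      exact RingHom.quasiFinite_algebraMap.mpr hqf
    infer_instance
  · -- isolation
    intro z hz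
    have h0 : (X.basicOpen g).ι (i z) = hU.fromSpec (Spec.map φ z) := by
      rw [← Scheme.Hom.comp_apply, hiι, Scheme.Hom.comp_apply]
    rw [h0] at hz ⊢
    have hIP : I ≤ (Spec.map φ z).asIdeal := by
      intro a ha
      change Ideal.Quotient.mk I a ∈ z.asIdeal
      rw [Ideal.Quotient.eq_zero_iff_mem.mpr ha]
      exact zero_mem _
    have hPp : (Spec.map φ z).asIdeal.comap (algebraMap Γ(S, W) Γ(X, X.basicOpen g)) =
        (hV.primeIdealOf ⟨x, hxV⟩).asIdeal.comap (algebraMap Γ(S, W) Γ(X, V)) := by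
      rw [← hp, halgU]
      have h1 : Spec.map (f.appLE W (X.basicOpen g) hUW) (Spec.map φ z) =
          hW.primeIdealOf ⟨f x, hfxW⟩ := by
        apply hW.fromSpec.isOpenEmbedding.injective
        rw [← Scheme.Hom.comp_apply, IsAffineOpen.SpecMap_appLE_fromSpec f hW hU hUW,
          Scheme.Hom.comp_apply, hz, hW.fromSpec_primeIdealOf ⟨f x, hfxW⟩]
      exact congrArg PrimeSpectrum.asIdeal h1
    have h1 := hiso (Spec.map φ z).asIdeal (Spec.map φ z).2 hIP hPp
    have h2 : Spec.map (X.presheaf.map (homOfLE (X.basicOpen_le g)).op) (Spec.map φ z) =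
        hV.primeIdealOf ⟨x, hxV⟩ := PrimeSpectrum.ext h1
    rw [← hpt, h2]
    exact hV.fromSpec_primeIdealOf ⟨x, hxV⟩


end Groth.Agent.Lib.Helper23.SliceCM
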