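import Mathlib
import Groth.Agent.Lib.Helper23.RegularHom
import Groth.Agent.Lib.Helper23.SmoothField
import Groth.Agent.Lib.Helper23.JacobianLoc

/-!
Smooth at a prime iff A_p -> B_q adic formally smooth (finite type over Noetherian) (helper23).
-/

set_option autoImplicit false
universe u
open IsLocalRing TensorProduct

namespace Groth.Agent.Lib.Helper23.SmoothAdic


open Groth.Agent.Lib.Helper23

theorem t9268main (A B : Type u) [CommRing A] [IsNoetherianRing A]
    [CommRing B] [Algebra A B] [Algebra.FiniteType A B] (q : Ideal B) [q.IsPrime] :
    (∃ g : B, g ∉ q ∧ Algebra.Smooth A (Localization.Away g)) ↔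
      letI := (Localization.localRingHom (Ideal.comap (algebraMap A B) q) q (algebraMap A B) rfl).toAlgebra
      CAlgX.IsAdicFormallySmooth (Localization.AtPrime (Ideal.comap (algebraMap A B) q))
        (Localization.AtPrime q) (IsLocalRing.maximalIdeal (Localization.AtPrime q)) := by
  letI algpq : Algebra (Localization.AtPrime (Ideal.comap (algebraMap A B) q)) (Localization.AtPrime q) :=
    (Localization.localRingHom (Ideal.comap (algebraMap A B) q) q (algebraMap A B) rfl).toAlgebra
  haveI : IsScalarTower A (Localization.AtPrime (Ideal.comap (algebraMap A B) q)) (Localization.AtPrime q) :=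
    IsScalarTower.of_algebraMap_eq fun a => by
      show _ = Localization.localRingHom (Ideal.comap (algebraMap A B) q) q (algebraMap A B) rfl
        (algebraMap A _ a)
      rw [Localization.localRingHom_to_map, ← IsScalarTower.algebraMap_apply]
  show _ ↔ CAlgX.IsAdicFormallySmooth (Localization.AtPrime (Ideal.comap (algebraMap A B) q))
        (Localization.AtPrime q) (IsLocalRing.maximalIdeal (Localization.AtPrime q))
  constructor
  · rintro ⟨g, hg, hsm⟩
    haveI : Algebra.FormallySmooth A (Localization.Away g) := hsm.formallySmooth
    haveI : Algebra.FormallySmooth A (Localization.AtPrime q) :=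
      JacobianLoc.formallySmooth_atPrime_of_away (A := A) (C := B) q g hg
    have h1 := FieldSep.adic_of_formallySmooth A (Localization.AtPrime q)
      (maximalIdeal (Localization.AtPrime q))
    exact RegularHom.adic_of_formallyUnramified A
      (Localization.AtPrime (Ideal.comap (algebraMap A B) q)) (Localization.AtPrime q) _ h1
  · intro h
    have h1 : CAlgX.IsAdicFormallySmooth A (Localization.AtPrime q)
        (maximalIdeal (Localization.AtPrime q)) :=
      RegularHom.adic_of_formallySmooth_base A
        (Localization.AtPrime (Ideal.comap (algebraMap A B) q)) (Localization.AtPrime q) _ h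
    obtain ⟨n, f, hf⟩ := Algebra.FiniteType.iff_quotient_mvPolynomial''.mp
      (inferInstance : Algebra.FiniteType A B)
    letI : Algebra (MvPolynomial (Fin n) A) B := f.toRingHom.toAlgebra
    haveI : IsScalarTower A (MvPolynomial (Fin n) A) B :=
      IsScalarTower.of_algebraMap_eq fun a => (f.commutes a).symm
    have hsurj : Function.Surjective (algebraMap (MvPolynomial (Fin n) A) B) := hf
    haveI : Algebra.FormallySmooth A (Localization.AtPrime q) :=
      (SmoothField.formallySmooth_atPrime_iff_adic (A := A) (B := MvPolynomial (Fin n) A) hsurj q).mpr h1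
    haveI : Module.Finite (MvPolynomial (Fin n) A)
        (RingHom.ker (algebraMap (MvPolynomial (Fin n) A) B)).Cotangent :=
      Module.Finite.of_surjective (RingHom.ker (algebraMap (MvPolynomial (Fin n) A) B)).toCotangent
        (Ideal.toCotangent_surjective _)
    obtain ⟨g, hg, hgs⟩ := JacobianLoc.exists_formallySmooth_away (A := A)
      (B := MvPolynomial (Fin n) A) hsurj q
    refine ⟨g, hg, ?_⟩
    haveI : Algebra.FinitePresentation A B := Algebra.FinitePresentation.of_finiteType.mp inferInstance
    haveI : Algebra.FinitePresentation B (Localization.Away g) :=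
      IsLocalization.Away.finitePresentation g
    haveI : Algebra.FinitePresentation A (Localization.Away g) :=
      Algebra.FinitePresentation.trans A B (Localization.Away g)
    exact ⟨hgs, inferInstance⟩

end Groth.Agent.Lib.Helper23.SmoothAdic
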