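import Mathlib
import Groth.Agent.Lib.Helper1.NormalSmooth
import Groth.Agent.Lib.Helper15.SmoothReduced
import Groth.Agent.Lib.Helper4.HznNormal

/-!
helper23: smooth at a point => stalk reduced iff base stalk reduced; stalk normal domain iff base stalk normal domain (S4989). alg_main: A -> B smooth, q over p: B_q reduced iff A_p reduced, B_q normal domain iff A_p normal domain.
-/

set_option autoImplicit false
universe u
open TensorProduct
open CategoryTheory CategoryTheory.Limits AlgebraicGeometry TopologicalSpace

namespace Groth.Agent.Lib.Helper23.SmoothPtRedNor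

section


section alg

variable {A B : Type u} [CommRing A] [CommRing B] [Algebra A B] [Algebra.Smooth A B]
  (p : Ideal A) [p.IsPrime] (q : Ideal B) [q.IsPrime] [q.LiesOver p]

theorem ff : letI := Localization.AtPrime.algebraOfLiesOver p q
    Module.FaithfullyFlat (Localization.AtPrime p) (Localization.AtPrime q) := by
  letI := Localization.AtPrime.algebraOfLiesOver p q
  have : IsLocalHom (algebraMap (Localization.AtPrime p) (Localization.AtPrime q)) := by
    rw [RingHom.algebraMap_toAlgebra]
    exact Localization.isLocalHom_localRingHom p q (algebraMap A B) Ideal.LiesOver.over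
  exact Module.FaithfullyFlat.of_flat_of_isLocalHom

theorem descend_reduced (h : IsReduced (Localization.AtPrime q)) :
    IsReduced (Localization.AtPrime p) := by
  letI := Localization.AtPrime.algebraOfLiesOver p q
  haveI := ff p q
  exact isReduced_of_injective (algebraMap (Localization.AtPrime p) (Localization.AtPrime q))
    (FaithfulSMul.algebraMap_injective _ _)

theorem descend_normal (h : IsDomain (Localization.AtPrime q) ∧
    IsIntegrallyClosed (Localization.AtPrime q)) :
    IsDomain (Localization.AtPrime p) ∧ IsIntegrallyClosed (Localization.AtPrime p) := by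
  letI := Localization.AtPrime.algebraOfLiesOver p q
  haveI := ff p q
  haveI := h.1
  haveI := h.2
  exact Groth.Agent.Lib.Helper4.Hzn.isDomain_and_isIntegrallyClosed_of_faithfullyFlat
    (Localization.AtPrime p) (Localization.AtPrime q)

end alg


end

section


section alg2

variable {A B : Type u} [CommRing A] [CommRing B] [Algebra A B] [Algebra.Smooth A B]
  (p : Ideal A) [p.IsPrime] (q : Ideal B) [q.IsPrime] [q.LiesOver p]

attribute [local instance] Algebra.TensorProduct.rightAlgebra

/-- the map `A_p ⊗_A B → B_q` -/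
noncomputable def toBq : letI := Localization.AtPrime.algebraOfLiesOver p q
    Localization.AtPrime p ⊗[A] B →ₐ[Localization.AtPrime p] Localization.AtPrime q :=
  letI := Localization.AtPrime.algebraOfLiesOver p q
  Algebra.TensorProduct.lift (Algebra.ofId _ _) (IsScalarTower.toAlgHom A B (Localization.AtPrime q))
    (fun _ _ => Commute.all _ _)

theorem exists_isLocalization : ∃ (N : Submonoid (Localization.AtPrime p ⊗[A] B))
    (_ : Algebra (Localization.AtPrime p ⊗[A] B) (Localization.AtPrime q)),
    IsLocalization N (Localization.AtPrime q) := by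
  letI := Localization.AtPrime.algebraOfLiesOver p q
  letI alg : Algebra (Localization.AtPrime p ⊗[A] B) (Localization.AtPrime q) :=
    (toBq p q).toRingHom.toAlgebra
  haveI : IsScalarTower B (Localization.AtPrime p ⊗[A] B) (Localization.AtPrime q) :=
    IsScalarTower.of_algebraMap_eq' (by
      ext x
      simp [RingHom.algebraMap_toAlgebra, toBq])
  haveI : IsLocalization (Algebra.algebraMapSubmonoid B p.primeCompl)
      (Localization.AtPrime p ⊗[A] B) :=
    IsLocalization.tensorRight (Localization.AtPrime p) p.primeCompl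
  have hle : Algebra.algebraMapSubmonoid B p.primeCompl ≤ q.primeCompl := by
    rintro _ ⟨a, ha, rfl⟩
    intro h
    apply ha
    rw [Ideal.LiesOver.over (p := p) (P := q)]
    exact h
  exact ⟨_, alg, IsLocalization.isLocalization_of_submonoid_le (Localization.AtPrime p ⊗[A] B)
    (Localization.AtPrime q) (Algebra.algebraMapSubmonoid B p.primeCompl) q.primeCompl hle⟩

theorem ascend_reduced (h : IsReduced (Localization.AtPrime p)) :
    IsReduced (Localization.AtPrime q) := by
  obtain ⟨N, alg, hN⟩ := exists_isLocalization p q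
  haveI : IsReduced (Localization.AtPrime p ⊗[A] B) :=
    Groth.Agent.Lib.Helper15.SmoothReduced.isReduced_of_smooth (R := Localization.AtPrime p)
  exact isReduced_localizationPreserves N _ inferInstance

theorem ascend_normal (h : IsDomain (Localization.AtPrime p) ∧
    IsIntegrallyClosed (Localization.AtPrime p)) :
    IsDomain (Localization.AtPrime q) ∧ IsIntegrallyClosed (Localization.AtPrime q) := by
  obtain ⟨N, alg, hN⟩ := exists_isLocalization p q
  haveI := h.1
  haveI := h.2
  have hT : EGA4.IsNormalRing (Localization.AtPrime p ⊗[A] B) :=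
    Groth.Agent.Lib.Helper1.NormalSmooth.isNormalRing_of_smooth_of_domain (Localization.AtPrime p) _
  have h1 := Groth.Agent.Lib.Helper18.J2.isNormalRing_localization N hT
  have hE : EGA4.IsNormalRing (Localization.AtPrime q) :=
    Groth.Agent.Lib.Helper18.FormFib.isNormalRing_of_ringEquiv
      (IsLocalization.algEquiv N (Localization N) (Localization.AtPrime q)).toRingEquiv h1
  haveI := (hE (IsLocalRing.maximalIdeal (Localization.AtPrime q))).1
  have hle : (IsLocalRing.maximalIdeal (Localization.AtPrime q)).primeCompl ≤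
      IsUnit.submonoid (Localization.AtPrime q) := by
    intro x hx
    have h1 : x ∉ IsLocalRing.maximalIdeal (Localization.AtPrime q) := hx
    rw [IsLocalRing.mem_maximalIdeal, mem_nonunits_iff, not_not] at h1
    exact h1
  let e : Localization.AtPrime q ≃ₐ[Localization.AtPrime q]
      Localization.AtPrime (IsLocalRing.maximalIdeal (Localization.AtPrime q)) :=
    IsLocalization.atUnits _ (IsLocalRing.maximalIdeal (Localization.AtPrime q)).primeCompl hle
  haveI hd : IsDomain (Localization.AtPrime q) := e.toMulEquiv.isDomain _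
  exact ⟨hd, Groth.Agent.Lib.Helper18.J2.isIntegrallyClosed_of_isNormalRing _ hE⟩

theorem alg_main :
    (IsReduced (Localization.AtPrime q) ↔ IsReduced (Localization.AtPrime p)) ∧
    ((IsDomain (Localization.AtPrime q) ∧ IsIntegrallyClosed (Localization.AtPrime q)) ↔
      (IsDomain (Localization.AtPrime p) ∧ IsIntegrallyClosed (Localization.AtPrime p))) :=
  ⟨⟨descend_reduced p q, ascend_reduced p q⟩, ⟨descend_normal p q, ascend_normal p q⟩⟩

end alg2


end

section


theorem transport {R S : Type u} [CommRing R] [CommRing S] (e : R ≃+* S) :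
    (IsReduced R ↔ IsReduced S) ∧
    ((IsDomain R ∧ IsIntegrallyClosed R) ↔ (IsDomain S ∧ IsIntegrallyClosed S)) := by
  refine ⟨⟨fun h => isReduced_of_injective e.symm e.symm.injective,
    fun h => isReduced_of_injective e e.injective⟩, ⟨fun h => ?_, fun h => ?_⟩⟩
  · haveI := h.1
    haveI := h.2
    exact ⟨e.symm.toMulEquiv.isDomain _, IsIntegrallyClosed.of_equiv e⟩
  · haveI := h.1
    haveI := h.2
    exact ⟨e.toMulEquiv.isDomain _, IsIntegrallyClosed.of_equiv e.symm⟩

theorem t4989 {X Y : Scheme.{u}} (f : X ⟶ Y)
    [LocallyOfFinitePresentation f] (x : ↥X) (hx : x ∈ f.smoothLocus) :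
    (IsReduced ↑(X.presheaf.stalk x) ↔ IsReduced ↑(Y.presheaf.stalk (f.base x))) ∧
    ((IsDomain ↑(X.presheaf.stalk x) ∧ IsIntegrallyClosed ↑(X.presheaf.stalk x)) ↔
      (IsDomain ↑(Y.presheaf.stalk (f.base x)) ∧ IsIntegrallyClosed ↑(Y.presheaf.stalk (f.base x)))) := by
  obtain ⟨U, hU, V, hV, hVU, hxV, H⟩ := exists_smooth_of_formallySmooth_stalk f x hx
  algebraize [(f.appLE U V hVU).hom]
  haveI : ((hV.primeIdealOf ⟨x, hxV⟩).asIdeal).LiesOver (hU.primeIdealOf ⟨f x, hVU hxV⟩).asIdeal :=
    ⟨congr($(IsAffineOpen.comap_primeIdealOf_appLE U hU V hV hVU hxV).1).symm⟩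
  letI := Y.presheaf.algebra_section_stalk ⟨f x, hVU hxV⟩
  haveI := hU.isLocalization_stalk ⟨f x, hVU hxV⟩
  letI := X.presheaf.algebra_section_stalk ⟨x, hxV⟩
  haveI := hV.isLocalization_stalk ⟨x, hxV⟩
  have eY := (IsLocalization.algEquiv (hU.primeIdealOf ⟨f x, hVU hxV⟩).asIdeal.primeCompl
    (Y.presheaf.stalk (f x))
    (Localization.AtPrime (hU.primeIdealOf ⟨f x, hVU hxV⟩).asIdeal)).toRingEquiv
  have eX := (IsLocalization.algEquiv (hV.primeIdealOf ⟨x, hxV⟩).asIdeal.primeCompl
    (X.presheaf.stalk x)
    (Localization.AtPrime (hV.primeIdealOf ⟨x, hxV⟩).asIdeal)).toRingEquiv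
  have h := alg_main (hU.primeIdealOf ⟨f x, hVU hxV⟩).asIdeal (hV.primeIdealOf ⟨x, hxV⟩).asIdeal
  have hX := transport eX
  have hY := transport eY
  exact ⟨hX.1.trans (h.1.trans hY.1.symm), hX.2.trans (h.2.trans hY.2.symm)⟩


end
end Groth.Agent.Lib.Helper23.SmoothPtRedNor
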