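import Mathlib

/-!
# Sections of flat quasi-finite algebras in images of torsion-free modules, ring core (helper23)

`core`: `B` flat over `A`, `J` a f.g. ideal killing `g ≠ 0`, `(A/J) ⊗ B` finite free over `A/J`
of rank `r`.  Then `r > 0` and `g` lies in the image of an injective `A`-linear map
`Ann(J)^r → B`.
-/

set_option autoImplicit false
set_option linter.style.haveILetI false
set_option linter.unusedSectionVars false
universe u
open TensorProduct

namespace Groth.Agent.Lib.Helper23.TorsFree

section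


variable {A B : Type u} [CommRing A] [CommRing B] [Algebra A B]

/-- the kernel of `B → (A/J) ⊗ B`. -/
theorem mem_smul_top_of_tmul_eq_zero (J : Ideal A) (β : B)
    (h : (1 : A ⧸ J) ⊗ₜ[A] β = 0) : β ∈ (J • ⊤ : Submodule A B) := by
  have h1 := congrArg (quotTensorEquivQuotSMul B J) h
  rw [← map_one (Ideal.Quotient.mk J), quotTensorEquivQuotSMul_mk_tmul, one_smul, map_zero] at h1
  exact (Submodule.Quotient.mk_eq_zero _).mp h1

theorem tmul_eq_zero_of_mem_smul_top (J : Ideal A) (β : B)
    (h : β ∈ (J • ⊤ : Submodule A B)) : (1 : A ⧸ J) ⊗ₜ[A] β = 0 := by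
  apply (quotTensorEquivQuotSMul B J).injective
  rw [← map_one (Ideal.Quotient.mk J), quotTensorEquivQuotSMul_mk_tmul, one_smul, map_zero]
  exact (Submodule.Quotient.mk_eq_zero _).mpr h

theorem smul_eq_zero_of_mem_annihilator (J : Ideal A) (x : A) (hx : x ∈ Submodule.annihilator J)
    (β : B) (h : β ∈ (J • ⊤ : Submodule A B)) : x • β = 0 := by
  refine Submodule.smul_induction_on h ?_ ?_
  · intro j hj n _
    rw [smul_smul]
    have : x * j = 0 := by
      have := (Submodule.mem_annihilator.mp hx) j hj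
      simpa [smul_eq_mul] using this
    rw [this, zero_smul]
  · intro a b ha hb
    rw [smul_add, ha, hb, add_zero]

theorem one_tmul_surjective (J : Ideal A) :
    Function.Surjective (fun β : B => (1 : A ⧸ J) ⊗ₜ[A] β) := by
  intro z
  induction z using TensorProduct.induction_on with
  | zero => exact ⟨0, by simp⟩
  | tmul t b =>
    obtain ⟨a, rfl⟩ := Ideal.Quotient.mk_surjective t
    refine ⟨a • b, ?_⟩
    change (1 : A ⧸ J) ⊗ₜ[A] (a • b) = _
    rw [← TensorProduct.smul_tmul]
    congr 1
    rw [Algebra.smul_def, mul_one]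
    rfl
  | add x y hx hy =>
    obtain ⟨a, ha⟩ := hx
    obtain ⟨b, hb⟩ := hy
    refine ⟨a + b, ?_⟩
    change (1 : A ⧸ J) ⊗ₜ[A] (a + b) = _
    rw [TensorProduct.tmul_add]
    exact congrArg₂ (· + ·) ha hb


end

section


variable {A B : Type u} [CommRing A] [CommRing B] [Algebra A B]

/-- **Ring core.** `B` flat over `A`, `J` a f.g. ideal killing `g ≠ 0`, `(A/J) ⊗ B` finite free over
`A/J`.  Then `g` lies in the image of an injective `A`-linear map `F^r → B` with `F = Ann(J)`. -/
theorem core [Module.Flat A B] (J : Ideal A) (hJ : J.FG) (g : B) (hg : ∀ x ∈ J, x • g = 0)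
    (hg0 : g ≠ 0)
    [Module.Free (A ⧸ J) ((A ⧸ J) ⊗[A] B)] [Module.Finite (A ⧸ J) ((A ⧸ J) ⊗[A] B)] :
    ∃ (F : Ideal A) (r : ℕ), 0 < r ∧ ∃ ψ : (Fin r → F) →ₗ[A] B,
      Function.Injective ψ ∧ g ∈ LinearMap.range ψ := by
  classical
  -- `A/J` is nontrivial
  haveI : Nontrivial (A ⧸ J) := by
    rw [Ideal.Quotient.nontrivial_iff]
    intro h
    apply hg0
    have := hg 1 (h ▸ Submodule.mem_top)
    rwa [one_smul] at this
  set T := A ⧸ J with hT
  set C := T ⊗[A] B with hC
  let r := Module.finrank T C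
  let e : Module.Basis (Fin r) T C := Module.finBasis T C
  -- lifts of the basis
  have hlift : ∀ k, ∃ b : B, (1 : T) ⊗ₜ[A] b = e k := fun k => one_tmul_surjective J (e k)
  choose b hb using hlift
  let F : Ideal A := Submodule.annihilator J
  let ψ : (Fin r → F) →ₗ[A] B :=
    (Fintype.linearCombination A b) ∘ₗ (F.subtype.compLeft (Fin r))
  have hψ : ∀ x : Fin r → F, ψ x = ∑ k, (x k : A) • b k := by
    intro x
    simp only [ψ, LinearMap.comp_apply, Fintype.linearCombination_apply]
    rfl
  -- T-scalar action on `1 ⊗ b`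
  have hsm : ∀ (a : A) (β : B), (Ideal.Quotient.mk J a) • ((1 : T) ⊗ₜ[A] β) = (1 : T) ⊗ₜ[A] (a • β) := by
    intro a β
    rw [TensorProduct.smul_tmul', ← TensorProduct.smul_tmul]
    congr 1
  have hsum : ∀ c : Fin r → A, (1 : T) ⊗ₜ[A] (∑ k, c k • b k) =
      ∑ k, (Ideal.Quotient.mk J (c k)) • e k := by
    intro c
    rw [TensorProduct.tmul_sum]
    refine Finset.sum_congr rfl fun k _ => ?_
    rw [← hb k, hsm]
  -- (α) spanning modulo `J`
  have hα : ∀ β : B, ∃ c : Fin r → A, β - ∑ k, c k • b k ∈ (J • ⊤ : Submodule A B) := by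
    intro β
    have h1 : ∀ k, ∃ a : A, Ideal.Quotient.mk J a = e.repr ((1 : T) ⊗ₜ[A] β) k := fun k =>
      Ideal.Quotient.mk_surjective _
    choose c hc using h1
    refine ⟨c, mem_smul_top_of_tmul_eq_zero J _ ?_⟩
    rw [TensorProduct.tmul_sub, hsum, sub_eq_zero]
    conv_lhs => rw [← e.sum_repr ((1 : T) ⊗ₜ[A] β)]
    exact Finset.sum_congr rfl fun k _ => by rw [hc]
  -- (β) independence modulo `J`
  have hβ : ∀ c : Fin r → A, ∑ k, c k • b k ∈ (J • ⊤ : Submodule A B) → ∀ k, c k ∈ J := by
    intro c hc k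
    have h1 := tmul_eq_zero_of_mem_smul_top J _ hc
    rw [hsum] at h1
    have h2 := (Fintype.linearIndependent_iff.mp e.linearIndependent) _ h1 k
    exact Ideal.Quotient.eq_zero_iff_mem.mp h2
  have hinj : Function.Injective ψ := by
    -- injectivity
    rw [injective_iff_map_eq_zero]
    intro x hx
    rw [hψ] at hx
    obtain ⟨m, a, y, hy, ha⟩ := Module.Flat.isTrivialRelation_of_sum_smul_eq_zero (R := A) (M := B)
      (f := fun k => (x k : A)) (x := b) hx
    choose c hc using fun j => hα (y j)
    -- b_k - Σ_l (Σ_j a k j * c j l) b_l ∈ J B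
    have h1 : ∀ k, ∑ l, ((if k = l then 1 else 0) - ∑ j, a k j * c j l) • b l ∈
        (J • ⊤ : Submodule A B) := by
      intro k
      have h2 : ∑ l, ((if k = l then 1 else 0) - ∑ j, a k j * c j l) • b l =
          ∑ j, a k j • (y j - ∑ l, c j l • b l) := by
        simp only [sub_smul, Finset.sum_sub_distrib, ite_smul, one_smul, zero_smul,
          Finset.sum_ite_eq, Finset.mem_univ, if_true, smul_sub, Finset.sum_smul, Finset.smul_sum,
          smul_smul]
        rw [hy k]
        congr 1
        rw [Finset.sum_comm]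
      rw [h2]
      exact Submodule.sum_mem _ fun j _ => Submodule.smul_mem _ _ (hc j)
    have h3 : ∀ k l, ((if k = l then 1 else 0) - ∑ j, a k j * c j l) ∈ J := fun k => hβ _ (h1 k)
    funext l
    apply Subtype.ext
    change (x l : A) = 0
    have h4 : (x l : A) = ∑ k, (x k : A) * ((if k = l then 1 else 0) - ∑ j, a k j * c j l) +
        ∑ j, (∑ k, (x k : A) * a k j) * c j l := by
      simp only [mul_sub, Finset.sum_sub_distrib, mul_ite, mul_one, mul_zero, Finset.sum_ite_eq',
        Finset.mem_univ, if_true, Finset.mul_sum, Finset.sum_mul]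
      rw [Finset.sum_comm]
      simp only [mul_assoc]
      ring
    rw [h4]
    have h5 : ∀ k, (x k : A) * ((if k = l then 1 else 0) - ∑ j, a k j * c j l) = 0 := by
      intro k
      have := (Submodule.mem_annihilator.mp (x k).2) _ (h3 k l)
      simpa [smul_eq_mul] using this
    simp only [h5, Finset.sum_const_zero, zero_add]
    refine Finset.sum_eq_zero fun j _ => ?_
    rw [ha j, zero_mul]
  have hrange : g ∈ LinearMap.range ψ := by
    -- range
    haveI : Module.Finite A J := Module.Finite.iff_fg.mpr hJ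
    have h0 : (LinearMap.toSpanSingleton A B g) ∘ₗ (Submodule.subtype J) = 0 := by
      ext ⟨j, hj⟩
      simp only [LinearMap.comp_apply, Submodule.subtype_apply, LinearMap.toSpanSingleton_apply,
        LinearMap.zero_apply]
      exact hg j hj
    obtain ⟨m, a, y, hay, haf⟩ := Module.Flat.exists_factorization_of_comp_eq_zero_of_free h0
    set α := a 1 with hαdef
    have hαF : ∀ p, α p ∈ F := by
      intro p
      rw [Submodule.mem_annihilator]
      intro j hj
      have h1 : a j = 0 := by
        have := LinearMap.congr_fun haf ⟨j, hj⟩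
        simpa using this
      have h2 : a j = j • α := by
        rw [hαdef, ← map_smul, smul_eq_mul, mul_one]
      rw [h2] at h1
      have h3 := DFunLike.congr_fun h1 p
      simp only [Finsupp.smul_apply, Finsupp.zero_apply, smul_eq_mul] at h3
      rw [smul_eq_mul, mul_comm]
      exact h3
    have hg1 : g = ∑ p, α p • y (Finsupp.single p 1) := by
      have h1 : g = (LinearMap.toSpanSingleton A B g) 1 := by simp
      rw [h1, hay, LinearMap.comp_apply]
      conv_lhs => rw [← hαdef, ← Finsupp.univ_sum_single α]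
      rw [map_sum]
      refine Finset.sum_congr rfl fun p _ => ?_
      rw [← map_smul, Finsupp.smul_single, smul_eq_mul, mul_one]
    choose c hc using fun p => hα (y (Finsupp.single p 1))
    have h2 : ∀ p, α p • y (Finsupp.single p 1) = ∑ l, (α p * c p l) • b l := by
      intro p
      have h3 := smul_eq_zero_of_mem_annihilator J (α p) (hαF p) _ (hc p)
      rw [smul_sub, sub_eq_zero] at h3
      rw [h3, Finset.smul_sum]
      simp only [smul_smul]
    refine ⟨fun l => ⟨∑ p, α p * c p l, F.sum_mem fun p _ => F.mul_mem_right _ (hαF p)⟩, ?_⟩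
    rw [hψ, hg1]
    simp only [Finset.sum_smul]
    rw [Finset.sum_comm]
    exact Finset.sum_congr rfl fun p _ => (h2 p).symm
  refine ⟨F, r, ?_, ψ, hinj, hrange⟩
  by_contra hr
  have hr0 : r = 0 := by omega
  obtain ⟨x, hx⟩ := hrange
  apply hg0
  rw [← hx, hψ]
  haveI : IsEmpty (Fin r) := by rw [hr0]; infer_instance
  exact Finset.sum_of_isEmpty _


end
end Groth.Agent.Lib.Helper23.TorsFree
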