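import Mathlib

/-!
# Spreading out freeness of a finite flat f.p. base change (helper23)

`exists_free_baseChange_of_isUnit`, `spread`.
-/

set_option autoImplicit false
set_option linter.style.haveILetI false
set_option linter.unusedSectionVars false
universe u
open TensorProduct

namespace Groth.Agent.Lib.Helper23.TorsFree

section


/-- A finitely presented flat module is free after base change to any algebra inverting a suitable
element outside a given prime. -/
theorem exists_free_baseChange_of_isUnit (T : Type u) [CommRing T] (C : Type u) [AddCommGroup C]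
    [Module T C] [Module.FinitePresentation T C] [Module.Flat T C] (p : Ideal T) [p.IsPrime] :
    ∃ r : T, r ∉ p ∧ ∀ (T' : Type u) [CommRing T'] [Algebra T T'],
      IsUnit (algebraMap T T' r) → Module.Free T' (T' ⊗[T] C) := by
  haveI : Module.Free (Localization.AtPrime p) (LocalizedModule p.primeCompl C) :=
    Module.free_of_flat_of_isLocalRing
  obtain ⟨r, hr, hfree, -⟩ := Module.FinitePresentation.exists_free_localizedModule_powers
    p.primeCompl (LocalizedModule.mkLinearMap p.primeCompl C) (Localization.AtPrime p)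
  refine ⟨r, hr, ?_⟩
  intro T' _ _ hu
  let Tr := Localization (Submonoid.powers r)
  letI : Algebra Tr T' := (IsLocalization.Away.lift (S := Tr) r hu).toAlgebra
  haveI : IsScalarTower T Tr T' := IsScalarTower.of_algebraMap_eq' (by
    change algebraMap T T' = (IsLocalization.Away.lift (S := Tr) r hu).comp (algebraMap T Tr)
    rw [IsLocalization.Away.lift_comp])
  let e1 : Tr ⊗[T] C ≃ₗ[Tr] LocalizedModule (Submonoid.powers r) C :=
    (LocalizedModule.isBaseChange (Submonoid.powers r) C).equiv
  haveI : Module.Free Tr (Tr ⊗[T] C) := Module.Free.of_equiv e1.symm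
  let e2 : T' ⊗[Tr] (Tr ⊗[T] C) ≃ₗ[T'] T' ⊗[T] C :=
    TensorProduct.AlgebraTensorModule.cancelBaseChange T Tr T' T' C
  exact Module.Free.of_equiv e2


end

section


variable {A B : Type u} [CommRing A] [CommRing B] [Algebra A B]

set_option maxHeartbeats 800000 in
/-- **Spreading out freeness.** If `(A/J)_{a₁} ⊗ B` is finite over `(A/J)_{a₁}` (and `B` is flat
f.p. over `A`), then around a prime `p₀ ⊇ J`, `a₁ ∉ p₀`, there is `a₂ ∉ p₀` such that `T' ⊗ B` is
finite free over every `A`-algebra `T'` killing `J` and inverting `a₁ a₂`. -/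
theorem spread [Module.Flat A B] [Algebra.FinitePresentation A B] (J : Ideal A) (a₁ : A)
    (p₀ : Ideal A) [p₀.IsPrime] (hJ : J ≤ p₀) (ha₁ : a₁ ∉ p₀)
    [Module.Finite (Localization.Away (Ideal.Quotient.mk J a₁))
      ((Localization.Away (Ideal.Quotient.mk J a₁)) ⊗[A] B)] :
    ∃ a₂ : A, a₂ ∉ p₀ ∧ ∀ (T' : Type u) [CommRing T'] [Algebra A T'],
      (∀ x ∈ J, algebraMap A T' x = 0) → IsUnit (algebraMap A T' (a₁ * a₂)) →
        Module.Free T' (T' ⊗[A] B) ∧ Module.Finite T' (T' ⊗[A] B) := by
  classical
  haveI : Module.FinitePresentation (Localization.Away (Ideal.Quotient.mk J a₁))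
      ((Localization.Away (Ideal.Quotient.mk J a₁)) ⊗[A] B) :=
    Module.FinitePresentation.of_finite_of_finitePresentation _ _
  let k := p₀.ResidueField
  let χ₀ : A ⧸ J →+* k := Ideal.Quotient.lift J (algebraMap A k)
    (fun x hx => (Ideal.algebraMap_residueField_eq_zero).mpr (hJ hx))
  have hu : IsUnit (χ₀ (Ideal.Quotient.mk J a₁)) := by
    change IsUnit (Ideal.Quotient.lift J (algebraMap A k) _ (Ideal.Quotient.mk J a₁))
    rw [Ideal.Quotient.lift_mk]
    exact IsUnit.mk0 _ (fun h => ha₁ (Ideal.algebraMap_residueField_eq_zero.mp h))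
  let χ : Localization.Away (Ideal.Quotient.mk J a₁) →+* k :=
    IsLocalization.Away.lift (Ideal.Quotient.mk J a₁) hu
  let p₁ : Ideal (Localization.Away (Ideal.Quotient.mk J a₁)) := RingHom.ker χ
  haveI : p₁.IsPrime := RingHom.ker_isPrime χ
  obtain ⟨r₁, hr₁, hfree⟩ := exists_free_baseChange_of_isUnit
    (Localization.Away (Ideal.Quotient.mk J a₁))
    ((Localization.Away (Ideal.Quotient.mk J a₁)) ⊗[A] B) p₁
  obtain ⟨m, xb, hx⟩ := IsLocalization.Away.surj (Ideal.Quotient.mk J a₁) r₁
  obtain ⟨a₂, rfl⟩ := Ideal.Quotient.mk_surjective xb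
  have hχ : ∀ y : A, χ (algebraMap (A ⧸ J) (Localization.Away (Ideal.Quotient.mk J a₁))
      (Ideal.Quotient.mk J y)) = algebraMap A k y := by
    intro y
    rw [IsLocalization.Away.lift_eq]
    exact Ideal.Quotient.lift_mk _ _ _
  refine ⟨a₂, ?_, ?_⟩
  · intro ha₂
    apply hr₁
    change r₁ ∈ RingHom.ker χ
    rw [RingHom.mem_ker]
    have h1 : χ (r₁ * algebraMap (A ⧸ J) (Localization.Away (Ideal.Quotient.mk J a₁))
        (Ideal.Quotient.mk J a₁) ^ m) = 0 := by
      rw [hx, hχ]
      exact Ideal.algebraMap_residueField_eq_zero.mpr ha₂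
    rw [map_mul, map_pow] at h1
    rcases mul_eq_zero.mp h1 with h2 | h2
    · exact h2
    · exfalso
      have h3 : IsUnit (χ (algebraMap (A ⧸ J) (Localization.Away (Ideal.Quotient.mk J a₁))
          (Ideal.Quotient.mk J a₁))) := by
        rw [hχ]
        exact IsUnit.mk0 _ (fun h => ha₁ (Ideal.algebraMap_residueField_eq_zero.mp h))
      exact (h3.pow m).ne_zero h2
  · intro T' _ _ hJ0 hunit
    let φR : A ⧸ J →+* T' := Ideal.Quotient.lift J (algebraMap A T') hJ0
    have hφR : ∀ y : A, φR (Ideal.Quotient.mk J y) = algebraMap A T' y :=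
      fun y => Ideal.Quotient.lift_mk _ _ _
    have hunit' : IsUnit (algebraMap A T' a₁ * algebraMap A T' a₂) := by
      rw [← map_mul]; exact hunit
    have hu1 : IsUnit (φR (Ideal.Quotient.mk J a₁)) := by
      rw [hφR]
      exact isUnit_of_mul_isUnit_left hunit'
    let φ₁ : Localization.Away (Ideal.Quotient.mk J a₁) →+* T' :=
      IsLocalization.Away.lift (Ideal.Quotient.mk J a₁) hu1
    letI : Algebra (Localization.Away (Ideal.Quotient.mk J a₁)) T' := φ₁.toAlgebra
    have hφ₁ : ∀ y : A, φ₁ (algebraMap (A ⧸ J) (Localization.Away (Ideal.Quotient.mk J a₁))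
        (Ideal.Quotient.mk J y)) = algebraMap A T' y := by
      intro y
      rw [IsLocalization.Away.lift_eq, hφR]
    haveI : IsScalarTower A (Localization.Away (Ideal.Quotient.mk J a₁)) T' :=
      IsScalarTower.of_algebraMap_eq (fun y => by
        change algebraMap A T' y = φ₁ _
        rw [IsScalarTower.algebraMap_apply A (A ⧸ J)
          (Localization.Away (Ideal.Quotient.mk J a₁))]
        exact (hφ₁ y).symm)
    have hur : IsUnit (algebraMap (Localization.Away (Ideal.Quotient.mk J a₁)) T' r₁) := by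
      change IsUnit (φ₁ r₁)
      have h1 := congrArg φ₁ hx
      rw [map_mul, map_pow, hφ₁, hφ₁] at h1
      have h2 : IsUnit (φ₁ r₁ * algebraMap A T' a₁ ^ m) := by
        rw [h1]
        exact isUnit_of_mul_isUnit_right hunit'
      exact isUnit_of_mul_isUnit_left h2
    haveI := hfree T' hur
    let e : T' ⊗[Localization.Away (Ideal.Quotient.mk J a₁)]
        ((Localization.Away (Ideal.Quotient.mk J a₁)) ⊗[A] B) ≃ₗ[T'] T' ⊗[A] B :=
      TensorProduct.AlgebraTensorModule.cancelBaseChange A
        (Localization.Away (Ideal.Quotient.mk J a₁)) T' T' B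
    exact ⟨Module.Free.of_equiv e, Module.Finite.equiv e⟩


end
end Groth.Agent.Lib.Helper23.TorsFree
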