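import Mathlib
import Groth.Agent.Lib.Helper23.TorsFreeRing1
import Groth.Agent.Lib.Helper23.TorsFreeRing2

/-!
# Main ring theorem for S1480 (helper23)

`ring_main`: `A → B` flat f.p. with an abstract fibre-degree function `d` (bounded, sublevel sets
cut out by f.g. ideals, constant degree ⇒ finite base change), `g ≠ 0` in `B`.  Then for some
`a ∈ A`, in the localizations `A_a → B_a`: `g ≠ 0` and `g` lies in the image of an injective
`A_a`-linear map `F^r → B_a` for an ideal `F` of `A_a`, `r > 0`.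
-/

set_option autoImplicit false
set_option linter.style.haveILetI false
set_option linter.unusedSectionVars false
universe u
open TensorProduct

namespace Groth.Agent.Lib.Helper23.TorsFree

section


variable {A B : Type u} [CommRing A] [CommRing B] [Algebra A B]

set_option maxHeartbeats 800000 in
theorem final [Module.Flat A B] (J : Ideal A) (hJ : J.FG) (g : B) (hg : ∀ x ∈ J, x • g = 0)
    (a : A)
    (hfree : ∀ (T' : Type u) [CommRing T'] [Algebra A T'],
      (∀ x ∈ J, algebraMap A T' x = 0) → IsUnit (algebraMap A T' a) →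
        Module.Free T' (T' ⊗[A] B) ∧ Module.Finite T' (T' ⊗[A] B))
    (A' B' : Type u) [CommRing A'] [CommRing B'] [Algebra A A'] [Algebra B B']
    [Algebra A' B'] [Algebra A B'] [IsScalarTower A A' B'] [IsScalarTower A B B']
    [IsLocalization.Away a A'] [IsLocalization.Away (algebraMap A B a) B']
    (hg' : algebraMap B B' g ≠ 0) :
    ∃ (F : Ideal A') (r : ℕ), 0 < r ∧ ∃ ψ : (Fin r → F) →ₗ[A'] B',
        Function.Injective ψ ∧ algebraMap B B' g ∈ LinearMap.range ψ := by
  classical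
  let J' : Ideal A' := J.map (algebraMap A A')
  have hJ0 : ∀ x ∈ J, algebraMap A (A' ⧸ J') x = 0 := by
    intro x hx
    rw [IsScalarTower.algebraMap_apply A A' (A' ⧸ J')]
    exact Ideal.Quotient.eq_zero_iff_mem.mpr (Ideal.mem_map_of_mem _ hx)
  have hunit : IsUnit (algebraMap A (A' ⧸ J') a) := by
    rw [IsScalarTower.algebraMap_apply A A' (A' ⧸ J')]
    exact (IsLocalization.Away.algebraMap_isUnit a).map _
  obtain ⟨hF, hFin⟩ := hfree (A' ⧸ J') hJ0 hunit
  -- flatness
  haveI : Module.Flat B B' := IsLocalization.flat B' (Submonoid.powers (algebraMap A B a))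
  haveI : Module.Flat A B' := Module.Flat.trans A B B'
  haveI : Module.Flat A' B' :=
    (Module.flat_iff_of_isLocalization A' (Submonoid.powers a) B').mpr inferInstance
  -- base change iso
  haveI : IsLocalization (Algebra.algebraMapSubmonoid B (Submonoid.powers a)) B' := by
    change IsLocalization (Submonoid.map (algebraMap A B) (Submonoid.powers a)) B'
    rw [Submonoid.map_powers]
    infer_instance
  let fB : B →ₗ[A] B' := (IsScalarTower.toAlgHom A B B').toLinearMap
  have hbc : IsBaseChange A' fB := IsLocalizedModule.isBaseChange (Submonoid.powers a) A' fB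
  let eB : A' ⊗[A] B ≃ₗ[A'] B' := hbc.equiv
  let e1 : (A' ⧸ J') ⊗[A'] B' ≃ₗ[A' ⧸ J'] (A' ⧸ J') ⊗[A'] (A' ⊗[A] B) :=
    TensorProduct.AlgebraTensorModule.congr (LinearEquiv.refl (A' ⧸ J') (A' ⧸ J')) eB.symm
  let e2 : (A' ⧸ J') ⊗[A'] (A' ⊗[A] B) ≃ₗ[A' ⧸ J'] (A' ⧸ J') ⊗[A] B :=
    TensorProduct.AlgebraTensorModule.cancelBaseChange A A' (A' ⧸ J') (A' ⧸ J') B
  haveI : Module.Free (A' ⧸ J') ((A' ⧸ J') ⊗[A'] B') := Module.Free.of_equiv (e1.trans e2).symm
  haveI : Module.Finite (A' ⧸ J') ((A' ⧸ J') ⊗[A'] B') := Module.Finite.equiv (e1.trans e2).symm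
  have hg'' : ∀ x ∈ J', x • algebraMap B B' g = 0 := by
    intro x hx
    refine Submodule.span_induction (p := fun x _ => x • algebraMap B B' g = 0) ?_ ?_ ?_ ?_ hx
    · rintro _ ⟨j, hj, rfl⟩
      rw [Algebra.smul_def, ← IsScalarTower.algebraMap_apply A A' B',
        IsScalarTower.algebraMap_apply A B B', ← map_mul, ← Algebra.smul_def, hg j hj, map_zero]
    · rw [zero_smul]
    · intro x y _ _ hx hy
      rw [add_smul, hx, hy, add_zero]
    · intro c x _ hx
      rw [smul_eq_mul, mul_smul, hx, smul_zero]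
  exact core J' (hJ.map _) (algebraMap B B' g) hg'' hg'


end

section


variable {A B : Type u} [CommRing A] [CommRing B] [Algebra A B]

set_option maxHeartbeats 1600000 in
/-- **Main ring theorem.** -/
theorem ring_main [Module.Flat A B] [Algebra.FinitePresentation A B]
    (d : PrimeSpectrum A → ℕ) (n : ℕ) (hbd : ∀ p, d p ≤ n)
    (hfg : ∀ r, ∃ I : Ideal A, I.FG ∧ PrimeSpectrum.zeroLocus (I : Set A) = {p | d p ≤ r})
    (hfin : ∀ (T : Type u) [CommRing T] [Algebra A T] (r : ℕ),
      (∀ p : PrimeSpectrum T, d (PrimeSpectrum.comap (algebraMap A T) p) = r) →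
        Module.Finite T (T ⊗[A] B))
    (g : B) (hg : g ≠ 0) :
    ∃ a : A, ∀ (A' B' : Type u) [CommRing A'] [CommRing B'] [Algebra A A'] [Algebra B B']
      [Algebra A' B'] [Algebra A B'] [IsScalarTower A A' B'] [IsScalarTower A B B']
      [IsLocalization.Away a A'] [IsLocalization.Away (algebraMap A B a) B'],
      algebraMap B B' g ≠ 0 ∧ ∃ (F : Ideal A') (r : ℕ), 0 < r ∧ ∃ ψ : (Fin r → F) →ₗ[A'] B',
        Function.Injective ψ ∧ algebraMap B B' g ∈ LinearMap.range ψ := by
  classical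
  let annB : Ideal B := LinearMap.ker (LinearMap.toSpanSingleton B B g)
  have hann : ∀ x, x ∈ annB ↔ x * g = 0 := fun x => by
    simp only [annB, LinearMap.mem_ker, LinearMap.toSpanSingleton_apply, smul_eq_mul]
  have hne : annB ≠ ⊤ := fun h => hg (by
    have := (hann 1).mp (h ▸ Submodule.mem_top)
    simpa using this)
  let P : ℕ → Prop := fun i => ∃ q : PrimeSpectrum B, annB ≤ q.asIdeal ∧
    d (PrimeSpectrum.comap (algebraMap A B) q) = i
  obtain ⟨M, hM, hMle⟩ := Ideal.exists_le_maximal annB hne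
  have hP0 : P (d (PrimeSpectrum.comap (algebraMap A B) ⟨M, hM.isPrime⟩)) :=
    ⟨⟨M, hM.isPrime⟩, hMle, rfl⟩
  let i := Nat.findGreatest P n
  have hPi : P i := Nat.findGreatest_spec (hbd _) hP0
  have hmax : ∀ q : PrimeSpectrum B, annB ≤ q.asIdeal →
      d (PrimeSpectrum.comap (algebraMap A B) q) ≤ i :=
    fun q hq => Nat.le_findGreatest (hbd _) ⟨q, hq, rfl⟩
  obtain ⟨q₀, hq₀, hdq₀⟩ := hPi
  set p₀ := PrimeSpectrum.comap (algebraMap A B) q₀ with hp₀
  obtain ⟨I, hIfg, hI⟩ := hfg i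
  have ha₁ : ∃ a₁ : A, a₁ ∉ p₀.asIdeal ∧ ∀ p : PrimeSpectrum A, a₁ ∉ p.asIdeal → i ≤ d p := by
    rcases Nat.eq_zero_or_pos i with h0 | hpos
    · exact ⟨1, p₀.isPrime.one_notMem, fun p _ => by omega⟩
    · obtain ⟨I', -, hI'⟩ := hfg (i - 1)
      have h1 : p₀ ∉ PrimeSpectrum.zeroLocus (I' : Set A) := by
        rw [hI']
        simp only [Set.mem_ofPred_eq, not_le]
        omega
      rw [PrimeSpectrum.mem_zeroLocus, Set.not_subset] at h1
      obtain ⟨a₁, ha₁I, ha₁p⟩ := h1
      refine ⟨a₁, ha₁p, fun p hp => ?_⟩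
      have h2 : p ∉ PrimeSpectrum.zeroLocus (I' : Set A) := fun h => hp (h ha₁I)
      rw [hI'] at h2
      simp only [Set.mem_ofPred_eq, not_le] at h2
      omega
  obtain ⟨a₁, ha₁p, ha₁d⟩ := ha₁
  let annA : Ideal A := annB.comap (algebraMap A B)
  have hIrad : I ≤ annA.radical := by
    intro ι hι
    change ι ∈ (annB.comap (algebraMap A B)).radical
    rw [← Ideal.comap_radical, Ideal.mem_comap, Ideal.radical_eq_sInf, Ideal.mem_sInf]
    rintro q ⟨hq1, hq2⟩
    have h1 := hmax ⟨q, hq2⟩ hq1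
    have h2 : PrimeSpectrum.comap (algebraMap A B) ⟨q, hq2⟩ ∈
        PrimeSpectrum.zeroLocus (I : Set A) := by
      rw [hI]; exact h1
    exact h2 hι
  obtain ⟨N, hN⟩ := Ideal.exists_pow_le_of_le_radical_of_fg hIrad hIfg
  let J : Ideal A := I ^ (N + 1)
  have hJfg : J.FG := hIfg.pow
  have hJann : ∀ x ∈ J, x • g = 0 := by
    intro x hx
    have h1 : x ∈ annA := hN (Ideal.pow_le_pow_right (Nat.le_succ N) hx)
    have h2 : algebraMap A B x ∈ annB := h1
    rw [Algebra.smul_def]
    exact (hann _).mp h2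
  have hJI : J ≤ I := Ideal.pow_le_self (Nat.succ_ne_zero N)
  have hIp₀ : I ≤ p₀.asIdeal := by
    have : p₀ ∈ PrimeSpectrum.zeroLocus (I : Set A) := by
      rw [hI]; exact hdq₀.le
    exact this
  have hJp₀ : J ≤ p₀.asIdeal := hJI.trans hIp₀
  haveI : Module.Finite (Localization.Away (Ideal.Quotient.mk J a₁))
      ((Localization.Away (Ideal.Quotient.mk J a₁)) ⊗[A] B) := by
    refine hfin _ i (fun p => ?_)
    apply le_antisymm
    · have h1 : J ≤ (PrimeSpectrum.comap (algebraMap A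
          (Localization.Away (Ideal.Quotient.mk J a₁))) p).asIdeal := by
        intro x hx
        change algebraMap A (Localization.Away (Ideal.Quotient.mk J a₁)) x ∈ p.asIdeal
        rw [IsScalarTower.algebraMap_apply A (A ⧸ J) (Localization.Away (Ideal.Quotient.mk J a₁))]
        have : algebraMap A (A ⧸ J) x = 0 := Ideal.Quotient.eq_zero_iff_mem.mpr hx
        rw [this, map_zero]
        exact Ideal.zero_mem _
      have h2 : I ≤ (PrimeSpectrum.comap (algebraMap A
          (Localization.Away (Ideal.Quotient.mk J a₁))) p).asIdeal :=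
        (Ideal.IsPrime.pow_le_iff (Nat.succ_ne_zero N)).mp h1
      have h3 : PrimeSpectrum.comap (algebraMap A
          (Localization.Away (Ideal.Quotient.mk J a₁))) p ∈
          PrimeSpectrum.zeroLocus (I : Set A) := h2
      rw [hI] at h3
      exact h3
    · apply ha₁d
      intro h
      have h1 : algebraMap A (Localization.Away (Ideal.Quotient.mk J a₁)) a₁ ∈ p.asIdeal := h
      rw [IsScalarTower.algebraMap_apply A (A ⧸ J)
        (Localization.Away (Ideal.Quotient.mk J a₁))] at h1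
      have h2 : IsUnit (algebraMap (A ⧸ J) (Localization.Away (Ideal.Quotient.mk J a₁))
          (algebraMap A (A ⧸ J) a₁)) :=
        IsLocalization.Away.algebraMap_isUnit (Ideal.Quotient.mk J a₁)
      exact p.isPrime.ne_top (Ideal.eq_top_of_isUnit_mem _ h1 h2)
  obtain ⟨a₂, ha₂, hfree⟩ := spread (B := B) J a₁ p₀.asIdeal hJp₀ ha₁p
  refine ⟨a₁ * a₂, ?_⟩
  intro A' B' _ _ _ _ _ _ _ _ _ _
  have hg' : algebraMap B B' g ≠ 0 := by
    intro h0
    obtain ⟨⟨_, m, rfl⟩, hm⟩ := (IsLocalization.map_eq_zero_iff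
      (Submonoid.powers (algebraMap A B (a₁ * a₂))) B' g).mp h0
    have h1 : algebraMap A B (a₁ * a₂) ^ m ∈ annB := (hann _).mpr hm
    have h2 : algebraMap A B (a₁ * a₂) ∈ q₀.asIdeal := q₀.isPrime.mem_of_pow_mem m (hq₀ h1)
    have h3 : a₁ * a₂ ∈ p₀.asIdeal := h2
    rcases p₀.isPrime.mem_or_mem h3 with h4 | h4
    · exact ha₁p h4
    · exact ha₂ h4
  exact ⟨hg', final J hJfg g hJann (a₁ * a₂) hfree A' B' hg'⟩


end
end Groth.Agent.Lib.Helper23.TorsFree
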