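import Mathlib
import Groth.Agent.Lib.Helper23.TorsFreeRing3
import Groth.Agent.Lib.Helper6.FD7

/-!
# S1480: a section of a flat l.f.p. locally quasi-finite morphism lies in the image of a torsion-free module (helper23)

`exists_deg` packages helper6's fibre degree stratification (FD libs) for ring maps;
`main_scheme` is the statement of S1480.
-/

set_option autoImplicit false
set_option linter.style.haveILetI false
set_option linter.unusedSectionVars false
universe u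
open TensorProduct CategoryTheory AlgebraicGeometry Limits Topology
open TensorProduct CategoryTheory AlgebraicGeometry Limits Topology TopologicalSpace

namespace Groth.Agent.Lib.Helper23.TorsFree

section


open Groth.Agent.Lib.Helper6

set_option maxHeartbeats 1600000 in
/-- The fibre degree of a flat, finitely presented, quasi-finite ring map (from helper6's
scheme-level stratification), packaged for rings. -/
theorem exists_deg (A B : Type u) [CommRing A] [CommRing B] [Algebra A B] [Module.Flat A B]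
    [Algebra.FinitePresentation A B] [Algebra.QuasiFinite A B] :
    ∃ (d : PrimeSpectrum A → ℕ) (n : ℕ), (∀ p, d p ≤ n) ∧
      (∀ r, ∃ I : Ideal A, I.FG ∧ PrimeSpectrum.zeroLocus (I : Set A) = {p | d p ≤ r}) ∧
      (∀ (T : Type u) [CommRing T] [Algebra A T] (r : ℕ),
        (∀ p : PrimeSpectrum T, d (PrimeSpectrum.comap (algebraMap A T) p) = r) →
          Module.Finite T (T ⊗[A] B)) := by
  let f₀ : Spec (.of B) ⟶ Spec (.of A) := Spec.map (CommRingCat.ofHom (algebraMap A B))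
  haveI : Flat f₀ := (HasRingHomProperty.Spec_iff (P := @Flat)).mpr
    (RingHom.flat_algebraMap_iff.mpr inferInstance)
  haveI : LocallyOfFinitePresentation f₀ :=
    (HasRingHomProperty.Spec_iff (P := @LocallyOfFinitePresentation)).mpr
      (RingHom.finitePresentation_algebraMap.mpr inferInstance)
  haveI : LocallyQuasiFinite f₀ := (HasRingHomProperty.Spec_iff (P := @LocallyQuasiFinite)).mpr
    (RingHom.quasiFinite_algebraMap.mpr inferInstance)
  have hfin : ∀ s, (f₀ ⁻¹' {s}).Finite := fun s => f₀.finite_preimage_singleton s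
  have hFib : FD.FinFib f₀ := FD.FinFib.of_quasiCompact f₀
  let d : PrimeSpectrum A → ℕ := fun p => FD.fdeg f₀ p
  have hlev := Wt.isConstructible_levelSet_of_forall_exists (X := ↥(Spec (.of A)))
    (φ := FD.fdeg f₀) (fun y => FD.exists_isConstructible_fdeg_eq f₀ y)
  obtain ⟨n, hn⟩ : ∃ n, ∀ p, d p ≤ n := by
    obtain ⟨n, hn⟩ := hlev.1.bddAbove
    exact ⟨n, fun p => hn ⟨p, rfl⟩⟩
  refine ⟨d, n, hn, ?_, ?_⟩
  · intro r
    have hcl : IsClosed {s : ↥(Spec (.of A)) | FD.fdeg f₀ s ≤ r} :=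
      FD.isClosed_fdeg_le f₀ hfin hFib r
    have hcons : IsConstructible {s : ↥(Spec (.of A)) | FD.fdeg f₀ s ≤ r} := by
      have h1 : {s : ↥(Spec (.of A)) | FD.fdeg f₀ s ≤ r} =
          ⋃ j ∈ (Set.Iic r : Set ℕ), {s | FD.fdeg f₀ s = j} := by
        ext s
        simp only [Set.mem_ofPred_eq, Set.mem_iUnion, Set.mem_Iic, exists_prop]
        exact ⟨fun h => ⟨_, h, rfl⟩, fun ⟨j, hj, h⟩ => h ▸ hj⟩
      rw [h1]
      exact IsConstructible.biUnion (Set.finite_Iic r) (fun j _ => hlev.2 j)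
    have hcomp : IsCompact ({s : ↥(Spec (.of A)) | FD.fdeg f₀ s ≤ r}ᶜ) := by
      have h1 := FD.isRetrocompact_of_isConstructible hcons.compl
      have h2 := h1 isCompact_univ isOpen_univ
      rwa [Set.inter_univ] at h2
    obtain ⟨I, hI, hI'⟩ := PrimeSpectrum.isCompact_isOpen_iff_ideal.mp ⟨hcomp, hcl.isOpen_compl⟩
    exact ⟨I, hI, compl_injective hI'⟩
  · intro T _ _ r hT
    have h1 := (FD.isFinLocFreeOfDeg_iff f₀ hfin hFib (Spec (.of T))
      (Spec.map (CommRingCat.ofHom (algebraMap A T))) r).mpr (fun t => hT t)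
    obtain ⟨⟨hfinite, -, -⟩, -⟩ := h1
    have h2 : IsFinite (Spec.map (CommRingCat.ofHom (R := T) (S := B ⊗[A] T)
        (RingHomClass.toRingHom Algebra.TensorProduct.includeRight))) := by
      rw [← pullbackSpecIso_inv_snd]
      infer_instance
    have h3 : (RingHomClass.toRingHom
        (Algebra.TensorProduct.includeRight : T →ₐ[A] B ⊗[A] T)).Finite := by
      have := (IsFinite.SpecMap_iff _).mp h2
      exact this
    have h4 : (algebraMap T (T ⊗[A] B)).Finite := by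
      have h5 : algebraMap T (T ⊗[A] B) =
          ((Algebra.TensorProduct.comm A B T : B ⊗[A] T ≃ₐ[A] T ⊗[A] B) : B ⊗[A] T →+* T ⊗[A] B).comp
            (RingHomClass.toRingHom
              (Algebra.TensorProduct.includeRight : T →ₐ[A] B ⊗[A] T)) := by
        ext t
        simp
      rw [h5]
      exact (RingHom.Finite.of_surjective _ (Algebra.TensorProduct.comm A B T).surjective).comp h3
    exact RingHom.finite_algebraMap.mp h4


end

section


/-- a nonzero global function is nonzero on some affine chart. -/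
theorem exists_chart {X S : Scheme.{u}} (f : X ⟶ S) (g : Γ(X, ⊤)) (hg : g ≠ 0) :
    ∃ (U₀ : S.Opens) (V₀ : X.Opens), IsAffineOpen U₀ ∧ IsAffineOpen V₀ ∧ ∃ _ : V₀ ≤ f ⁻¹ᵁ U₀,
      X.presheaf.map (homOfLE (le_top : V₀ ≤ ⊤)).op g ≠ 0 := by
  by_contra hcon
  push_neg at hcon
  apply hg
  have key : ∀ x : X, ∃ (V₀ : X.Opens), x ∈ V₀ ∧
      X.presheaf.map (homOfLE (le_top : V₀ ≤ ⊤)).op g = 0 := by
    intro x
    obtain ⟨_, ⟨U₀, hU₀, rfl⟩, hxU, -⟩ := S.isBasis_affineOpens.exists_subset_of_mem_open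
      (Set.mem_univ (f x)) isOpen_univ
    obtain ⟨_, ⟨V₀, hV₀, rfl⟩, hxV, hVU⟩ := X.isBasis_affineOpens.exists_subset_of_mem_open
      (show x ∈ ((f ⁻¹ᵁ U₀ : X.Opens) : Set X) from hxU) (f ⁻¹ᵁ U₀).2
    exact ⟨V₀, hxV, hcon U₀ V₀ hU₀ hV₀ hVU⟩
  choose V hxV hV0 using key
  refine TopCat.Sheaf.eq_of_locally_eq' X.sheaf V ⊤ (fun x => homOfLE le_top) ?_ g 0 ?_
  · intro x _
    exact Opens.mem_iSup.mpr ⟨x, hxV x⟩
  · intro x
    rw [map_zero]
    exact hV0 x


end

section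


set_option maxHeartbeats 1600000 in
theorem main_scheme {X S : Scheme.{u}} (f : X ⟶ S) [Flat f] [LocallyOfFinitePresentation f] [LocallyQuasiFinite f]
    (g : Γ(X, ⊤)) (hg : g ≠ 0) :
    ∃ (U : S.Opens) (hU : IsAffineOpen U) (V : X.Opens) (hV : IsAffineOpen V) (hVU : V ≤ f ⁻¹ᵁ U),
      X.presheaf.map (homOfLE le_top).op g ≠ (0 : Γ(X, V)) ∧
      ∃ (F : Ideal Γ(S, U)) (r : ℕ), 0 < r ∧
        letI := (f.appLE U V hVU).hom.toAlgebra
        ∃ φ : (Fin r → ↥F) →ₗ[Γ(S, U)] Γ(X, V), Function.Injective φ ∧ X.presheaf.map (homOfLE le_top).op g ∈ LinearMap.range φ := by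
  obtain ⟨U₀, V₀, hU₀, hV₀, e, hg₀⟩ := exists_chart f g hg
  let φ₀ := f.appLE U₀ V₀ e
  letI : Algebra Γ(S, U₀) Γ(X, V₀) := φ₀.hom.toAlgebra
  haveI : Module.Flat Γ(S, U₀) Γ(X, V₀) := f.flat_appLE hU₀ hV₀ e
  haveI : Algebra.FinitePresentation Γ(S, U₀) Γ(X, V₀) := f.finitePresentation_appLE hU₀ hV₀ e
  haveI : Algebra.QuasiFinite Γ(S, U₀) Γ(X, V₀) :=
    (HasRingHomProperty.appLE (P := @LocallyQuasiFinite) f inferInstance ⟨U₀, hU₀⟩ ⟨V₀, hV₀⟩ e)
  obtain ⟨d, n, hbd, hfg, hfin⟩ := exists_deg Γ(S, U₀) Γ(X, V₀)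
  obtain ⟨a, ha⟩ := ring_main d n hbd hfg hfin _ hg₀
  have hVU : X.basicOpen (φ₀.hom a) ≤ f ⁻¹ᵁ S.basicOpen a := by
    change X.basicOpen (f.appLE U₀ V₀ e a) ≤ _
    rw [Scheme.basicOpen_appLE]
    exact inf_le_right
  refine ⟨S.basicOpen a, hU₀.basicOpen a, X.basicOpen (φ₀.hom a), hV₀.basicOpen _, hVU, ?_⟩
  letI : Algebra Γ(S, S.basicOpen a) Γ(X, X.basicOpen (φ₀.hom a)) :=
    (f.appLE _ _ hVU).hom.toAlgebra
  letI : Algebra Γ(S, U₀) Γ(X, X.basicOpen (φ₀.hom a)) :=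
    ((f.appLE _ _ hVU).hom.comp (algebraMap Γ(S, U₀) Γ(S, S.basicOpen a))).toAlgebra
  haveI : IsScalarTower Γ(S, U₀) Γ(S, S.basicOpen a) Γ(X, X.basicOpen (φ₀.hom a)) :=
    .of_algebraMap_eq' rfl
  haveI : IsScalarTower Γ(S, U₀) Γ(X, V₀) Γ(X, X.basicOpen (φ₀.hom a)) :=
    .of_algebraMap_eq' (by
      change (f.appLE _ _ hVU).hom.comp (S.presheaf.map (homOfLE (S.basicOpen_le a)).op).hom =
        (X.presheaf.map (homOfLE (X.basicOpen_le (φ₀.hom a))).op).hom.comp φ₀.hom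
      rw [← CommRingCat.hom_comp, ← CommRingCat.hom_comp, Scheme.Hom.map_appLE,
        Scheme.Hom.appLE_map])
  haveI := hU₀.isLocalization_basicOpen a
  haveI : IsLocalization.Away (algebraMap Γ(S, U₀) Γ(X, V₀) a) Γ(X, X.basicOpen (φ₀.hom a)) :=
    hV₀.isLocalization_basicOpen (φ₀.hom a)
  obtain ⟨hne, F, r, hr, ψ, hinj, hrange⟩ := ha Γ(S, S.basicOpen a) Γ(X, X.basicOpen (φ₀.hom a))
  have hgV : algebraMap Γ(X, V₀) Γ(X, X.basicOpen (φ₀.hom a))
      (X.presheaf.map (homOfLE (le_top : V₀ ≤ ⊤)).op g) =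
      X.presheaf.map (homOfLE (le_top : X.basicOpen (φ₀.hom a) ≤ ⊤)).op g := by
    change (X.presheaf.map (homOfLE (X.basicOpen_le (φ₀.hom a))).op).hom
      ((X.presheaf.map (homOfLE (le_top : V₀ ≤ ⊤)).op).hom g) = _
    rw [← CommRingCat.comp_apply, ← X.presheaf.map_comp]
    rfl
  rw [hgV] at hne hrange
  exact ⟨hne, F, r, hr, ψ, hinj, hrange⟩


end
end Groth.Agent.Lib.Helper23.TorsFree
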